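import Cfsg.Agent.SE.Fin

/-! # A convenient corollary of Bender's theorem: `C(t) ≤ H`, one class of involutions, `D8 ≤ H` give `H = G` -/

set_option autoImplicit false
set_option linter.unusedVariables false
set_option linter.unusedSectionVars false

namespace Cfsg.Agent.H8SE
open Cfsg Cfsg.Agent.Inv Cfsg.Agent.SE MulAction Subgroup

variable {G : Type*} [Group G] [Finite G]

theorem one_class {H : Subgroup G} {t : G} (ht : orderOf t = 2) (htH : t ∈ H)
    (hc : ∀ s ∈ H, orderOf s = 2 → s * t = t * s → ∃ h ∈ H, h * t * h⁻¹ = s) :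
    ∀ s ∈ H, orderOf s = 2 → ∃ h ∈ H, h * t * h⁻¹ = s := by
  intro s hs s2
  rcases Nat.even_or_odd (orderOf (t * s)) with he | ho
  · obtain ⟨z2, z1, z3⟩ := s0209 t s ht s2 he
    have zH : (t * s) ^ (orderOf (t * s) / 2) ∈ H := pow_mem (mul_mem htH hs) _
    generalize (t * s) ^ (orderOf (t * s) / 2) = z at z1 z2 z3 zH
    obtain ⟨h, hH, rfl⟩ := hc z zH z2 z1.eq
    obtain ⟨k, kH, e⟩ := hc (h⁻¹ * s * h) (mul_mem (mul_mem (inv_mem hH) hs) hH)
      (by rw [orderOf_conj'', s2]) (by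
        have := z3.eq
        calc h⁻¹ * s * h * t = h⁻¹ * (s * (h * t * h⁻¹)) * h := by group
          _ = h⁻¹ * (h * t * h⁻¹ * s) * h := by rw [this]
          _ = _ := by group)
    refine ⟨h * k, mul_mem hH kH, ?_⟩
    calc h * k * t * (h * k)⁻¹ = h * (k * t * k⁻¹) * h⁻¹ := by group
      _ = s := by rw [e]; group
  · obtain ⟨k, e⟩ := exists_zpow_conj_of_odd (sq_of_ord2 ht) (sq_of_ord2 s2) ho
    exact ⟨_, zpow_mem (mul_mem htH hs) k, e⟩

theorem se_top {H : Subgroup G} {t a b : G} (ht : orderOf t = 2) (htH : t ∈ H)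
    (hC : ∀ g, g * t = t * g → g ∈ H)
    (hc : ∀ s, orderOf s = 2 → s * t = t * s → ∃ h ∈ H, h * t * h⁻¹ = s)
    (ha : orderOf a = 2) (hb : orderOf b = 2) (aH : a ∈ H) (bH : b ∈ H) (hab : a * b * (a * b) = t) :
    H = ⊤ := by
  by_contra hne
  have oc := one_class ht htH (fun s _ => hc s)
  have hH : IsStronglyEmbedded H := by
    refine ⟨hne, ?_, fun g hg => ?_⟩
    · have := (H.orderOf_dvd_natCard htH); rw [ht] at this; exact even_iff_two_dvd.2 this
    · by_contra ho
      obtain ⟨s, s1, s2⟩ := exists_involution_mem (Nat.not_odd_iff_even.1 ho)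
      obtain ⟨s', s3, e⟩ := s1.2
      obtain ⟨h, hH, e1⟩ := oc s s1.1 s2
      have e0 : g * s' * g⁻¹ = s := e
      obtain ⟨k, kH, e2⟩ := oc s' s3 (by rw [← orderOf_conj' g, e0, s2])
      apply hg
      have := hC (h⁻¹ * g * k) (by
        calc h⁻¹ * g * k * t = h⁻¹ * (g * (k * t * k⁻¹) * g⁻¹) * g * k := by group
          _ = h⁻¹ * (h * t * h⁻¹) * g * k := by rw [e2, e0, e1]
          _ = _ := by group)
      have e3 : g = h * (h⁻¹ * g * k) * k⁻¹ := by group
      rw [e3]; exact mul_mem (mul_mem hH this) (inv_mem kH)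
  have a2 := sq_of_ord2 ha
  have b2 := sq_of_ord2 hb
  have h4 : FourIn (⊤ : Subgroup G) := by
    refine ⟨a, mem_top _, t, mem_top _, ha, ht, fun e => ?_, ?_⟩
    · have e1 : b * (a * b) = 1 := by
        have : a * (b * (a * b)) = a * 1 := by rw [mul_one, ← mul_assoc, hab, e]
        exact mul_left_cancel this
      have e2 : a = 1 := by
        have : b * (b * (a * b)) * b = b * 1 * b := by rw [e1]
        rwa [← mul_assoc, b2, one_mul, mul_assoc, b2, mul_one, mul_one, b2] at this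
      exact ne_one_of_ord2 ha e2
    · have ti : t = b * a * (b * a) := by
        rw [← inv_of_ord2 ht, ← hab]; simp only [mul_inv_rev, inv_of_ord2 ha, inv_of_ord2 hb]
      calc a * t = a * (b * a * (b * a)) := by rw [← ti]
        _ = a * b * (a * b) * a := by group
        _ = t * a := by rw [hab]
  obtain ⟨Q, hQ⟩ := concl_se hH h4
  have S := fix1_of_se hH
  have m : ∀ s ∈ H, orderOf s = 2 → s ∈ Iv (⊤ : Subgroup G) ((1 : G) : G ⧸ H) := fun s hs s2 =>
    ⟨mem_top _, s2, by have : s ∈ St G ((1 : G) : G ⧸ H) := by rwa [st_one]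
                       exact this⟩
  have k := hQ.comm S h4 (not_le_se hH) (Orb.refl _ _) (m a aH ha) (m b bH hb)
  rw [hab] at k
  have := (S.odd_Ker (not_le_se hH)).of_dvd_nat ((Ker _ _).orderOf_dvd_natCard k)
  rw [ht] at this; exact absurd this (by decide)

/-- relative version inside a subgroup `M` -/
theorem se_le {M H : Subgroup G} {t a b : G} (ht : orderOf t = 2) (htH : t ∈ H) (htM : t ∈ M)
    (hC : ∀ g ∈ M, g * t = t * g → g ∈ H)
    (hc : ∀ s ∈ M, orderOf s = 2 → s * t = t * s → ∃ h ∈ H, h ∈ M ∧ h * t * h⁻¹ = s)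
    (ha : orderOf a = 2) (hb : orderOf b = 2) (aH : a ∈ H) (bH : b ∈ H) (aM : a ∈ M) (bM : b ∈ M)
    (hab : a * b * (a * b) = t) : M ≤ H := by
  have := se_top (G := M) (H := H.subgroupOf M) (t := ⟨t, htM⟩) (a := ⟨a, aM⟩) (b := ⟨b, bM⟩)
    (by rw [← orderOf_coe]; exact ht) htH (fun g e => hC g g.2 (congrArg Subtype.val e))
    (fun s s2 e => by
      obtain ⟨h, h1, h2, h3⟩ := hc s s.2 (by rwa [orderOf_coe]) (congrArg Subtype.val e)
      exact ⟨⟨h, h2⟩, h1, Subtype.ext h3⟩)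
    (by rw [← orderOf_coe]; exact ha) (by rw [← orderOf_coe]; exact hb) aH bH (Subtype.ext hab)
  exact subgroupOf_eq_top.1 this

end Cfsg.Agent.H8SE
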