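import Cfsg.Agent.Comp.LBal
import Cfsg.Agent.Comp.Conn
import Cfsg.Agent.Comp.Hyper
import Cfsg.Agent.PF.FT

/-! The pump-up lemma for components of involution centralizers. -/

set_option autoImplicit false

namespace Cfsg.Agent.H8

open Cfsg Cfsg.Agent.Comp Subgroup
open scoped commutatorElement

variable {G : Type*} [Group G]

/-- conjugate subgroup -/
scoped notation:max "cjg " g:max D:max => Subgroup.map (MulEquiv.toMonoidHom (MulAut.conj g)) D

theorem mem_cjg {g d : G} {D : Subgroup G} (h : d ∈ D) : g * d * g⁻¹ ∈ cjg g D :=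
  mem_map_of_mem _ h

theorem cjg_cjg {t : G} (ht : t * t = 1) (D : Subgroup G) : cjg t (cjg t D) = D := by
  rw [map_conj_map_conj, ht, map_conj_one]

theorem mem_normalizer_orbit {t : G} (ht : t * t = 1) (D : Subgroup G) :
    t ∈ normalizer ((D ⊔ cjg t D : Subgroup G) : Set G) := by
  apply mem_normalizer_of_map_conj_eq
  rw [Subgroup.map_sup, cjg_cjg ht, sup_comm]

theorem conj_mem' {D : Subgroup G} {g d : G} (hg : g ∈ normalizer (D : Set G)) (h : d ∈ D) :
    g * d * g⁻¹ ∈ D := (mem_normalizer_iff.1 hg d).1 h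

theorem comm_of_bot {A B : Subgroup G} (h : ⁅A, B⁆ = ⊥) {a b : G} (ha : a ∈ A) (hb : b ∈ B) :
    a * b = b * a := comm_bot_iff.1 h a ha b hb

/-- the diagonal map `d ↦ d d^t` -/
def diagHom (t : G) (D : Subgroup G) (h : ⁅D, cjg t D⁆ = ⊥) : D →* G where
  toFun d := d * (t * d * t⁻¹)
  map_one' := by simp
  map_mul' a b := by
    have := comm_of_bot h b.2 (mem_cjg (g := t) a.2)
    simp only [coe_mul]
    calc (a : G) * b * (t * (a * b) * t⁻¹) = a * (b * (t * a * t⁻¹)) * (t * b * t⁻¹) := by group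
      _ = _ := by rw [this]; group

theorem diagHom_apply (t : G) (D : Subgroup G) (h : ⁅D, cjg t D⁆ = ⊥) (d : D) :
    diagHom t D h d = d * (t * d * t⁻¹) := rfl

theorem mem_diag {t : G} {D : Subgroup G} {h : ⁅D, cjg t D⁆ = ⊥} {x : G} :
    x ∈ (diagHom t D h).range ↔ ∃ d ∈ D, d * (t * d * t⁻¹) = x :=
  ⟨fun ⟨d, e⟩ => ⟨d, d.2, e⟩, fun ⟨d, hd, e⟩ => ⟨⟨d, hd⟩, e⟩⟩

theorem diag_le {t : G} (ht : t * t = 1) {D : Subgroup G} (h : ⁅D, cjg t D⁆ = ⊥) :
    (diagHom t D h).range ≤ (D ⊔ cjg t D) ⊓ centralizer {t} := by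
  intro x hx
  obtain ⟨d, hd, rfl⟩ := mem_diag.1 hx
  refine mem_inf.2 ⟨mul_mem (mem_sup_left hd) (mem_sup_right (mem_cjg hd)), ?_⟩
  rw [mem_centralizer_singleton_iff]
  have h1 : t⁻¹ = t := inv_eq_of_mul_eq_one_right ht
  have h2 := comm_of_bot h hd (mem_cjg (g := t) hd)
  calc d * (t * d * t⁻¹) * t = (t * d * t⁻¹) * d * t := by rw [h2]
    _ = t * (d * (t⁻¹ * d * t)) := by group
    _ = _ := by rw [h1]

/-- `[D, Δ] = D` -/
theorem comm_diag {t : G} {D : Subgroup G} (hD : ⁅D, D⁆ = D) (h : ⁅D, cjg t D⁆ = ⊥) :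
    D ≤ ⁅D, (diagHom t D h).range⁆ := by
  conv_lhs => rw [← hD]
  refine commutator_le.2 fun a ha b hb => ?_
  have h1 := comm_of_bot h ha (mem_cjg (g := t) hb)
  have h2 := comm_of_bot h hb (mem_cjg (g := t) hb)
  have : ⁅a, b⁆ = ⁅a, b * (t * b * t⁻¹)⁆ := by
    set c := t * b * t⁻¹
    simp only [commutatorElement_def]
    calc a * b * a⁻¹ * b⁻¹ = a * b * a⁻¹ * (c * c⁻¹) * b⁻¹ := by group
      _ = a * b * (a⁻¹ * c) * c⁻¹ * b⁻¹ := by group
      _ = a * b * (c * a⁻¹) * c⁻¹ * b⁻¹ := by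
        rw [show a⁻¹ * c = c * a⁻¹ from (Commute.inv_left h1)]
      _ = _ := by group
  rw [this]
  exact commutator_mem_commutator ha (mem_diag.2 ⟨b, hb, rfl⟩)

theorem diag_qs {t : G} {D : Subgroup G} (hD : QS D) (h : ⁅D, cjg t D⁆ = ⊥) :
    QS (diagHom t D h).range := by
  rw [MonoidHom.range_eq_map]
  refine QS.map_of_ne_bot _ (isQuasisimple_iff_top.1 (qs_iff.1 hD)) fun e => ?_
  have := comm_diag hD.perfect h
  rw [MonoidHom.range_eq_map, e, commutator_bot_right] at this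
  exact hD.ne_bot (le_bot_iff.1 this)

theorem le_diag_sup {t : G} (ht : t * t = 1) {D : Subgroup G} (h : ⁅D, cjg t D⁆ = ⊥) :
    (D ⊔ cjg t D) ⊓ centralizer {t} ≤ (diagHom t D h).range ⊔ (D ⊓ cjg t D) := by
  rintro y ⟨hy, hc⟩
  obtain ⟨a, ha, _, ⟨b, hb, rfl⟩, rfl⟩ := (mem_sup_of_normalizes (normalizes_of_comm_bot h)).1 hy
  have h1 : t⁻¹ = t := inv_eq_of_mul_eq_one_right ht
  have hc' : a * (t * b * t⁻¹) * t = t * (a * (t * b * t⁻¹)) := mem_centralizer_singleton_iff.1 hc
  have h2 := comm_of_bot h hb (mem_cjg (g := t) ha)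
  have h3 : b⁻¹ * a = (t * a * t⁻¹) * (t * b * t⁻¹)⁻¹ := by
    have h4 : a * (t * b * t⁻¹) = b * (t * a * t⁻¹) := by
      calc a * (t * b * t⁻¹) = (a * (t * b * t⁻¹) * t) * t⁻¹ := by group
        _ = (t * a * t⁻¹) * (t * t * b * (t * t)⁻¹) := by rw [hc']; group
        _ = _ := by rw [ht, h2]; group
    calc b⁻¹ * a = b⁻¹ * (a * (t * b * t⁻¹)) * (t * b * t⁻¹)⁻¹ := by group
      _ = _ := by rw [h4]; group
  have h5 : b⁻¹ * a ∈ D ⊓ cjg t D :=
    mem_inf.2 ⟨mul_mem (inv_mem hb) ha, h3 ▸ mul_mem (mem_cjg ha) (inv_mem (mem_cjg hb))⟩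
  have h6 := comm_of_bot h h5.1 (mem_cjg (g := t) hb)
  have : a * (MulAut.conj t).toMonoidHom b = b * (t * b * t⁻¹) * (b⁻¹ * a) := by
    rw [mul_assoc b, ← h6]; simp [mul_assoc]
  rw [this]
  exact mul_mem (mem_sup_left (mem_diag.2 ⟨b, hb, rfl⟩)) (mem_sup_right h5)

theorem inf_cjg_comm {t : G} {D : Subgroup G} (h : ⁅D, cjg t D⁆ = ⊥) :
    ⁅D ⊓ cjg t D, D ⊔ cjg t D⁆ = ⊥ :=
  comm_sup_right_bot (comm_bot_mono (comm_bot_symm h) inf_le_right le_rfl)
    (comm_bot_mono h inf_le_left le_rfl)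

theorem compIn_diag_iff {t : G} (ht : t * t = 1) {D : Subgroup G} (hD : QS D)
    (h : ⁅D, cjg t D⁆ = ⊥) {K : Subgroup G} :
    CompIn K ((D ⊔ cjg t D) ⊓ centralizer {t}) ↔ K = (diagHom t D h).range := by
  have h1 := diag_le ht h
  have hZ : ⁅D ⊓ cjg t D, (diagHom t D h).range⁆ = ⊥ :=
    comm_bot_mono (inf_cjg_comm h) le_rfl (h1.trans inf_le_left)
  have hn : (D ⊔ cjg t D) ⊓ centralizer {t} ≤ normalizer ((diagHom t D h).range : Set G) :=
    (le_diag_sup ht h).trans (sup_le le_normalizer (normalizes_of_comm_bot hZ))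
  constructor
  · intro hK
    have h2 : K ≤ (diagHom t D h).range := by
      rw [← hK.2.perfect]
      refine (commutator_mono (hK.le.trans (le_diag_sup ht h))
        (hK.le.trans (le_diag_sup ht h))).trans ?_
      rw [comm_sup_central hZ (comm_bot_mono (inf_cjg_comm h) le_rfl (inf_le_left.trans le_sup_left))
        (comm_bot_symm hZ) (comm_bot_symm hZ) (comm_bot_symm hZ)]
      exact (diag_qs hD h).perfect.le
    exact ((diag_qs hD h).subIn (hK.1.restrict h2 h1)).resolve_right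
      fun e => hK.2.not_comm (comm_bot_mono e le_rfl h2)
  · rintro rfl
    exact ⟨SubIn.of_normal h1 hn, diag_qs hD h⟩

theorem Lay_diag {t : G} (ht : t * t = 1) {D : Subgroup G} (hD : QS D) (h : ⁅D, cjg t D⁆ = ⊥) :
    Lay ((D ⊔ cjg t D) ⊓ centralizer {t}) = (diagHom t D h).range :=
  le_antisymm (Lay_le_iff.2 fun _ hK => ((compIn_diag_iff ht hD h).1 hK).le)
    ((compIn_diag_iff ht hD h).2 rfl).le_Lay

variable [Finite G]

theorem Lay_le_sup_centralizer {H U : Subgroup G} (h : SubIn U H) :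
    Lay H ≤ U ⊔ centralizer (U : Set G) :=
  (Lay_le_sup_LayOut h.le).trans (sup_le_sup Lay_le
    (commutator_eq_bot_iff_le_centralizer.1 h.LayOut_comm))

theorem orbit_subIn {H D : Subgroup G} {t : G} (htH : t ∈ normalizer (H : Set G))
    (hD : CompIn D H) : SubIn (D ⊔ cjg t D) H :=
  (SubIn.of_normal (sup_le hD.le_Lay (hD.conj htH).le_Lay)
    (sup_normalizer' hD.Lay_normalizes (hD.conj htH).Lay_normalizes)).trans (Lay_subIn H)

theorem le_orbit {H L : Subgroup G} {t : G} (ht : t * t = 1) (htH : t ∈ normalizer (H : Set G))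
    (hL : CompIn L (H ⊓ centralizer {t})) (hLE : L ≤ Lay H) :
    ∃ D, CompIn D H ∧ L ≤ D ⊔ cjg t D := by
  by_contra! hn
  refine hL.2.not_comm (comm_bot_mono (A := Lay H) (comm_sSup_left_bot fun D hD => ?_) hLE le_rfl)
  have hD : CompIn D H := hD
  set U := D ⊔ cjg t D with hU
  have hUn : Lay H ≤ normalizer (U : Set G) :=
    sup_normalizer' hD.Lay_normalizes (hD.conj htH).Lay_normalizes
  have hUs := orbit_subIn htH hD
  have htU : t ∈ normalizer (U : Set G) := mem_normalizer_orbit ht D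
  have hY : ⁅U ⊓ centralizer {t}, L⁆ = ⊥ :=
    (hL.le_or_comm ((hUs.inf (centralizer {t})))).resolve_left
      fun e => hn D hD (e.trans inf_le_left)
  have hLt : L ≤ centralizer {t} := hL.le.trans inf_le_right
  have hdec : ∀ l ∈ L, ∃ a ∈ U, ∃ b ∈ centralizer (U : Set G), a * b = l ∧
      ∃ z ∈ centralizer (U : Set G), t * a * t⁻¹ = a * z := by
    intro l hl
    obtain ⟨a, ha, b, hb, e⟩ := (mem_sup_of_normalizes
      (le_normalizer.trans (centralizer_normalizer U))).1 (Lay_le_sup_centralizer hUs (hLE hl))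
    refine ⟨a, ha, b, hb, e, b * (t * b * t⁻¹)⁻¹,
      mul_mem hb (inv_mem (conj_mem' (centralizer_normalizer U htU) hb)), ?_⟩
    have h1 : l * t = t * l := mem_centralizer_singleton_iff.1 (hLt hl)
    calc t * a * t⁻¹ = (t * (a * b)) * t⁻¹ * (t * b * t⁻¹)⁻¹ := by group
      _ = _ := by rw [e, ← h1, ← e]; group
  have h1 : L ≤ (U ⊓ centralizer {t}) ⊔ centralizer (U : Set G) := by
    rw [← hL.2.perfect]
    refine commutator_le.2 fun l hl l' hl' => ?_
    obtain ⟨a, ha, b, hb, rfl, z, hz, e⟩ := hdec l hl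
    obtain ⟨a', ha', b', hb', rfl, z', hz', e'⟩ := hdec l' hl'
    have c1 : Commute a b := hb a ha
    have c2 : Commute a' b := hb a' ha'
    have c3 : Commute a b' := hb' a ha
    have c4 : Commute a' b' := hb' a' ha'
    have key : ∀ {a a' b b' : G}, Commute a b → Commute a' b → Commute a b' → Commute a' b' →
        ⁅a * b, a' * b'⁆ = ⁅a, a'⁆ * ⁅b, b'⁆ := by
      intro a a' b b' c1 c2 c3 c4
      simp only [commutatorElement_def, mul_inv_rev]
      calc a * b * (a' * b') * (b⁻¹ * a⁻¹) * (b'⁻¹ * a'⁻¹)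
          = a * (b * a') * (b' * b⁻¹ * a⁻¹) * (b'⁻¹ * a'⁻¹) := by group
        _ = a * (a' * b) * (a⁻¹ * (b' * b⁻¹)) * (a'⁻¹ * b'⁻¹) := by
          rw [c2.eq, ((c3.mul_right c1.inv_right).inv_left).eq, c4.inv_inv.eq]
        _ = a * a' * (b * a⁻¹) * (b' * b⁻¹ * a'⁻¹) * b'⁻¹ := by group
        _ = a * a' * (a⁻¹ * b) * (a'⁻¹ * (b' * b⁻¹)) * b'⁻¹ := by
          rw [c1.inv_left.eq, ((c4.mul_right c2.inv_right).inv_left).eq]
        _ = a * a' * a⁻¹ * (b * a'⁻¹) * (b' * b⁻¹) * b'⁻¹ := by group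
        _ = _ := by rw [← c2.inv_left.eq]; group
    rw [key c1 c2 c3 c4]
    have hm : ⁅a, a'⁆ ∈ U := mul_mem (mul_mem (mul_mem ha ha') (inv_mem ha)) (inv_mem ha')
    refine mul_mem (mem_sup_left (mem_inf.2 ⟨hm, ?_⟩)) (mem_sup_right
      (mul_mem (mul_mem (mul_mem hb hb') (inv_mem hb)) (inv_mem hb')))
    rw [mem_centralizer_singleton_iff]
    have h2 : t * ⁅a, a'⁆ * t⁻¹ = ⁅a * z, a' * z'⁆ := by
      rw [← e, ← e']; simp only [commutatorElement_def]; group
    have hzU : z ∈ U := by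
      have : z = a⁻¹ * (t * a * t⁻¹) := by rw [e]; group
      rw [this]; exact mul_mem (inv_mem ha) (conj_mem' htU ha)
    rw [key (hz a ha) (hz a' ha') (hz' a ha) (hz' a' ha'),
      commutatorElement_eq_one_iff_mul_comm.2 (hz' z hzU), mul_one] at h2
    exact (congrArg (· * t) h2.symm).trans (inv_mul_cancel_right _ _)
  have h2 : L ≤ centralizer (U : Set G) := by
    rw [← hL.2.perfect]
    refine (commutator_mono h1 le_rfl).trans (comm_sup_left_le
      (inf_le_left.trans (le_normalizer.trans (centralizer_normalizer U))) le_normalizer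
      (hY.le.trans bot_le) ?_)
    exact le_normalizer_iff_commutator_le_left.1 ((hLE.trans hUn).trans (centralizer_normalizer U))
  exact comm_bot_symm (comm_bot_mono (commutator_eq_bot_iff_le_centralizer.2 h2) le_rfl le_sup_left)

/-- the pump-up trichotomy -/
theorem pumpup {H L : Subgroup G} {t : G} (ht : t * t = 1) (htH : t ∈ normalizer (H : Set G))
    (hL : CompIn L (H ⊓ centralizer {t})) (hLE : L ≤ Lay H) :
    ∃ D, CompIn D H ∧ (L = D ∨ (L < D ∧ ⁅D, zpowers t⁆ = D) ∨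
      (cjg t D ≠ D ∧ ∃ h : ⁅D, cjg t D⁆ = ⊥, L = (diagHom t D h).range)) := by
  obtain ⟨D, hD, hle⟩ := le_orbit ht htH hL hLE
  refine ⟨D, hD, ?_⟩
  have hLt : L ≤ centralizer {t} := hL.le.trans inf_le_right
  rcases hD.eq_or_comm (hD.conj htH) with e | e
  · rw [← e, sup_idem] at hle
    have htD : t ∈ normalizer (D : Set G) := mem_normalizer_of_map_conj_eq e.symm
    rcases hD.2.normal ⁅D, zpowers t⁆ (le_normalizer_iff_commutator_le_left.1 (zpowers_le.2 htD))
      (normalizer_commutator_ge_left _ _) with h | h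
    · refine Or.inr (Or.inl ⟨lt_of_le_of_ne hle fun e' => hD.2.ne_bot ?_, h⟩)
      rw [← h, commutator_eq_bot_iff_le_centralizer, centralizer_zpowers, ← e']
      exact hLt
    · left
      rw [Subgroup.commutator_comm D] at h
      have h1 := commutator_eq_bot_iff_le_centralizer.1
        (comm_bot_symm (comm_bot_of_perfect hD.2.perfect h))
      rw [centralizer_zpowers] at h1
      have h2 : CompIn D (H ⊓ centralizer {t}) := hD.restrict (le_inf hD.le h1) inf_le_left
      exact (hL.eq_or_comm h2).resolve_right fun e => hL.2.not_comm (comm_bot_mono e le_rfl hle)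
  · refine Or.inr (Or.inr ⟨fun e' => hD.2.not_comm (by rwa [e'] at e), e, ?_⟩)
    exact (compIn_diag_iff ht hD.2 e).1 (hL.restrict (le_inf hle hLt)
      (inf_le_inf_right _ (orbit_subIn htH hD).le))

theorem QS.even {K : Subgroup G} (h : QS K) : ¬ (Nat.card K).Coprime 2 := fun e =>
  h.not_solvable (PF.feit_thompson (Nat.coprime_two_right.1 e))

theorem mul_self_of_order {t : G} (ht : orderOf t = 2) : t * t = 1 := by
  rw [← sq, ← ht, pow_orderOf_eq_one]

theorem comp_le_PLay {t : G} (ht : orderOf t = 2) {L : Subgroup G}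
    (hL : CompIn L (centralizer {t})) : L ≤ PLay 2 ⊤ := by
  have := lbalance (isPGroup_zpowers_of_orderOf ht)
  rw [centralizer_zpowers] at this
  exact (PCompIn.le_PLay ⟨hL.1, hL.2.pqs (QS.even hL.2)⟩).trans this

theorem two_dvd_of_mem {K : Subgroup G} {s : G} (hs : orderOf s = 2) (h : s ∈ K) :
    ¬ Odd (Nat.card K) := fun e =>
  (Nat.not_even_iff_odd.2 e) (even_iff_two_dvd.2 (hs ▸ orderOf_dvd_natCard _ h))

theorem exists_invol {K : Subgroup G} (h : ¬ (Nat.card K).Coprime 2) : ∃ s ∈ K, orderOf s = 2 := by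
  haveI : Fact (Nat.Prime 2) := ⟨Nat.prime_two⟩
  obtain ⟨y, hy⟩ := exists_prime_orderOf_dvd_card' (G := K) 2
    (even_iff_two_dvd.1 (Nat.not_odd_iff_even.1 fun e => h (Nat.coprime_two_right.2 e)))
  exact ⟨y, y.2, by rw [orderOf_coe, hy]⟩

theorem Lay_eq_of_coprime {H U : Subgroup G} (hU : SubIn U H) (h2 : U ≤ Lay H)
    (hc : (Nat.card (centralizer (U : Set G))).Coprime 2) : Lay H = U :=
  le_antisymm (Lay_le_iff.2 fun _ hK => (hK.le_or_comm hU).resolve_right fun e =>
    QS.even hK.2 (coprime_card_of_le (commutator_eq_bot_iff_le_centralizer.1 (comm_bot_symm e)) hc))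
    h2

theorem s1347 {A : Subgroup G} (hA : IsStandardSubgroup A) (hO : Opp 2 (⊤ : Subgroup G) = ⊥)
    {t : G} (ht : orderOf t = 2) (htA : t ∈ centralizer (A : Set G))
    (hAc : CompIn A (centralizer {t})) :
    A.Normal ∨ (∃ X : Subgroup G, IsSimpleGroup ↥X ∧ ¬ IsMulCommutative ↥X ∧ Nonempty (↥X ≃* ↥A) ∧
      (∀ a ∈ X, ∀ b ∈ cjg t X, a * b = b * a) ∧ X ⊓ cjg t X = ⊥ ∧ X ⊔ cjg t X = layer G ∧
      centralizer (A : Set G) = zpowers t) ∨
      (A ≤ layer G ∧ IsSimpleGroup ↥(layer G) ∧ ¬ IsMulCommutative ↥(layer G)) := by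
  haveI : Fact (Nat.Prime 2) := ⟨Nat.prime_two⟩
  obtain ⟨h1, ⟨-, h2⟩, h3, h4⟩ := hA
  have ht2 := mul_self_of_order ht
  have hE := comp_le_PLay ht hAc
  rw [PLay_eq_Lay hO] at hE
  have hti : ∀ U : Subgroup G, A ≤ U → ¬ U ≤ normalizer (A : Set G) →
      (Nat.card (centralizer (U : Set G))).Coprime 2 := by
    intro U hU hn
    by_contra hc
    obtain ⟨s, hs, ho⟩ := exists_invol hc
    refine hn fun u hu => ?_
    rw [h4]
    by_contra hu'
    refine two_dvd_of_mem ho (mem_inf.2 ⟨centralizer_le hU hs, mem_map_conj.2 ?_⟩) (h2 u hu')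
    rw [mul_assoc, ← hs u hu, inv_mul_cancel_left]
    exact centralizer_le hU hs
  have hW : ∀ U : Subgroup G, Lay ⊤ = U → (Nat.card (centralizer (U : Set G))).Coprime 2 →
      centralizer (U : Set G) = ⊥ := by
    rintro U rfl hc
    exact le_bot_iff.1 (hO ▸ le_Opp le_top ((Lay_normal ⊤).trans (centralizer_normalizer _)) hc)
  obtain ⟨D, hD, h | ⟨h, -⟩ | ⟨hne, h, e⟩⟩ := pumpup (H := ⊤) ht2 (le_normalizer (mem_top t))
    (by rwa [top_inf_eq]) hE
  · left
    subst h
    rw [← normalizer_eq_top_iff, eq_top_iff]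
    intro g _
    apply mem_normalizer_of_map_conj_eq
    by_contra e
    exact h3 g e ((hD.eq_or_comm (hD.conj (le_normalizer (mem_top g)))).resolve_left (Ne.symm e))
  · right; right
    have hc := hti D h.le fun hn => by
      rcases hD.2.normal A h.le hn with e | e
      · exact h.ne e
      · exact hAc.2.not_comm (comm_bot_mono e le_rfl h.le)
    have e := Lay_eq_of_coprime hD.1 hD.le_Lay hc
    rw [← Lay_top, e]
    exact ⟨h.le, hD.2.isSimpleGroup (by rw [hW D e hc, inf_bot_eq]), hD.2.not_isMulCommutative⟩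
  · right; left
    have hle := diag_le ht2 h
    rw [← e] at hle
    have hD' := hD.conj (le_normalizer (mem_top t))
    have hc := hti _ (hle.trans inf_le_left) fun hn => by
      have h5 : D ≤ A := (comm_diag hD.2.perfect h).trans (e ▸
        le_normalizer_iff_commutator_le_right.1 (le_sup_left.trans hn))
      refine hne (map_conj_eq_of_mem_normalizer (normalizes_of_comm_bot (A := zpowers t) ?_
        (mem_zpowers t)))
      apply comm_bot_symm
      rw [commutator_eq_bot_iff_le_centralizer, centralizer_zpowers]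
      exact h5.trans (hle.trans inf_le_right)
    have e2 := Lay_eq_of_coprime (orbit_subIn (le_normalizer (mem_top t)) hD)
      (sup_le hD.le_Lay hD'.le_Lay) hc
    have h6 := hW _ e2 hc
    have h7 : D ⊓ cjg t D = ⊥ :=
      le_bot_iff.1 (h6 ▸ commutator_eq_bot_iff_le_centralizer.1 (inf_cjg_comm h))
    have hinj : Function.Injective (diagHom t D h) := by
      rw [injective_iff_map_eq_one]
      intro d hd
      rw [diagHom_apply] at hd
      have : (d : G) ∈ D ⊓ cjg t D :=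
        mem_inf.2 ⟨d.2, eq_inv_of_mul_eq_one_left hd ▸ inv_mem (mem_cjg d.2)⟩
      rw [h7] at this
      exact Subtype.ext this
    have hk : ∀ k ∈ centralizer (A : Set G), k ∈ normalizer (D : Set G) → k = 1 := by
      intro k hk hkD
      have hkD' : k ∈ normalizer (cjg t D : Set G) := by
        apply mem_normalizer_of_map_conj_eq
        have h8 := hD'.conj (le_normalizer (mem_top k))
        have h9 := h8.mem_of_le_sSup (S := {D, cjg t D}) (by
          rintro _ (rfl | rfl)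
          exacts [hD, hD']) (by rw [sSup_pair, ← e2]; exact h8.le_Lay)
        refine h9.resolve_left fun e' => hne (map_injective (map_conj_inj (g := k)) ?_)
        rw [e', map_conj_eq_of_mem_normalizer hkD]
      have key : ∀ d ∈ D, k * d * k⁻¹ = d ∧ k * (t * d * t⁻¹) * k⁻¹ = t * d * t⁻¹ := by
        intro d hd
        have h8 : d * (t * d * t⁻¹) * k = k * (d * (t * d * t⁻¹)) :=
          hk _ (e ▸ mem_diag.2 ⟨d, hd, rfl⟩)
        have h9 : d⁻¹ * (k * d * k⁻¹) = (t * d * t⁻¹) * (k * (t * d * t⁻¹) * k⁻¹)⁻¹ := by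
          calc d⁻¹ * (k * d * k⁻¹) = d⁻¹ * (k * (d * (t * d * t⁻¹))) * k⁻¹ *
              (k * (t * d * t⁻¹) * k⁻¹)⁻¹ := by group
            _ = _ := by rw [← h8]; group
        have h10 : d⁻¹ * (k * d * k⁻¹) ∈ D ⊓ cjg t D :=
          mem_inf.2 ⟨mul_mem (inv_mem hd) (conj_mem' hkD hd),
            h9 ▸ mul_mem (mem_cjg hd) (inv_mem (conj_mem' hkD' (mem_cjg hd)))⟩
        rw [h7, mem_bot] at h10
        exact ⟨(inv_mul_eq_one.1 h10).symm, (mul_inv_eq_one.1 (h9 ▸ h10)).symm⟩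
      rw [← mem_bot, ← h6, centralizer_sup]
      refine mem_inf.2 ⟨fun d hd => ?_, ?_⟩
      · exact (mul_inv_eq_iff_eq_mul.1 (key d hd).1).symm
      · rintro _ ⟨d, hd, rfl⟩
        exact (mul_inv_eq_iff_eq_mul.1 (key d hd).2).symm
    refine ⟨D, hD.2.isSimpleGroup (le_bot_iff.1 ?_), hD.2.not_isMulCommutative,
      ⟨e ▸ MonoidHom.ofInjective hinj⟩, comm_bot_iff.1 h, h7, Lay_top (G := G) ▸ e2.symm,
      le_antisymm (fun k hk' => ?_) (zpowers_le.2 htA)⟩
    · rw [← h6, centralizer_sup]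
      exact le_inf inf_le_right (inf_le_left.trans (commutator_eq_bot_iff_le_centralizer.1 h))
    · have h8 := hD.conj (le_normalizer (mem_top k))
      rcases h8.mem_of_le_sSup (S := {D, cjg t D}) (by
          rintro _ (rfl | rfl)
          exacts [hD, hD']) (by rw [sSup_pair, ← e2]; exact h8.le_Lay) with h9 | h9
      · rw [hk k hk' (mem_normalizer_of_map_conj_eq h9)]; exact one_mem _
      · have := hk (t * k) (mul_mem htA hk') (mem_normalizer_of_map_conj_eq (by
          rw [← map_conj_map_conj, h9, cjg_cjg ht2]))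
        rw [eq_inv_of_mul_eq_one_right this]
        exact inv_mem (mem_zpowers t)

theorem lbalance' {H T : Subgroup G} (hT : IsPGroup 2 T) (hTH : T ≤ H) :
    PLay 2 (H ⊓ centralizer (T : Set G)) ≤ PLay 2 H := by
  have h2 := map_mono (f := H.subtype) (lbalance (Core.isPGroup_subgroupOf hT H))
  rwa [PLay_map (subtype_injective H), PLay_map (subtype_injective H), map_top_subtype,
    Core.centralizer_subgroupOf hTH, subgroupOf_map_subtype, inf_comm] at h2

theorem PLay_le_Lay {p : ℕ} {H : Subgroup G} (h : ⁅PLay p H, Opp p H⁆ = ⊥) : PLay p H ≤ Lay H :=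
  PLay_le_iff.2 fun _ hK => CompIn.le_Lay
    ⟨hK.1, hK.2.qs (comm_bot_mono (comm_bot_symm h) hK.1.Opp_mono hK.le_PLay)⟩

theorem bprop (hB : HasBProperty G) {t : G} (ht : orderOf t = 2) :
    ⁅PLay 2 (centralizer {t}), Opp 2 (centralizer {t})⁆ ≤ Opp 2 ⊤ := by
  have := hB t ht
  rwa [map_commutator, PLay_eq, Opp_eq, oddCore, ← Opp_top] at this

theorem s1305 (hO : Opp 2 (⊤ : Subgroup G) = ⊥) (hB : HasBProperty G) {a : G} (ha : orderOf a = 2)
    {K : Subgroup G} (hK : CompIn K (centralizer {a}))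
    (hmax : ∀ y : G, orderOf y = 2 → ∀ K' : Subgroup G, CompIn K' (centralizer {y}) →
      Nat.card K' ≤ Nat.card K ∧ (Nat.card K' = Nat.card K → ∀ k : ℕ,
        PRankLE 2 k ↥(centralizer {a} ⊓ centralizer (K : Set G)) →
        PRankLE 2 k ↥(centralizer {y} ⊓ centralizer (K' : Set G))))
    (hrk : ¬ PRankLE 2 1 K) {B : Subgroup G} (hBle : B ≤ centralizer {a} ⊓ centralizer (K : Set G))
    (hBel : IsElementaryAbelian 2 B)
    (hBmax : ∀ B' ≤ centralizer {a} ⊓ centralizer (K : Set G), IsElementaryAbelian 2 B' →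
      Nat.card B' ≤ Nat.card B) {b : G} (hb : b ∈ B) (hb1 : b ≠ 1) :
    CompIn K (centralizer {b}) := by
  haveI : Fact (Nat.Prime 2) := ⟨Nat.prime_two⟩
  have hbo := orderOf_eq_of_elemAb hBel hb hb1
  have ha2 := mul_self_of_order ha
  have hKb : K ≤ centralizer {b} := fun k hk => mem_centralizer_singleton_iff.2 ((hBle hb).2 k hk)
  have hBa : ∀ β ∈ B, β * a = a * β := fun β h => mem_centralizer_singleton_iff.1 (hBle h).1
  have hab : a ∈ centralizer {b} := mem_centralizer_singleton_iff.2 (hBa b hb).symm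
  have hK' : CompIn K (centralizer {b} ⊓ centralizer {a}) :=
    hK.restrict (le_inf hKb hK.le) inf_le_right
  have hE : K ≤ Lay (centralizer {b}) := by
    have := lbalance' (isPGroup_zpowers_of_orderOf ha) (zpowers_le.2 hab)
    rw [centralizer_zpowers] at this
    exact ((PCompIn.le_PLay ⟨hK'.1, hK'.2.pqs (QS.even hK.2)⟩).trans this).trans
      (PLay_le_Lay (le_bot_iff.1 (hO ▸ bprop hB hbo)))
  obtain ⟨D, hD, h | ⟨h, -⟩ | ⟨hne, h, e⟩⟩ := pumpup ha2 (le_normalizer hab) hK' hE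
  · exact h ▸ hD
  · exact absurd (eq_of_le_of_card_ge h.le (hmax b hbo D hD).1) h.ne
  exfalso
  have hD' := hD.conj (le_normalizer hab)
  have hsur := (diagHom a D h).rangeRestrict_surjective
  have hc : Nat.card D = Nat.card K :=
    le_antisymm (hmax b hbo D hD).1 (e ▸ Nat.card_le_card_of_surjective _ hsur)
  have hinj : Function.Injective (diagHom a D h) := fun x y hxy =>
    ((Nat.bijective_iff_surjective_and_card _).2 ⟨hsur, e ▸ hc⟩).1 (Subtype.ext hxy)
  obtain ⟨k, hk⟩ := IsPGroup.iff_card.1 (elemAb_isPGroup hBel)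
  have hr := (hmax b hbo D hD).2 hc k (by
    by_contra hn
    obtain ⟨E, h1, h2, h3⟩ := not_rank_iff.1 hn
    have := hBmax E h1 h2
    rw [hk] at this
    have := h3.trans this
    rw [Nat.pow_le_pow_iff_right (by norm_num)] at this
    omega)
  obtain ⟨E, hE1, hE2, hE3⟩ := not_rank_iff.1 hrk
  set V := cjg a ((E.comap (diagHom a D h)).map D.subtype) with hV
  have hVD : V ≤ cjg a D := map_mono (map_subtype_le _)
  have hVe : IsElementaryAbelian 2 V := by
    refine elemAb_map _ (elemAb_map _ (elemAb_of (fun x hx y hy => hinj ?_) fun x hx => hinj ?_))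
    · rw [map_mul, map_mul]; exact elemAb_comm hE2 hx hy
    · rw [map_pow, map_one]; exact hE2.2 _ hx
  have hVc : Nat.card V = Nat.card E := by
    rw [hV, card_map_of_injective map_conj_inj, card_map_of_injective D.subtype_injective,
      ← card_map_of_injective hinj, map_comap_eq_self (e ▸ hE1)]
  have hperm : ∀ β ∈ B, cjg β D = D ∨ cjg β D = cjg a D := by
    intro β hβ
    have h1 := hD.conj (le_normalizer (elemAb_le_centralizer_singleton hBel hb hβ))
    by_contra! hn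
    have h2 := comm_sup_right_bot ((h1.eq_or_comm hD).resolve_left hn.1)
      ((h1.eq_or_comm hD').resolve_left hn.2)
    have h3 : cjg β K = K := map_conj_eq_of_mem_normalizer (normalizes_of_comm_bot
      (commutator_eq_bot_iff_le_centralizer.2 (hBle.trans inf_le_right)) hβ)
    have h4 := map_mono (f := (MulAut.conj β).toMonoidHom) (comm_diag hD.2.perfect h)
    rw [map_commutator, ← e, h3, comm_bot_mono h2 le_rfl
      (e ▸ (diag_le ha2 h).trans inf_le_left)] at h4
    exact h1.2.ne_bot (le_bot_iff.1 h4)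
  set B0 := B ⊓ normalizer (D : Set G) with hB0
  have hidx : B0.relIndex B ∣ 2 := by
    rw [relIndex_dvd_two_iff]
    by_cases hall : B ≤ normalizer (D : Set G)
    · exact ⟨1, one_mem _, fun β hβ => Or.inr ⟨hβ, hall hβ⟩⟩
    obtain ⟨β0, h0, h0'⟩ := SetLike.not_le_iff_exists.1 hall
    have h1 := (hperm β0 h0).resolve_left fun e => h0' (mem_normalizer_of_map_conj_eq e)
    refine ⟨β0, h0, fun β hβ => ?_⟩
    rcases hperm β hβ with h2 | h2
    · exact Or.inr ⟨hβ, mem_normalizer_of_map_conj_eq h2⟩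
    · refine Or.inl ⟨mul_mem hβ h0, mem_normalizer_of_map_conj_eq ?_⟩
      rw [← map_conj_map_conj, h1, map_conj_map_conj, hBa β hβ, ← map_conj_map_conj, h2,
        cjg_cjg ha2]
  have hB0D : B0 ≤ centralizer (D : Set G) := by
    rw [← commutator_eq_bot_iff_le_centralizer]
    refine comm_bot_of_perfect hD.2.perfect (comm_bot_mono (inf_cjg_comm h)
      (commutator_le.2 fun β hβ d hd => ?_) le_sup_left)
    have h1 : d * (a * d * a⁻¹) * β = β * (d * (a * d * a⁻¹)) :=
      (hBle hβ.1).2 _ (e ▸ mem_diag.2 ⟨d, hd, rfl⟩)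
    have h2 : Commute β a := hBa β hβ.1
    have h3 := comm_of_bot h hd (mem_cjg (g := a) hd)
    have h4 := comm_of_bot h (conj_mem' hβ.2 hd) (mem_cjg (g := a) (conj_mem' hβ.2 hd))
    refine mem_inf.2 ⟨mul_mem (conj_mem' hβ.2 hd) (inv_mem hd), ?_⟩
    have h5 : β * (a * d * a⁻¹) * β⁻¹ = a * (β * d * β⁻¹) * a⁻¹ := by
      calc β * (a * d * a⁻¹) * β⁻¹ = (β * a) * d * (β * a)⁻¹ := by group
        _ = _ := by rw [h2.eq]; group
    have h6 : ⁅β, d⁆ = (a * (β * d * β⁻¹) * a⁻¹)⁻¹ * (a * d * a⁻¹) := by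
      have h7 : (a * (β * d * β⁻¹) * a⁻¹) * (β * d * β⁻¹) = (a * d * a⁻¹) * d := by
        rw [← h4, ← h5, ← h3]
        calc β * d * β⁻¹ * (β * (a * d * a⁻¹) * β⁻¹) = β * (d * (a * d * a⁻¹)) * β⁻¹ := by group
          _ = _ := by rw [← h1]; group
      calc ⁅β, d⁆ = (a * (β * d * β⁻¹) * a⁻¹)⁻¹ * ((a * (β * d * β⁻¹) * a⁻¹) * (β * d * β⁻¹)) * d⁻¹ := by
            rw [commutatorElement_def]; group
        _ = _ := by rw [h7]; group
    rw [h6]
    exact mul_mem (inv_mem (mem_cjg (conj_mem' hβ.2 hd))) (mem_cjg hd)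
  have hB0D' : B0 ≤ centralizer (cjg a D : Set G) := by
    rintro β hβ _ ⟨d, hd, rfl⟩
    have h2 : Commute β a := hBa β hβ.1
    have h3 : Commute β d := (hB0D hβ d hd).symm
    exact (((h2.mul_right h3).mul_right h2.inv_right)).symm
  have hdis : B0 ⊓ V = ⊥ := by
    rw [eq_bot_iff]
    rintro z ⟨hz, hz'⟩
    obtain ⟨d, hd, e'⟩ := hVD hz'
    have e' : a * d * a⁻¹ = z := e'
    have h2 : d = z := by
      calc d = a⁻¹ * (z * a) := by rw [← e']; group
        _ = z := by rw [hBa z hz.1]; group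
    have h3 : diagHom a D h ⟨d, hd⟩ = diagHom a D h 1 := by
      rw [map_one, diagHom_apply, e']
      show d * z = 1
      rw [h2, ← sq]; exact hBel.2 z hz.1
    rw [mem_bot, ← h2]
    exact congrArg Subtype.val (hinj h3)
  have hcm : B0 ≤ centralizer (V : Set G) := hB0D'.trans (centralizer_le hVD)
  have h1 := Core.card_sup_of_disjoint (normalizes_of_comm_bot
    (commutator_eq_bot_iff_le_centralizer.2 hcm)) hdis
  refine not_rank_iff.2 ⟨B0 ⊔ V, sup_le (le_inf (inf_le_left.trans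
    (elemAb_le_centralizer_singleton hBel hb)) hB0D) (le_inf (hVD.trans hD'.le) (hVD.trans
      (commutator_eq_bot_iff_le_centralizer.1 (comm_bot_symm h)))),
    elemAb_sup (elemAb_le hBel inf_le_left) hVe hcm, ?_⟩ hr
  have h2 : Nat.card B0 * B0.relIndex B = Nat.card B := by
    rw [← card_mul_index (B0.subgroupOf B), Nat.card_congr (subgroupOfEquivOfLe inf_le_left).toEquiv]
    rfl
  have h3 := Nat.le_of_dvd two_pos hidx
  rw [h1, hVc, pow_succ, ← hk, ← h2]
  calc Nat.card B0 * B0.relIndex B * 2 ≤ Nat.card B0 * 2 * 2 := by gcongr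
    _ = Nat.card B0 * 2 ^ (1 + 1) := by ring
    _ ≤ _ := by gcongr

theorem s1246 {p : ℕ} [Fact p.Prime] {U V : Subgroup G} (h : SubIn V U) (hU : IsPGroup p U)
    (hV : FStar (centralizer (V : Set G)) = Op p (centralizer (V : Set G))) :
    FStar (centralizer (U : Set G)) = Op p (centralizer (U : Set G)) := by
  induction h with
  | refl => exact hV
  | @step K L H h1 h2 h3 ih =>
    refine ih hU ?_
    have := FStar_centralizer_eq_Op (hU.to_le h3.le) (h2.trans (centralizer_normalizer K)) hV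
    rwa [inf_eq_right.2 (centralizer_le h1)] at this

end Cfsg.Agent.H8
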