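import Cfsg.Agent.H8.Gold
import Cfsg.Agent.H8.Pump
import Cfsg.Agent.Inv.Small
import Cfsg.Agent.Inv.Isolated

/-! Strongly closed subgroups, abelian Sylow 2-subgroups, Bender's lemma on maximal subgroups. -/

set_option autoImplicit false

namespace Cfsg.Agent.H8

open Cfsg Cfsg.Agent.BG Subgroup PHom
open Cfsg.Agent.Comp (Lay FStar Fit Op Opp CompIn SubIn QS PLay PCompIn PQS)

variable {G : Type*} [Group G] [Finite G] {p : ℕ}

omit [Finite G] in
theorem Fit_F (H : Subgroup G) : Fit H = F[H] := (Comp.Fit_eq H).symm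
theorem Op_O (hp : p.Prime) (H : Subgroup G) : Op p H = O[{p}](H) :=
  (Comp.Op_eq H).symm.trans (pCore_map hp H)
omit [Finite G] in
theorem Opp_O (hp : p.Prime) (H : Subgroup G) : Opp p H = O[{p}ᶜ](H) :=
  (Comp.Opp_eq H).symm.trans (pPrimeCore_map hp H)
omit [Finite G] in
theorem FStar_def (H : Subgroup G) : FStar H = Lay H ⊔ F[H] := by rw [← Fit_F]; rfl

/-- a generalised Thompson transfer lemma -/
theorem gen_transfer (P : Sylow 2 G) {A : Type*} [CommGroup A] (φ : (P : Subgroup G) →* A)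
    (hA : IsPGroup 2 A) {u : G} (hu2 : u ^ 2 = 1) {t : A} (ht1 : t ≠ 1) (ht2 : t ^ 2 = 1)
    (h : ∀ (g : G) (hg : g⁻¹ * u * g ∈ (P : Subgroup G)), φ ⟨_, hg⟩ = t) :
    ∃ H : Subgroup G, H.index = 2 := by
  classical
  haveI : Fact (Nat.Prime 2) := ⟨Nat.prime_two⟩
  let V := MonoidHom.transfer φ
  have hV : V u = t ^ (P : Subgroup G).index := by
    have := Fintype.ofFinite (Quotient (MulAction.orbitRel (zpowers u) (G ⧸ (P : Subgroup G))))
    rw [MonoidHom.transfer_eq_prod_quotient_orbitRel_zpowers_quot, index_eq_sum_minimalPeriod _ u,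
      ← Finset.prod_pow_eq_pow_sum]
    refine Finset.prod_congr rfl fun q _ => ?_
    have hd : Function.minimalPeriod (u • ·) q.out ∣ 2 := by
      rw [← MulAction.pow_smul_eq_iff_minimalPeriod_dvd, hu2, one_smul]
    rcases (Nat.dvd_prime Nat.prime_two).mp hd with e | e
    · simp only [e, pow_one]
      exact h _ _
    · simp only [e, ht2, hu2, mul_one, inv_mul_cancel]
      exact map_one _
  have hVu : V u ≠ 1 := by
    obtain ⟨k, hk⟩ := Nat.odd_iff.mpr (Nat.two_dvd_ne_zero.mp P.not_dvd_index)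
    rw [hV, hk, pow_succ, pow_mul, ht2, one_pow, one_mul]
    exact ht1
  refine Inv.exists_index_two_of_pResidual fun e => hVu ?_
  refine (show pResidual 2 G ≤ V.ker from (closure_le _).2 fun g hg => ?_) (e.ge (mem_top u))
  obtain ⟨k, hk⟩ := hA (V g)
  exact orderOf_eq_one_iff.1 (Nat.eq_one_of_dvd_coprimes (Nat.Coprime.pow_right k hg)
    (orderOf_map_dvd V g) (orderOf_dvd_of_pow_eq_one hk))

theorem s1244 (hG : ∀ H : Subgroup G, H.index ≠ 2) (S : Sylow 2 G) (hS : Abel (S : Subgroup G))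
    {R : Subgroup G} (hRS : R ≤ S) (hr : r[2]((S : Subgroup G)) = r[2](R) + 1) {t : G}
    (ht : orderOf t = 2) (htS : t ∈ S) : ∃ n ∈ N[(S : Subgroup G)], n * t * n⁻¹ ∈ R := by
  haveI : Fact (Nat.Prime 2) := ⟨Nat.prime_two⟩
  haveI := hS.comm
  by_contra! hn
  have hn' : ∀ g : G, g⁻¹ * t * g ∈ (S : Subgroup G) → g⁻¹ * t * g ∉ R := fun g hg hR => by
    obtain ⟨n, h1, h2⟩ := S.conj_eq_normalizer_conj_of_mem t g htS hg
    exact hn n⁻¹ (inv_mem h1) (by rwa [inv_inv, ← h2])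
  have ht2 : t ^ 2 = 1 := ht ▸ pow_orderOf_eq_one t
  haveI : (R.subgroupOf S).Normal := normal_subgroupOf (abel_norm hS hRS)
  letI : CommGroup ((S : Subgroup G) ⧸ R.subgroupOf S) :=
    { (inferInstance : Group _) with
      mul_comm := fun a b => by
        obtain ⟨a, rfl⟩ := QuotientGroup.mk_surjective a
        obtain ⟨b, rfl⟩ := QuotientGroup.mk_surjective b
        rw [← QuotientGroup.mk_mul, ← QuotientGroup.mk_mul]
        exact congrArg _ (Subtype.ext (mem_C_comm hS a.2 b.2)) }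
  have hi : Ω[2](R).relIndex Ω[2]((S : Subgroup G)) = 2 := by
    have := card_mul_relIndex (Om_mono hRS : Ω[2](R) ≤ Ω[2]((S : Subgroup G)))
    rw [hS.card_Om Nat.prime_two, (hS.of_le hRS).card_Om Nat.prime_two, hr, pow_succ] at this
    exact Nat.eq_of_mul_eq_mul_left (by positivity) this
  obtain ⟨H, hH⟩ := gen_transfer S (QuotientGroup.mk' (R.subgroupOf S))
    (S.isPGroup'.to_quotient _) ht2 (t := QuotientGroup.mk' (R.subgroupOf S) ⟨t, htS⟩)
    (fun e => hn 1 (one_mem _) (by simpa using mem_subgroupOf.1 ((QuotientGroup.eq_one_iff _).1 e)))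
    (by rw [← map_pow]; exact (congrArg _ (Subtype.ext ht2)).trans (map_one _)) fun g hg => by
      rw [QuotientGroup.mk'_apply, QuotientGroup.mk'_apply, QuotientGroup.eq, mem_subgroupOf]
      have h1 : (g⁻¹ * t * g)⁻¹ ∈ Ω[2]((S : Subgroup G)) :=
        inv_mem (mem_Om hg (by simpa [ht2] using conj_pow (a := g⁻¹) (b := t) (i := 2)))
      have h2 : t ∈ Ω[2]((S : Subgroup G)) := mem_Om htS ht2
      have := (mul_mem_iff_of_index_two hi (a := ⟨_, h1⟩) (b := ⟨_, h2⟩)).2 (iff_of_false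
        (fun e => hn' g hg (Om_le 2 R (inv_mem_iff.1 e)))
        fun e => hn 1 (one_mem _) (by simpa using Om_le 2 R e))
      exact Om_le 2 R this
  exact hG H hH

/-- Z* inside a subgroup -/
theorem zstar_rel {X P : Subgroup G} {z : G} (hz : orderOf z = 2) (hzX : z ∈ X) (hP : Syl 2 P X)
    (h : ∀ g ∈ X, g * z * g⁻¹ ∈ P → g * z * g⁻¹ = z) : ⁅X, zpowers z⁆ ≤ O[{2}ᶜ](X) := by
  obtain ⟨S, rfl⟩ := hP.exists_sylow Nat.prime_two
  have := map_mono (f := X.subtype) (zstar' (Inv.isolated_of_sylow S (u := ⟨z, hzX⟩)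
    (by rw [← hz, orderOf_mk]) fun g hg => Subtype.ext (h g g.2 ⟨_, hg, rfl⟩)))
  rwa [map_commutator, MonoidHom.map_zpowers, map_O_inj X.subtype_injective, map_subtype_top] at this

theorem s1251 {S A H : Subgroup G} (hS : Syl 2 S ⊤) (hA : IsStronglyClosed A S) (hAH : A ≤ N[H])
    (hO : O[{2}ᶜ](H) = ⊥) (hd : A ⊓ H = ⊥) : A ≤ C[H] := by
  have h2 := Nat.prime_two
  have pA := hS.pi.of_le hA.1
  have hsc : ∀ T, PiG {2} T → A ≤ T → ∀ a ∈ A, ∀ h ∈ H, h * a * h⁻¹ ∈ T → h * a * h⁻¹ = a := by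
    intro T hT hAT a ha h hh h1
    obtain ⟨g, -, h3⟩ := hS.cj_sub h2 le_top hT
    have h4 : cj g A = A := eq_of_card_le (fun x hx => by
      obtain ⟨y, hy, rfl⟩ := exists_of_mem_cj hx
      exact hA.2 y hy g (h3 (mem_cj_conj.2 (hAT hy)))) (card_cj g A).ge
    have h5 : h * a * h⁻¹ ∈ A := by
      rw [← mem_cj_conj (g := g), h4]
      have := hA.2 a ha (g * h) (by
        have := h3 (mem_cj_conj.2 h1)
        rwa [show g * (h * a * h⁻¹) * g⁻¹ = g * h * a * (g * h)⁻¹ by group] at this)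
      rwa [show g * h * a * (g * h)⁻¹ = g * (h * a * h⁻¹) * g⁻¹ by group] at this
    have h6 : h * a * h⁻¹ * a⁻¹ ∈ A ⊓ H := mem_inf.2 ⟨mul_mem h5 (inv_mem ha), by
      rw [show h * a * h⁻¹ * a⁻¹ = h * (a * h⁻¹ * a⁻¹) by group]
      exact mul_mem hh (conj_mem (hAH ha) (inv_mem hh))⟩
    rw [hd, mem_bot] at h6
    exact mul_inv_eq_one.1 h6
  set K := A ⊓ C[H] with hK
  have nA : A ≤ N[K] := normI (normG A) (normC hAH)
  have nH : H ≤ N[K] := cents_norm (cent_symm inf_le_right)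
  have nX : H ⊔ A ≤ N[K] := sup_le nH nA
  by_contra hne
  have h0 : A ÷ K ≠ ⊥ := fun e => hne (((quo_bot_iff nA).1 e).trans inf_le_right)
  obtain ⟨z', hz', hzo⟩ := cauchy h2 (((pA.im _).of_le inf_le_left).dvd ((pA.im _).nil.Z_ne_bot h0))
  obtain ⟨z, hz, rfl⟩ := (mem_im' (φ := quo K) nA).1 hz'.1
  obtain ⟨P, hP, hAP⟩ := syl_superset h2 (le_sup_right : A ≤ H ⊔ A) pA
  have h3 := zstar_rel hzo (app_mem_im (mem_sup_right hz : z ∈ H ⊔ A) (nA hz)) (hP.im nX)
    fun g' hg' h1 => by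
      obtain ⟨g, hg, rfl⟩ := (mem_im' (φ := quo K) nX).1 hg'
      obtain ⟨h, hh, a, ha, rfl⟩ := (mem_sup_l hAH).1 hg
      have e : (quo K).app (h * a) * (quo K).app z * ((quo K).app (h * a))⁻¹ =
          (quo K).app (h * z * h⁻¹) := by
        rw [app_mul (nH hh) (nA ha), app_conj (nH hh) (nA hz), mul_assoc (app _ h),
          hz'.2 _ (app_mem_im ha (nA ha))]
        group
      rw [e] at h1 ⊢
      rw [hsc P hP.pi hAP z hz h hh ((app_mem_iff (φ := quo K)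
        (mul_mem (mul_mem (nH hh) (nA hz)) (inv_mem (nH hh))) (hP.le.trans nX)
        (by simpa using inf_le_left.trans hAP)).1 h1)]
  have hHK : H ⊓ (quo K).ker = ⊥ := by
    rw [quo_ker, eq_bot_iff, ← hd]; exact le_inf (inf_le_right.trans inf_le_left) inf_le_left
  have h4 : ⁅H, zpowers z⁆ ÷ K ≤ O[{2}ᶜ](H ÷ K) := by
    rw [im_comm nH (zpowers_le.2 (nA hz)), im_zpowers (nA hz)]
    refine le_trans (le_inf ((commS (im_mono le_sup_left) le_rfl).trans h3) (commL ?_))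
      (O_inf_le _ (im_mono le_sup_left))
    exact zpowers_le.2 (app_mem_N (hAH hz) (nA hz))
  have h5 := commL (zpowers_le.2 (hAH hz))
  rw [← im_O nH (hHK ▸ pig_bot _), hO, im_bot, le_bot_iff, quo_bot_iff (h5.trans nH)] at h4
  have h6 : z ∈ K := mem_inf.2 ⟨hz, comm_eq_bot'.1 (le_bot_iff.1 (hHK ▸ le_inf h5 (by simpa using h4)))
    (mem_zpowers z)⟩
  rw [(mem_ker.1 ((quo_ker K).ge h6)).2, orderOf_one] at hzo
  omega

theorem N_coatom' [IsSimpleGroup G] {A X : Subgroup G} (hA : IsCoatom A) (h1 : X ≤ A)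
    (h2 : A ≤ N[X]) (h3 : X ≠ ⊥) : N[X] = A :=
  ((hA.le_iff.1 h2).resolve_left fun e => ((normalizer_eq_top_iff.1 e).eq_bot_or_eq_top.elim h3
    fun e' => hA.1 (top_le_iff.1 (e' ▸ h1))))

section bender
variable {A S : Subgroup G} (h1 : SubIn S (FStar A)) (h2 : FStar A ⊓ C[S] ≤ S)
include h1 h2

theorem bender_Lay : Lay A ≤ S := Comp.Lay_le_iff.2 fun K hK =>
  ((hK.restrict (hK.le_Lay.trans Comp.Lay_le_FStar) Comp.FStar_le).le_or_comm h1).elim id fun e =>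
    (le_inf (hK.le_Lay.trans Comp.Lay_le_FStar) (comm_eq_bot'.1 e)).trans h2

theorem bender_F : F[A] ⊓ C[S ⊓ F[A]] ≤ S ⊓ F[A] := by
  have h3 : F[A] ≤ C[Lay A] := comm_eq_bot'.1 (Fit_F A ▸ Comp.Lay_comm_Fit A)
  have h4 : S = Lay A ⊔ F[A] ⊓ S := by
    rw [← modl_l (cents_norm h3) (bender_Lay h1 h2), ← FStar_def, inf_eq_right.2 h1.le]
  refine le_inf (le_trans (le_inf (inf_le_left.trans (FStar_def A ▸ le_sup_right)) ?_) h2) inf_le_left
  conv_rhs => rw [h4]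
  exact centY (inf_le_left.trans h3) (inf_comm S _ ▸ inf_le_right)

theorem bender_O (π : Set ℕ) : O[π](F[A]) ⊓ C[S ⊓ O[π](F[A])] ≤ S ⊓ O[π](F[A]) := by
  refine le_inf (le_trans (le_inf (inf_le_left.trans (O_le _ _)) ?_)
    ((bender_F h1 h2).trans inf_le_left)) inf_le_left
  have hn := (F_nil A).of_le (inf_le_right : S ⊓ F[A] ≤ _)
  rw [← (hn.dprod_O π).sup]
  refine centY (inf_le_right.trans (centS (le_inf ((O_le _ _).trans inf_le_left)
    ((F_nil A).O_mono π inf_le_right)))) (inf_le_left.trans ?_)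
  exact (O_cent_O π _).trans (centS ((F_nil A).O_mono _ inf_le_right))

theorem bender_cent {X : Subgroup G} {π : Set ℕ} (hX : X ≤ A) (hs : Sol X) (hπ : PiG πᶜ X)
    (hn : S ≤ N[X]) : X ≤ C[Lay A ⊔ O[π](F[A])] := by
  refine centY (comm_eq_bot'.1 (Comp.Lay_comm_of_solvable hX hs ((bender_Lay h1 h2).trans hn))) ?_
  have n1 : X ≤ N[O[π](F[A])] := hX.trans (normO _ (F_norm A))
  refine cop_self_cent ((F_nil A).of_le (O_le _ _)) n1 (hπ.coprime' (O_pig _ _)) inf_le_right ?_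
    (bender_O h1 h2 π)
  refine comm_eq_bot.1 (le_bot_iff.1 ((O_pig π F[A]).inf_bot hπ ▸ le_inf ?_ ?_))
  · exact (commS inf_le_right le_rfl).trans (commL n1)
  · exact commR (inf_le_left.trans hn)

theorem bender_one {B : Subgroup G} (hB : S ≤ B) {q : ℕ} (hq : q.Prime) (h : ¬ q ∣ #F[A]) :
    O[{q}](B) ⊓ A = ⊥ := by
  have hp := (O_pig {q} B).of_le (inf_le_left : O[{q}](B) ⊓ A ≤ _)
  have h3 := bender_cent h1 h2 (π := {q}ᶜ) inf_le_right hp.sol hp.compl_compl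
    (normI (hB.trans (O_norm _ _)) (normsG (h1.le.trans Comp.FStar_le)))
  have h4 := (pin_compl hq).2 h
  rw [O_eq_self h4, ← FStar_def] at h3
  exact hp.eq_bot (PiG.of_le h4 (Fit_F A ▸ (le_inf inf_le_right h3).trans
    (Comp.centralizer_FStar_le_Fit A)))

theorem bender_two [IsSimpleGroup G] (hA : IsCoatom A) {B : Subgroup G} (hB : S ≤ B) (hp : p.Prime)
    (h : p ∣ #F[A]) : O[{p}](B) ≤ C[Lay A ⊔ O[{p}ᶜ](F[A])] := by
  have pP := O_pig {p} B
  have nP : S ≤ N[O[{p}](B)] := hB.trans (O_norm _ _)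
  have hSA := h1.le.trans (Comp.FStar_le (H := A))
  have hZ : ∀ π, Z[O[π](F[A])] ≤ S := fun π =>
    (inf_le_inf_left _ (centS inf_le_right)).trans ((bender_O h1 h2 π).trans inf_le_left)
  have hZA : ∀ π, Z[O[π](F[A])] ≤ A := fun π => (hZ π).trans hSA
  have nZ : ∀ π, A ≤ N[Z[O[π](F[A])]] := fun π => normZ (normO _ (F_norm A))
  have pZ : ∀ π, PiG π Z[O[π](F[A])] := fun π => (O_pig _ _).of_le inf_le_left
  have hZ0 : ∀ π, Z[O[π](F[A])] = ⊥ → O[π](F[A]) = ⊥ := fun π e => by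
    by_contra e'
    exact ((F_nil A).of_le (O_le _ _)).Z_ne_bot e' e
  set W := Lay A ⊔ Z[O[{p}ᶜ](F[A])] with hW
  by_cases hW0 : W = ⊥
  · rw [sup_eq_bot_iff.1 hW0 |>.1, hZ0 _ (sup_eq_bot_iff.1 hW0).2, sup_idem, C_bot]
    exact le_top
  have h3 := N_coatom' hA (hZA {p}) (nZ _) fun e =>
    (F_nil A).O_ne_bot hp h (Set.mem_singleton p) (hZ0 _ e)
  have h4 : O[{p}](B) ⊓ C[Z[O[{p}](F[A])]] ≤ C[W] :=
    (bender_cent h1 h2 (π := {p}ᶜ) (inf_le_right.trans ((C_le_N _).trans h3.le))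
      (pP.of_le inf_le_left).sol (pP.of_le inf_le_left).compl_compl
      (normI nP (normC (hSA.trans (nZ _))))).trans (centS (sup_le_sup_left inf_le_left _))
  have hWS : W ≤ S := sup_le (bender_Lay h1 h2) (hZ _)
  have h5 : Z[O[{p}](F[A])] ≤ C[W] := centY
    (inf_le_left.trans ((O_le _ _).trans (comm_eq_bot'.1 (Fit_F A ▸ Comp.Lay_comm_Fit A))))
    (inf_le_left.trans ((O_cent_O _ _).trans (centS inf_le_left)))
  have h6 : ∀ x ∈ W, PiE {p}ᶜ x → x ∈ C[O[{p}](B)] := fun x hx hx' =>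
    zpowers_le.1 (pq_lemma ((pZ {p}).sup_r pP ((hZ _).trans nP)).nil le_sup_left le_sup_right
      (h5.trans (centS (zpowers_le.2 hx))) ((pig_zpowers.2 hx').coprime' pP) ((hZ _).trans nP)
      (zpowers_le.2 (nP (hWS hx))) (h4.trans (centS (zpowers_le.2 hx))))
  haveI := Fact.mk hp
  have h7 : W ≤ C[O[{p}](B)] := sup_le
    (Comp.perfect_le_of_coprime_mem p (Comp.Lay_perfect A) fun x hx hc =>
      h6 x (mem_sup_left hx) ((pin_compl_cop hp).2 hc))
    fun x hx => h6 x (mem_sup_right hx) ((pZ _).elt hx)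
  have h8 := N_coatom' hA (hWS.trans hSA) (normY (Comp.Lay_normal A) (nZ _)) hW0
  exact bender_cent h1 h2 ((cent_symm h7).trans ((C_le_N _).trans h8.le)) pP.sol pP.compl_compl nP

end bender

theorem mem_of_mem_FStar {A : Subgroup G} (hp : p.Prime) {x : G} (hx : x ∈ FStar A)
    (h : PiE {p}ᶜ x) : x ∈ Lay A ⊔ O[{p}ᶜ](F[A]) := by
  have n1 : A ≤ N[Lay A ⊔ O[{p}ᶜ](F[A])] := normY (Comp.Lay_normal A) (normO _ (F_norm A))
  refine mem_of_cop_relIndex (Comp.FStar_le.trans n1) hx (h.coprime' ?_)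
  have : FStar A = (Lay A ⊔ O[{p}ᶜ](F[A])) ⊔ O[{p}](F[A]) := by
    rw [sup_assoc, ((F_nil A).dprod_O {p}).symm.sup, FStar_def]
  rw [this, relIndex_sup_l (((O_le _ _).trans (F_le A)).trans n1)]
  exact (O_pig _ _).relIndex _

end Cfsg.Agent.H8
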