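import Cfsg.Agent.BG.S04a
import Cfsg.Agent.Blk.ZStar
import Cfsg.Agent.Inv.R1a
import Cfsg.Agent.Comp.Conn

/-! Consequences of the Z*-theorem and of Thompson's transfer lemma. -/

set_option autoImplicit false

namespace Cfsg.Agent.H8

open Cfsg Cfsg.Agent.BG Subgroup

scoped notation "𝕋" => (⊤ : Subgroup _)

variable {G : Type*} [Group G] [Finite G] {A K P Q S E : Subgroup G} {z x : G} {p : ℕ}

omit [Finite G] in
theorem pig_odd : PiG {2}ᶜ A ↔ Odd #A := (pin_compl Nat.prime_two).trans Nat.two_dvd_ne_zero |>.trans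
  Nat.odd_iff.symm

omit [Finite G] in
theorem pig_two (h : orderOf z = 2) : PiG {2} (zpowers z) :=
  pig_zpowers.2 (by rw [PiE, h]; exact pin_single_self Nat.prime_two)

omit [Finite G] in
theorem comm_zpowers_le (h2 : z * z = 1) (h : ∀ a ∈ A, a * z * a⁻¹ * z⁻¹ ∈ K) : ⁅A, zpowers z⁆ ≤ K :=
  comm_le_iff.2 fun a ha b hb => by
    obtain ⟨k, rfl⟩ := hb
    have : z ^ (2 : ℤ) = 1 := by rw [zpow_two, h2]
    rcases Int.even_or_odd' k with ⟨m, rfl | rfl⟩
    · simp [zpow_mul, this]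
    · simpa [zpow_add, zpow_mul, this] using h a ha

omit [Finite G] in
theorem sq_of_order (h : orderOf z = 2) : z * z = 1 := by rw [← sq, ← h, pow_orderOf_eq_one]

theorem zstar' (hz : IsIsolatedInvolution z) : ⁅(⊤ : Subgroup G), zpowers z⁆ ≤ O[{2}ᶜ](𝕋) :=
  comm_zpowers_le (sq_of_order hz.1) fun a _ => by
    simpa [mul_assoc, pPrimeCore_eq Nat.prime_two] using inv_mem (Blk.zstar hz a)

theorem zstar_prod (hz : IsIsolatedInvolution z) : IsProd C1[z] O[{2}ᶜ](𝕋) ⊤ := by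
  simpa [C_zpowers] using cop_prod_of_comm_le (le_top.trans (O_norm _ _))
    ((pig_two hz.1).coprime (O_pig _ _)) (Or.inl (cyc_zpowers z).sol) le_top (zstar' hz)

theorem zstar_sup (hz : IsIsolatedInvolution z) (hp : p.Prime) (h2 : p ≠ 2) (hP : PiG {p} P) :
    zpowers z ≤ N[O[{2}ᶜ](𝕋) ⊔ P] ∧
      (#(zpowers z)).Coprime #(O[{2}ᶜ](𝕋) ⊔ P) :=
  ⟨comm_le_l.1 ((commS le_top le_rfl).trans ((zstar' hz).trans le_sup_left)),
    (pig_two hz.1).coprime ((O_pig _ _).sup_l (hP.ne_compl h2) (le_top.trans (O_norm _ _)))⟩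

theorem iso_syl (hz : IsIsolatedInvolution z) (hp : p.Prime) (hQ : PiG {p} Q) (h : z ∈ N[Q]) :
    ∃ P, Syl p P ⊤ ∧ z ∈ N[P] ∧ Q ≤ P := by
  rcases eq_or_ne p 2 with rfl | h2
  · obtain ⟨P, a, b⟩ := syl_superset hp le_top (hQ.sup_l (pig_two hz.1) (zpowers_le.2 h))
    exact ⟨P, a, normG P (b (mem_sup_right (mem_zpowers z))), le_sup_left.trans b⟩
  obtain ⟨P₀, a, b⟩ := syl_superset hp le_top hQ
  obtain ⟨c, d⟩ := zstar_sup hz hp h2 a.pi
  obtain ⟨P, e, f, g⟩ := cop_syl_superset c d (Or.inl (cyc_zpowers z).sol) hp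
    (b.trans le_sup_right) hQ (zpowers_le.2 h)
  exact ⟨P, a.of_card le_top (e.card_eq (a.sub le_sup_right le_top)), zpowers_le.1 f, g⟩

theorem iso_syl_cent (hz : IsIsolatedInvolution z) (hp : p.Prime) (h2 : p ≠ 2) (hP : Syl p P ⊤)
    (h : z ∈ N[P]) : Syl p (P ⊓ C1[z]) C1[z] := by
  obtain ⟨c, d⟩ := zstar_sup hz hp h2 hP.pi
  have := cop_syl_cent c d (Or.inl (cyc_zpowers z).sol) hp (hP.sub le_sup_right le_top) (zpowers_le.2 h)
  rw [C_zpowers] at this
  refine this.trans' inf_le_right ?_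
  rw [inf_relIndex_right, ← ((zstar_prod hz).symm.mono le_sup_left le_rfl le_top le_top).relIndex]
  exact hP.idx.of_dvd (relIndex_dvd_left le_sup_right _)

theorem relIndex_inv (hz : orderOf z = 2) (ho : Odd #A) (h : z ∈ N[A]) :
    (A ⊓ C1[z]).relIndex A = Nat.card {x : G // x ∈ A ∧ z * x * z⁻¹ = x⁻¹} :=
  Nat.eq_of_mul_eq_mul_left (card_pos _) ((card_mul_relIndex inf_le_left).trans
    (Inv.s1124 z hz A ho fun _ => conj_mem h).2.1)

theorem s1618 (hp : p.Prime) (h2 : p ≠ 2) {d : G} (hd : orderOf d = 2)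
    (hgen : closure (conjugatesOf d) = ⊤)
    (h : ∀ g : G, g * d * g⁻¹ ≠ d → ∃ k : ℕ, orderOf (g * d * g⁻¹ * d) = p ^ k) :
    PiG {p} ⁅(⊤ : Subgroup G), (⊤ : Subgroup G)⁆ := by
  have d2 := sq_of_order hd
  have di : d⁻¹ = d := inv_eq_of_mul_eq_one_right d2
  have h' : ∀ g : G, PiE {p} (g * d * g⁻¹ * d⁻¹) := fun g => by
    by_cases e : g * d * g⁻¹ = d
    · rw [e, mul_inv_cancel]; exact pie_one _
    · obtain ⟨k, hk⟩ := h g e
      rw [di, PiE, hk]; exact pin_pow_self hp k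
  have hz : IsIsolatedInvolution d := ⟨hd, fun g c => by
    refine mul_inv_eq_one.1 ((h' g).eq_one (PiN.ne_compl (q := 2) (pie_of_pow Nat.prime_two ?_) h2.symm))
    rw [di, c.symm.mul_pow, conj_pow, sq, d2]; simp⟩
  set K := O[{2}ᶜ]((⊤ : Subgroup G))
  have n : zpowers d ≤ N[K] := le_top.trans (O_norm _ _)
  have c : (#(zpowers d)).Coprime #K := (pig_two hd).coprime (O_pig _ _)
  have s : Sol (zpowers d) ∨ Sol K := Or.inl (cyc_zpowers d).sol
  obtain ⟨P, p1, p2⟩ := cop_syl_exists n c s hp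
  have i : PiN {p} ((K ⊓ C1[d]).relIndex K) := fun r hr hd' => by
    by_contra e
    obtain ⟨R, r1, r2⟩ := cop_syl_exists n c s hr
    refine r1.not_dvd hr (hd'.trans (relIndex_dvd_left (le_inf r1.le fun x hx => ?_) K))
    refine mem_C1.2 (mul_inv_eq_iff_eq_mul.1 (mul_inv_eq_one.1 ((h' x).eq_one
      (PiN.ne_compl (r1.pi.elt ?_) e))))
    simpa [mul_assoc] using mul_mem hx (conj_mem (zpowers_le.1 r2) (inv_mem hx))
  have x1 : ⁅(⊤ : Subgroup G), zpowers d⁆ ≤ P := comm_zpowers_le d2 fun g _ => by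
    obtain ⟨k, k1, c1, c2, rfl⟩ := (zstar_prod hz).symm.ex g trivial
    obtain ⟨x, x1, c3, c4, rfl⟩ := (p1.prod_idx inf_le_left i).ex k k1
    have e : x * c3 * c1 * d * (x * c3 * c1)⁻¹ * d⁻¹ = x * (d * x⁻¹ * d⁻¹) := by
      rw [mul_assoc x, mul_assoc x, mem_C1.1 (mul_mem c4.2 c2)]; group
    rw [e]; exact mul_mem x1 (conj_mem (zpowers_le.1 p2) (inv_mem x1))
  have x2 : ⁅(⊤ : Subgroup G), zpowers d⁆ ⊔ zpowers d = ⊤ := by
    refine eq_top_iff.2 (hgen.ge.trans ((closure_le _).2 fun y hy => ?_))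
    obtain ⟨g, rfl⟩ := isConj_iff.1 hy
    simpa using mul_mem_sup' (comm_mem (mem_top g) (mem_zpowers d)) (mem_zpowers d)
  refine p1.pi.of_le (le_trans ?_ x1)
  conv_lhs => rw [← x2]
  exact der_sup_le (der_le _) ((commS le_top le_rfl)) (commS le_top le_rfl) (normG _) (comm_normr _ _)

theorem exists_normal_four (hS : PiG {2} S) (hE : PnElem 2 3 E S) :
    ∃ U, PnElem 2 2 U S ∧ S ≤ N[U] := by
  obtain ⟨E, rfl⟩ := exists_lift hE.le
  have : Fact (Nat.Prime 2) := ⟨Nat.prime_two⟩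
  obtain ⟨U, a, b, c⟩ := Comp.exists_normal_sq_of_rank (hS.pg Nat.prime_two)
    (abelem_iff.1 ((abelem_map_inj S.subtype_injective).1 hE.ab))
    (by rw [← card_map_inj S.subtype_injective, hE.card])
  exact ⟨_, ⟨map_subtype_le U, (abelem_iff.2 b).map _, by rw [card_map_inj S.subtype_injective, c]⟩,
    by simpa [map_subtype_top] using norm_map (norm_of_normal (A := U) ⊤) S.subtype⟩

/-- Thompson's transfer lemma -/
theorem exists_conj_mem (hno : ∀ H : Subgroup G, H.index ≠ 2) (hS : Syl 2 S ⊤) (h : Q.relIndex S ∣ 2)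
    (hx : orderOf x = 2) : ∃ g : G, g * x * g⁻¹ ∈ Q := by
  rcases (Nat.dvd_prime Nat.prime_two).1 h with e | e
  · obtain ⟨g, -, hg⟩ := hS.cj_sub Nat.prime_two le_top (pig_two hx)
    exact ⟨g, relIndex_eq_one.1 e (hg (mem_cj_conj.2 (mem_zpowers x)))⟩
  · obtain ⟨S, rfl⟩ := hS.exists_sylow_top Nat.prime_two
    by_contra! c
    obtain ⟨M, -, m, -⟩ := PLoc.thompson_transfer S e hx c
    exact hno M m

theorem s0221 (hno : ∀ H : Subgroup G, H.index ≠ 2) (h : 3 ≤ r[2]((⊤ : Subgroup G)))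
    (hx : orderOf x = 2) : 3 ≤ r[2](C1[x]) := by
  have p := Nat.prime_two
  obtain ⟨S, hS⟩ := syl_exists p (⊤ : Subgroup G)
  obtain ⟨E, hE⟩ := exists_pnElem p (hS.pRank p ▸ h)
  obtain ⟨U, u1, u2⟩ := exists_normal_four hS.pi hE
  obtain ⟨g, hg⟩ := exists_conj_mem hno hS (idx_cent_sq p hS.pi u2 u1.card.dvd) hx
  rw [← pRank_cj p g, cj_C1]
  have y2 : orderOf (g * x * g⁻¹) = 2 := by rw [PLoc.orderOf_conj', hx]
  generalize g * x * g⁻¹ = y at *
  by_cases e : y ∈ U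
  · refine le_trans ?_ (pRank_mono p (C_le_C1 e))
    by_cases f : E ≤ C[U]
    · exact (hE.sub f).le_pRank p
    have i := (Nat.dvd_prime p).1 (idx_cent_sq p (hE.pig p) (hE.le.trans u2) u1.card.dvd)
    have k := card_inf_mul_relIndex C[U] E
    rw [i.resolve_left fun c => f (relIndex_eq_one.1 c), hE.card] at k
    have a : Abelem 2 (C[U] ⊓ E ⊔ U) := (hE.ab.of_le inf_le_right).sup u1.ab inf_le_left
    obtain ⟨n, hn⟩ := a.exists_pnElem p
    refine le_trans ?_ ((hn.sub (sup_le inf_le_left u1.abel)).le_pRank p)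
    by_contra c
    have l : #(C[U] ⊓ E ⊔ U) ≤ 2 ^ 2 := hn.card ▸ Nat.pow_le_pow_right (by norm_num) (by omega)
    have e1 := eq_of_card_le le_sup_left (l.trans (by omega))
    have e2 := eq_of_card_le le_sup_right (l.trans u1.card.ge)
    exact f (cent_symm ((e2.trans e1.symm).le.trans (inf_le_right.trans hE.abel)))
  · exact ((u1.sub (le_C1_iff.2 hg)).sup p (by rw [card_zpowers', y2]) (zpowers_le.2 (mem_C1_self y))
      (zpowers_le.2 hg) (mt zpowers_le.1 e)).le_pRank p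

end Cfsg.Agent.H8
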