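import Cfsg.Agent.Comp.LBal
import Cfsg.Agent.PF.FT

/-! Glauberman's theorem on automorphisms centralizing a Sylow 2-subgroup. -/

set_option autoImplicit false

namespace Cfsg.Agent.H8

open Cfsg Cfsg.Agent.Comp Subgroup
open scoped commutatorElement

theorem res_aut_odd {G : Type*} [Group G] [Finite G]
    (hO : ∀ N : Subgroup G, N.Normal → Odd (Nat.card N) → N = ⊥) (S : Sylow 2 G)
    (C : Subgroup (MulAut G)) (hC : ∀ φ ∈ C, ∀ s : G, s ∈ S → φ s = s) :
    Odd (Nat.card (Res 2 (⊤ : Subgroup C))) := by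
  classical
  haveI : Fact (Nat.Prime 2) := ⟨Nat.prime_two⟩
  haveI : Finite (MulAut G) := Finite.of_injective (fun φ : MulAut G => (φ : G → G))
    DFunLike.coe_injective
  rw [← Nat.not_even_iff_odd, even_iff_two_dvd]
  intro h2
  obtain ⟨⟨u, hu⟩, ho⟩ := exists_prime_orderOf_dvd_card' 2 h2
  rw [Subgroup.orderOf_mk] at ho
  let X := G ⋊[C.subtype] C
  haveI : Finite X := Finite.of_equiv _ SemidirectProduct.equivProd.symm
  let i : G →* X := SemidirectProduct.inl
  let j : C →* X := SemidirectProduct.inr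
  have hi : Function.Injective i := SemidirectProduct.inl_injective
  have hj : Function.Injective j := SemidirectProduct.inr_injective
  have hE : ((⊤ : Subgroup G).map i).Normal := by
    rw [← MonoidHom.range_eq_map, SemidirectProduct.range_inl_eq_ker_rightHom]
    infer_instance
  have hS : SylIn 2 ((S : Subgroup G).map i) ((⊤ : Subgroup G).map i) := (sylIn_top S).map i
  have hc : (⊤ : Subgroup C).map j ≤ centralizer (((S : Subgroup G).map i : Subgroup X) : Set X) := by
    rintro _ ⟨c, -, rfl⟩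
    rw [mem_centralizer_iff]
    rintro _ ⟨s, hs, rfl⟩
    have h1 := SemidirectProduct.inl_aut (φ := C.subtype) c s
    have h3 : (C.subtype c) s = s := hC c c.2 s hs
    rw [h3] at h1
    show i s * j c = j c * i s
    conv_lhs => rw [show i s = j c * i s * j c⁻¹ from h1]
    rw [map_inv]; group
  have hu2 : j u ∈ Res 2 (centralizer (((S : Subgroup G).map i : Subgroup X) : Set X)) :=
    Res_map_le j hc ⟨u, hu, rfl⟩
  have hO2 : Opp 2 ((⊤ : Subgroup G).map i) = ⊥ := by
    rw [← Opp_map hi, hO (Opp 2 ⊤) ?_ ?_, Subgroup.map_bot]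
    · rw [← normalizer_eq_top_iff, eq_top_iff]; exact Opp_normal ⊤
    · exact Nat.coprime_two_right.1 (Opp_coprime ⊤)
  have h1 : u = 1 := by
    ext g
    have h4 := comm_mem_Opp_of_Res hS (u := j u) (by rw [orderOf_injective j hj, ho]) hu2
      (e := i g) ⟨g, mem_top g, rfl⟩
    rw [hO2, mem_bot, commutatorElement_eq_one_iff_mul_comm] at h4
    have h5 := SemidirectProduct.inl_aut (φ := C.subtype) u g
    have h6 : i (C.subtype u g) = i g := by
      rw [show i (C.subtype u g) = j u * i g * j u⁻¹ from h5, h4, map_inv]; group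
    exact hi h6
  rw [h1, orderOf_one] at ho
  exact absurd ho (by norm_num)

theorem s0227 {G : Type*} [Group G] [Finite G]
    (hO : ∀ N : Subgroup G, N.Normal → Odd (Nat.card N) → N = ⊥) (S : Sylow 2 G)
    (C : Subgroup (MulAut G)) (hC : ∀ φ ∈ C, ∀ s : G, s ∈ S → φ s = s) :
    (∀ T : Sylow 2 ↥C, (∀ a b : ↥T, a * b = b * a) ∧
      ∃ N : Subgroup ↥C, N.Normal ∧ Subgroup.IsComplement' N (T : Subgroup ↥C)) ∧
      Group.IsSolvable ↥C := by
  classical
  haveI : Fact (Nat.Prime 2) := ⟨Nat.prime_two⟩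
  haveI : Finite (MulAut G) := Finite.of_injective (fun φ : MulAut G => (φ : G → G))
    DFunLike.coe_injective
  have hodd := res_aut_odd hO S C hC
  set N := Res 2 (⊤ : Subgroup C) with hN
  have hcm : ⁅(⊤ : Subgroup C), ⊤⁆ ≤ N := le_sup_left
  have hn : N.Normal := ⟨fun n hn g => by
    have : g * n * g⁻¹ = ⁅g, n⁆ * n := by rw [commutatorElement_def]; group
    rw [this]
    exact N.mul_mem (hcm (commutator_mem_commutator (mem_top g) (mem_top n))) hn⟩
  have hq : IsPGroup 2 (C ⧸ N) := by
    intro x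
    obtain ⟨x, rfl⟩ := QuotientGroup.mk_surjective x
    obtain ⟨k, m, hm, he⟩ := Nat.exists_eq_two_pow_mul_odd (orderOf_pos x).ne'
    refine ⟨k, ?_⟩
    rw [← QuotientGroup.mk_pow, QuotientGroup.eq_one_iff]
    refine (le_sup_right : _ ≤ N) (subset_closure ⟨mem_top _, ?_⟩)
    rw [Nat.coprime_two_right]
    refine hm.of_dvd_nat (orderOf_dvd_of_pow_eq_one ?_)
    rw [← pow_mul, ← he, pow_orderOf_eq_one]
  refine ⟨fun T => ?_, ?_⟩
  · have hd : (T : Subgroup C) ⊓ N = ⊥ :=
      inf_eq_bot_of_pgroup_coprime T.isPGroup' (Nat.coprime_two_right.2 hodd)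
    refine ⟨fun a b => ?_, N, hn, ?_⟩
    · have : ⁅(a : C), (b : C)⁆ ∈ (T : Subgroup C) ⊓ N :=
        ⟨by
          rw [commutatorElement_def]
          have ha : (a : C) ∈ (T : Subgroup C) := a.2
          have hb : (b : C) ∈ (T : Subgroup C) := b.2
          exact Subgroup.mul_mem _ (Subgroup.mul_mem _ (Subgroup.mul_mem _ ha hb)
            (Subgroup.inv_mem _ ha)) (Subgroup.inv_mem _ hb),
        hcm (commutator_mem_commutator (mem_top _) (mem_top _))⟩
      rw [hd, mem_bot, commutatorElement_eq_one_iff_mul_comm] at this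
      exact Subtype.ext this
    · refine isComplement'_of_disjoint_and_mul_eq_univ (by rw [disjoint_iff, inf_comm, hd]) ?_
      rw [← Subgroup.normal_mul, ← Subgroup.coe_top, SetLike.coe_set_eq]
      obtain ⟨k, hk⟩ := IsPGroup.iff_card.1 hq
      have h1 : (N ⊔ (T : Subgroup C)).index ∣ 2 ^ k := hk ▸ index_dvd_of_le le_sup_left
      have h2 : (N ⊔ (T : Subgroup C)).index ∣ (T : Subgroup C).index := index_dvd_of_le le_sup_right
      rw [← index_eq_one]
      exact Nat.eq_one_of_dvd_coprimes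
        (Nat.Coprime.pow_left k ((Nat.Prime.coprime_iff_not_dvd Nat.prime_two).2 T.not_dvd_index))
        h1 h2
  · haveI := PF.feit_thompson hodd
    haveI : Group.IsSolvable (C ⧸ N) := by
      haveI := hq.isNilpotent
      infer_instance
    exact Group.isSolvable_of_ker_le_range N.subtype (QuotientGroup.mk' N) (by simp)

end Cfsg.Agent.H8
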