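import Cfsg.Agent.BG.XTop

/-! Normal elementary abelian subgroups of rank four in odd `p`-groups. -/

set_option autoImplicit false

namespace Cfsg.Agent.BG
open Subgroup PHom
open scoped commutatorElement
variable {G : Type*} [Group G] [Finite G] {A B D E R X : Subgroup G} {a : G} {p n : ℕ}

theorem le_sup_zpowers_of_card (hp : p.Prime) (h : B ≤ A) (h1 : #B = p ^ n) (h2 : #A = p ^ (n + 1))
    (ha : a ∈ A) (h3 : a ∉ B) : A ≤ B ⊔ zpowers a := by
  have e := card_mul_relIndex h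
  rw [h1, h2, pow_succ, Nat.mul_right_inj (pow_pos hp.pos n).ne'] at e
  exact ((eq_or_eq_of_relIndex_prime (e ▸ hp) le_sup_left (sup_le h (zpowers_le.2 ha))).resolve_left
    fun c => h3 (c ▸ mem_sup_right (mem_zpowers a))).ge

theorem idx_C_dvd (h1 : B ≤ C[X]) (h2 : A ≤ B ⊔ zpowers a) (h3 : Abel D) (h4 : D ≤ C[X])
    (h5 : ∀ g ∈ X, g * a * g⁻¹ * a⁻¹ ∈ D) : (C[A]).relIndex X ∣ #D := by
  refine (relIndex_dvd_left (A := C1[a] ⊓ X) ?_ X).trans (by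
    rw [inf_relIndex_right]; exact idx_C1_dvd h3 h4 h5)
  exact (centY (inf_le_right.trans (cent_symm h1)) (C_zpowers a ▸ inf_le_left)).trans (centS h2)

theorem comm_le_of_idx_p (hp : p.Prime) (hX : PiG {p} X) (h : B ≤ A) (h0 : A ≤ N[B]) (h1 : #B = p ^ n)
    (h2 : #A = p ^ (n + 1)) (h3 : X ≤ N[A]) (h4 : X ≤ N[B]) : ⁅A, X⁆ ≤ B := by
  have e := card_mul_relIndex h
  rw [h1, h2, pow_succ, Nat.mul_right_inj (pow_pos hp.pos n).ne'] at e
  exact (quo_cent_iff h0 h4).1 ((hX.im _).cent_of_dvd hp (im_norm h3) (by rw [card_quo h0, e]))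

theorem abelem_idx_cent (hp : p.Prime) (hR : PiG {p} R) (h1 : A ≤ R) (h2 : R ≤ N[A]) (h3 : Abel A)
    (h4 : #A = p ^ 3) (h5 : E ≤ R) (h6 : Abel E) : (C[A]).relIndex E ∣ p ^ 2 := by
  obtain ⟨B, b1, b2, b3⟩ := hR.exists_normal hp h1 h2 (n := 2) (h4 ▸ pow_dvd_pow p (by omega))
  obtain ⟨a, ha, h7⟩ := SetLike.exists_of_lt (b1.lt_of_ne fun e => not_pow_succ_dvd hp (by rw [← h4, ← b3, e]))
  have c0 := comm_le_of_idx_p hp hR b1 (h1.trans b2) b3 h4 h2 b2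
  have c1 : (C[A]).relIndex (C[B] ⊓ E) ∣ #(B ⊓ C[E]) := by
    refine idx_C_dvd (cent_symm inf_le_left) (le_sup_zpowers_of_card hp b1 b3 h4 ha h7)
      (h3.of_le (inf_le_left.trans b1)) (inf_le_right.trans (centS inf_le_right)) fun g hg => ?_
    refine (le_inf ?_ ?_ : ⁅C[B] ⊓ E, A⁆ ≤ _) (comm_mem hg ha)
    · rw [commC]; exact (commS le_rfl (inf_le_right.trans h5)).trans c0
    · refine comm_eq_bot.1 (three_subgroup (comm_eq_bot'.2 (inf_le_left.trans (centS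
        ((commS le_rfl h5).trans c0)))) ?_)
      rw [comm_eq_bot'.2 (inf_le_right.trans h6), commutator_bot_left]
  rw [← inf_of_le_left (centS b1), ← relIndex_inf_mul_relIndex]
  by_cases e : E ≤ C[B]
  · rw [relIndex_eq_one.2 e, mul_one]
    exact c1.trans (b3 ▸ cardS inf_le_left)
  · rw [sq]
    refine Nat.mul_dvd_mul (c1.trans ?_) (idx_cent_sq hp (hR.of_le h5) (h5.trans b2) b3.dvd)
    simpa using card_dvd_of_lt_pow (n := 1) hp (inf_le_left.lt_of_ne fun c =>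
      e (cent_symm (inf_eq_left.1 c))) b3.dvd

theorem rank4_normal_abelem (hp : p.Prime) (hR : PiG {p} R) (ho : Odd #R) (hE : PnElem p 4 E R) :
    ∃ A, PnElem p 4 A R ∧ R ≤ N[A] := by
  induction' hn : #R using Nat.strong_induction_on with n ih generalizing R E
  by_contra! hc
  obtain ⟨M, m1, m2, m3, m4⟩ := hR.exists_max hp (hE.le.lt_of_ne fun e => hc E hE (e ▸ normG E))
  obtain ⟨E, e1, e2⟩ := ih _ (hn ▸ card_lt (m2.lt_of_ne fun e => hp.one_lt.ne' (by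
    rw [← m4, e, relIndex_self]))) (hR.of_le m2) (odd_of_le ho m2) (hE.sub m1) rfl
  obtain ⟨g, hg, e3⟩ := SetLike.not_le_iff_exists.1 (hc E (e1.mono m2))
  have f1 := cj_of_mem_N (m3 hg) ▸ e1.cj g
  have f2 : M ≤ N[cj g E] := cj_of_mem_N (m3 hg) ▸ norm_cj.2 e2
  obtain ⟨A₀, a1, a2⟩ := rank3_normal_abelem hR ho ((by omega : 3 ≤ 4).trans (hE.le_pRank hp))
  obtain ⟨A, a3, a4, a5, -⟩ := Om_cent_max_normal hR ho a1.le a2 a1.ab
  have a6 : #A = p ^ 3 := Nat.dvd_antisymm (((a5.ab.pig hp).card_dvd_or hp 3).resolve_right fun e =>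
    let ⟨L, l1, l2, l3⟩ := hR.exists_normal hp a5.le a4 e
    hc L ⟨l1.trans a5.le, a5.ab.of_le l1, l3⟩ l2) (a1.card ▸ cardS a3)
  have eR := e1.le.trans m2
  have k1 : ∀ F, PnElem p 4 F R → ¬ A ≤ F := fun F h e =>
    not_pow_succ_dvd hp (h.card ▸ a6 ▸ cardS (a5.le_of h.le (centSS h.abel le_rfl e) h.ab))
  have b0 : C[A] ⊓ E = A ⊓ E := le_antisymm (le_inf (a5.le_of (inf_le_right.trans eR) inf_le_left
    (e1.ab.of_le inf_le_right)) inf_le_right) (inf_le_inf_right _ a5.ab.abel)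
  have b1 := card_inf_mul_relIndex C[A] E
  have b2 : #(A ⊓ E) ∣ p ^ 2 := card_dvd_of_lt_pow hp (inf_le_left.lt_of_ne fun c =>
    k1 E (e1.mono m2) (inf_eq_left.1 c)) a6.dvd
  rw [b0, e1.card] at b1
  have b3 : #(A ⊓ E) = p ^ 2 := Nat.dvd_antisymm b2 (Nat.dvd_of_mul_dvd_mul_right (pow_pos hp.pos 2) (by
    rw [← pow_add, ← b1]; exact Nat.mul_dvd_mul_left _ (abelem_idx_cent hp hR a5.le a4 a5.ab.abel a6 eR e1.abel)))
  have b4 : #(A ⊓ cj g E) = p ^ 2 := by rw [← cj_of_mem_N (a4 hg), ← cj_inf, card_cj, b3]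
  have b5 : A ⊓ cj g E ≤ E := by
    by_contra e
    obtain ⟨a, ha, a7⟩ := SetLike.not_le_iff_exists.1 e
    have := idx_C_dvd (X := E) (D := A ⊓ cj g E ⊓ E) (inf_le_right.trans e1.abel)
      (le_sup_zpowers_of_card hp inf_le_left b3 a6 ha.1 fun c => a7 c.2) (e1.abel.of_le inf_le_right)
      (inf_le_right.trans e1.abel) fun x hx => ⟨⟨A.mul_mem (conj_mem (a4 (eR hx)) ha.1) (A.inv_mem ha.1),
        (cj g E).mul_mem (conj_mem (f2 (e1.le hx)) ha.2) ((cj g E).inv_mem ha.2)⟩, commL (f1.le.trans e2) (comm_mem hx ha.2)⟩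
    have c := this.trans (card_dvd_of_lt_pow (n := 1) hp (inf_le_left.lt_of_ne fun c =>
      e (inf_eq_left.1 c)) b4.dvd)
    exact not_pow_succ_dvd hp (n := 3) (by rw [← b1, b3]; exact Nat.mul_dvd_mul_left _ (by simpa using c))
  have t1 : E ⊔ cj g E ≤ R := sup_le eR (f1.le.trans m2)
  have t2 : E ⊓ cj g E ≤ C[E ⊔ cj g E] := centY (inf_le_left.trans e1.abel) (inf_le_right.trans f1.abel)
  have t3 : Cls2 (E ⊔ cj g E) := le_trans (der_sup_le (abel_iff_der.1 e1.abel ▸ bot_le)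
    (abel_iff_der.1 f1.abel ▸ bot_le) (le_inf (commL (f1.le.trans e2)) (commR (e1.le.trans f2)))
    (normI (normG E) (e1.le.trans f2)) (normI (f1.le.trans e2) (normG _))) t2
  have t4 : C[A] ⊓ (E ⊔ cj g E) ≤ A := fun x hx => a5.mem (t1 hx.2) hx.1 (exp_Om_odd_nil23 (hR.of_le t1)
    (odd_of_le ho t1) (.inl t3) x (sup_le (e1.ab.le_Om le_sup_left) (f1.ab.le_Om le_sup_right) hx.2))
  have t5 : A ⊓ cj g E ≤ C[E ⊔ cj g E] := (le_inf b5 inf_le_right).trans t2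
  obtain ⟨a, ha, a7⟩ := SetLike.not_le_iff_exists.1 (k1 _ ((f1.mono m2)))
  have t6 := idx_C_dvd t5 (le_sup_zpowers_of_card hp inf_le_left b4 a6 ha fun c => a7 c.2)
    (a5.ab.abel.of_le inf_le_left) t5 fun x hx => ((commC _ _).le.trans (comm_le_of_idx_p hp (hR.of_le t1)
      inf_le_left (abel_norm a5.ab.abel inf_le_left) b4 a6 (t1.trans a4) (cents_norm (cent_symm t5))))
      (comm_mem hx ha)
  have t7 := card_inf_mul_relIndex C[A] (E ⊔ cj g E)
  have t8 : E < E ⊔ cj g E := left_lt_sup.2 fun c => e3 (mem_N_of_cj_le c)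
  rcases t4.eq_or_lt with c | c
  · have u1 : #(E ⊔ cj g E) ∣ p ^ 5 := by
      rw [← t7, c, a6]; exact (Nat.mul_dvd_mul_left _ (b4 ▸ t6)).trans (pow_add p 3 2).symm.dvd
    have u2 := (isProd_l (f1.le.trans e2)).card
    have u3 : E ⊓ cj g E ≤ A := (le_inf (t2.trans (centS (c ▸ inf_le_right))) (inf_le_left.trans le_sup_left)).trans t4
    refine k1 E (e1.mono m2) ((eq_of_card_le u3 (Nat.le_of_dvd (card_pos _) ?_)).ge.trans inf_le_left)
    rw [e1.card, f1.card, ← pow_add] at u2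
    exact a6 ▸ Nat.dvd_of_mul_dvd_mul_left (pow_pos hp.pos 5) (by
      rw [← pow_add, ← u2]; exact Nat.mul_dvd_mul_right u1 _)
  · refine (card_lt t8).not_ge (e1.card ▸ Nat.le_of_dvd (pow_pos hp.pos _) ?_)
    rw [← t7]
    exact (Nat.mul_dvd_mul (card_dvd_of_lt_pow hp c a6.dvd) (b4 ▸ t6)).trans (pow_add p 2 2).symm.dvd

end Cfsg.Agent.BG
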