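import Cfsg.Agent.H8.SC
import Cfsg.Agent.H8.Rk4
import Cfsg.Agent.Comp.LBal
import Cfsg.Agent.Comp.Bal
import Cfsg.Agent.Comp.PLocal

/-! Working modulo the `p'`-core of a subgroup; Goldschmidt's core-separated functor. -/

set_option autoImplicit false

namespace Cfsg.Agent.H8

open Cfsg Cfsg.Agent.BG Subgroup PHom
open Cfsg.Agent.Comp (Lay FStar Fit Op Opp CompIn SubIn QS PLay PCompIn PQS)

variable {G : Type*} [Group G] [Finite G]

/-- image of a subgroup in `C / O_{p'}(C)` -/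
def bar (p : ℕ) (C X : Subgroup G) : Subgroup (C ⧸ pPrimeCore p C) :=
  (X.subgroupOf C).map (QuotientGroup.mk' (pPrimeCore p C))

section
variable {p : ℕ} {C X Y K : Subgroup G}

omit [Finite G] in
theorem comm_le_of_le (hX : X ≤ C) (hY : Y ≤ C) : ⁅X, Y⁆ ≤ C := (commS hX hY).trans (commL (normG _))

omit [Finite G] in
theorem bar_comm (hX : X ≤ C) (hY : Y ≤ C) : bar p C ⁅X, Y⁆ = ⁅bar p C X, bar p C Y⁆ := by
  unfold bar
  rw [← map_commutator]
  congr 1
  apply map_injective (subtype_injective C)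
  rw [map_commutator, map_subgroupOf_eq_of_le hX, map_subgroupOf_eq_of_le hY,
    map_subgroupOf_eq_of_le (comm_le_of_le hX hY)]

omit [Finite G] in
theorem bar_le_iff (hX : X ≤ C) (hY : Y ≤ C) : bar p C X ≤ bar p C Y ↔ X ≤ Y ⊔ Opp p C := by
  unfold bar
  rw [Subgroup.map_le_map_iff, QuotientGroup.ker_mk', ← map_le_map_iff_of_injective (subtype_injective C),
    Subgroup.map_sup, map_subgroupOf_eq_of_le hX, map_subgroupOf_eq_of_le hY, Comp.Opp_eq]

omit [Finite G] in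
theorem bar_bot_iff (hX : X ≤ C) : bar p C X = ⊥ ↔ X ≤ Opp p C := by
  have := bar_le_iff (p := p) hX (bot_le : ⊥ ≤ C)
  rw [bot_sup_eq] at this
  rw [← this, bar, bar, bot_subgroupOf, Subgroup.map_bot, le_bot_iff]

theorem bar_comp (h : PCompIn p K C) : CompIn (bar p C K) ⊤ :=
  Comp.PCompIn.compIn_quot (Comp.pcompIn_top.2 (Comp.pcompIn_iff.1 h).2)

theorem bar_lift {L : Subgroup (C ⧸ pPrimeCore p C)} (h : CompIn L ⊤) :
    ∃ K, PCompIn p K C ∧ bar p C K = L := by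
  have h1 := h.pcompIn Comp.Opp_quot
  rw [← Comp.map_top_mk'] at h1
  obtain ⟨K, hK, rfl⟩ := h1.exists_lift _ (Comp.ker_coprime _)
  refine ⟨K.map C.subtype, Comp.pcompIn_map_subtype.2 (Comp.pcompIn_top.1 hK), ?_⟩
  rw [bar, subgroupOf, comap_map_eq_self_of_injective (subtype_injective C)]

variable [Fact p.Prime] {a : G}

theorem bar_norm (hK : PCompIn p K C) (ha : a ∈ C) (hp : IsPGroup p (zpowers a)) (h1 : Y ≤ C)
    (hY : Y ≤ Opp p C1[a]) : Y ≤ N[K] := by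
  have h2 := Comp.map_le_Opp_centralizer_quot ha hp hY
  have hp' : IsPGroup p (zpowers (QuotientGroup.mk' (pPrimeCore p C) ⟨a, ha⟩)) := by
    rw [← MonoidHom.map_zpowers]
    refine IsPGroup.map ?_ _
    rw [← Comp.isPGroup_map_iff (subtype_injective C), MonoidHom.map_zpowers]; exact hp
  have h3 := (bar_comp hK).OE_centralizer_normalizes Comp.Opp_quot hp' (Comp.le_normalizer_top _)
  rw [top_inf_eq, zpowers_eq_closure, centralizer_closure] at h3
  have h4 : bar p C Y ≤ N[bar p C K] := h2.trans (le_sup_right.trans h3)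
  refine hK.normalizes_of_comm_le (h1.trans le_normalizer) ?_
  rw [← bar_le_iff (comm_le_of_le h1 hK.le) hK.le,
    bar_comm h1 hK.le]
  exact commR h4

theorem bar_cent (hK : PCompIn p K C) (ha : a ∈ C) (hp : orderOf a = p) (h1 : Y ≤ C)
    (hY : Y ≤ Opp p C1[a]) (h : ⁅K, zpowers a⁆ ≤ Opp p C) : ⁅K, Y⁆ ≤ Opp p C := by
  have hp0 : IsPGroup p (zpowers a) :=
    IsPGroup.of_card (n := 1) (by rw [Nat.card_zpowers, hp, pow_one])
  have h2 := Comp.map_le_Opp_centralizer_quot ha hp0 hY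
  have hz : zpowers a ≤ C := zpowers_le.2 ha
  have e : bar p C (zpowers a) = zpowers (QuotientGroup.mk' (pPrimeCore p C) ⟨a, ha⟩) := by
    rw [← MonoidHom.map_zpowers, bar]
    congr 1
    apply map_injective (subtype_injective C)
    rw [map_subgroupOf_eq_of_le hz, MonoidHom.map_zpowers]; rfl
  have ho : orderOf (QuotientGroup.mk' (pPrimeCore p C) ⟨a, ha⟩) = p := by
    refine orderOf_eq_prime ?_ fun h0 => ?_
    · rw [← map_pow, show (⟨a, ha⟩ : C) ^ p = 1 from Subtype.ext (by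
        simpa [hp] using pow_orderOf_eq_one a), map_one]
    · rw [h0, zpowers_one_eq_bot, bar_bot_iff hz] at e
      have := (Comp.Opp_coprime (p := p) C).coprime_dvd_left (card_dvd_of_le e)
      rw [Nat.card_zpowers, hp, Nat.coprime_self] at this
      exact (Fact.out : p.Prime).one_lt.ne' this
  have hc : ∀ {X}, X ≤ C → ⁅K, X⁆ ≤ C := fun hX =>
    comm_le_of_le hK.le hX
  rw [← bar_bot_iff (hc hz), bar_comm hK.le hz, e] at h
  rw [← bar_bot_iff (hc h1), bar_comm hK.le h1]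
  rcases (bar_comp hK).comm_Opp_centralizer Comp.Opp_quot ho (norm_top _ (mem_top _)) with h3 | h3
  · rw [top_inf_eq] at h3
    exact Comp.comm_bot_mono h3 le_rfl h2
  · exact ((bar_comp hK).qs.ne_bot (h3.symm.trans h)).elim

theorem bar_le (ha : a ∈ C) (hp : IsPGroup p (zpowers a)) (h1 : Y ≤ C)
    (hY : Y ≤ Opp p C1[a]) (h : ∀ K, PCompIn p K C → ⁅K, Y⁆ ≤ Opp p C) : Y ≤ Opp p C := by
  have h2 := Comp.map_le_Opp_centralizer_quot ha hp hY
  have hp' : IsPGroup p (zpowers (QuotientGroup.mk' (pPrimeCore p C) ⟨a, ha⟩)) := by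
    rw [← MonoidHom.map_zpowers]
    refine IsPGroup.map ?_ _
    rw [← Comp.isPGroup_map_iff (subtype_injective C), MonoidHom.map_zpowers]; exact hp
  have h3 := Comp.OE_centralizer_comm_Op (H := ⊤) hp' (Comp.le_normalizer_top _)
  rw [top_inf_eq, zpowers_eq_closure, centralizer_closure] at h3
  rw [← bar_bot_iff h1]
  refine Comp.eq_bot_of_comm_components Comp.Opp_quot le_top
    ((Comp.Opp_coprime _).coprime_dvd_left (card_dvd_of_le h2))
    (Comp.comm_bot_mono h3 (h2.trans le_sup_right) le_rfl) fun L hL => ?_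
  obtain ⟨K, hK, rfl⟩ := bar_lift hL
  rw [← bar_comm hK.le h1, bar_bot_iff
    (comm_le_of_le hK.le h1)]
  exact h K hK

theorem bar_cent_sub {P : Subgroup G} (hK : PCompIn p K C) (hP : IsPGroup p P) (h0 : P ≤ C)
    (h1 : Y ≤ C) (hY : Y ≤ Opp p C[P]) (h : ⁅K, P⁆ ≤ Opp p C) : ⁅K, Y⁆ ≤ Opp p C := by
  obtain ⟨L, hL, a1, a2⟩ := hK.exists_centralizing' hP le_rfl h0 (by rwa [commC])
  have lC : L ≤ C := hL.le.trans inf_le_left
  have b1 : Y ≤ Opp p (C ⊓ C[P]) :=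
    (le_inf hY (le_inf h1 (hY.trans Comp.Opp_le))).trans (Comp.Opp_inf_le inf_le_right)
  have b2 : ⁅L, Y⁆ ≤ Opp p L := le_trans (le_inf ((commS le_rfl b1).trans
    (commR (hL.le.trans (Comp.Opp_normal _)))) (commL (b1.trans hL.Opp_normalizes)))
    (Comp.Opp_inf_le hL.le)
  have b3 : Opp p L ≤ Opp p C := by
    rw [← bar_bot_iff (Comp.Opp_le.trans lC), eq_bot_iff, ← Comp.Opp_quot (p := p)]
    refine le_trans ?_ (bar_comp hK).sub.Opp_mono
    rw [← le_antisymm ((bar_le_iff lC hK.le).2 a2) ((bar_le_iff hK.le lC).2 a1)]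
    refine le_trans (map_mono ?_) (Comp.Opp_map_le _ _)
    rw [← map_le_map_iff_of_injective (subtype_injective C), Comp.Opp_map (subtype_injective C),
      map_subgroupOf_eq_of_le lC, map_subgroupOf_eq_of_le (Comp.Opp_le.trans lC)]
  exact (commS a1 le_rfl).trans (comm_sup_le (b2.trans b3) (commL (h1.trans (Comp.Opp_normal _)))
    (lC.trans (Comp.Opp_normal _)) (normG _))

omit [Fact p.Prime] in
theorem comm_comm_le_Opp {D : Subgroup G} (hK : PCompIn p K C) (hX : X ≤ C) (hD : D ≤ C)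
    (hn : D ≤ N[K]) (h : ⁅K, X⁆ ≤ Opp p C) : ⁅K, ⁅D, X⁆⁆ ≤ Opp p C := by
  have n := Comp.Opp_normal (p := p) C
  rw [commC]
  refine three_subgroup_mod (hX.trans n) (hK.le.trans n) (hD.trans n) ?_
    ((commS (commL hn) le_rfl).trans h)
  rw [commC (A := X)]
  exact (commS h le_rfl).trans (commL (hD.trans n))

end

/-- core-separated four-groups -/
structure CSep (A B : Subgroup G) : Prop where
  ab : Abelem 2 (A ⊔ B)
  c1 : #A = 4
  c2 : #B = 4
  sep : ∀ a ∈ A ⊔ B, a ≠ 1 → ∀ K, PCompIn 2 K C1[a] →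
    ⁅K, A⁆ ≤ Opp 2 C1[a] ∨ ⁅K, B⁆ ≤ Opp 2 C1[a]

/-- one half of Goldschmidt's functor -/
def gth (A : Subgroup G) (a : G) : Subgroup G := ⁅Opp 2 C1[a], A⁆ ⊔ (Opp 2 C1[a] ⊓ Opp 2 C[A])

namespace CSep
variable {A B : Subgroup G} {a b c : G}

omit [Finite G] in
theorem symm (h : CSep A B) : CSep B A :=
  ⟨sup_comm A B ▸ h.ab, h.c2, h.c1, fun a ha h1 K hK => (h.sep a (sup_comm A B ▸ ha) h1 K hK).symm⟩

omit [Finite G] in
theorem leC (h : CSep A B) (ha : a ∈ A ⊔ B) : A ⊔ B ≤ C1[a] := le_C1_iff.2 (h.ab.1 ha)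
omit [Finite G] in
theorem nO (h : CSep A B) (ha : a ∈ A ⊔ B) : A ⊔ B ≤ N[Opp 2 C1[a]] :=
  (h.leC ha).trans (Comp.Opp_normal _)
omit [Finite G] in
theorem ord (h : CSep A B) (ha : a ∈ A ⊔ B) (h1 : a ≠ 1) : orderOf a = 2 :=
  haveI : Fact (Nat.Prime 2) := ⟨Nat.prime_two⟩
  orderOf_eq_prime (h.ab.2 a ha) h1
theorem pg (h : CSep A B) {X : Subgroup G} (hX : X ≤ A ⊔ B) : IsPGroup 2 X :=
  ((h.ab.of_le hX).pig Nat.prime_two).pg Nat.prime_two
theorem pigO (H : Subgroup G) : PiG {2}ᶜ (Opp 2 H) := by rw [Opp_O Nat.prime_two]; exact O_pig _ _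
theorem cop (h : CSep A B) {Y H : Subgroup G} (hY : Y ≤ Opp 2 H) : (#A).Coprime #Y :=
  ((h.ab.of_le le_sup_left).pig Nat.prime_two).coprime ((pigO H).of_le hY)

theorem key (h : CSep A B) (hc : c ∈ A) (c1 : c ≠ 1) (ha : a ∈ A ⊔ B) (a1 : a ≠ 1) :
    ⁅Opp 2 C1[a] ⊓ C1[c], A⁆ ≤ Opp 2 C1[c] := by
  haveI : Fact (Nat.Prime 2) := ⟨Nat.prime_two⟩
  have hc' : c ∈ A ⊔ B := mem_sup_left hc
  have ac := h.leC hc' ha
  have n1 : A ⊔ B ≤ N[Opp 2 C1[a] ⊓ C1[c]] := normI (h.nO ha) (normsG (h.leC hc'))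
  have u := commL (le_sup_left.trans n1)
  have za := h.pg (zpowers_le.2 ha)
  refine bar_le ac za (u.trans inf_le_right) (u.trans inf_le_left) fun K hK => ?_
  have nK := bar_norm hK ac za inf_le_right (inf_le_left (b := C1[c]))
  rcases h.sep c hc' c1 K hK with s | s
  · exact comm_comm_le_Opp hK (le_sup_left.trans (h.leC hc')) inf_le_right nK s
  obtain ⟨x, hx, y, hy, rfl⟩ := (mem_sup_l (le_sup_right.trans (abel_norm h.ab.1 le_sup_left))).1 ha
  have n := Comp.Opp_normal (p := 2) C1[c]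
  by_cases e : x ∈ zpowers c
  · refine bar_cent hK ac (h.ord ha a1) (u.trans inf_le_right) (u.trans inf_le_left)
      ((commS le_rfl (zpowers_le.2 (mul_mem_sup' e hy))).trans (comm_sup_le' ?_ s
        ((zpowers_le.2 (h.leC hc' hc')).trans n) (le_sup_right.trans ((h.leC hc').trans n))))
    rw [comm_eq_bot'.2 (zpowers_le.2 (le_C1_iff.1 hK.le))]; exact bot_le
  · have t1 : A ≤ B ⊔ (zpowers (x * y) ⊔ zpowers c) := by
      refine (le_sup_zpowers_of_card (n := 1) Nat.prime_two (zpowers_le.2 hc)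
        (by rw [Nat.card_zpowers, h.ord hc' c1]; rfl) h.c1 hx e).trans
        (sup_le (le_sup_right.trans le_sup_right) (zpowers_le.2 ?_))
      simpa using mul_mem (mem_sup_right (S := B) (mem_sup_left (T := zpowers c) (mem_zpowers (x * y))))
        (inv_mem (mem_sup_left hy))
    refine (commS le_rfl ?_).trans
      (comm_comm_le_Opp hK (le_sup_right.trans (h.leC hc')) inf_le_right nK s)
    refine (commS le_rfl t1).trans (le_of_eq ?_)
    rw [commC, comm_sup_cent, commC]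
    · exact sup_le (zpowers_le.2 (le_C1_iff.1 (inf_le_left.trans Comp.Opp_le)))
        (zpowers_le.2 (le_C1_iff.1 inf_le_right))
    · exact (sup_le (zpowers_le.2 ha) (zpowers_le.2 hc')).trans (abel_norm h.ab.1 le_sup_right)

theorem fix (h : CSep A B) (ha : a ∈ A ⊔ B) (a1 : a ≠ 1) : gth A a ⊓ C[A] ≤ Opp 2 C[A] := by
  have n1 := le_sup_left.trans (h.nO ha)
  have hA : Abelem 2 A := h.ab.of_le le_sup_left
  rw [gth, ← ((isProd_l (inf_le_left.trans (comm_norml _ _))).modr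
    (inf_le_right.trans Comp.Opp_le)).sup]
  refine sup_le (s1329 hA.1 le_rfl (comm_normr _ _) (h.cop (commL n1))
    (sol_of_odd ((pigO _).of_le (commL n1)))
    (cop_comm_comm n1 (h.cop le_rfl) (Or.inl hA.1.sol)) fun B0 b1 b2 => ?_) inf_le_right
  have : B0 ≠ ⊥ := by
    rintro rfl
    obtain ⟨x, _, e⟩ := (cyc_quo_iff bot_le (norm_bot _)).1 b2
    have := hA.cyc_card Nat.prime_two (cyc_iff.2 ⟨x, by simpa using e⟩)
    rw [h.c1] at this; omega
  obtain ⟨⟨c, hc⟩, c1⟩ := ne_bot_iff_exists_ne_one.1 this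
  have c1 : c ≠ 1 := fun e => c1 (Subtype.ext e)
  refine le_trans (le_inf (inf_le_right.trans ((commS (inf_le_inf (commL n1) ?_) le_rfl).trans
    (h.key (b1 hc) c1 ha a1))) (inf_le_left.trans inf_le_right)) (Comp.Opp_inf_le ?_)
  · exact le_C1_iff.2 (le_CC _ hc)
  · exact le_C1_iff.2 (le_CC _ (b1 hc))

theorem gth_le (h : CSep A B) (ha : a ∈ A ⊔ B) : gth A a ≤ Opp 2 C1[a] :=
  sup_le (commL (le_sup_left.trans (h.nO ha))) inf_le_left

theorem gth_norm (h : CSep A B) (ha : a ∈ A ⊔ B) : A ⊔ B ≤ N[gth A a] :=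
  normY (normR (h.nO ha) (abel_norm h.ab.1 le_sup_left)) (normI (h.nO ha)
    ((normC (abel_norm h.ab.1 le_sup_left)).trans (Comp.Opp_normalizer _)))

theorem bal_cent (h : CSep A B) (ha : a ∈ A ⊔ B) (a1 : a ≠ 1) (hb : b ∈ A ⊔ B) {D K : Subgroup G}
    (h1 : D ≤ gth A a) (h2 : D ≤ C1[b]) (h3 : A ≤ N[D]) (hK : PCompIn 2 K C1[b])
    (s : ⁅K, A⁆ ≤ Opp 2 C1[b]) : ⁅K, D⁆ ≤ Opp 2 C1[b] := by
  haveI : Fact (Nat.Prime 2) := ⟨Nat.prime_two⟩
  have o := h1.trans (h.gth_le ha)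
  have aC := le_sup_left.trans (h.leC hb)
  have n := Comp.Opp_normal (p := 2) C1[b]
  rw [← (cop_cent_prod h3 (h.cop o) (Or.inl (h.ab.1.of_le le_sup_left).sol)).sup]
  exact comm_sup_le' (comm_comm_le_Opp hK aC h2
    (bar_norm hK (h.leC hb ha) (h.pg (zpowers_le.2 ha)) h2 o) s)
    (bar_cent_sub hK (h.pg le_sup_left) aC (inf_le_left.trans h2)
      ((inf_le_inf_right _ h1).trans (h.fix ha a1)) s)
    ((commL h3).trans (h2.trans n)) (inf_le_left.trans (h2.trans n))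

theorem bal_half (h : CSep A B) (ha : a ∈ A ⊔ B) (a1 : a ≠ 1) {D : Subgroup G}
    (h1 : D ≤ gth A a) (h2 : D ≤ Opp 2 C1[b]) (h3 : A ≤ N[D]) : D ≤ gth A b := by
  rw [← (cop_cent_prod h3 (h.cop h2) (Or.inl (h.ab.1.of_le le_sup_left).sol)).sup]
  exact sup_le_sup (commS h2 le_rfl)
    (le_inf (inf_le_left.trans h2) ((inf_le_inf_right _ h1).trans (h.fix ha a1)))

theorem bal (h : CSep A B) (ha : a ∈ A ⊔ B) (a1 : a ≠ 1) (hb : b ∈ A ⊔ B) (b1 : b ≠ 1) :
    gth A a ⊓ gth B a ⊓ C1[b] ≤ gth A b ⊓ gth B b := by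
  haveI : Fact (Nat.Prime 2) := ⟨Nat.prime_two⟩
  have ha' : a ∈ B ⊔ A := sup_comm A B ▸ ha
  have hb' : b ∈ B ⊔ A := sup_comm A B ▸ hb
  have n : A ⊔ B ≤ N[gth A a ⊓ gth B a ⊓ C1[b]] :=
    normI (normI (h.gth_norm ha) (sup_comm B A ▸ h.symm.gth_norm ha')) (normsG (h.leC hb))
  have l1 : gth A a ⊓ gth B a ⊓ C1[b] ≤ gth A a := inf_le_left.trans inf_le_left
  have l2 : gth A a ⊓ gth B a ⊓ C1[b] ≤ gth B a := inf_le_left.trans inf_le_right
  have o : gth A a ⊓ gth B a ⊓ C1[b] ≤ Opp 2 C1[b] :=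
    bar_le (h.leC hb ha) (h.pg (zpowers_le.2 ha)) inf_le_right (l1.trans (h.gth_le ha)) fun K hK =>
      (h.sep b hb b1 K hK).elim (h.bal_cent ha a1 hb l1 inf_le_right (le_sup_left.trans n) hK)
        (h.symm.bal_cent ha' a1 hb' l2 inf_le_right (le_sup_right.trans n) hK)
  exact le_inf (h.bal_half ha a1 l1 o (le_sup_left.trans n))
    (h.symm.bal_half ha' a1 l2 o (le_sup_right.trans n))

end CSep

end Cfsg.Agent.H8
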