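import Cfsg.Agent.Spor.PX16

/-! # Root elements as packed matrices -/

set_option autoImplicit false
set_option linter.unusedVariables false
set_option linter.unusedSectionVars false
set_option maxRecDepth 100000

namespace Cfsg.Agent.H8E
open Cfsg.Agent.Spor Cfsg.Lie

abbrev Z4 := ℕ × ℕ × ℕ × ℤ
def idl (n : ℕ) : List Z4 := (List.range n).map fun i => (i, i, 0, 1)
def chl (n : ℕ) (l : List (ℕ × Array (ℕ × ℤ))) : List Z4 :=
  l.flatMap fun e => e.2.toList.zipIdx.map fun q => (n + q.1.1, n + e.1, q.2 + 1, q.1.2)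
def sl (D : ChevalleyDatum) (r : ℕ) : List Z4 :=
  ((List.range D.rank).map fun i => (D.rank + r, i, 1, -(D.cartanSR.getD i #[]).getD r 0)) ++
  (((List.range D.rank).map fun i => (i, D.rank + D.negIdx.getD r 0, 1, (D.coroot.getD r #[]).getD i 0)) ++
  ((D.rank + r, D.rank + D.negIdx.getD r 0, 2, -1) :: chl D.rank (D.chain.getD r #[]).toList))
def ix (D : ChevalleyDatum) : D.Idx → ℕ := Sum.elim Fin.val fun j => D.rank + j.val

section
variable {F : Type} [Field F]
def sv (t : F) (a b : ℕ) (l : List Z4) : F :=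
  (l.map fun z => if z.1 = a ∧ z.2.1 = b then (z.2.2.2 : F) * t ^ z.2.2.1 else 0).sum
theorem sum_rng (n : ℕ) (f : ℕ → F) : ((List.range n).map f).sum = ∑ i ∈ Finset.range n, f i := rfl
theorem sum_flt {α : Type} (l : List α) (p : α → Bool) (f : α → F) :
    ((l.filter p).map f).sum = (l.map fun x => if p x then f x else 0).sum := by
  induction l with
  | nil => rfl
  | cons x l ih => by_cases h : p x <;> simp [h, ih]
theorem sv_chl (t : F) (n u s : ℕ) (l : List (ℕ × Array (ℕ × ℤ))) : sv t (n + u) (n + s) (chl n l) =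
    (((l.filter fun e => e.1 = s).flatMap fun e => ((e.2.toList.zipIdx).filter fun q => q.1.1 = u).map
      fun q => (q.2 + 1, q.1.2)).map fun km : ℕ × ℤ => (km.2 : F) * t ^ km.1).sum := by
  induction l with
  | nil => rfl
  | cons e l ih =>
    unfold sv chl at ih ⊢
    by_cases h : e.1 = s <;> simp [h, ih, sum_flt, Function.comp_def]
theorem sv_chl0 (t : F) (n a b : ℕ) (l : List (ℕ × Array (ℕ × ℤ))) (h : a < n ∨ ∀ e ∈ l, n + e.1 ≠ b) :
    sv t a b (chl n l) = 0 := List.sum_eq_zero fun x hx => by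
  simp only [chl, List.mem_map, List.mem_flatMap] at hx
  obtain ⟨_, ⟨e, he, q, -, rfl⟩, rfl⟩ := hx
  exact if_neg fun c => h.elim (fun h => by have := c.1; simp only at this; omega) fun h => h e he c.2

theorem xMat_sl (D : ChevalleyDatum) (r : Fin D.nroots) (t : F) (h1 : D.negIdx.getD r 0 ≠ r)
    (h2 : ∀ e ∈ (D.chain.getD r #[]).toList, e.1 ≠ r ∧ e.1 ≠ D.negIdx.getD r 0) (a b : D.Idx) :
    D.xMat F r t a b = sv t (ix D a) (ix D b) (idl (D.rank + D.nroots) ++ sl D r) := by
  have e : ∀ a b, sv t a b (idl (D.rank + D.nroots) ++ sl D r) = (if a = b ∧ a < D.rank + D.nroots then 1 else 0) +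
      ((if D.rank + r = a ∧ b < D.rank then -(((D.cartanSR.getD b #[]).getD r 0 : ℤ) : F) * t else 0) +
      ((if D.rank + D.negIdx.getD r 0 = b ∧ a < D.rank then (((D.coroot.getD r #[]).getD a 0 : ℤ) : F) * t else 0) +
      ((if D.rank + r = a ∧ D.rank + D.negIdx.getD r 0 = b then -t ^ 2 else 0) +
        sv t a b (chl D.rank (D.chain.getD r #[]).toList)))) := fun a b => by
    simp only [sv, idl, sl, List.map_append, List.sum_append, List.map_map, Function.comp_def, sum_rng, List.map_cons,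
      List.sum_cons]
    congr 1
    · simp [ite_and]; split_ifs <;> simp_all
    congr 1
    · simp [ite_and]
    congr 1
    · simp [ite_and]; split_ifs <;> simp_all
    simp
  unfold ChevalleyDatum.xMat
  rw [Matrix.of_apply]
  have hr := r.2
  rcases b with i | s <;> rcases a with j | u <;> dsimp only [ix, Sum.elim_inl, Sum.elim_inr] <;> rw [e] <;> clear e
  · have := i.2; have := j.2
    rw [sv_chl0 _ _ _ _ _ (.inl j.2)]
    simp only [Fin.ext_iff]; split_ifs <;> first | omega | simp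
  · have := i.2; have := u.2
    rw [sv_chl0 _ _ _ _ _ (.inr fun e _ => by omega)]
    simp only [Fin.ext_iff]; split_ifs <;> first | omega | simp
  · have := j.2; have := s.2
    rw [sv_chl0 _ _ _ _ _ (.inl j.2)]
    simp only [Fin.ext_iff]; split_ifs <;> first | omega | simp
  · have := u.2; have := s.2
    by_cases c : s = r ∨ s.val = D.negIdx.getD r 0
    · rw [sv_chl0 _ _ _ _ _ (.inr fun e he => by have := h2 e he; rw [Fin.ext_iff] at c; omega)]
      simp only [Fin.ext_iff] at c ⊢; split_ifs <;> first | omega | simp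
    · rw [sv_chl, if_neg fun e => c (.inl e), if_neg fun e => c (.inr e)]
      simp only [Fin.ext_iff, ChevalleyDatum.chainCoeff] at c ⊢; split_ifs <;> first | omega | simp
end

noncomputable def vz (s : ℕ) (z : Z4) : ℕ := Int.toNat (z.2.2.2 * (s : ℤ) ^ z.2.2.1 % 3)
noncomputable def acc (A : PA) (s : ℕ) (l : List Z4) (Y : ℕ) : ℕ :=
  List.rec (Nat.land (Nat.shiftRight Y 0) (rep A.w (Nat.mul A.d A.d) (ones A.w))) (fun z _ ih => Nat.add (Nat.shiftLeft
    (Nat.mul (vz s z) (Nat.land (Nat.shiftRight Y (Nat.mul A.wd z.2.1)) A.rm)) (Nat.mul A.wd z.1)) ih) l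
noncomputable def lm (A : PA) (s : ℕ) (l : List Z4) (Y : ℕ) : ℕ := prd A.p A.w A.mu A.k A.em A.qm (acc A s l Y)

theorem acc_pk {A : PA} (ok : A.ok = true) (s : ℕ) (l : List Z4) (h : ∀ z ∈ l, z.1 < A.d ∧ z.2.1 < A.d) (Y : ℕ) :
    acc A s l Y = pk A.w (A.d * A.d) fun t => (l.map fun z => if z.1 = t / A.d then vz s z * A.ent Y z.2.1 (t % A.d) else 0).sum +
      A.ent Y (t / A.d) (t % A.d) := by
  obtain ⟨-, h2, h3, h4, -, h6, -⟩ := PA.ok' ok
  induction l with
  | nil => exact (land_rep h2 le_rfl _ _ _).trans (pk_congr fun t _ => by simp [PA.ent_eq, Nat.div_add_mod])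
  | cons z l ih =>
    simp only [List.map_cons, List.sum_cons, add_assoc]
    rw [← pk_add, ← ih fun z hz => h z (List.mem_cons_of_mem _ hz)]
    show (vz s z * Nat.land (Nat.shiftRight Y (A.wd * z.2.1)) A.rm) <<< (A.wd * z.1) + acc A s l Y = _
    rw [h6, land_rep h2 le_rfl, h4, Nat.shiftLeft_eq, mul_right_comm, show vz s z * 2 ^ (A.w * A.d * z.1) =
      pk (A.w * A.d) A.d fun k => if z.1 = k then vz s z else 0 by simp [pk, (h z List.mem_cons_self).1], pk_mul h3]
    refine congrArg (· + acc A s l Y) (pk_congr fun t _ => ?_)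
    rw [PA.ent_eq, mul_add, mul_assoc]; simp

theorem lm_spec {F : Type} [Field F] {A : PA} (sq : A.sq = true) (p3 : A.p = 3) (h3 : (3 : F) = 0) (s : ℕ) (l : List Z4)
    (h : ∀ z ∈ l, z.1 < A.d ∧ z.2.1 < A.d) (hl : 4 * l.length + 2 < 2 ^ A.w) {Y : ℕ} (hY : A.Can A.d Y)
    {M : Matrix (Fin A.d) (Fin A.d) F} (hM : ∀ i j, M i j = sv (s : F) i j (idl A.d ++ l)) :
    A.Can A.d (lm A s l Y) ∧ A.dec F (lm A s l Y) = M * A.dec F Y := by
  obtain ⟨ok, hm, -⟩ := PA.sq' sq
  obtain ⟨-, h2, hd, -⟩ := PA.ok' ok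
  have e := fun i j (hi : i < A.d) (hj : j < A.d) => PA.prd_spec ok (by omega) (acc A s l Y) (hm ▸ hi) hj
  refine ⟨fun i hi j hj => (e i j hi hj).trans_lt (Nat.mod_lt _ (by omega)), Matrix.ext fun i j => ?_⟩
  have k : ∀ l : List Z4, (∀ z ∈ l, z.2.1 < A.d) → ∑ k : Fin A.d, sv (s : F) i k l * A.ent Y k j =
      (l.map fun z => if z.1 = i.val then (z.2.2.2 : F) * s ^ z.2.2.1 * A.ent Y z.2.1 j else 0).sum := fun l hl => by
    induction l with
    | nil => simp [sv]
    | cons z l ih =>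
      rw [List.map_cons, List.sum_cons, ← ih fun z hz => hl z (List.mem_cons_of_mem _ hz), ← (Finset.sum_ite_eq Finset.univ
        (⟨_, hl z List.mem_cons_self⟩ : Fin A.d) fun k => (z.2.2.2 : F) * s ^ z.2.2.1 * A.ent Y k j).trans (if_pos (Finset.mem_univ _))]
      by_cases c : z.1 = i <;> simp [sv, c, add_mul, Finset.sum_add_distrib, Fin.ext_iff]
  simp only [PA.dec, Matrix.mul_apply, Matrix.of_apply, hM]
  rw [k _ (List.forall_mem_append.2 ⟨by simp [idl], fun z hz => (h z hz).2⟩), lm, e _ _ i.2 j.2, PA.cast_mod (p3 ▸ h3), PA.ent_eq,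
    acc_pk ok s l h, bf_pk h2 (fun t ht => lt_of_le_of_lt (add_le_add ((List.sum_le_card_nsmul _ 4 fun x hx => by
      obtain ⟨z, hz, rfl⟩ := List.mem_map.1 hx
      have a := hY _ (h z hz).2 _ (Nat.mod_lt t hd)
      have b : vz s z ≤ 2 := by unfold vz; omega
      split_ifs
      exacts [Nat.mul_le_mul b (by omega : _ ≤ 2), by omega]).trans (by simp [mul_comm])) (by
        have := hY _ ((Nat.div_lt_iff_lt_mul hd).2 ht) _ (Nat.mod_lt t hd); omega)) hl) (PA.idx_lt i.2 j.2),
    Nat.mul_add_div hd, Nat.div_eq_of_lt j.2, Nat.mul_add_mod, Nat.mod_eq_of_lt j.2, add_zero, List.map_append, List.sum_append,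
    add_comm, Nat.cast_add, Nat.cast_list_sum, List.map_map]
  congr 1
  · simp [idl, Function.comp_def, sum_rng]
  refine congrArg _ (List.map_congr_left fun z hz => ?_)
  simp only [Function.comp_apply]
  split_ifs
  · rw [Nat.cast_mul, vz, ← Int.cast_natCast (Int.toNat _), Int.toNat_of_nonneg (by omega), Int.emod_def]; push_cast; rw [h3]; simp
  · simp

theorem mem_group {F : Type} [Field F] (D : ChevalleyDatum) (w : List (ℕ × F)) (g : GL D.Idx F) (h : g.1 = D.wordMat F w) :
    g ∈ D.group F := by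
  induction w generalizing g with
  | nil => exact (Units.ext h : g = 1) ▸ one_mem _
  | cons p w ih =>
    have h' : g.1 = D.x F p.1 p.2 * D.wordMat F w := h
    obtain ⟨u, hu⟩ := isUnit_of_mul_isUnit_left (h' ▸ g.isUnit)
    have := ih (u⁻¹ * g) (by rw [Units.val_mul, h', ← hu, Units.inv_mul_cancel_left])
    refine (Subgroup.mul_mem_cancel_left _ (inv_mem ?_)).1 this
    unfold ChevalleyDatum.x at hu
    split_ifs at hu with c
    exacts [Subgroup.subset_closure ⟨_, _, hu⟩, (Units.ext hu : u = 1) ▸ one_mem _]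

end Cfsg.Agent.H8E
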