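import Cfsg.Agent.H8.E8A
import Cfsg.Agent.Spor.ThX.D0
import Cfsg.Agent.Spor.ThV.D0
import Cfsg.Prelude.Def_ChevE8

/-! # Words in root elements of `E8(3)` -/

set_option autoImplicit false
set_option linter.unusedVariables false
set_option linter.unusedSectionVars false
set_option maxRecDepth 100000

namespace Cfsg.Agent.H8E
open Cfsg.Agent.Spor Cfsg.Lie Cfsg.Agent.Spor.ThV Cfsg.Agent.Spor.ThX

noncomputable def bno' (a : Bool) : Bool := Bool.rec true false a
noncomputable def okR (r : ℕ) : Bool := band (bno' (Nat.beq (chevE8.negIdx.getD r 0) r))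
  (band (lall (fun e => band (bno' (Nat.beq e.1 r)) (bno' (Nat.beq e.1 (chevE8.negIdx.getD r 0)))) (chevE8.chain.getD r #[]).toList)
  (band (lall (fun z => band (Nat.blt z.1 248) (Nat.blt z.2.1 248)) (sl chevE8 r)) (Nat.blt (sl chevE8 r).length 90)))
noncomputable def lw (w : List (ℕ × ℕ)) (Y : ℕ) : ℕ := List.rec Y (fun p _ ih => lm A p.2 (sl chevE8 p.1) ih) w
noncomputable def okW (w : List (ℕ × ℕ)) (Y Z : ℕ) : Bool := band (lall (fun p => Nat.blt p.1 240) w) (Nat.beq (lw w Y) Z)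

theorem kX : allN okR 240 = true := by decide +kernel
theorem kPi : band (A.can P) (band (A.can Pi) (Nat.beq (A.mul P Pi) A.one)) = true := by decide +kernel
theorem sqA : PA.sq A = true := by decide +kernel

instance instFact3 : Fact (Nat.Prime 3) := ⟨Nat.prime_three⟩
def eI : chevE8.Idx ≃ Fin A.d := (finSumFinEquiv : Fin 8 ⊕ Fin 240 ≃ Fin 248)
theorem eI_val (a : chevE8.Idx) : (eI a).val = ix chevE8 a := by rcases a with a | a <;> rfl
noncomputable abbrev rI := Matrix.reindexAlgEquiv (ZMod 3) (ZMod 3) eI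

def St (Y Z : ℕ) : Prop := A.Can A.d Y → A.Can A.d Z ∧ ∃ w, A.dec (ZMod 3) Z = rI (chevE8.wordMat (ZMod 3) w) * A.dec (ZMod 3) Y
theorem St.trans {X Y Z : ℕ} (h : St X Y) (h' : St Y Z) : St X Z := fun c => by
  obtain ⟨c1, w, e⟩ := h c
  obtain ⟨c2, w', e'⟩ := h' c1
  exact ⟨c2, w' ++ w, by rw [e', e, ← mul_assoc, ← map_mul]; simp [ChevalleyDatum.wordMat]⟩
theorem St.of {w : List (ℕ × ℕ)} {Y Z : ℕ} (h : okW w Y Z = true) : St Y Z := by
  simp only [okW, band_eq, Bool.and_eq_true, lall_iff, Nat.blt_eq, Nat.beq_eq] at h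
  obtain ⟨h, rfl⟩ := h
  induction w with
  | nil => exact fun c => ⟨c, [], by simp [ChevalleyDatum.wordMat, lw]⟩
  | cons p w ih =>
    refine (ih fun q hq => h q (List.mem_cons_of_mem _ hq)).trans fun c => ?_
    have hp := h p List.mem_cons_self
    have k := (allN_iff _ _).1 kX p.1 hp
    have bn : ∀ a, bno' a = true ↔ ¬ a = true := fun a => by cases a <;> simp [bno']
    simp only [okR, band_eq, Bool.and_eq_true, lall_iff, Nat.blt_eq, Nat.beq_eq, bn] at k
    obtain ⟨a, b⟩ := lm_spec (F := ZMod 3) sqA rfl rfl p.2 (sl chevE8 p.1) k.2.2.1 (by show _ < 1024; omega) c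
      (M := rI (chevE8.xMat _ ⟨p.1, hp⟩ p.2)) fun i j => by
        obtain ⟨i, rfl⟩ := eI.surjective i
        obtain ⟨j, rfl⟩ := eI.surjective j
        rw [eI_val, eI_val]
        exact Eq.trans (by simp) (xMat_sl chevE8 ⟨p.1, hp⟩ (p.2 : ZMod 3) k.1 k.2.1 i j)
    exact ⟨a, [(p.1, p.2)], b.trans (by simp [ChevalleyDatum.wordMat, ChevalleyDatum.x, show p.1 < chevE8.nroots from hp])⟩

end Cfsg.Agent.H8E
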