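import Cfsg.Agent.H8.E8B
import Cfsg.Agent.Spor.ThZ

/-! # The Thompson group inside `E8(3)` -/

set_option autoImplicit false
set_option linter.unusedVariables false
set_option linter.unusedSectionVars false
set_option maxRecDepth 100000

namespace Cfsg.Agent.H8E
open Cfsg.Agent.Spor Cfsg.Lie

theorem emb0 {A : PA} {F : Type} [Field F] {D : ChevalleyDatum} (e : D.Idx ≃ Fin A.d) {sq : A.sq = true} {hp : (A.p : F) = 0}
    {P Pi n : ℕ} (k : band (A.can P) (band (A.can Pi) (Nat.beq (A.mul P Pi) A.one)) = true) {TT : List ℕ}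
    (ok : A.gensOk TT n = true) (st : A.Can A.d Pi → ∀ j < n, ∃ w, A.dec F (A.mul Pi (nth A.one TT (2 * j))) =
      Matrix.reindexAlgEquiv F F e (D.wordMat F w) * A.dec F Pi) :
    ∃ f : gsub n ((MRep.gl A F sq hp).gen TT) →* D.group F, Function.Injective f := by
  simp only [band_eq, Bool.and_eq_true, Nat.beq_eq] at k
  have c := PA.can_sq sq k.2.1
  obtain ⟨-, p, hp'⟩ := MRep.gl_M (R := F) (sq := sq) (hp := hp) (PA.can_sq sq k.1) c k.2.2
  have e0 : A.dec F Pi = (p⁻¹).1 := by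
    have := (PA.mul_spec (R := F) sq hp (PA.can_sq sq k.1) c).2
    rw [k.2.2, PA.dec_one sq, ← show p.1 = _ from hp'] at this
    exact (Units.inv_eq_of_mul_eq_one_right this.symm).symm
  let ψ : GL (Fin A.d) F →* GL D.Idx F :=
    (Units.map (Matrix.reindexAlgEquiv F F e).symm.toMulEquiv.toMonoidHom).comp (MulAut.conj p⁻¹).toMonoidHom
  have inj : Function.Injective ψ :=
    (Units.map_injective (Matrix.reindexAlgEquiv F F e).symm.injective).comp (MulAut.conj p⁻¹).injective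
  have hH : gsub n ((MRep.gl A F sq hp).gen TT) ≤ (D.group F).comap ψ := gsub_le fun j hj => by
    obtain ⟨w, e⟩ := st c j hj
    have g := (MRep.gl_gens (R := F) (sq := sq) (hp := hp) ok (2 * j)).1
    rw [(PA.mul_spec sq hp c g.1).2, e0, ← g.ρ_el] at e
    refine mem_group _ w _ ((AlgEquiv.symm_apply_eq _).2 ?_)
    show (p⁻¹ * (MRep.gl A F sq hp).gen TT j * p⁻¹⁻¹).1 = _
    rw [Units.val_mul, Units.val_mul, Units.mul_inv_eq_iff_eq_mul]; exact e
  exact ⟨(ψ.comp (Subgroup.subtype _)).codRestrict _ fun x => hH x.2, fun x y e => Subtype.ext (inj (congrArg Subtype.val e))⟩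

open Cfsg.Agent.Spor.ThV Cfsg.Agent.Spor.ThX in
theorem emb (st : ∀ j < 8, St Pi (A.mul Pi (nth A.one TT (2 * j)))) :
    ∃ f : Cfsg.Spor.Th →* chevE8.group (ZMod 3), Function.Injective f := by
  obtain ⟨f, hf⟩ := emb0 (F := ZMod 3) (sq := sq) (hp := ThV.hp) eI kPi TTok fun c j hj => (st j hj c).2
  obtain ⟨σ, h⟩ := ThZ.homH
  haveI : Finite Cfsg.Spor.Th := Nat.finite_of_card_ne_zero (by rw [ThZ.isTh.2]; decide)
  exact ⟨f.comp σ, hf.comp ((Nat.bijective_iff_surjective_and_card σ).2 ⟨h, ThZ.isTh.2.trans ThZ.cardH.symm⟩).1⟩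

end Cfsg.Agent.H8E
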