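import Cfsg.Agent.BG.S04a
import Cfsg.Agent.PF.FT
import Cfsg.Agent.H8.Iso

/-! Goldschmidt's generation lemma and the Thompson dihedral lemma. -/

set_option autoImplicit false

namespace Cfsg.Agent.H8

open Cfsg Cfsg.Agent.BG Subgroup PHom

universe u

section
variable {G : Type*} [Group G] [Finite G] {G' : Type*} [Group G'] [Finite G']

theorem cocyc_lift {φ : PHom G G'} {B : Subgroup G} (hB : B ≤ φ.dom) (ab : Abel B)
    {B' : Subgroup G'} (h1 : B' ≤ φ.im B) (h2 : Cyc (φ.im B ÷ B')) :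
    ∃ B0 ≤ B, φ.im B0 = B' ∧ Cyc (B ÷ B0) := by
  obtain ⟨b', hb', e⟩ := (cyc_quo_iff h1 (abel_norm (ab.im φ) h1)).1 h2
  obtain ⟨b, hb, rfl⟩ := (mem_im' hB).1 hb'
  refine ⟨φ.pre B' ⊓ B, inf_le_right, im_pre_inf h1, cyc_quo_of_sup (abel_norm ab inf_le_right)
    (zpowers_le.2 hb) ?_ (cyc_zpowers b)⟩
  have h3 : zpowers b ⊔ φ.pre B' ⊓ B ≤ B := sup_le (zpowers_le.2 hb) inf_le_right
  have h4 : B ≤ (zpowers b ⊔ φ.pre B' ⊓ B) ⊔ φ.ker := by
    rw [← im_le_im_iff hB (h3.trans hB), im_sup (zpowers_le.2 (hB hb)) (inf_le_right.trans hB),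
      im_pre_inf h1, im_zpowers (hB hb), sup_comm, e]
  calc B = ((zpowers b ⊔ φ.pre B' ⊓ B) ⊔ φ.ker) ⊓ B := (inf_eq_right.2 h4).symm
    _ = _ := modl_r ((h3.trans hB).trans dom_norm_ker) h3
    _ ≤ _ := sup_le le_rfl (le_sup_of_le_right (inf_le_inf_right _ (ker_le_pre _)))

theorem im_comm_cent {T A B0 Y N : Subgroup G} (hT : Abel T) (hA : A ≤ T) (hB : B0 ≤ T)
    (hc : (#T).Coprime #Y) (hN : N ≤ Y) (h1 : Y ≤ N[N]) (h2 : T ≤ N[N]) :
    ⁅Y ⊓ C[B0], A⁆ ÷ N = ⁅(Y ÷ N) ⊓ C[B0 ÷ N], A ÷ N⁆ := by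
  rw [im_comm (inf_le_left.trans h1) (hA.trans h2), im_IC' (hB.trans h2) h1 (by simpa using hN)
    (by simpa using coprimeS hc hB hN) (Or.inl (hT.of_le hB).sol)]

end

theorem gen_comm_aux (n : ℕ) : ∀ {G : Type u} [Group G] [Finite G] {T A B Y H : Subgroup G},
    #Y = n → Abel T → A ≤ T → B ≤ T → T ≤ N[Y] → (#T).Coprime #Y → Sol Y → ⁅Y, A⁆ = Y →
    (∀ B0 ≤ B, Cyc (B ÷ B0) → ⁅Y ⊓ C[B0], A⁆ ≤ H) → Y ≤ H := by
  induction n using Nat.strong_induction_on with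
  | _ n ih =>
  intro G _ _ T A B Y H hn hT hA hB hY hc hs hYA h
  by_cases h0 : Y = ⊥
  · exact h0 ▸ bot_le
  set Y1 := sSup {X | ∃ B0 ≤ B, Cyc (B ÷ B0) ∧ ⁅Y ⊓ C[B0], A⁆ = X} with hY1
  have hle : ∀ B0 ≤ B, Cyc (B ÷ B0) → ⁅Y ⊓ C[B0], A⁆ ≤ Y1 := fun B0 a b => le_sSup ⟨B0, a, b, rfl⟩
  have h1Y : Y1 ≤ Y := sSup_le (by
    rintro _ ⟨B0, -, -, rfl⟩; exact (commS inf_le_left le_rfl).trans hYA.le)
  have hA1 : A ≤ N[Y1] := norm_sSup (by rintro _ ⟨B0, -, -, rfl⟩; exact comm_normr _ _)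
  refine le_trans ?_ (sSup_le (by rintro _ ⟨B0, a, b, rfl⟩; exact h B0 a b) : Y1 ≤ H)
  set N := Z[F[Y]] with hN
  have hN0 : N ≠ ⊥ := (F_nil Y).Z_ne_bot (F_ne_bot hs h0)
  have hNY : N ≤ Y := inf_le_left.trans (F_le Y)
  have hYN : Y ≤ N[N] := normZ (F_norm Y)
  have hTN : T ≤ N[N] := normZ (normF hY)
  have hNa : Abel N := abel_Z _
  have h2 : Y ≤ Y1 ⊔ N := by
    have := ih _ (hn ▸ card_im_lt (φ := quo N) hYN (by rwa [quo_ker, inf_eq_right.2 hNY]))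
      (T := T ÷ N) (A := A ÷ N) (B := B ÷ N) (H := Y1 ÷ N) rfl (hT.im _) (im_mono hA) (im_mono hB)
      (im_norm hY) (cop_im hc _) (hs.im _) (by rw [← im_comm hYN (hA.trans hTN), hYA])
      fun B' a b => by
        obtain ⟨B0, c, rfl, d⟩ := cocyc_lift (φ := quo N) (hB.trans hTN) (hT.of_le hB) a b
        rw [← im_comm_cent hT hA (c.trans hB) hc hNY hYN hTN]
        exact im_mono (hle B0 c d)
    simpa using (im_le_im_iff (φ := quo N) hYN (h1Y.trans hYN)).1 this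
  have cA : (#A).Coprime #N := coprimeS hc hA hNY
  have h3 : ⁅N, A⁆ ≤ Y1 ⊓ N := by
    have h4 : N ≤ (⁅N, A⁆ ⊓ Y1) ⊔ N ⊓ C[A] := by
      refine cop_gen_cocyc (hT.of_le hB) (hB.trans hTN) (coprimeS hc hB hNY) fun B0 a b => ?_
      have nA : A ≤ N[N ⊓ C[B0]] := normI (hA.trans hTN) (normC (cents_norm (centSS hT hA (a.trans hB))))
      rw [← (cop_cent_prod nA (coprimeS cA le_rfl inf_le_left) (Or.inl (hT.of_le hA).sol)).sup]
      exact sup_le_sup (le_inf (commS inf_le_left le_rfl) ((commS (inf_le_inf_right _ hNY)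
        le_rfl).trans (hle B0 a b))) (inf_le_inf_right _ inf_le_left)
    have h5 := commL (hA.trans hTN)
    refine le_inf ?_ h5
    calc ⁅N, A⁆ = ((⁅N, A⁆ ⊓ Y1) ⊔ N ⊓ C[A]) ⊓ ⁅N, A⁆ := (inf_eq_right.2 (h5.trans h4)).symm
      _ = _ := modl_l (inf_le_left.trans (abel_norm hNa (inf_le_left.trans h5))) inf_le_left
      _ ≤ _ := sup_le inf_le_right (le_trans (le_inf inf_le_right (inf_le_left.trans inf_le_right))
        ((cop_abel_C_comm hNa (hA.trans hTN) cA).le.trans bot_le))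
  have hY1 : Y ≤ N[Y1 ⊓ N] := h2.trans (sup_le (normI (normG _) (h1Y.trans hYN))
    (abel_norm hNa inf_le_right))
  have hA2 : A ≤ N[Y1 ⊓ N] := norm_of_comm_le h3 inf_le_right
  have h6 : ⁅Y, N⁆ ≤ Y1 ⊓ N := by
    have := (cent_im_iff (φ := quo (Y1 ⊓ N)) hY1 (hNY.trans hY1)).1 (by
      rw [← hYA, im_comm hY1 hA2]
      refine (commS le_rfl ?_).trans (commR (normC (im_norm hYN)))
      exact (cent_im_iff hA2 (hNY.trans hY1)).2 (by rwa [commC, quo_ker]))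
    simpa using this
  have h7 : N ≤ N[Y1] := comm_le_l.1 ((commS h1Y le_rfl).trans (h6.trans inf_le_left))
  calc Y = ⁅Y, A⁆ := hYA.symm
    _ ≤ ⁅Y1 ⊔ N, A⁆ := commS h2 le_rfl
    _ ≤ Y1 := comm_sup_le (commL hA1) (h3.trans inf_le_left) (normG _) h7

theorem gold_aux (n : ℕ) : ∀ {G : Type u} [Group G] [Finite G] {T A B Y W : Subgroup G},
    #Y = n → Abel T → A ≤ T → B ≤ T → T ≤ N[Y] → (#T).Coprime #Y → Sol Y → ⁅Y, A⁆ = Y →
    (∀ B0 ≤ B, Cyc (B ÷ B0) → ⁅Y ⊓ C[B0], A⁆ ⊓ C[T] ≤ W) → Y ⊓ C[T] ≤ W := by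
  induction n using Nat.strong_induction_on with
  | _ n ih =>
  intro G _ _ T A B Y W hn hT hA hB hY hc hs hYA h
  by_contra hne
  have sT : ∀ {X : Subgroup G} {P : Prop}, X ≤ T → Sol X ∨ P := fun a => Or.inl (hT.of_le a).sol
  have nC : ∀ {X B0 : Subgroup G}, T ≤ N[X] → B0 ≤ B → T ≤ N[X ⊓ C[B0]] := fun a b =>
    normI a (normC (abel_norm hT (b.trans hB)))
  have hXY : ∀ {X : Subgroup G}, X ≤ Y → ⁅X, A⁆ ≤ Y := fun a => (commS a le_rfl).trans hYA.le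
  have key : ∀ N ≤ Y, Y ≤ N[N] → T ≤ N[N] → N ⊓ C[T] ≤ W → N = ⊥ := by
    intro N hNY hYN hTN hW
    by_contra hN0
    have cN : (#T).Coprime #(quo N).ker := by simpa using coprimeS hc le_rfl hNY
    have := ih _ (hn ▸ card_im_lt (φ := quo N) hYN (by rwa [quo_ker, inf_eq_right.2 hNY]))
      (T := T ÷ N) (A := A ÷ N) (B := B ÷ N) (W := (W ⊓ (Y ⊓ C[T])) ÷ N) rfl (hT.im _)
      (im_mono hA) (im_mono hB)
      (im_norm hY) (cop_im hc _) (hs.im _) (by rw [← im_comm hYN (hA.trans hTN), hYA])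
      fun B' a b => by
        obtain ⟨B0, c, rfl, d⟩ := cocyc_lift (φ := quo N) (hB.trans hTN) (hT.of_le hB) a b
        have e := normR (nC hY c) (abel_norm hT hA)
        rw [← im_comm_cent hT hA (c.trans hB) hc hNY hYN hTN, ← im_IC (φ := quo N) hTN
          ((hXY inf_le_left).trans hYN) (normI e (by simpa using hTN))
          (coprimeS cN le_rfl inf_le_right) (sT le_rfl) e]
        exact im_mono (le_inf (h B0 c d) (inf_le_inf_right _ (hXY inf_le_left)))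
    rw [← im_IC' (φ := quo N) hTN hYN (by simpa using hNY) cN (sT le_rfl), im_le_im_iff
      (inf_le_left.trans hYN) (inf_le_right.trans (inf_le_left.trans hYN)), quo_ker] at this
    refine hne ?_
    calc Y ⊓ C[T] ≤ (W ⊓ (Y ⊓ C[T]) ⊔ N) ⊓ C[T] := le_inf this inf_le_right
      _ = _ := modl_r (inf_le_right.trans (inf_le_left.trans hYN)) (inf_le_right.trans inf_le_right)
      _ ≤ W := sup_le inf_le_left hW
  have ha : ∀ V ≤ Y, Abel V → Y ≤ N[V] → T ≤ N[V] → V ≤ C[Y] := by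
    intro V hVY hV hYV hTV
    have cV := coprimeS hc le_rfl hVY
    set M := (W ⊓ (V ⊓ C[T])) ⊔ ⁅V, T⁆ with hM
    have hMV : M ≤ V := sup_le (inf_le_right.trans inf_le_left) (commL hTV)
    have h1 : Y ≤ (quo M).pre C[V ÷ M] := by
      refine gen_comm_aux _ rfl hT hA hB hY hc hs hYA fun B0 a b => ?_
      have hX := hXY (inf_le_left : Y ⊓ C[B0] ≤ Y)
      have hXC : ⁅Y ⊓ C[B0], A⁆ ≤ C[B0] := (commL (hA.trans (nC hY a))).trans inf_le_right
      have h2 : ⁅V, ⁅Y ⊓ C[B0], A⁆⁆ ≤ M := by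
        rw [← (cop_cent_prod ((a.trans hB).trans hTV) (coprimeS cV (a.trans hB) le_rfl)
          (sT (a.trans hB))).sup]
        refine comm_sup_le ((commL (normR (hX.trans hYV) (cents_norm hXC))).trans
          (le_sup_of_le_right (commS le_rfl (a.trans hB)))) ?_
          ((commL ((a.trans hB).trans hTV)).trans (abel_norm hV hMV))
          (inf_le_left.trans (abel_norm hV hMV))
        have nU : T ≤ N[V ⊓ ⁅Y ⊓ C[B0], A⁆] := normI hTV (normR (nC hY a) (abel_norm hT hA))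
        refine (le_inf ((commS inf_le_left le_rfl).trans (commL (hX.trans hYV)))
          (commR ((inf_le_inf_right _ hVY).trans (comm_norml _ _)))).trans ?_
        rw [← (cop_cent_prod nU (coprimeS cV le_rfl inf_le_left) (sT le_rfl)).sup]
        exact sup_le (le_sup_of_le_right (commS inf_le_left le_rfl)) (le_sup_of_le_left
          (le_inf ((inf_le_inf_right _ inf_le_right).trans (h B0 a b))
            (inf_le_inf_right _ inf_le_left)))
      have h3 := norm_of_comm_le h2 hMV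
      exact (le_pre_iff (φ := quo M) h3).2 ((cent_im_iff h3 (abel_norm hV hMV)).2
        (by rwa [commC, quo_ker]))
    have h2 : Y ≤ N[M] := h1.trans (pre_le_dom _)
    have h3 : ⁅Y, V⁆ ≤ M := by
      simpa using (cent_im_iff (φ := quo M) h2 (abel_norm hV hMV)).1 ((le_pre_iff h2).1 h1)
    refine comm_eq_bot'.1 (key _ (comm_le le_rfl hVY) (comm_norml _ _) (normR hY hTV) ?_)
    calc ⁅Y, V⁆ ⊓ C[T] ≤ M ⊓ C[T] := inf_le_inf_right _ h3
      _ = _ := modl_l ((commL hTV).trans (abel_norm hV (inf_le_right.trans inf_le_left)))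
        (inf_le_right.trans inf_le_right)
      _ ≤ W := sup_le inf_le_left ((cop_abel_C_comm hV hTV cV).le.trans bot_le)
  have hZn : ∀ X ≤ Z[Y], Y ≤ N[X] := fun X a => cents_norm (cent_symm (a.trans inf_le_right))
  have hb : Z[Y] ≤ C[T] := comm_eq_bot.1 (key _ ((commL (normZ hY)).trans inf_le_left)
    (hZn _ (commL (normZ hY))) (comm_normr _ _) ((cop_abel_C_comm (abel_Z Y) (normZ hY)
      (coprimeS hc le_rfl inf_le_left)).le.trans bot_le))
  have hYZ : Y ≤ N[Z[Y]] := normZ (normG Y)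
  have hTZ : T ≤ N[Z[Y]] := normZ hY
  have hc0 : Y ÷ Z[Y] ≠ ⊥ := fun e => by
    have := comm_eq_bot.2 (((quo_bot_iff hYZ).1 e).trans (hb.trans (centS hA)))
    rw [hYA] at this
    exact hne (inf_le_left.trans (this.le.trans bot_le))
  set V := (quo Z[Y]).pre Z[F[Y ÷ Z[Y]]] with hV
  have hV1 : Z[F[Y ÷ Z[Y]]] ≤ Y ÷ Z[Y] := inf_le_left.trans (F_le _)
  have hVY : V ≤ Y := pre_le_of_le_im hYZ (by simp) hV1
  have hYV : Y ≤ N[V] := norm_pre hYZ (normZ (F_norm _))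
  have hTV : T ≤ N[V] := norm_pre hTZ (normZ (normF (im_norm hY)))
  have hVV : ⁅V, V⁆ ≤ Z[Y] := by
    simpa using (abel_im_iff (φ := quo Z[Y]) (pre_le_dom _)).1 (by rw [im_pre hV1]; exact abel_Z _)
  have cV := coprimeS hc le_rfl hVY
  have h1 : V ≤ C[A] := by
    refine cop_gen_cocyc (hT.of_le hB) (hB.trans hTV) (coprimeS cV hB le_rfl) fun B0 a b => ?_
    have nA := hA.trans (nC hTV a)
    have hX := commL nA
    have hXV := hX.trans inf_le_left
    have h2 : ⁅V ⊓ C[B0], ⁅V ⊓ C[B0], A⁆⁆ ≤ Z[Y] := (commS inf_le_left hXV).trans hVV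
    have h3 := key _ (h2.trans inf_le_left) (hZn _ h2) (cents_norm (cent_symm (h2.trans hb)))
      ((inf_le_inf_right _ ((commR (comm_norml _ _)).trans
        (commS (inf_le_inf_right _ hVY) le_rfl))).trans (h B0 a b))
    have h4 : ⁅⁅V, B0⁆, ⁅V ⊓ C[B0], A⁆⁆ = ⊥ := three_subgroup
      (by rw [comm_eq_bot'.2 (hX.trans inf_le_right), commutator_bot_left])
      (comm_eq_bot.2 ((commS hXV le_rfl).trans (hVV.trans (hb.trans (centS (a.trans hB))))))
    have h5 : ⁅V ⊓ C[B0], A⁆ ≤ C[V] := by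
      conv_rhs => rw [← (cop_cent_prod ((a.trans hB).trans hTV) (coprimeS cV (a.trans hB) le_rfl)
          (sT (a.trans hB))).sup]
      exact centY (comm_eq_bot'.1 h4) (comm_eq_bot'.1 h3)
    refine cop_cent_of_comm_cent nA (coprimeS cV hA inf_le_left) (sT hA) ?_
    exact (le_inf (hXV.trans hVY) ((le_inf hXV h5).trans (ha _ (inf_le_left.trans hVY) (abel_Z V)
      (normZ hYV) (normZ hTV)))).trans (hb.trans (centS hA))
  have h2 : V ≤ Z[Y] := le_inf hVY (cent_symm (hYA.ge.trans ((commS le_rfl (cent_symm h1)).trans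
    (commR (normC hYV)))))
  refine (F_nil _).Z_ne_bot (F_ne_bot (hs.im _) hc0) ?_
  rw [← im_pre hV1]
  exact (quo_bot_iff (hVY.trans hYZ)).2 h2

section
variable {G : Type*} [Group G] [Finite G]

theorem gold_gen {T A B Y W : Subgroup G} (hT : Abel T) (hA : A ≤ T) (hB : B ≤ T) (hY : T ≤ N[Y])
    (hc : (#T).Coprime #Y) (hs : Sol Y) (hYA : ⁅Y, A⁆ = Y)
    (h : ∀ B0 ≤ B, Cyc (B ÷ B0) → ⁅Y ⊓ C[B0], A⁆ ⊓ C[T] ≤ W) : Y ⊓ C[T] ≤ W :=
  gold_aux _ rfl hT hA hB hY hc hs hYA h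

theorem sol_of_odd {Y : Subgroup G} (h : PiG {2}ᶜ Y) : Sol Y := PF.feit_thompson (pig_odd.1 h)

theorem s1329 {A B Y W : Subgroup G} (hA : Abel A) (hB : B ≤ A) (hY : A ≤ N[Y])
    (hc : (#A).Coprime #Y) (hs : Sol Y) (hYA : ⁅Y, A⁆ = Y)
    (h : ∀ B0 ≤ B, Cyc (B ÷ B0) → Y ⊓ C[B] ⊓ ⁅Y ⊓ C[B0], A⁆ ≤ W) : Y ⊓ C[B] ≤ W := by
  have nA : A ≤ N[Y ⊓ C[B]] := normI hY (normC (abel_norm hA hB))
  rw [← (cop_cent_prod nA (coprimeS hc le_rfl inf_le_left) (Or.inl hA.sol)).sup]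
  refine sup_le ((le_inf (commL nA) le_rfl).trans (h B le_rfl (by rw [quo_self]; exact cyc_bot)))
    ((inf_le_inf_right _ inf_le_left).trans (gold_gen hA le_rfl hB hY hc hs hYA fun B0 a b => ?_))
  exact (le_inf (le_inf (inf_le_left.trans ((commS inf_le_left le_rfl).trans hYA.le))
    (inf_le_right.trans (centS hB))) inf_le_left).trans (h B0 a b)

/-- common eigenvectors of an elementary abelian 2-group on an abelian group of odd order -/
theorem exists_eigen {A V : Subgroup G} (hA : Abelem 2 A) (hV : Abel V) (ho : PiG {2}ᶜ V)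
    (hn : A ≤ N[V]) (h0 : V ≠ ⊥) :
    ∃ x ∈ V, x ≠ 1 ∧ ∀ a ∈ A, a * x * a⁻¹ = x ∨ a * x * a⁻¹ = x⁻¹ := by
  obtain ⟨M, hMV, ⟨h1, h2⟩, hmin⟩ := exists_minimal (P := fun X => X ≠ ⊥ ∧ A ≤ N[X]) ⟨h0, hn⟩
  obtain ⟨x, hx, hx1⟩ := exists_mem_ne_one h1
  refine ⟨x, hMV hx, hx1, fun a ha => ?_⟩
  have hM := hV.of_le hMV
  have hz : zpowers a ≤ A := zpowers_le.2 ha
  by_cases h3 : ⁅M, zpowers a⁆ = ⊥
  · left
    rw [← mem_C_comm (comm_eq_bot.1 h3) hx (mem_zpowers a), mul_inv_cancel_right]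
  · right
    have h4 := hmin _ ⟨h3, normR h2 (abel_norm hA.abel hz)⟩ (commL (hz.trans h2))
    have h5 := cop_abel_C_comm hM (hz.trans h2) (((hA.pig Nat.prime_two).of_le hz).coprime
      (ho.of_le hMV))
    rw [h4, C_zpowers] at h5
    have h6 : x * (a * x * a⁻¹) ∈ M ⊓ C1[a] := by
      refine mem_inf.2 ⟨mul_mem hx (conj_mem (h2 ha) hx), mem_C1.2 ?_⟩
      have h7 : a⁻¹ = a := inv_eq_of_mul_eq_one_right (by rw [← sq]; exact hA.2 a ha)
      rw [mem_C_comm hM hx (conj_mem (h2 ha) hx)]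
      calc a * x * a⁻¹ * x * a = a * (x * (a⁻¹ * x * a)) := by group
        _ = _ := by rw [h7, mem_C_comm hM hx (by simpa [h7] using conj_mem (h2 ha) hx)]
    rw [h5, mem_bot] at h6
    exact eq_inv_of_mul_eq_one_right h6

theorem exists_faithful_abel {A L : Subgroup G} (hA : Abelem 2 A) (ho : PiG {2}ᶜ L) (hs : Sol L)
    (hn : A ≤ N[L]) : ∃ V ≤ L, Abel V ∧ A ≤ N[V] ∧ A ⊓ C[V] ≤ C[L] := by
  obtain ⟨V, -, ⟨h1, h2, h3, h4⟩, hmax⟩ := exists_maximal
    (P := fun X => X ≤ F[L] ∧ Abel X ∧ A ≤ N[X] ∧ F[L] ≤ N[X])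
    ⟨bot_le, abel_bot, norm_bot _, norm_bot _⟩
  have hF := F_le L
  have h5 : F[L] ⊓ C[V] ≤ V := by
    by_contra hne
    have hlt : V < F[L] ⊓ C[V] := lt_of_le_of_ne (le_inf h1 h2) fun e => hne e.ge
    have n1 : F[L] ≤ N[F[L] ⊓ C[V]] := normI (normG _) (normC h4)
    have n2 : A ≤ N[F[L] ⊓ C[V]] := normI (normF hn) (normC h3)
    have h6 := ((F_nil L).im (quo V)).meet_C (K := (F[L] ⊓ C[V]) ÷ V) (im_mono inf_le_left)
      (im_norm n1) fun e => hne ((quo_bot_iff (inf_le_left.trans h4)).1 e)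
    obtain ⟨x', hx', hx1, he⟩ := exists_eigen (hA.im (quo V))
      (centSS le_rfl inf_le_right (inf_le_left.trans (im_mono inf_le_left)))
      (((ho.of_le (inf_le_left.trans hF)).im _).of_le inf_le_left)
      (normI (im_norm n2) (normC (im_norm (normF hn)))) h6
    obtain ⟨x, hx, rfl⟩ := (mem_im' (φ := quo V) (inf_le_left.trans h4)).1 hx'.1
    have hxN : zpowers x ≤ N[V] := zpowers_le.2 (h4 hx.1)
    have hz : zpowers x ⊔ V ≤ N[V] := sup_le hxN (normG V)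
    have e : (zpowers x ⊔ V) ÷ V = zpowers ((quo V).app x) := by
      rw [im_sup hxN (normG V), quo_self, sup_bot_eq, im_zpowers (h4 hx.1)]
    have := hmax (zpowers x ⊔ V) ⟨sup_le (zpowers_le.2 hx.1) h1,
      (abel_zpowers x).sup h2 (zpowers_le.2 hx.2), norm_of_im (φ := quo V) h3 hz (by simp) (by
        rw [e]
        refine fun a ha => mem_N_of fun y ⟨k, hk⟩ => ?_
        rw [← hk, ← conj_zpow]
        rcases he a ha with h | h <;> rw [h]
        · exact zpow_mem (mem_zpowers _) k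
        · exact zpow_mem (inv_mem (mem_zpowers _)) k),
      norm_of_im (φ := quo V) h4 hz (by simp) (by
        rw [e]; exact cents_norm (cent_symm (zpowers_le.2 hx'.2)))⟩ le_sup_right
    refine hx1 (mem_ker.1 (?_ : x ∈ (quo V).ker)).2
    rw [quo_ker, ← this]
    exact mem_sup_left (mem_zpowers x)
  refine ⟨V, h1.trans hF, h2, h3, ?_⟩
  have c : (#(A ⊓ C[V])).Coprime #L := ((hA.pig Nat.prime_two).of_le inf_le_left).coprime ho
  have h6 := cop_self_cent (F_nil L) (inf_le_left.trans (normF hn)) (coprimeS c le_rfl hF) h1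
    (cent_symm inf_le_right) h5
  refine cent_symm (cop_cent_of_comm_cent (inf_le_left.trans hn) c (Or.inr hs) ?_)
  exact (le_inf (commL (inf_le_left.trans hn)) ((commS le_rfl h6).trans
    (commR (normC (F_norm L))))).trans ((C_F_le hs).trans (cent_symm h6))

theorem dihedral_basis {A V : Subgroup G} (hA : Abelem 2 A) (hV : Abel V) (ho : PiG {2}ᶜ V)
    (hn : A ≤ N[V]) (hf : A ⊓ C[V] = ⊥) (k : ℕ) : ∀ B ≤ A, #B = 2 ^ k →
    ∃ b y : Fin k → G, (∀ i, b i ∈ B ∧ y i ∈ V ∧ y i ≠ 1 ∧ b i * y i * (b i)⁻¹ = (y i)⁻¹ ∧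
      (∀ a ∈ A, a * y i * a⁻¹ = y i ∨ a * y i * a⁻¹ = (y i)⁻¹) ∧
      ∀ j, j ≠ i → b j * y i * (b j)⁻¹ = y i) ∧ B ≤ ⨆ i, zpowers (b i) := by
  classical
  have hodd : ∀ y ∈ V, y = y⁻¹ → y = 1 := fun y hy e =>
    (pie_of_pow Nat.prime_two (by rw [sq]; exact mul_eq_one_iff_eq_inv.2 e)).eq_one (ho.elt hy)
  induction k with
  | zero =>
    intro B _ hB
    exact ⟨Fin.elim0, Fin.elim0, fun i => i.elim0, (card_eq_one.1 hB).le.trans bot_le⟩
  | succ k ih =>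
    intro B hBA hB
    obtain ⟨b, hb, hb1⟩ := exists_mem_ne_one (A := B) (by
      rintro rfl
      rw [card_bot'] at hB
      exact absurd hB (Nat.one_lt_two_pow (by omega)).ne)
    have hz : zpowers b ≤ A := zpowers_le.2 (hBA hb)
    have h1 : ⁅V, zpowers b⁆ ≠ ⊥ := fun e => hb1 (by
      rw [← mem_bot, ← hf]; exact ⟨hBA hb, comm_eq_bot'.1 e (mem_zpowers b)⟩)
    have h2 := commL (hz.trans hn)
    obtain ⟨x, hx, hx1, he⟩ := exists_eigen hA (hV.of_le h2) (ho.of_le h2)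
      (normR hn (abel_norm hA.abel hz)) h1
    have hc : ∀ a, a ∈ C1[x] ↔ a * x * a⁻¹ = x := fun a => by
      rw [mem_C1, mul_inv_eq_iff_eq_mul]
    have hbx : b * x * b⁻¹ = x⁻¹ := (he b (hBA hb)).resolve_left fun e => hx1 (by
      rw [← mem_bot, ← cop_abel_C_comm hV (hz.trans hn) (((hA.pig Nat.prime_two).of_le hz).coprime ho)]
      exact ⟨hx, by rw [C_zpowers]; exact C1_symm ((hc b).2 e)⟩)
    have hi : (C1[x]).relIndex B = 2 := by
      rw [relIndex_eq_two_iff]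
      refine ⟨b, hb, fun a ha => ?_⟩
      rw [hc, hc]
      have : a * b * x * (a * b)⁻¹ = (a * x * a⁻¹)⁻¹ := by
        calc a * b * x * (a * b)⁻¹ = a * (b * x * b⁻¹) * a⁻¹ := by group
          _ = _ := by rw [hbx]; group
      rw [this]
      rcases he a (hBA ha) with h | h <;> rw [h]
      · exact Or.inr ⟨rfl, fun e => hx1 (hodd x (h2 hx) e.symm)⟩
      · exact Or.inl ⟨inv_inv x, fun e => hx1 (hodd x (h2 hx) e.symm)⟩
    obtain ⟨c, y, h3, h4⟩ := ih (C1[x] ⊓ B) (inf_le_right.trans hBA) (by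
      have := card_inf_mul_relIndex C1[x] B
      rw [hi, hB, pow_succ] at this
      omega)
    have hcA : ∀ i, c i ∈ A := fun i => hBA (h3 i).1.2
    have key : ∀ s : Finset (Fin k), ∃ a ∈ B, a * x * a⁻¹ = x⁻¹ ∧ ∀ i ∈ s, a * y i * a⁻¹ = y i := by
      intro s
      induction s using Finset.induction_on with
      | empty => exact ⟨b, hb, hbx, by simp⟩
      | insert i s hi ih =>
        obtain ⟨a, ha, h5, h6⟩ := ih
        rcases (h3 i).2.2.2.2.1 a (hBA ha) with h | h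
        · exact ⟨a, ha, h5, by simpa [h] using h6⟩
        · have e : ∀ w, a * c i * w * (a * c i)⁻¹ = a * (c i * w * (c i)⁻¹) * a⁻¹ := fun w => by group
          refine ⟨a * c i, mul_mem ha (h3 i).1.2, by rw [e, (hc _).1 (h3 i).1.1, h5], fun j hj => ?_⟩
          rcases Finset.mem_insert.1 hj with rfl | hj
          · rw [e, (h3 j).2.2.2.1, ← conj_inv, h, inv_inv]
          · rw [e, (h3 j).2.2.2.2.2 i (by rintro rfl; exact hi hj), h6 j hj]
    obtain ⟨a, ha, h5, h6⟩ := key Finset.univ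
    refine ⟨Fin.cons a c, Fin.cons x y, fun i => ?_, ?_⟩
    · refine Fin.cases ?_ (fun i => ?_) i
      · refine ⟨ha, h2 hx, hx1, h5, he, fun j => Fin.cases (fun e => absurd rfl e) (fun j _ => ?_) j⟩
        exact (hc _).1 (h3 j).1.1
      · refine ⟨(h3 i).1.2, (h3 i).2.1, (h3 i).2.2.1, (h3 i).2.2.2.1, (h3 i).2.2.2.2.1,
          fun j => Fin.cases (fun _ => h6 i (Finset.mem_univ _)) (fun j e => ?_) j⟩
        exact (h3 i).2.2.2.2.2 j fun e' => e (congrArg _ e')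
    · have h7 : C1[x] ⊓ B ≤ ⨆ i, zpowers ((Fin.cons a c : Fin (k + 1) → G) i) :=
        h4.trans (iSup_le fun i => le_iSup_of_le i.succ le_rfl)
      have h8 : a ∈ ⨆ i, zpowers ((Fin.cons a c : Fin (k + 1) → G) i) :=
        (le_iSup_of_le 0 le_rfl : zpowers a ≤ _) (mem_zpowers a)
      intro w hw
      rcases he w (hBA hw) with h | h
      · exact h7 ⟨(hc w).2 h, hw⟩
      · rw [← inv_mul_cancel_left a w]
        refine mul_mem (inv_mem h8) (h7 ⟨(hc _).2 ?_, mul_mem ha hw⟩)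
        calc a * w * x * (a * w)⁻¹ = a * (w * x * w⁻¹) * a⁻¹ := by group
          _ = _ := by rw [h, ← conj_inv, h5, inv_inv]

end

end Cfsg.Agent.H8
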