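import Cfsg.Agent.Gol.Sub

/-! # Fixed point counts in `L₅(2)` and `M₂₄` -/

set_option autoImplicit false
set_option linter.unusedVariables false
set_option maxRecDepth 100000

namespace Cfsg.Agent.H8Q
open Equiv Finset Cfsg.Agent.Gol

theorem fix_mod {α : Type*} [Fintype α] [DecidableEq α] {σ τ : Perm α} {p : ℕ} (hp : p.Prime) (h : σ ^ p = 1)
    (c : σ * τ = τ * σ) : (univ.filter fun a => τ a = a).card ≡ (univ.filter fun a => τ a = a ∧ σ a = a).card [MOD p] := by
  haveI := Fact.mk hp
  have k : ∀ a, τ (σ a) = σ a ↔ τ a = a := fun a => by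
    rw [← Perm.mul_apply, ← c, Perm.mul_apply, σ.apply_eq_iff_eq]
  have := Perm.card_fixedPoints_modEq (f := (σ.subtypePerm k : {a // τ a = a} → {a // τ a = a})) (p := p) (n := 1) (by
    rw [pow_one]
    show (σ.subtypePerm k)^[p] = id
    rw [← Perm.coe_pow, Perm.subtypePerm_pow]; ext a; simp [h])
  rw [Fintype.card_subtype, Fintype.card_congr (β := {a // τ a = a ∧ σ a = a}) ⟨fun a => ⟨a.1.1, a.1.2, congrArg Subtype.val a.2⟩,
    fun a => ⟨⟨a.1, a.2.1⟩, Subtype.ext a.2.2⟩, fun _ => rfl, fun _ => rfl⟩, Fintype.card_subtype] at this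
  exact this

theorem V32 {V : Type*} [AddCommGroup V] [Module (ZMod 2) V] [Fintype V] [DecidableEq V] (cV : Nat.card V = 32) (v2 : ∀ v : V, -v = v)
    {x a : V ≃ₗ[ZMod 2] V} (x5 : x ^ 5 = 1) (x1 : x ≠ 1) (a2 : a ^ 2 = 1) (a1 : a ≠ 1) (c : a * x = x * a) : False := by
  let ρ : (V ≃ₗ[ZMod 2] V) →* Perm V := MulAction.toPermHom _ _
  let φ : (V ≃ₗ[ZMod 2] V) → V →+ V := fun g => g.toLinearMap.toAddMonoidHom - AddMonoidHom.id V
  have m : ∀ g v, v ∈ (φ g).ker ↔ ρ g v = v := fun g v => sub_eq_zero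
  have k : ∀ g, (univ.filter fun v => ρ g v = v).card = Nat.card (φ g).ker := fun g => by
    rw [← Fintype.card_subtype, ← Nat.card_eq_fintype_card]; exact Nat.card_congr (Equiv.subtypeEquivRight fun v => (m g v).symm)
  have k2 : ∀ g, g ≠ 1 → Nat.card (φ g).ker ≡ 2 [MOD 5] → Nat.card (φ g).ker = 2 := fun g n e => by
    have d := cV ▸ (φ g).ker.card_addSubgroup_dvd_card
    have : Nat.card (φ g).ker ≠ 32 := fun e => n (LinearEquiv.ext fun v =>
      (m g v).1 ((AddSubgroup.eq_top_of_card_eq _ (e.trans cV.symm)) ▸ trivial))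
    have := Nat.le_of_dvd (by decide) d
    generalize Nat.card (φ g).ker = n at *
    interval_cases n <;> simp_all [Nat.ModEq]
  have x5 : ρ x ^ 5 = 1 := by rw [← map_pow, x5, map_one]
  have a2 : ρ a ^ 2 = 1 := by rw [← map_pow, a2, map_one]
  have c' : ρ a * ρ x = ρ x * ρ a := by rw [← map_mul, c, map_mul]
  have h1 := fix_mod (τ := 1) (by decide) x5 (by simp)
  simp only [Perm.one_apply, true_and, filter_true, card_univ, k, ← Nat.card_eq_fintype_card, cV] at h1
  have h2 := k2 x x1 (h1.symm.trans (by decide))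
  have h3 := fix_mod Nat.prime_two a2 c'
  have h4 := fix_mod (by decide) x5 c'.symm
  have h5 : (univ.filter fun v => ρ x v = v ∧ ρ a v = v).card ≤ 2 :=
    (card_le_card (monotone_filter_right _ fun _ _ => And.left)).trans ((k x).trans h2).le
  have h6 : 0 < (univ.filter fun v => ρ x v = v ∧ ρ a v = v).card :=
    card_pos.2 ⟨0, mem_filter.2 ⟨mem_univ _, (m x 0).1 (zero_mem _), (m a 0).1 (zero_mem _)⟩⟩
  simp only [and_comm (b := ρ x _ = _), k] at h4
  rw [k, h2, Nat.ModEq] at h3
  have h7 := k2 a a1 (by rwa [show (univ.filter fun v => ρ x v = v ∧ ρ a v = v).card = 2 by omega] at h4)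
  have h8 := AddSubgroup.card_le_of_le (show (φ a).range ≤ (φ a).ker by
    rintro _ ⟨v, rfl⟩
    rw [m]
    show a (a v - v) = a v - v
    rw [map_sub, show a (a v) = v from congrArg (fun σ : Perm _ => σ v) a2, ← neg_sub, v2])
  have h9 := (φ a).ker.card_mul_index
  rw [AddSubgroup.index_ker, cV] at h9
  rw [h7] at h8 h9; omega

theorem L52 {x a : Matrix.SpecialLinearGroup (Fin 5) (ZMod 2)} (hx : orderOf x = 5) (ha : orderOf a = 2) (c : a * x = x * a) :
    False := by
  let ρ : Matrix.SpecialLinearGroup (Fin 5) (ZMod 2) →* (Fin 5 → ZMod 2) ≃ₗ[ZMod 2] (Fin 5 → ZMod 2) :=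
    Matrix.SpecialLinearGroup.toLin'
  have n : ∀ g, ρ g = 1 → g = 1 := fun g e => Subtype.ext (Matrix.toLin'.injective (LinearMap.ext fun v =>
    (LinearEquiv.ext_iff.1 e v).trans (by simp)))
  exact V32 (V := Fin 5 → ZMod 2) (x := ρ x) (a := ρ a) (by simp) (fun v => funext fun i => ZMod.neg_eq_self_mod_two _)
    (by rw [← map_pow, orderOf_dvd_iff_pow_eq_one.1 hx.dvd, map_one]) (fun e => by simp [n x e] at hx)
    (by rw [← map_pow, orderOf_dvd_iff_pow_eq_one.1 ha.dvd, map_one]) (fun e => by simp [n a e] at ha)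
    (by rw [← map_mul, c, map_mul])

theorem fix8 {g : M24} (n : g ≠ 1) : (univ.filter fun p => (g : Perm GolayPt) p = p).card ≤ 8 := by
  by_contra h
  obtain ⟨s, hs, h5⟩ := exists_subset_card_eq (show 5 ≤ (univ.filter fun p => (g : Perm GolayPt) p = p).card by omega)
  have nd := s.nodup_toList
  have mm : ∀ p ∈ s.toList, g • p = p := fun p hp => (mem_filter.1 (hs (mem_toList.1 hp))).2
  rw [← length_toList] at h5
  obtain ⟨a, b, c, d, e, q⟩ : ∃ a b c d e, s.toList = [a, b, c, d, e] := by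
    match s.toList, h5 with
    | [a, b, c, d, e], _ => exact ⟨_, _, _, _, _, rfl⟩
  rw [q] at nd mm
  obtain ⟨k, rfl, rfl, rfl, rfl, rfl⟩ := std5 nd
  have c1 : chainOk [] [([8391797, 2162811], []), ([8394986, 262637], []), ([262637, 10558], []), ([8421811], []), ([262637], []), ([525274, 9440193], []), ([8455014], []), ([525274], []), ([2687905], []), ([2101096], [9440193]), ([2101096], []), ([72588], []), ([2702848], []), ([290352], []), ([675712], []), ([], [12594948]), ([], [])] (m24Chain.drop 5) 8388623 = true := by decide +kernel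
  have c2 : enumG (headGens (m24Chain.drop 5)) (lall fun c => decide ((∀ i ∈ range 24, ap c i = i) ∨
    ((range 24).filter fun i => ap c i = i).card ≤ 8)) = true := by decide +kernel
  obtain ⟨l, a1, a2, -⟩ := enumG_sound c2
  obtain ⟨c, hc, r⟩ := a2 (k⁻¹ * g * k) ((chainOk_sound c1).2 ⟨fun p hp => by
    have : k • p ∈ [k • pt 23, k • pt 0, k • pt 1, k • pt 2, k • pt 3] :=
      List.mem_map_of_mem (l := [pt 23, pt 0, pt 1, pt 2, pt 3]) (by clear mm nd q; revert p; decide +kernel)
    rw [mul_smul, mul_smul, mm _ this, inv_smul_smul], by simp⟩)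
  rcases of_decide_eq_true (lall_iff.1 a1 c hc) with e | e
  · exact n (by simpa [mul_assoc, inv_mul_eq_one] using (M24_ext fun i hi => by rw [(r i hi).2, e i (mem_range.2 hi), one_smul] : k⁻¹ * g * k = 1))
  refine h (le_trans (card_le_card_of_injOn (fun p => idx (k⁻¹ • p)) (fun p hp => ?_) fun p _ q _ e => ?_) e)
  · have := r _ (idx_lt (k⁻¹ • p))
    rw [pt_idx, mul_smul, mul_smul, smul_inv_smul, show g • p = p from (mem_filter.1 hp).2] at this
    exact mem_filter.2 ⟨mem_range.2 (idx_lt _), ((congrArg idx this.2).trans (idx_pt this.1)).symm⟩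
  · simpa using idx_inj e

theorem M24' {x a b : M24} (hx : orderOf x = 7) (ha : orderOf a = 2) (hb : orderOf b = 2) (n : a ≠ b)
    (ab : a * b = b * a) (c : a * x = x * a) (c' : b * x = x * b) : False := by
  have x7 : (x : Perm GolayPt) ^ 7 = 1 := by rw [← Subgroup.coe_pow, ← hx, pow_orderOf_eq_one]; rfl
  have h1 := fix_mod (τ := 1) (by decide) x7 (by simp)
  have h2 := fix8 (g := x) (by rintro rfl; simp at hx)
  simp only [Perm.one_apply, true_and, filter_true, card_univ, card_pt, Nat.ModEq] at h1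
  have h3 : Fintype.card {p // (x : Perm GolayPt) p = p} = 3 := by rw [Fintype.card_subtype]; omega
  have k : ∀ {t : M24}, t * x = x * t → ∀ p, (x : Perm GolayPt) ((t : Perm GolayPt) p) = (t : Perm GolayPt) p ↔
      (x : Perm GolayPt) p = p := fun {t} e p => by
    rw [← Perm.mul_apply, ← Subgroup.coe_mul, ← e, Subgroup.coe_mul, Perm.mul_apply, EmbeddingLike.apply_eq_iff_eq]
  have key : ∀ {t : M24} (e : t * x = x * t), t * t = 1 → t ≠ 1 → (t : Perm GolayPt).subtypePerm (k e) ≠ 1 := fun {t} e t2 t1 q => by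
    have a1 := fix_mod (τ := 1) (σ := (t : Perm GolayPt)) Nat.prime_two (by rw [pow_two]; exact congrArg Subtype.val t2) (by simp)
    have a2 := fix_mod (by decide) x7 (congrArg Subtype.val e.symm)
    have a3 := fix8 t1
    rw [filter_congr (p := fun p => (t : Perm GolayPt) p = p ∧ _) (q := fun p => (x : Perm GolayPt) p = p) fun p _ =>
      ⟨And.right, fun h => ⟨congrArg Subtype.val (Perm.ext_iff.1 q ⟨p, h⟩), h⟩⟩, ← Fintype.card_subtype fun p => (x : Perm GolayPt) p = p,
      h3] at a2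
    simp only [Perm.one_apply, true_and, filter_true, card_univ, card_pt, Nat.ModEq] at a1 a2
    omega
  have a2 : a * a = 1 := by rw [← pow_two, ← ha, pow_orderOf_eq_one]
  have b2 : b * b = 1 := by rw [← pow_two, ← hb, pow_orderOf_eq_one]
  have k1 := key c a2 (by rintro rfl; simp at ha)
  have k2 := key c' b2 (by rintro rfl; simp at hb)
  have k3 := key (t := a * b) (by rw [mul_assoc, c', ← mul_assoc, c, mul_assoc])
    (by rw [mul_assoc, ← mul_assoc b, ← ab, mul_assoc, b2, mul_one, a2]) fun e => n (by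
      rw [eq_inv_of_mul_eq_one_left e, inv_eq_of_mul_eq_one_left b2])
  let e := (Fintype.equivFinOfCardEq h3).permCongrHom
  have : ∀ α β : Perm (Fin 3), α * α = 1 → β * β = 1 → α * β = β * α → α = 1 ∨ β = 1 ∨ α * β = 1 := by decide
  have := this (e ((a : Perm GolayPt).subtypePerm (k c))) (e ((b : Perm GolayPt).subtypePerm (k c')))
  simp only [← map_mul, map_eq_one_iff _ e.injective, EmbeddingLike.apply_eq_iff_eq, Perm.subtypePerm_mul, ← Subgroup.coe_mul] at this
  simp only [a2, b2, ab] at this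
  simp only [ab] at k3
  rcases this (Perm.ext fun _ => rfl) (Perm.ext fun _ => rfl) trivial with e | e | e <;> contradiction

end Cfsg.Agent.H8Q
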