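import Cfsg.Agent.Cov.An
import Cfsg.Agent.Spor.DC

/-! # Carmichael's presentation with values of the generators; the order bound for `2.A11` -/

set_option autoImplicit false
set_option linter.unusedVariables false

namespace Cfsg.Agent.H8Ly
open Subgroup Equiv Cfsg.Agent.Cov Cfsg.Agent.Spor

section
variable {α : Type*} [Fintype α] [DecidableEq α] {H : Type*} [Group H]

/-- Carmichael's presentation of the alternating group, as a splitting criterion. -/
theorem exists_section_val (π : H →* alternatingGroup α) {o s : α} (hs : s ≠ o) (x : α → H)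
    (hx : ∀ i, i ≠ o → i ≠ s → (π (x i) : Perm α) = swap o s * swap o i)
    (h1 : ∀ i, i ≠ o → i ≠ s → x i * x i * x i = 1)
    (h2 : ∀ i j, i ≠ o → i ≠ s → j ≠ o → j ≠ s → i ≠ j → x i * x j * x i * x j = 1) :
    ∃ ψ : alternatingGroup α →* H, ∀ (a : alternatingGroup α) i, i ≠ o → i ≠ s →
      (a : Perm α) = swap o s * swap o i → ψ a = x i := by
  let L : α → H := fun i => if i = s then 1 else x i
  have hL : ∀ i, i ≠ o → (π (L i) : Perm α) = swap o s * swap o i := fun i hi => by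
    by_cases e : i = s
    · simp [L, e]
    · simp [L, e, hx i hi e]
  have i1 : ∀ i, i ≠ o → i ≠ s → (x i)⁻¹ = x i * x i := fun i a b =>
    inv_eq_of_mul_eq_one_left (h1 i a b)
  have r1 : ∀ i j, i ≠ o → j ≠ o → i ≠ j → L i * (L j)⁻¹ * L i = L j * (L i)⁻¹ * L j := by
    intro i j hi hj hij
    by_cases e1 : i = s
    · subst e1; simp [L, hij.symm, i1 j hj hij.symm]
    by_cases e2 : j = s
    · subst e2; simp [L, e1, i1 i hi e1]
    simp only [L, e1, e2, if_false]
    have := carm1 (h1 i hi e1) (h1 j hj e2) (one_mem _) (h2 i j hi e1 hj e2 hij)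
    rw [one_pow, one_mul] at this
    rw [← mul_inv_eq_one, ← this]; group
  have r2 : ∀ i j k, i ≠ o → j ≠ o → k ≠ o → i ≠ j → k ≠ i → k ≠ j →
      L k * (L i * (L j)⁻¹ * L i)⁻¹ * L k = L i * (L j)⁻¹ * L i := by
    intro i j k hi hj hk hij hki hkj
    have q : ∀ i j, i ≠ o → i ≠ s → j ≠ o → j ≠ s → i ≠ j → x i * x j * x i = (x j)⁻¹ :=
      fun i j a b c d e => eq_inv_of_mul_eq_one_left (h2 i j a b c d e)
    by_cases e1 : i = s
    · subst e1; simp [L, hij.symm, hki, q k j hk hki hj hij.symm hkj]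
    by_cases e2 : j = s
    · subst e2
      simp only [L, e1, hkj, if_false, if_true, inv_one, mul_one]
      rw [← i1 i hi e1, inv_inv, q k i hk hkj hi e1 hki]
    have q2 : x i * (x j)⁻¹ * x i = (x i)⁻¹ * x j * (x i)⁻¹ := by
      rw [← q i j hi e1 hj e2 hij, i1 i hi e1]; simp only [mul_assoc]
    by_cases e3 : k = s
    · subst e3
      simp only [L, e1, e2, if_false, if_true, one_mul, mul_one]
      nth_rw 2 [q2]; group
    simp only [L, e1, e2, e3, if_false]
    have q3 : x k * (x i)⁻¹ = (x i)⁻¹ * ((x k)⁻¹ * x i) := by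
      rw [← q i k hi e1 hk e3 hki.symm, i1 i hi e1]
      simp only [mul_assoc]; rw [← mul_assoc (x i) (x i) (x i * _), ← mul_assoc (x i * x i), h1 i hi e1,
        one_mul]
    have q4 : (x i)⁻¹ * x k = x i * ((x k)⁻¹ * (x i)⁻¹) := by
      rw [← q i k hi e1 hk e3 hki.symm, i1 i hi e1]
      simp only [mul_assoc]; rw [← mul_assoc (x i) (x i) (x i), h1 i hi e1, mul_one]
    have q5 : x i * (x j * x i) = (x j)⁻¹ := by rw [← mul_assoc, q i j hi e1 hj e2 hij]
    have q6 : (x k)⁻¹ * ((x j)⁻¹ * (x k)⁻¹) = x j := by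
      refine inv_injective (Eq.trans ?_ (q k j hk e3 hj e2 hkj)); group
    calc x k * (x i * (x j)⁻¹ * x i)⁻¹ * x k = (x k * (x i)⁻¹) * x j * ((x i)⁻¹ * x k) := by group
      _ = (x i)⁻¹ * ((x k)⁻¹ * ((x i * (x j * x i)) * (x k)⁻¹)) * (x i)⁻¹ := by
        rw [q3, q4]; group
      _ = _ := by rw [q5, q6, q2]
  obtain ⟨φ, hφ⟩ := hom_of_star o (fun i => flp (L i))
    (fun i _ => by ext1 ⟨_ | _, h⟩ <;> simp)
    (fun i j hi hj hij => by
      have := r1 i j hi hj hij
      ext1 ⟨_ | _, h⟩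
      · simp [← mul_assoc, this]
      · have := congrArg (·⁻¹) this
        simp only [mul_inv_rev, inv_inv, ← mul_assoc] at this
        simp [← mul_assoc, this])
    (fun i j k hi hj hk hij hki hkj => by
      have := r2 i j k hi hj hk hij hki hkj
      simp only [mul_inv_rev, inv_inv, ← mul_assoc] at this
      ext1 ⟨_ | _, h⟩
      · simp [← mul_assoc, this]
      · have := congrArg (·⁻¹) this
        simp only [mul_inv_rev, inv_inv, ← mul_assoc] at this
        simp [← mul_assoc, this])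
  let ev : Bool × H → Perm α := fun p => if p.1 then swap o s * π p.2 else π p.2
  have k1 : ∀ σ p, ev (φ σ p) = σ * ev p := by
    intro σ
    induction σ using star_induction o with
    | h1 => simp
    | h2 i σ hi ih =>
      intro p
      rw [map_mul, Perm.mul_apply, mul_assoc, ← ih, hφ i hi]
      obtain ⟨_ | _, h⟩ := φ σ p
      · simp [ev, hL i hi, ← mul_assoc]
      · simp [ev, hL i hi, ← mul_assoc]
  have k2 : ∀ σ p g, φ σ (p.1, p.2 * g) = ((φ σ p).1, (φ σ p).2 * g) := by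
    intro σ
    induction σ using star_induction o with
    | h1 => simp
    | h2 i σ hi ih =>
      intro p g
      rw [map_mul, Perm.mul_apply, Perm.mul_apply, ih, hφ i hi]
      obtain ⟨_ | _, h⟩ := φ σ p <;> simp [mul_assoc]
  have k3 : ∀ (a : alternatingGroup α) g, φ a (false, g) = (false, (φ a (false, 1)).2 * g) ∧
      π (φ a (false, 1)).2 = a := by
    intro a g
    have e1 := k1 a (false, 1)
    have e2 := k2 a (false, 1) g
    simp only [one_mul] at e2
    rw [e2]
    generalize φ a (false, 1) = p at *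
    obtain ⟨_ | _, h⟩ := p
    · exact ⟨rfl, Subtype.ext (by simpa [ev] using e1)⟩
    · have := congrArg Perm.sign e1
      simp [ev, Perm.sign_swap hs.symm, Perm.mem_alternatingGroup.1 a.2,
        Perm.mem_alternatingGroup.1 (π h).2] at this
  refine ⟨MonoidHom.mk' (fun a => (φ a (false, 1)).2) (fun a b => ?_), fun a i h1 h2 e => ?_⟩
  · rw [Subgroup.coe_mul, map_mul, Perm.mul_apply, (k3 b 1).1, (k3 a _).1, mul_one]
  · show (φ a (false, 1)).2 = x i
    rw [e, map_mul, hφ s hs, hφ i h1]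
    simp [L, h2]

end

/-- the standard generating 3-cycles -/
def c3 (j : ℕ) : Perm (Fin 11) := swap 10 9 * swap 10 (Fin.ofNat 11 j)

theorem c3_mem (j : ℕ) (hj : j < 9) : c3 j ∈ alternatingGroup (Fin 11) := by
  rw [Perm.mem_alternatingGroup]; interval_cases j <;> decide

/-- the generators as elements of the alternating group -/
noncomputable def cA : ℕ → alternatingGroup (Fin 11) := lift _ c3

theorem cA_coe {j : ℕ} (hj : j < 9) : (cA j : Perm (Fin 11)) = c3 j := lift_coe (c3_mem j hj)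

theorem cA_top : gsub 9 cA = ⊤ := by
  refine eq_top_iff.2 fun a _ => ?_
  have key : ∀ σ : Perm (Fin 11), ∃ b ∈ gsub 9 cA, (b : Perm (Fin 11)) = σ ∨ (b : Perm (Fin 11)) = swap 10 9 * σ := by
    have m : ∀ i : Fin 11, i ≠ 10 → ∃ b ∈ gsub 9 cA, (b : Perm (Fin 11)) = swap 10 9 * swap 10 i := by
      intro i hi
      by_cases e : i = 9
      · exact ⟨1, one_mem _, by rw [e]; simp⟩
      · have h9 : i.1 < 9 := by omega
        exact ⟨cA i, mem_gsub _ h9, by rw [cA_coe h9, c3]; simp⟩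
    intro σ
    induction σ using star_induction (10 : Fin 11) with
    | h1 => exact ⟨1, one_mem _, Or.inl rfl⟩
    | h2 i σ hi ih =>
      obtain ⟨b, hb, e | e⟩ := ih
      · obtain ⟨d, hd, e2⟩ := m i hi
        exact ⟨d * b, mul_mem hd hb, Or.inr (by rw [coe_mul, e, e2, mul_assoc])⟩
      · obtain ⟨d, hd, e2⟩ := m i hi
        refine ⟨d⁻¹ * b, mul_mem (inv_mem hd) hb, Or.inl ?_⟩
        rw [coe_mul, coe_inv, e, e2]; simp [mul_assoc]
  obtain ⟨b, hb, e | e⟩ := key a
  · rwa [← Subtype.ext e]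
  · have := congrArg Perm.sign e
    rw [Perm.sign_mul, Perm.mem_alternatingGroup.1 a.2, Perm.mem_alternatingGroup.1 b.2,
      Perm.sign_swap (by decide)] at this
    exact absurd this (by decide)

/-- the Carmichael relations up to a central involution -/
structure Carm {G : Type*} [Group G] (x : ℕ → G) (z : G) : Prop where
  cube : ∀ i < 9, x i * x i * x i = 1
  sq : ∀ i < 9, ∀ j < 9, i ≠ j → x i * x j * x i * x j = z
  zz : z * z = 1
  comm : ∀ i < 9, x i * z = z * x i

theorem carm_cA : Carm cA 1 := by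
  refine ⟨fun i hi => Subtype.ext ?_, fun i hi j hj h => Subtype.ext ?_, mul_one _, fun _ _ => by simp⟩
  · simp only [coe_mul, cA_coe hi, coe_one]; revert i; decide +kernel
  · simp only [coe_mul, cA_coe hi, cA_coe hj, coe_one]; revert j; revert i; decide +kernel

theorem Carm.hom {G : Type*} [Group G] {x : ℕ → G} (h : Carm x 1) :
    ∃ ψ : alternatingGroup (Fin 11) →* G, ∀ j < 9, ψ (cA j) = x j := by
  have lt : ∀ i : Fin 11, i ≠ 10 → i ≠ 9 → i.1 < 9 := fun i a b => by omega
  obtain ⟨ψ, hψ⟩ := exists_section_val (MonoidHom.snd G (alternatingGroup (Fin 11))) (o := 10) (s := 9)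
    (by decide) (fun i => (x i, cA i))
    (fun i a b => by simp [cA_coe (lt i a b), c3])
    (fun i a b => Prod.ext (h.cube i (lt i a b)) (carm_cA.cube i (lt i a b)))
    (fun i j a b c d e => Prod.ext (h.sq i (lt i a b) j (lt j c d) (Fin.val_ne_of_ne e))
      (carm_cA.sq i (lt i a b) j (lt j c d) (Fin.val_ne_of_ne e)))
  refine ⟨(MonoidHom.fst _ _).comp ψ, fun j hj => ?_⟩
  have := hψ (cA j) ⟨j, by omega⟩ (by simp [Fin.ext_iff]; omega) (by simp [Fin.ext_iff]; omega)
    (by rw [cA_coe hj, c3]; congr 2; simp [Fin.ext_iff]; omega)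
  simp [this]

theorem card_A11 : Nat.card (alternatingGroup (Fin 11)) = 19958400 := by
  have := two_mul_nat_card_alternatingGroup (α := Fin 11)
  rw [Nat.card_perm, Nat.card_eq_fintype_card (α := Fin 11), Fintype.card_fin] at this
  have e : Nat.factorial 11 = 39916800 := by decide
  omega

theorem Carm.card_dvd {G : Type*} [Group G] {x : ℕ → G} {z : G} (h : Carm x z) :
    Nat.card (gsub 9 x) ∣ 2 * 19958400 := by
  have hz : z ∈ gsub 9 x := by
    rw [← h.sq 0 (by omega) 1 (by omega) (by omega)]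
    have a := mem_gsub x (show 0 < 9 by omega)
    have b := mem_gsub x (show 1 < 9 by omega)
    exact mul_mem (mul_mem (mul_mem a b) a) b
  let y := lift (gsub 9 x) x
  have hy : ∀ j < 9, (y j : G) = x j := fun j hj => lift_coe (mem_gsub x hj)
  let Z : Subgroup (gsub 9 x) := zpowers ⟨z, hz⟩
  have hc : (⟨z, hz⟩ : gsub 9 x) ∈ center (gsub 9 x) :=
    mem_center_iff.2 fun g => Subtype.ext (comm_of_gens h.comm _ g.2)
  haveI : Z.Normal := ⟨fun n hn g => by
    have := mem_center_iff.1 (zpowers_le.2 hc hn) g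
    rwa [this, mul_inv_cancel_right]⟩
  have h1 : Carm (fun j => (y j : gsub 9 x ⧸ Z)) 1 := by
    refine ⟨fun i hi => ?_, fun i hi j hj e => ?_, mul_one _, fun _ _ => by simp⟩
    · rw [← QuotientGroup.mk_mul, ← QuotientGroup.mk_mul, QuotientGroup.eq_one_iff]
      have : y i * y i * y i = 1 := Subtype.ext (by simp only [coe_mul, hy i hi, h.cube i hi, coe_one])
      rw [this]; exact one_mem _
    · rw [← QuotientGroup.mk_mul, ← QuotientGroup.mk_mul, ← QuotientGroup.mk_mul, QuotientGroup.eq_one_iff]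
      have : y i * y j * y i * y j = ⟨z, hz⟩ :=
        Subtype.ext (by simp only [coe_mul, hy i hi, hy j hj, h.sq i hi j hj e])
      rw [this]; exact mem_zpowers _
  obtain ⟨ψ, hψ⟩ := h1.hom
  have r := range_eq_gsub hψ cA_top
  rw [← gsub_map' (φ := QuotientGroup.mk' Z) (f := y) (g := fun j => (y j : gsub 9 x ⧸ Z)) (fun _ _ => rfl), gsub_lift,
    map_top_of_surjective _ (QuotientGroup.mk'_surjective Z)] at r
  have d := card_range_dvd ψ
  rw [r, card_top, card_A11] at d
  rw [← Z.card_mul_index]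
  refine Nat.mul_dvd_mul ?_ d
  rw [Nat.card_zpowers]
  exact orderOf_dvd_of_pow_eq_one (Subtype.ext (by simp [pow_two, h.zz]))

/-- relators of `2.A11` -/
def RC : List (List ℕ) :=
  ((List.range 9).map fun i => [2 * i, 2 * i, 2 * i]) ++
  ((List.range 9).flatMap fun i => ((List.range 9).filter (· != i)).map fun j =>
    [2 * i, 2 * j, 2 * i, 2 * j, 3, 1, 3, 1]) ++ [[0, 2, 0, 2, 0, 2, 0, 2]] ++
  ((List.range 9).map fun i => [2 * i, 0, 2, 0, 2, 2 * i + 1, 3, 1, 3, 1])

theorem atm_odd {G : Type*} [Group G] {n : ℕ} (f : ℕ → G) {j : ℕ} (hj : j < n) :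
    atm n f (2 * j + 1) = (f j)⁻¹ := by
  rw [atm_def, show (2 * j + 1) / 2 = j by omega, if_pos hj, if_neg (by omega)]

theorem pres_iff {G : Type*} [Group G] {x : ℕ → G} :
    Pres 9 0 RC x ↔ Carm x (x 0 * x 1 * x 0 * x 1) := by
  have a0 : atm 9 x 0 = x 0 := atm_two_mul x (j := 0) (by omega)
  have a1 : atm 9 x 1 = (x 0)⁻¹ := atm_odd x (j := 0) (by omega)
  have a2 : atm 9 x 2 = x 1 := atm_two_mul x (j := 1) (by omega)
  have a3 : atm 9 x 3 = (x 1)⁻¹ := atm_odd x (j := 1) (by omega)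
  have e1 : ∀ i < 9, (ev (atm 9 x) [2 * i, 2 * i, 2 * i] = 1 ↔ x i * x i * x i = 1) := fun i hi => by
    simp only [ev_cons, ev_nil, atm_two_mul x hi, mul_one, mul_assoc]
  have e2 : ∀ i < 9, ∀ j < 9, (ev (atm 9 x) [2 * i, 2 * j, 2 * i, 2 * j, 3, 1, 3, 1] = 1 ↔
      x i * x j * x i * x j = x 0 * x 1 * x 0 * x 1) := fun i hi j hj => by
    rw [← mul_inv_eq_one (a := x i * x j * x i * x j)]
    simp only [ev_cons, ev_nil, atm_two_mul x hi, atm_two_mul x hj, mul_one, mul_assoc, a1, a3, mul_inv_rev]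
  have e3 : (ev (atm 9 x) [0, 2, 0, 2, 0, 2, 0, 2] = 1 ↔
      x 0 * x 1 * x 0 * x 1 * (x 0 * x 1 * x 0 * x 1) = 1) := by
    simp only [ev_cons, ev_nil, mul_one, mul_assoc, a0, a2]
  have e4 : ∀ i < 9, (ev (atm 9 x) [2 * i, 0, 2, 0, 2, 2 * i + 1, 3, 1, 3, 1] = 1 ↔
      x i * (x 0 * x 1 * x 0 * x 1) = x 0 * x 1 * x 0 * x 1 * x i) := fun i hi => by
    rw [← mul_inv_eq_one (a := x i * _)]
    simp only [ev_cons, ev_nil, atm_two_mul x hi, atm_odd x hi, mul_one, mul_assoc, a0, a1, a2, a3, mul_inv_rev]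
  constructor
  · intro h
    refine ⟨fun i hi => (e1 i hi).1 (h.rel _ ?_), fun i hi j hj e => (e2 i hi j hj).1 (h.rel _ ?_),
      e3.1 (h.rel _ (by decide)), fun i hi => (e4 i hi).1 (h.rel _ ?_)⟩
    · revert i; decide
    · revert j; revert i; decide +kernel
    · revert i; decide +kernel
  · intro h
    refine ⟨fun _ h => absurd h (Nat.not_lt_zero _), fun l hl => ?_⟩
    simp only [RC, List.mem_append, List.mem_map, List.mem_range, List.mem_flatMap, List.mem_filter,
      List.mem_singleton, bne_iff_ne] at hl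
    rcases hl with ((⟨i, hi, rfl⟩ | ⟨i, hi, j, ⟨hj, e⟩, rfl⟩) | rfl) | ⟨i, hi, rfl⟩
    · exact (e1 i hi).2 (h.cube i hi)
    · exact (e2 i hi j hj).2 (h.sq i hi j hj e.symm)
    · exact e3.2 h.zz
    · exact (e4 i hi).2 (h.comm i hi)

theorem Carm.pres {G : Type*} [Group G] {x : ℕ → G} {z : G} (h : Carm x z) : Pres 9 0 RC x :=
  pres_iff.2 (by rw [h.sq 0 (by omega) 1 (by omega) (by omega)]; exact h)

theorem boundC : Bound 9 0 RC (2 * 19958400) := fun _ _ _ h => (pres_iff.1 h).card_dvd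

theorem Carm.inv {G : Type*} [Group G] {x : ℕ → G} {z : G} (h : Carm x z) : Carm (fun j => (x j)⁻¹) z := by
  have zi : z⁻¹ = z := inv_eq_of_mul_eq_one_right h.zz
  refine ⟨fun i hi => ?_, fun i hi j hj e => ?_, h.zz, fun i hi => ?_⟩
  · rw [← mul_inv_rev, ← mul_inv_rev, ← mul_assoc, h.cube i hi, inv_one]
  · rw [← zi, ← h.sq j hj i hi e.symm]; group
  · rw [inv_mul_eq_iff_eq_mul, ← mul_assoc, h.comm i hi, mul_inv_cancel_right]

end Cfsg.Agent.H8Ly
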