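import Cfsg.Agent.H8.LyA

/-! # Centralisers in `A11` by sifting through a stabiliser chain; classes of involutions -/

set_option autoImplicit false
set_option linter.unusedVariables false

namespace Cfsg.Agent.H8Ly
open Subgroup Equiv Cfsg.Agent.Spor

abbrev P11 := Perm (Fin 11)

def clo (L : List P11) (f : List (Fin 11 × Fin 11)) : List (Fin 11 × Fin 11) :=
  f ++ L.flatMap fun c => f.map fun p => (c p.1, c p.2)

def bad (F : List (Fin 11)) (f : List (Fin 11 × Fin 11)) : Bool :=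
  (f.any fun p => (F.contains p.1 || F.contains p.2) && p.1 != p.2) ||
    f.any fun p => f.any fun q => (p.1 == q.1) != (p.2 == q.2)

def grow (L : List P11) (F : List (Fin 11)) : List (Fin 11) :=
  (List.finRange 11).filter fun v => F.contains v || L.any fun c => F.any fun w => c w == v

def sift (L : List P11) (pe : List ℕ → P11) (α β : Fin 11) :
    List (Fin 11 × List (List ℕ)) → List (Fin 11) → Bool
  | [], F => (List.finRange 11).all fun p => p == α || p == β || F.contains p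
  | (p, ws) :: r, F =>
    ((List.finRange 11).all fun q => bad F (clo L (clo L [(p, q)])) || ws.any fun w => pe w p == q) &&
    (ws.all fun w => (F.all fun v => pe w v == v) &&
      L.all fun c => (List.finRange 11).all fun v => pe w (c v) == c (pe w v)) &&
    sift L pe α β r (grow L (grow L (grow L (p :: F))))

section
variable {L : List P11} {σ : P11} (hL : ∀ c ∈ L, σ * c = c * σ)
include hL

theorem clo_ok {f : List (Fin 11 × Fin 11)} (h : ∀ p ∈ f, σ p.1 = p.2) : ∀ p ∈ clo L f, σ p.1 = p.2 := by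
  intro p hp
  simp only [clo, List.mem_append, List.mem_flatMap, List.mem_map] at hp
  rcases hp with hp | ⟨c, hc, q, hq, rfl⟩
  · exact h p hp
  · have := congrArg (· q.1) (hL c hc)
    simpa [h q hq] using this

omit hL in
theorem bad_no {F : List (Fin 11)} (hF : ∀ v ∈ F, σ v = v) {f : List (Fin 11 × Fin 11)}
    (h : ∀ p ∈ f, σ p.1 = p.2) : bad F f = false := by
  rw [Bool.eq_false_iff]
  intro hb
  simp only [bad, Bool.or_eq_true, List.any_eq_true, Bool.and_eq_true, List.contains_iff_mem, bne_iff_ne] at hb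
  rcases hb with ⟨p, hp, h1 | h1, h2⟩ | ⟨p, hp, q, hq, h1⟩
  · exact h2 ((hF _ h1).symm.trans (h p hp))
  · exact h2 (σ.injective ((h p hp).trans (hF _ h1).symm))
  · apply h1
    rw [← h p hp, ← h q hq]
    by_cases e : p.1 = q.1 <;> simp [e]

theorem grow_ok {F : List (Fin 11)} (hF : ∀ v ∈ F, σ v = v) : ∀ v ∈ grow L F, σ v = v := by
  intro v hv
  simp only [grow, List.mem_filter, Bool.or_eq_true, List.contains_iff_mem, List.any_eq_true, beq_iff_eq] at hv
  rcases hv.2 with h | ⟨c, hc, w, hw, rfl⟩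
  · exact hF v h
  · have := congrArg (· w) (hL c hc)
    simpa [hF w hw] using this
end

theorem eq_one_of_fix {σ : P11} {α β : Fin 11} (h : ∀ p, p ≠ α → p ≠ β → σ p = p) (hs : Perm.sign σ = 1) :
    σ = 1 := by
  by_cases e : σ α = α
  · ext1 p
    by_cases e1 : p = α
    · rw [e1, e]; rfl
    by_cases e2 : p = β
    · by_contra n
      have n' : σ p ≠ p := n
      by_cases e3 : σ p = α
      · exact e1 (σ.injective (e3.trans e.symm))
      · exact n' (σ.injective (h _ e3 (e2 ▸ n')))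
    · exact h p e1 e2
  · exfalso
    have e1 : σ α = β := by
      by_contra n
      exact e (σ.injective (h _ e n))
    have ab : α ≠ β := fun q => e (e1.trans q.symm)
    have e2 : σ β = α := by
      by_contra n
      by_cases q : σ β = β
      · exact ab (σ.injective (e1.trans q.symm))
      · exact q (σ.injective (h _ n q))
    have : σ = swap α β := by
      ext1 p
      by_cases q1 : p = α
      · rw [q1, e1, swap_apply_left]
      by_cases q2 : p = β
      · rw [q2, e2, swap_apply_right]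
      · rw [h p q1 q2, swap_apply_of_ne_of_ne q1 q2]
    rw [this, Perm.sign_swap ab] at hs
    exact absurd hs (by decide)

section
variable {K : Type*} [Group K]

/-- product form -/
def InK (t : K) (a : ℕ → K) : List (List (List ℕ)) → K → Prop
  | [], z => z = 1 ∨ z = t
  | ws :: r, z => ∃ w ∈ ws, InK t a r ((ev a w)⁻¹ * z)

theorem InK.mem {t : K} {a : ℕ → K} {S : Subgroup K} (ht : t ∈ S) {r : List (List (List ℕ))}
    (h : ∀ ws ∈ r, ∀ w ∈ ws, ev a w ∈ S) {z : K} (hz : InK t a r z) : z ∈ S := by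
  induction r generalizing z with
  | nil => rcases hz with rfl | rfl; exacts [one_mem _, ht]
  | cons ws r ih =>
    obtain ⟨w, hw, h1⟩ := hz
    have := ih (fun ws h2 => h ws (List.mem_cons_of_mem _ h2)) h1
    simpa using mul_mem (h ws List.mem_cons_self w hw) this

theorem ev_mem_of_lets {n : ℕ} {κ : ℕ → K} {S : Subgroup K} {J : List ℕ} (h : ∀ j ∈ J, κ j ∈ S) {w : List ℕ}
    (hw : w.all (fun y => J.contains (y / 2)) = true) : ev (atm n κ) w ∈ S := by
  induction w with
  | nil => exact one_mem _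
  | cons y w ih =>
    simp only [List.all_cons, Bool.and_eq_true, List.contains_iff_mem] at hw
    rw [ev_cons]
    refine mul_mem ?_ (ih (by simpa using hw.2))
    rw [atm_def]
    split_ifs
    exacts [h _ hw.1, inv_mem (h _ hw.1), one_mem _]

theorem InK.mem_lets {t : K} {n : ℕ} {κ : ℕ → K} {S : Subgroup K} (ht : t ∈ S) {J : List ℕ}
    (h : ∀ j ∈ J, κ j ∈ S) {r : List (List (List ℕ))}
    (hr : r.all (fun ws => ws.all fun w => w.all fun y => J.contains (y / 2)) = true) {z : K}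
    (hz : InK t (atm n κ) r z) : z ∈ S :=
  hz.mem ht fun ws h1 w h2 => ev_mem_of_lets h (List.all_eq_true.1 (List.all_eq_true.1 hr ws h1) w h2)

theorem sift_sound {π : K →* P11} {t : K} (hk : ∀ z, π z = 1 → z = 1 ∨ z = t) (hs : ∀ z, Perm.sign (π z) = 1)
    {a : ℕ → K} {pe : List ℕ → P11} (hp : ∀ w, π (ev a w) = pe w) {L : List P11} {α β : Fin 11}
    (r : List (Fin 11 × List (List ℕ))) {F : List (Fin 11)} (h : sift L pe α β r F = true) {z : K}
    (hL : ∀ c ∈ L, π z * c = c * π z) (hF : ∀ v ∈ F, π z v = v) : InK t a (r.map (·.2)) z := by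
  induction r generalizing F z with
  | nil =>
    refine hk z (eq_one_of_fix (α := α) (β := β) (fun p h1 h2 => hF p ?_) (hs z))
    simpa [h1, h2] using List.all_eq_true.1 h p (List.mem_finRange p)
  | cons x r ih =>
    obtain ⟨p, ws⟩ := x
    simp only [sift, Bool.and_eq_true] at h
    obtain ⟨⟨h1, h2⟩, h3⟩ := h
    have h4 := List.all_eq_true.1 h1 (π z p) (List.mem_finRange _)
    rw [bad_no hF (clo_ok hL (clo_ok hL (by simp))), Bool.false_or, List.any_eq_true] at h4
    obtain ⟨w, hw, e⟩ := h4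
    have h5 := List.all_eq_true.1 h2 w hw
    simp only [Bool.and_eq_true, List.all_eq_true, beq_iff_eq] at h5 e
    have hL' : ∀ c ∈ L, π ((ev a w)⁻¹ * z) * c = c * π ((ev a w)⁻¹ * z) := fun c hc => by
      have : pe w * c = c * pe w := Equiv.ext fun v => h5.2 c hc v (List.mem_finRange v)
      rw [map_mul, map_inv, hp, mul_assoc, hL c hc, ← mul_assoc, ← mul_assoc]
      congr 1
      rw [inv_mul_eq_iff_eq_mul, ← mul_assoc, this, mul_inv_cancel_right]
    refine ⟨w, hw, ih h3 hL' (grow_ok hL' (grow_ok hL' (grow_ok hL' fun v hv => ?_)))⟩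
    rw [map_mul, map_inv, hp, Perm.mul_apply, Perm.inv_eq_iff_eq]
    rcases List.mem_cons.1 hv with rfl | hv
    · exact e.symm
    · rw [hF v hv, h5.1 v hv]
end

/-! ## involutions -/

theorem cyc_inv {σ : P11} (h : σ * σ = 1) : σ.cycleType = Multiset.replicate (σ.support.card / 2) 2 ∧
    σ.support.card = 2 * σ.cycleType.card := by
  haveI : Fact (Nat.Prime 2) := ⟨Nat.prime_two⟩
  have e := Perm.cycleType_of_pow_prime_eq_one (p := 2) (σ := σ) (by rw [pow_two, h])
  have s := σ.sum_cycleType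
  rw [e, Multiset.sum_replicate, smul_eq_mul] at s
  exact ⟨by rw [← s, Nat.mul_div_cancel _ (by norm_num)]; exact e, by omega⟩

theorem supp_inv {σ : P11} (h : σ * σ = 1) (h1 : σ ≠ 1) (hs : Perm.sign σ = 1) :
    σ.support.card = 4 ∨ σ.support.card = 8 := by
  have e := (cyc_inv h).2
  have s := Perm.sign_of_cycleType σ
  rw [hs, σ.sum_cycleType, e] at s
  have l : σ.support.card ≤ 11 := by simpa using σ.support.card_le_univ
  have p : σ.support.card ≠ 0 := by simpa using h1
  have ev : Even (2 * σ.cycleType.card + σ.cycleType.card) := (neg_one_pow_eq_one_iff_even (by decide)).1 s.symm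
  obtain ⟨k, hk⟩ := ev
  omega

theorem conj_inv {σ τ : P11} (h : σ * σ = 1) (h' : τ * τ = 1) (e : σ.support.card = τ.support.card) :
    ∃ ρ : P11, ρ * τ * ρ⁻¹ = σ :=
  isConj_iff.1 (Perm.isConj_of_cycleType_eq (by rw [(cyc_inv h).1, (cyc_inv h').1, e]))

theorem disj_c8 {σ : P11} (h : σ * σ = 1) (hc : σ * c3 8 = c3 8 * σ) : Perm.Disjoint σ (c3 8) := by
  intro v
  by_contra n
  push Not at n
  have hc' : ∀ v, σ (c3 8 v) = c3 8 (σ v) := fun v => congrArg (· v) hc
  have h' : σ (σ v) = v := congrArg (· v) h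
  have n2 : c3 8 (σ v) ≠ σ v := fun e => n.2 (σ.injective ((hc' v).trans e))
  have k1 : ∀ v v' : Fin 11, c3 8 v ≠ v → c3 8 v' ≠ v' → v' = v ∨ v' = c3 8 v ∨ v' = c3 8 (c3 8 v) := by
    decide +kernel
  have k2 : ∀ v : Fin 11, c3 8 v ≠ v → c3 8 (c3 8 v) ≠ v ∧ c3 8 (c3 8 (c3 8 (c3 8 v))) ≠ v := by decide +kernel
  rcases k1 v _ n.2 n2 with e | e | e
  · exact n.1 e
  · rw [e, hc', e] at h'; exact (k2 v n.2).1 h'
  · rw [e, hc', hc', e] at h'; exact (k2 v n.2).2 h'

theorem conj_inv_c8 {σ τ : P11} (h : σ * σ = 1) (h' : τ * τ = 1) (e : σ.support.card = τ.support.card)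
    (hc : σ * c3 8 = c3 8 * σ) (hc' : τ * c3 8 = c3 8 * τ) :
    ∃ ρ : P11, ρ * τ * ρ⁻¹ = σ ∧ ρ * c3 8 = c3 8 * ρ := by
  obtain ⟨ρ, hρ⟩ := isConj_iff.1 (Perm.isConj_of_cycleType_eq (σ := τ * c3 8) (τ := σ * c3 8) (by
    rw [(disj_c8 h hc).cycleType_mul, (disj_c8 h' hc').cycleType_mul, (cyc_inv h).1, (cyc_inv h').1, e]))
  have c : c3 8 ^ 3 = 1 := by decide +kernel
  have p3 : ∀ σ : P11, σ * σ = 1 → σ * c3 8 = c3 8 * σ → (σ * c3 8) ^ 3 = σ ∧ (σ * c3 8) ^ 4 = c3 8 := by
    intro σ h hc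
    have cm : Commute σ (c3 8) := hc
    rw [cm.mul_pow, cm.mul_pow, c, pow_succ (c3 8), c, show σ ^ 3 = σ * σ * σ by simp [pow_succ],
      show σ ^ 4 = σ * σ * (σ * σ) by simp [pow_succ, mul_assoc], h]
    simp
  refine ⟨ρ, ?_, ?_⟩
  · rw [← (p3 σ h hc).1, ← hρ, conj_pow, (p3 τ h' hc').1]
  · rw [← mul_inv_eq_iff_eq_mul]
    conv_rhs => rw [← (p3 σ h hc).2, ← hρ, conj_pow, (p3 τ h' hc').2]

theorem norm_c8 {σ υ : P11} (hυ : ∀ v, υ v = v ↔ c3 8 v ≠ v) (h : σ * υ = υ * σ) :
    σ * c3 8 * σ⁻¹ = c3 8 ∨ σ * c3 8 * σ⁻¹ = (c3 8)⁻¹ := by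
  have f : ∀ v, c3 8 v ≠ v → c3 8 (σ v) ≠ σ v := fun v hv => by
    rw [← hυ] at hv ⊢
    have := congrArg (· v) h
    simpa [hv] using this.symm
  have k : ∀ a b c : Fin 11, c3 8 a ≠ a → c3 8 b ≠ b → c3 8 c ≠ c → a ≠ b → a ≠ c → b ≠ c →
      swap a b * swap a c = c3 8 ∨ swap a b * swap a c = (c3 8)⁻¹ := by decide +kernel
  have e : σ * c3 8 * σ⁻¹ = swap (σ 10) (σ 9) * swap (σ 10) (σ 8) := Cov.conj_c3 σ 10 9 8
  rw [e]
  exact k _ _ _ (f _ (by decide)) (f _ (by decide)) (f _ (by decide)) (σ.injective.ne (by decide))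
    (σ.injective.ne (by decide)) (σ.injective.ne (by decide))

end Cfsg.Agent.H8Ly
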