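import Cfsg.Agent.H8.LyB
import Cfsg.Agent.Spor.PX4
import Cfsg.Agent.Spor.LyUC.D0
import Cfsg.Agent.Spor.LyUY.D0

/-! # The model `K` of `2.A11` in `GL(16, 3)` -/

set_option autoImplicit false
set_option linter.unusedVariables false
set_option linter.unusedSimpArgs false
set_option maxRecDepth 100000

namespace Cfsg.Agent.H8Ly
open Subgroup Equiv Cfsg.Agent.Spor Cfsg.Agent.Spor.LyUC

theorem sqA : A.sq = true := by decide +kernel
theorem hp3 : ((A.p : ℕ) : ZMod 3) = 0 := by decide
instance instCharP3 : CharP (ZMod 3) A.p := ZMod.charP 3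
noncomputable abbrev Ω16 : MRep A (ZMod 3) (GL (Fin A.d) (ZMod 3)) := MRep.gl A (ZMod 3) sqA hp3
noncomputable abbrev FX : ℕ → GL (Fin A.d) (ZMod 3) := Ω16.gen TX
theorem gFX : Ω16.Gens TX (atm 9 FX) := MRep.gl_gens (by decide +kernel)
theorem presFX : Pres 9 0 RC FX :=
  ⟨fun _ h => absurd h (Nat.not_lt_zero _), fun l hl => gFX.eq_one
    ((lall_iff _ _).1 (show lall (fun w => A.isW TX w A.one) RC = true by decide +kernel) l hl)⟩

theorem simpleA11 : IsSimpleGroup (alternatingGroup (Fin 11)) := simple_of_alt ⟨MulEquiv.refl _⟩ (by norm_num)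

theorem exCover : ∃ ψ : gsub 9 FX →* alternatingGroup (Fin 11), Function.Surjective ψ ∧ Nat.card ψ.ker = 2 ∧
    ∀ j < 9, ψ (lift (gsub 9 FX) FX j) = cA j := by
  haveI := simpleA11
  refine boundC.exists_cover (by norm_num) presFX carm_cA.pres cA_top card_A11 (w := [0, 2, 0, 2]) ?_
    (gFX.ne_one (by decide +kernel)) ⟨0, by omega, 1, by omega, ?_⟩
  · have := carm_cA.sq 0 (by omega) 1 (by omega) (by omega)
    simpa only [ev_cons, ev_nil, mul_one, mul_assoc, atm_two_mul cA (n := 9) (j := 0) (by omega),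
      atm_two_mul cA (n := 9) (j := 1) (by omega)] using this
  · have := gFX.neq (w := [0, 2]) (u := [2, 0]) (by decide +kernel)
    simpa only [ev_cons, ev_nil, mul_one, mul_assoc, atm_two_mul FX (n := 9) (j := 0) (by omega),
      atm_two_mul FX (n := 9) (j := 1) (by omega)] using this

/-- the model of `2.A11` -/
def K : Type := gsub 9 FX
noncomputable instance instGroupK : Group K := inferInstanceAs (Group (gsub 9 FX))
noncomputable def ξ : ℕ → K := lift (gsub 9 FX) FX
noncomputable def XK : MRep A (ZMod 3) K := Ω16.comp (gsub 9 FX).subtype (gsub 9 FX).subtype_injective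
theorem gX : XK.Gens TX (atm 9 ξ) := gFX.lift fun _ hj => mem_gsub FX hj
theorem presξ : Pres 9 0 RC ξ := presFX.lift
theorem ξ_top : gsub 9 ξ = ⊤ := gsub_lift 9 FX
noncomputable def πA : K →* alternatingGroup (Fin 11) := exCover.choose
theorem πA_surj : Function.Surjective πA := exCover.choose_spec.1
theorem πA_ker : Nat.card πA.ker = 2 := exCover.choose_spec.2.1
theorem πA_ξ : ∀ j < 9, πA (ξ j) = cA j := exCover.choose_spec.2.2
theorem cardK : Nat.card K = 2 * 19958400 := by
  rw [← πA.ker.card_mul_index, index_ker, MonoidHom.range_eq_top.2 πA_surj, card_top, card_A11, πA_ker]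
instance instFiniteK : Finite K := Nat.finite_of_card_ne_zero (by rw [cardK]; norm_num)

theorem exHom {G : Type} [Group G] {x : ℕ → G} {z : G} (h : Carm x z) : ∃ ψ : K →* G, ∀ j < 9, ψ (ξ j) = x j :=
  boundC.exists_hom (by norm_num) presFX h.pres (cardK ▸ dvd_refl (Nat.card K))

noncomputable def π : K →* P11 := (alternatingGroup (Fin 11)).subtype.comp πA
theorem π_sign (z : K) : Perm.sign (π z) = 1 := (πA z).2
theorem π_ξ : ∀ j < 9, π (ξ j) = c3 j := fun j hj => by
  rw [π, MonoidHom.comp_apply, πA_ξ j hj]; exact cA_coe hj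
theorem π_surj {σ : P11} (h : Perm.sign σ = 1) : ∃ z, π z = σ :=
  (πA_surj ⟨σ, h⟩).imp fun _ e => congrArg Subtype.val e

/-- tables of the basic letters -/
noncomputable def TB (e : Bool) : List ℕ := Bool.rec TB0 TB1 e
noncomputable def TE (e : Bool) : List ℕ := Bool.rec TE0 TE1 e
noncomputable def κ (e : Bool) : ℕ → K := XK.gen (TB e)
noncomputable def ε (e : Bool) : ℕ → K := XK.gen (TE e)

theorem isX : ∀ j < 12, A.isW TX (CW.getD j []) (nth A.one TB0 (2 * j)) = true :=
  (allN_iff _ _).1 (by decide +kernel)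
theorem gB0 : XK.Gens TB0 (atm 12 (κ false)) :=
  MRep.Gens.of_M (by decide +kernel) fun j hj => (gX.isW (isX j hj)).1
theorem κ_X {j : ℕ} (hj : j < 12) : κ false j = ev (atm 9 ξ) (CW.getD j []) := (gX.isW (isX j hj)).2
theorem isB1 : ∀ j < 12, A.isW TB0 (if j = 1 then [2, 16] else [2 * j]) (nth A.one TB1 (2 * j)) = true :=
  (allN_iff _ _).1 (by decide +kernel)
theorem gB (e : Bool) : XK.Gens (TB e) (atm 12 (κ e)) := by
  cases e
  · exact gB0
  · exact MRep.Gens.of_M (by decide +kernel) fun j hj => (gB0.isW (isB1 j hj)).1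
theorem isE (e : Bool) : ∀ j < 12, A.isW (TB e) (if j < 2 then [] else LyUY.WE.getD j []) (nth A.one (TE e) (2 * j)) = true :=
  (allN_iff _ _).1 (by cases e <;> decide +kernel)
theorem gE (e : Bool) : XK.Gens (TE e) (atm 12 (ε e)) :=
  MRep.Gens.of_M (by cases e <;> decide +kernel) fun j hj => ((gB e).isW (isE e j hj)).1
theorem ε_B (e : Bool) {j : ℕ} (h2 : 2 ≤ j) (hj : j < 12) : ε e j = ev (atm 12 (κ e)) (LyUY.WE.getD j []) := by
  have := ((gB e).isW (isE e j hj)).2
  rwa [if_neg (by omega)] at this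

noncomputable def ki : K := κ false 0
noncomputable def ks : K := κ false 1
noncomputable def ka : K := κ false 2
noncomputable def kg : K := κ false 3
noncomputable def ku : K := κ false 4
noncomputable def ky : K := κ false 5
noncomputable def kx : K := κ false 6
noncomputable def kw : K := κ false 7
noncomputable def kt : K := κ false 8
noncomputable def ka2 : K := κ false 9
noncomputable def kb : K := κ false 10
noncomputable def kb2 : K := κ false 11
theorem lB0 : atm 12 (κ false) 0 = ki := atm_two_mul _ (j := 0) (by omega)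
theorem lB1 : atm 12 (κ false) 1 = ki⁻¹ := atm_odd _ (j := 0) (by omega)
theorem lB2 : atm 12 (κ false) 2 = ks := atm_two_mul _ (j := 1) (by omega)
theorem lB3 : atm 12 (κ false) 3 = ks⁻¹ := atm_odd _ (j := 1) (by omega)
theorem lB4 : atm 12 (κ false) 4 = ka := atm_two_mul _ (j := 2) (by omega)
theorem lB5 : atm 12 (κ false) 5 = ka⁻¹ := atm_odd _ (j := 2) (by omega)
theorem lB6 : atm 12 (κ false) 6 = kg := atm_two_mul _ (j := 3) (by omega)
theorem lB7 : atm 12 (κ false) 7 = kg⁻¹ := atm_odd _ (j := 3) (by omega)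
theorem lB8 : atm 12 (κ false) 8 = ku := atm_two_mul _ (j := 4) (by omega)
theorem lB9 : atm 12 (κ false) 9 = ku⁻¹ := atm_odd _ (j := 4) (by omega)
theorem lB10 : atm 12 (κ false) 10 = ky := atm_two_mul _ (j := 5) (by omega)
theorem lB11 : atm 12 (κ false) 11 = ky⁻¹ := atm_odd _ (j := 5) (by omega)
theorem lB12 : atm 12 (κ false) 12 = kx := atm_two_mul _ (j := 6) (by omega)
theorem lB13 : atm 12 (κ false) 13 = kx⁻¹ := atm_odd _ (j := 6) (by omega)
theorem lB14 : atm 12 (κ false) 14 = kw := atm_two_mul _ (j := 7) (by omega)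
theorem lB15 : atm 12 (κ false) 15 = kw⁻¹ := atm_odd _ (j := 7) (by omega)
theorem lB16 : atm 12 (κ false) 16 = kt := atm_two_mul _ (j := 8) (by omega)
theorem lB17 : atm 12 (κ false) 17 = kt⁻¹ := atm_odd _ (j := 8) (by omega)
theorem lB18 : atm 12 (κ false) 18 = ka2 := atm_two_mul _ (j := 9) (by omega)
theorem lB19 : atm 12 (κ false) 19 = ka2⁻¹ := atm_odd _ (j := 9) (by omega)
theorem lB20 : atm 12 (κ false) 20 = kb := atm_two_mul _ (j := 10) (by omega)
theorem lB21 : atm 12 (κ false) 21 = kb⁻¹ := atm_odd _ (j := 10) (by omega)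
theorem lB22 : atm 12 (κ false) 22 = kb2 := atm_two_mul _ (j := 11) (by omega)
theorem lB23 : atm 12 (κ false) 23 = kb2⁻¹ := atm_odd _ (j := 11) (by omega)

theorem κ_true {j : ℕ} (hj : j < 12) (h1 : j ≠ 1) : κ true j = κ false j := by
  have := (gB0.isW (isB1 j hj)).2
  rwa [if_neg h1, ev_cons, ev_nil, mul_one, atm_two_mul _ hj] at this
theorem κ_eq (e : Bool) {j : ℕ} (hj : j < 12) (h1 : j ≠ 1) : κ e j = κ false j := by
  cases e
  · exact Eq.refl (κ false j)
  · exact κ_true hj h1
theorem κ_true1 : κ true 1 = ks * kt := by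
  have : κ true 1 = _ := (gB0.isW (isB1 1 (by omega))).2
  rwa [if_pos (Eq.refl 1), ev_cons, ev_cons, ev_nil, mul_one, lB2, lB16] at this

theorem eqB {w u : List ℕ} (h : Nat.beq (A.evw TB0 w A.one) (A.evw TB0 u A.one) = true) :
    ev (atm 12 (κ false)) w = ev (atm 12 (κ false)) u := gB0.eq_ev h
theorem neB {w u : List ℕ} (h : A.neq (A.evw TB0 w A.one) (A.evw TB0 u A.one) = true) :
    ev (atm 12 (κ false)) w ≠ ev (atm 12 (κ false)) u := gB0.neq h

/-- the permutations of the letters -/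
def pB (j : ℕ) : P11 := ([swap 0 1 * swap 2 3 * swap 4 7 * swap 5 6, swap 0 1 * swap 4 6 * swap 5 7 * swap 9 10, swap 0 2 * swap 1 3 * swap 4 6 * swap 5 7, swap 0 2 * swap 1 7 * swap 3 5 * swap 4 6, swap 0 1 * swap 2 3 * swap 4 5 * swap 6 7, swap 2 4 * swap 3 5 * swap 4 6 * swap 5 7, swap 8 9 * swap 9 10, swap 5 8 * swap 6 9 * swap 7 10 * swap 9 10, 1, swap 0 6 * swap 1 7 * swap 2 4 * swap 3 5, swap 0 3 * swap 1 2 * swap 4 6 * swap 5 7, swap 0 7 * swap 1 6 * swap 2 4 * swap 3 5] : List P11).getD j 1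
def pE (j : ℕ) : P11 := ([1, 1, swap 5 6 * swap 6 7, swap 2 3 * swap 3 4, swap 0 1 * swap 6 7, swap 0 1 * swap 3 4, swap 0 1 * swap 9 10, swap 0 2 * swap 1 4 * swap 2 3 * swap 3 4, 1, swap 0 1 * swap 2 7 * swap 3 6 * swap 4 5, swap 8 9 * swap 9 10, swap 5 8 * swap 6 9 * swap 7 10 * swap 9 10] : List P11).getD j 1

theorem π_κ0 : ∀ j < 12, π (κ false j) = pB j := fun j hj => by
  rw [κ_X hj, ev_atm_map' π_ξ]
  revert j
  decide +kernel
theorem π_t : π kt = 1 := π_κ0 8 (by omega)
theorem π_κ (e : Bool) : ∀ j < 12, π (κ e j) = pB j := fun j hj => by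
  by_cases h : j = 1
  · cases e
    · exact π_κ0 j hj
    · rw [h, κ_true1, map_mul, π_t, mul_one]; exact π_κ0 1 (by omega)
  · rw [κ_eq e hj h, π_κ0 j hj]
theorem π_ε (e : Bool) : ∀ j < 12, 2 ≤ j → π (ε e j) = pE j := fun j hj h2 => by
  rw [ε_B e h2 hj, ev_atm_map' (π_κ e)]
  revert j
  decide +kernel

theorem k_tt : kt * kt = 1 := by
  have := eqB (w := [16, 16]) (u := []) (by decide +kernel)
  simp only [ev_cons, ev_nil, lB16, mul_assoc, mul_inv_rev, inv_inv, pow_succ, pow_zero, one_mul, mul_one, inv_one] at this ⊢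
  exact this
theorem k_t_ne : kt ≠ 1 := by
  have := neB (w := [16]) (u := []) (by decide +kernel)
  simp only [ev_cons, ev_nil, lB16, mul_assoc, mul_inv_rev, inv_inv, pow_succ, pow_zero, one_mul, mul_one, inv_one] at this ⊢
  exact this
theorem k_ii : ki * ki = 1 := by
  have := eqB (w := [0, 0]) (u := []) (by decide +kernel)
  simp only [ev_cons, ev_nil, lB0, mul_assoc, mul_inv_rev, inv_inv, pow_succ, pow_zero, one_mul, mul_one, inv_one] at this ⊢
  exact this
theorem k_ss : ks * ks = 1 := by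
  have := eqB (w := [2, 2]) (u := []) (by decide +kernel)
  simp only [ev_cons, ev_nil, lB2, mul_assoc, mul_inv_rev, inv_inv, pow_succ, pow_zero, one_mul, mul_one, inv_one] at this ⊢
  exact this
theorem k_aa : ka * ka = 1 := by
  have := eqB (w := [4, 4]) (u := []) (by decide +kernel)
  simp only [ev_cons, ev_nil, lB4, mul_assoc, mul_inv_rev, inv_inv, pow_succ, pow_zero, one_mul, mul_one, inv_one] at this ⊢
  exact this
theorem k_gg : kg * kg = 1 := by
  have := eqB (w := [6, 6]) (u := []) (by decide +kernel)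
  simp only [ev_cons, ev_nil, lB6, mul_assoc, mul_inv_rev, inv_inv, pow_succ, pow_zero, one_mul, mul_one, inv_one] at this ⊢
  exact this
theorem k_uu : ku * ku = 1 := by
  have := eqB (w := [8, 8]) (u := []) (by decide +kernel)
  simp only [ev_cons, ev_nil, lB8, mul_assoc, mul_inv_rev, inv_inv, pow_succ, pow_zero, one_mul, mul_one, inv_one] at this ⊢
  exact this
theorem k_bb : kb * kb = 1 := by
  have := eqB (w := [20, 20]) (u := []) (by decide +kernel)
  simp only [ev_cons, ev_nil, lB20, mul_assoc, mul_inv_rev, inv_inv, pow_succ, pow_zero, one_mul, mul_one, inv_one] at this ⊢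
  exact this
theorem k_y3 : ky ^ 3 = 1 := by
  have := eqB (w := [10, 10, 10]) (u := []) (by decide +kernel)
  simp only [ev_cons, ev_nil, lB10, mul_assoc, mul_inv_rev, inv_inv, pow_succ, pow_zero, one_mul, mul_one, inv_one] at this ⊢
  exact this
theorem k_x3 : kx ^ 3 = 1 := by
  have := eqB (w := [12, 12, 12]) (u := []) (by decide +kernel)
  simp only [ev_cons, ev_nil, lB12, mul_assoc, mul_inv_rev, inv_inv, pow_succ, pow_zero, one_mul, mul_one, inv_one] at this ⊢
  exact this
theorem k_x_ne : kx ≠ 1 := by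
  have := neB (w := [12]) (u := []) (by decide +kernel)
  simp only [ev_cons, ev_nil, lB12, mul_assoc, mul_inv_rev, inv_inv, pow_succ, pow_zero, one_mul, mul_one, inv_one] at this ⊢
  exact this
theorem k_u_ne : ku ≠ 1 := by
  have := neB (w := [8]) (u := []) (by decide +kernel)
  simp only [ev_cons, ev_nil, lB8, mul_assoc, mul_inv_rev, inv_inv, pow_succ, pow_zero, one_mul, mul_one, inv_one] at this ⊢
  exact this
theorem k_u_net : ku ≠ kt := by
  have := neB (w := [8]) (u := [16]) (by decide +kernel)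
  simp only [ev_cons, ev_nil, lB8, lB16, mul_assoc, mul_inv_rev, inv_inv, pow_succ, pow_zero, one_mul, mul_one, inv_one] at this ⊢
  exact this
theorem k_a_ne : ka ≠ 1 := by
  have := neB (w := [4]) (u := []) (by decide +kernel)
  simp only [ev_cons, ev_nil, lB4, mul_assoc, mul_inv_rev, inv_inv, pow_succ, pow_zero, one_mul, mul_one, inv_one] at this ⊢
  exact this
theorem k_b_ne : kb ≠ 1 := by
  have := neB (w := [20]) (u := []) (by decide +kernel)
  simp only [ev_cons, ev_nil, lB20, mul_assoc, mul_inv_rev, inv_inv, pow_succ, pow_zero, one_mul, mul_one, inv_one] at this ⊢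
  exact this
theorem k_su : ks * ku = ku * ks := by
  have := eqB (w := [2, 8]) (u := [8, 2]) (by decide +kernel)
  simp only [ev_cons, ev_nil, lB2, lB8, mul_assoc, mul_inv_rev, inv_inv, pow_succ, pow_zero, one_mul, mul_one, inv_one] at this ⊢
  exact this
theorem k_au : ka * ku = ku * ka := by
  have := eqB (w := [4, 8]) (u := [8, 4]) (by decide +kernel)
  simp only [ev_cons, ev_nil, lB4, lB8, mul_assoc, mul_inv_rev, inv_inv, pow_succ, pow_zero, one_mul, mul_one, inv_one] at this ⊢
  exact this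
theorem k_yu : ky * ku = ku * ky := by
  have := eqB (w := [10, 8]) (u := [8, 10]) (by decide +kernel)
  simp only [ev_cons, ev_nil, lB8, lB10, mul_assoc, mul_inv_rev, inv_inv, pow_succ, pow_zero, one_mul, mul_one, inv_one] at this ⊢
  exact this
theorem k_xu : kx * ku = ku * kx := by
  have := eqB (w := [12, 8]) (u := [8, 12]) (by decide +kernel)
  simp only [ev_cons, ev_nil, lB8, lB12, mul_assoc, mul_inv_rev, inv_inv, pow_succ, pow_zero, one_mul, mul_one, inv_one] at this ⊢
  exact this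
theorem k_bu : kb * ku = ku * kb := by
  have := eqB (w := [20, 8]) (u := [8, 20]) (by decide +kernel)
  simp only [ev_cons, ev_nil, lB8, lB20, mul_assoc, mul_inv_rev, inv_inv, pow_succ, pow_zero, one_mul, mul_one, inv_one] at this ⊢
  exact this
theorem k_ix : ki * kx = kx * ki := by
  have := eqB (w := [0, 12]) (u := [12, 0]) (by decide +kernel)
  simp only [ev_cons, ev_nil, lB0, lB12, mul_assoc, mul_inv_rev, inv_inv, pow_succ, pow_zero, one_mul, mul_one, inv_one] at this ⊢
  exact this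
theorem k_ax : ka * kx = kx * ka := by
  have := eqB (w := [4, 12]) (u := [12, 4]) (by decide +kernel)
  simp only [ev_cons, ev_nil, lB4, lB12, mul_assoc, mul_inv_rev, inv_inv, pow_succ, pow_zero, one_mul, mul_one, inv_one] at this ⊢
  exact this
theorem k_gx : kg * kx = kx * kg := by
  have := eqB (w := [6, 12]) (u := [12, 6]) (by decide +kernel)
  simp only [ev_cons, ev_nil, lB6, lB12, mul_assoc, mul_inv_rev, inv_inv, pow_succ, pow_zero, one_mul, mul_one, inv_one] at this ⊢
  exact this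
theorem k_yx : ky * kx = kx * ky := by
  have := eqB (w := [10, 12]) (u := [12, 10]) (by decide +kernel)
  simp only [ev_cons, ev_nil, lB10, lB12, mul_assoc, mul_inv_rev, inv_inv, pow_succ, pow_zero, one_mul, mul_one, inv_one] at this ⊢
  exact this
theorem k_bx : kb * kx = kx * kb := by
  have := eqB (w := [20, 12]) (u := [12, 20]) (by decide +kernel)
  simp only [ev_cons, ev_nil, lB12, lB20, mul_assoc, mul_inv_rev, inv_inv, pow_succ, pow_zero, one_mul, mul_one, inv_one] at this ⊢
  exact this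
theorem k_sx : ks * kx * ks⁻¹ = kx⁻¹ := by
  have := eqB (w := [2, 12, 3]) (u := [13]) (by decide +kernel)
  simp only [ev_cons, ev_nil, lB2, lB3, lB12, lB13, mul_assoc, mul_inv_rev, inv_inv, pow_succ, pow_zero, one_mul, mul_one, inv_one] at this ⊢
  exact this
theorem k_iu : ki * ku * ki⁻¹ = kt * ku := by
  have := eqB (w := [0, 8, 1]) (u := [16, 8]) (by decide +kernel)
  simp only [ev_cons, ev_nil, lB0, lB1, lB8, lB16, mul_assoc, mul_inv_rev, inv_inv, pow_succ, pow_zero, one_mul, mul_one, inv_one] at this ⊢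
  exact this
theorem k_a2d : ka2 = ky⁻¹ * ka * ky := by
  have := eqB (w := [18]) (u := [11, 4, 10]) (by decide +kernel)
  simp only [ev_cons, ev_nil, lB4, lB10, lB11, lB18, mul_assoc, mul_inv_rev, inv_inv, pow_succ, pow_zero, one_mul, mul_one, inv_one] at this ⊢
  exact this
theorem k_b2d : kb2 = ky⁻¹ * kb * ky := by
  have := eqB (w := [22]) (u := [11, 20, 10]) (by decide +kernel)
  simp only [ev_cons, ev_nil, lB10, lB11, lB20, lB22, mul_assoc, mul_inv_rev, inv_inv, pow_succ, pow_zero, one_mul, mul_one, inv_one] at this ⊢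
  exact this
theorem k_bd : kb = ks * ka * ks⁻¹ := by
  have := eqB (w := [20]) (u := [2, 4, 3]) (by decide +kernel)
  simp only [ev_cons, ev_nil, lB2, lB3, lB4, lB20, mul_assoc, mul_inv_rev, inv_inv, pow_succ, pow_zero, one_mul, mul_one, inv_one] at this ⊢
  exact this
theorem k_ya3 : (ky * ka) ^ 3 = 1 := by
  have := eqB (w := [10, 4, 10, 4, 10, 4]) (u := []) (by decide +kernel)
  simp only [ev_cons, ev_nil, lB4, lB10, mul_assoc, mul_inv_rev, inv_inv, pow_succ, pow_zero, one_mul, mul_one, inv_one] at this ⊢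
  exact this
theorem k_yb3 : (ky * kb) ^ 3 = 1 := by
  have := eqB (w := [10, 20, 10, 20, 10, 20]) (u := []) (by decide +kernel)
  simp only [ev_cons, ev_nil, lB10, lB20, mul_assoc, mul_inv_rev, inv_inv, pow_succ, pow_zero, one_mul, mul_one, inv_one] at this ⊢
  exact this
theorem k_ia : ki * ka * ki⁻¹ = ka := by
  have := eqB (w := [0, 4, 1]) (u := [4]) (by decide +kernel)
  simp only [ev_cons, ev_nil, lB0, lB1, lB4, mul_assoc, mul_inv_rev, inv_inv, pow_succ, pow_zero, one_mul, mul_one, inv_one] at this ⊢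
  exact this
theorem k_ib : ki * kb * ki⁻¹ = kb := by
  have := eqB (w := [0, 20, 1]) (u := [20]) (by decide +kernel)
  simp only [ev_cons, ev_nil, lB0, lB1, lB20, mul_assoc, mul_inv_rev, inv_inv, pow_succ, pow_zero, one_mul, mul_one, inv_one] at this ⊢
  exact this
theorem k_iy : ki * ky * ki⁻¹ = ky⁻¹ := by
  have := eqB (w := [0, 10, 1]) (u := [11]) (by decide +kernel)
  simp only [ev_cons, ev_nil, lB0, lB1, lB10, lB11, mul_assoc, mul_inv_rev, inv_inv, pow_succ, pow_zero, one_mul, mul_one, inv_one] at this ⊢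
  exact this
theorem k_sy : ks * ky * ks⁻¹ = ky⁻¹ := by
  have := eqB (w := [2, 10, 3]) (u := [11]) (by decide +kernel)
  simp only [ev_cons, ev_nil, lB2, lB3, lB10, lB11, mul_assoc, mul_inv_rev, inv_inv, pow_succ, pow_zero, one_mul, mul_one, inv_one] at this ⊢
  exact this
theorem k_ab : ka * kb * ka⁻¹ * kb⁻¹ = kt := by
  have := eqB (w := [4, 20, 5, 21]) (u := [16]) (by decide +kernel)
  simp only [ev_cons, ev_nil, lB4, lB5, lB16, lB20, lB21, mul_assoc, mul_inv_rev, inv_inv, pow_succ, pow_zero, one_mul, mul_one, inv_one] at this ⊢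
  exact this
theorem k_abab : ka * kb * (ka * kb) = kt := by
  have := eqB (w := [4, 20, 4, 20]) (u := [16]) (by decide +kernel)
  simp only [ev_cons, ev_nil, lB4, lB16, lB20, mul_assoc, mul_inv_rev, inv_inv, pow_succ, pow_zero, one_mul, mul_one, inv_one] at this ⊢
  exact this
theorem k_a2b : ka2 * kb * ka2⁻¹ * kb⁻¹ = ku := by
  have := eqB (w := [18, 20, 19, 21]) (u := [8]) (by decide +kernel)
  simp only [ev_cons, ev_nil, lB8, lB18, lB19, lB20, lB21, mul_assoc, mul_inv_rev, inv_inv, pow_succ, pow_zero, one_mul, mul_one, inv_one] at this ⊢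
  exact this
theorem k_ab0 : ka * kb * ka⁻¹ * kb⁻¹ ≠ kt * ku := by
  have := neB (w := [4, 20, 5, 21]) (u := [16, 8]) (by decide +kernel)
  simp only [ev_cons, ev_nil, lB4, lB5, lB8, lB16, lB20, lB21, mul_assoc, mul_inv_rev, inv_inv, pow_succ, pow_zero, one_mul, mul_one, inv_one] at this ⊢
  exact this
theorem k_ab1 : ka * (ky * kb * ky⁻¹) * ka⁻¹ * (ky * kb * ky⁻¹)⁻¹ ≠ kt * ku := by
  have := neB (w := [4, 10, 20, 11, 5, 10, 21, 11]) (u := [16, 8]) (by decide +kernel)
  simp only [ev_cons, ev_nil, lB4, lB5, lB8, lB10, lB11, lB16, lB20, lB21, mul_assoc, mul_inv_rev, inv_inv, pow_succ, pow_zero, one_mul, mul_one, inv_one] at this ⊢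
  exact this
theorem k_a2b2 : ka2 * kb2 * ka2⁻¹ * kb2⁻¹ ≠ ku := by
  have := neB (w := [18, 22, 19, 23]) (u := [8]) (by decide +kernel)
  simp only [ev_cons, ev_nil, lB8, lB18, lB19, lB22, lB23, mul_assoc, mul_inv_rev, inv_inv, pow_succ, pow_zero, one_mul, mul_one, inv_one] at this ⊢
  exact this
theorem k_y_ne0 : ky ≠ 1 := by
  have := neB (w := [10]) (u := []) (by decide +kernel)
  simp only [ev_cons, ev_nil, lB10, mul_assoc, mul_inv_rev, inv_inv, pow_succ, pow_zero, one_mul, mul_one, inv_one] at this ⊢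
  exact this
theorem k_y_ne1 : ky ≠ kx := by
  have := neB (w := [10]) (u := [12]) (by decide +kernel)
  simp only [ev_cons, ev_nil, lB10, lB12, mul_assoc, mul_inv_rev, inv_inv, pow_succ, pow_zero, one_mul, mul_one, inv_one] at this ⊢
  exact this
theorem k_y_ne2 : ky ≠ kx ^ 2 := by
  have := neB (w := [10]) (u := [12, 12]) (by decide +kernel)
  simp only [ev_cons, ev_nil, lB10, lB12, mul_assoc, mul_inv_rev, inv_inv, pow_succ, pow_zero, one_mul, mul_one, inv_one] at this ⊢
  exact this
theorem k_iuiu : ki * ku * (ki * ku) = kt := by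
  have := eqB (w := [0, 8, 0, 8]) (u := [16]) (by decide +kernel)
  simp only [ev_cons, ev_nil, lB0, lB8, lB16, mul_assoc, mul_inv_rev, inv_inv, pow_succ, pow_zero, one_mul, mul_one, inv_one] at this ⊢
  exact this
theorem k_tw0 : (ka * ks) ^ 4 = kt := by
  have := eqB (w := [4, 2, 4, 2, 4, 2, 4, 2]) (u := [16]) (by decide +kernel)
  simp only [ev_cons, ev_nil, lB2, lB4, lB16, mul_assoc, mul_inv_rev, inv_inv, pow_succ, pow_zero, one_mul, mul_one, inv_one] at this ⊢
  exact this
theorem k_ab_ne : ka * kb ≠ kb * ka := by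
  have := neB (w := [4, 20]) (u := [20, 4]) (by decide +kernel)
  simp only [ev_cons, ev_nil, lB4, lB20, mul_assoc, mul_inv_rev, inv_inv, pow_succ, pow_zero, one_mul, mul_one, inv_one] at this ⊢
  exact this

theorem tX : kt = ξ 0 * ξ 1 * ξ 0 * ξ 1 := by
  have : kt = _ := κ_X (j := 8) (by omega)
  rw [show CW.getD 8 [] = [0, 2, 0, 2] from rfl] at this
  simpa only [ev_cons, ev_nil, mul_one, mul_assoc, atm_two_mul ξ (n := 9) (j := 0) (by omega),
      atm_two_mul ξ (n := 9) (j := 1) (by omega)] using this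
theorem carmξ : Carm ξ kt := tX ▸ pres_iff.1 presξ

theorem πA_t : πA kt = 1 := Subtype.ext π_t
theorem π_ker (z : K) (h : π z = 1) : z = 1 ∨ z = kt :=
  eq_of_card_two πA_ker πA_t k_t_ne (Subtype.ext h)
theorem t_comm (z : K) : z * kt = kt * z := mem_center_iff.1 (central_of_card_two πA_ker πA_t) z
theorem π_eq {z w : K} (h : π z = π w) : z = w ∨ z = w * kt := by
  rcases π_ker (w⁻¹ * z) (by rw [map_mul, map_inv, h, inv_mul_cancel]) with e | e
  · exact Or.inl (inv_mul_eq_one.1 e).symm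
  · exact Or.inr (by rw [← e, mul_inv_cancel_left])
theorem π_eq3 {z w : K} (h : π z = π w) (hz : z ^ 3 = 1) (hw : w ^ 3 = 1) : z = w := by
  rcases π_eq h with e | e
  · exact e
  · rw [e, Commute.mul_pow (t_comm w), hw, one_mul, pow_succ, pow_two, k_tt, one_mul] at hz
    exact absurd hz k_t_ne

/-- the twist -/
theorem exα : ∃ α : K ≃* K, α kt = kt ∧ α ku = ku ∧ α ka = ka ∧ α kb = kb ∧ α kb2 = kb2 ∧ α ky = ky ∧
    α kx = kx⁻¹ := by
  obtain ⟨α, hα⟩ := exHom carmξ.inv
  have e : ∀ z, α (α z) = z := fun z => by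
    have : gsub 9 ξ ≤ (α.comp α).eqLocus (MonoidHom.id K) := gsub_le fun j hj => by
      show α (α (ξ j)) = ξ j
      rw [hα j hj, map_inv, hα j hj, inv_inv]
    exact this (ξ_top ▸ mem_top z)
  have k : ∀ j < 12, α (κ false j) = ev (atm 9 ξ) (subW 0 9 ((List.range 9).map fun i => [2 * i + 1]) (CW.getD j [])) := by
    intro j hj
    rw [κ_X hj, ev_subW (ivOk_zero 9 ξ)]
    refine ev_atm_map' (fun i hi => ?_) _
    rw [hα i hi, wv, List.getD_eq_getElem _ _ (by simpa using hi)]
    simp [atm_odd ξ hi]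
  refine ⟨MulEquiv.ofBijective α (Function.Involutive.bijective e), ?_⟩
  have q : ∀ j < 12, ∀ y, Nat.beq (A.evw TX (subW 0 9 ((List.range 9).map fun i => [2 * i + 1]) (CW.getD j [])) A.one)
      (A.evw TB0 [y] A.one) = true → α (κ false j) = atm 12 (κ false) y := fun j hj y h => by
    rw [k j hj, gX.cross gB0 h, ev_cons, ev_nil, mul_one]
  exact ⟨(q 8 (by omega) 16 (by decide +kernel)).trans lB16, (q 4 (by omega) 8 (by decide +kernel)).trans lB8,
    (q 2 (by omega) 4 (by decide +kernel)).trans lB4, (q 10 (by omega) 20 (by decide +kernel)).trans lB20,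
    (q 11 (by omega) 22 (by decide +kernel)).trans lB22, (q 5 (by omega) 10 (by decide +kernel)).trans lB10,
    (q 6 (by omega) 13 (by decide +kernel)).trans lB13⟩

attribute [irreducible] instGroupK

end Cfsg.Agent.H8Ly
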