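import Cfsg.Agent.H8.LyC

/-! # Local facts in the model of `2.A11` -/

set_option autoImplicit false
set_option linter.unusedVariables false
set_option linter.unusedSimpArgs false
set_option maxRecDepth 100000

namespace Cfsg.Agent.H8Ly
open Subgroup Equiv Cfsg.Agent.Spor Cfsg.Agent.Spor.LyUC

theorem π_u : π ku = pB 4 := π_κ0 4 (by omega)
theorem π_a : π ka = pB 2 := π_κ0 2 (by omega)
theorem π_a2 : π ka2 = pB 9 := π_κ0 9 (by omega)
theorem π_x : π kx = c3 8 := (π_κ0 6 (by omega)).trans (by decide +kernel)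
theorem π_i : π ki = pB 0 := π_κ0 0 (by omega)
theorem π_comm {z w : K} (h : z * w = w * z) : π z * π w = π w * π z := by rw [← map_mul, h, map_mul]

theorem norm_x {z : K} (h : z * ku = ku * z) : z * kx * z⁻¹ = kx ∨ z * kx * z⁻¹ = kx⁻¹ := by
  have c : (z * kx * z⁻¹) ^ 3 = 1 := by rw [conj_pow, k_x3]; simp
  refine (norm_c8 (σ := π z) (υ := pB 4) (by decide +kernel) (π_u ▸ π_comm h)).imp (fun e => ?_) (fun e => ?_)
  · exact π_eq3 (by simpa [π_x] using e) c k_x3
  · exact π_eq3 (by simpa [π_x] using e) c (by rw [inv_pow, k_x3, inv_one])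

theorem comm_x_of_cube {z : K} (h : z * ku = ku * z) (h3 : z ^ 3 = 1) : z * kx = kx * z := by
  rcases norm_x h with e | e
  · exact mul_inv_eq_iff_eq_mul.1 e
  · have e2 : z * z * kx * (z * z)⁻¹ = kx := by
      calc z * z * kx * (z * z)⁻¹ = z * (z * kx * z⁻¹) * z⁻¹ := by group
        _ = (z * kx * z⁻¹)⁻¹ := by conv_lhs => rw [e]
                                   group
        _ = kx := by rw [e, inv_inv]
    have c : Commute (z * z) kx := mul_inv_eq_iff_eq_mul.1 e2
    have : z = (z * z) ^ 2 := by rw [← pow_two, ← pow_mul, show 2 * 2 = 3 + 1 by rfl, pow_succ, h3, one_mul]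
    rw [this]; exact c.pow_left 2

theorem πevB (w : List ℕ) : π (ev (atm 12 (κ false)) w) = ev (atm 12 pB) w := ev_atm_map' π_κ0 w

/-- elements of the four-dimensional elementary abelian group -/
noncomputable def eE (n : ℕ) : K := ev (atm 12 (κ false)) (EW.getD n [])

theorem eE_odd : ∀ m < 8, eE (2 * m + 1) = eE (2 * m) * kt := fun m hm => by
  have : ∀ m < 8, EW.getD (2 * m + 1) [] = 16 :: EW.getD (2 * m) [] := by decide +kernel
  rw [eE, this m hm, ev_cons, lB16, t_comm]; rfl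

theorem xpow (l : ℕ) : ev (atm 12 (κ false)) (List.replicate l 12) = kx ^ l := by
  induction l with
  | zero => simp
  | succ l ih => rw [List.replicate_succ, ev_cons, ih, lB12, pow_succ']

theorem cenE {z : K} (hu : z * ku = ku * z) (ha : z * ka = ka * z) (ha2 : z * ka2 = ka2 * z) :
    ∃ n < 16, ∃ l < 3, z = eE n * kx ^ l := by
  have := sift_sound π_ker π_sign πevB (L := [pB 4, pB 2, pB 9]) (α := 9) (β := 10)
    [(0, (List.range 8).map fun m => EW.getD (2 * m) []), (8, (List.range 3).map fun l => List.replicate l 12)]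
    (F := []) (by decide +kernel) (z := z) (by
      simp only [List.forall_mem_cons, List.not_mem_nil, false_imp_iff, implies_true, and_true]
      exact ⟨π_u ▸ π_comm hu, π_a ▸ π_comm ha, π_a2 ▸ π_comm ha2⟩) (by simp)
  obtain ⟨w, hw, v, hv, e⟩ := this
  obtain ⟨m, hm, rfl⟩ := List.mem_map.1 hw
  obtain ⟨l, hl, rfl⟩ := List.mem_map.1 hv
  rw [List.mem_range] at hm hl
  rw [xpow] at e
  change (kx ^ l)⁻¹ * ((eE (2 * m))⁻¹ * z) = 1 ∨ (kx ^ l)⁻¹ * ((eE (2 * m))⁻¹ * z) = kt at e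
  rcases e with e | e
  · exact ⟨2 * m, by omega, l, hl, by rw [← mul_one (kx ^ l), ← e]; group⟩
  · exact ⟨2 * m + 1, by omega, l, hl, by rw [eE_odd m hm, mul_assoc, ← t_comm, ← e]; group⟩

/-- the subgroup of order 384 -/
noncomputable def Z : Subgroup K := wsub 12 (κ false) [[4], [20], [10], [0]]

theorem evs1 (y : ℕ) : ev (atm 12 (κ false)) [y] = atm 12 (κ false) y := by simp
theorem a_Z : ka ∈ Z := by rw [← lB4, ← evs1]; exact mem_wsub _ (by simp)
theorem b_Z : kb ∈ Z := by rw [← lB20, ← evs1]; exact mem_wsub _ (by simp)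
theorem y_Z : ky ∈ Z := by rw [← lB10, ← evs1]; exact mem_wsub _ (by simp)
theorem i_Z : ki ∈ Z := by rw [← lB0, ← evs1]; exact mem_wsub _ (by simp)
theorem t_Z : kt ∈ Z := k_abab ▸ mul_mem (mul_mem a_Z b_Z) (mul_mem a_Z b_Z)
theorem Z_x {z : K} (h : z ∈ Z) : z * kx = kx * z := by
  have : Z ≤ centralizer {kx} := wsub_le fun w hw => by
    rw [mem_centralizer_singleton_iff]
    simp only [List.mem_cons, List.not_mem_nil, or_false] at hw
    rcases hw with rfl | rfl | rfl | rfl <;> rw [evs1]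
    exacts [lB4 ▸ k_ax, lB20 ▸ k_bx, lB10 ▸ k_yx, lB0 ▸ k_ix]
  exact mem_centralizer_singleton_iff.1 (this h)

theorem cenZ {z : K} (hu : z * ku = ku * z) (hx : z * kx = kx * z) : ∃ l < 3, ∃ z0 ∈ Z, z = kx ^ l * z0 := by
  have := sift_sound π_ker π_sign πevB (L := [pB 4, c3 8]) (α := 6) (β := 7)
    ((8, (List.range 3).map fun l => List.replicate l 12) :: [(0, [[], [0], [4], [20], [10, 4], [10, 20], [11, 4], [11, 20]]), (2, [[], [10, 4, 20, 11, 0], [10], [4, 20, 10, 0], [11], [4, 20, 11, 0]]), (4, [[], [10, 4, 20, 10, 4, 20, 10], [4, 10, 20, 11, 4, 10, 20, 11, 0], [4, 20, 0]])])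
    (F := []) (by decide +kernel) (z := z) (by
      simp only [List.forall_mem_cons, List.not_mem_nil, false_imp_iff, implies_true, and_true]
      exact ⟨π_u ▸ π_comm hu, π_x ▸ π_comm hx⟩) (by simp)
  obtain ⟨v, hv, e⟩ := this
  obtain ⟨l, hl, rfl⟩ := List.mem_map.1 hv
  rw [xpow] at e
  refine ⟨l, List.mem_range.1 hl, _, InK.mem_lets t_Z (J := [2, 10, 5, 0]) ?_ (by decide +kernel) e, by group⟩
  simp only [List.forall_mem_cons, List.not_mem_nil, false_imp_iff, implies_true, and_true]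
  exact ⟨a_Z, b_Z, y_Z, i_Z⟩

theorem cenZ2 {z : K} (hu : z * ku = ku * z) (hx : z * kx = kx * z) (h2 : z * z = 1) : z ∈ Z := by
  obtain ⟨l, -, z0, h0, e⟩ := cenZ hu hx
  have c : Commute (kx ^ l) z0 := (Commute.symm (Z_x h0)).pow_left l
  have : z = z0 ^ 3 := by
    have : z ^ 3 = z := by rw [pow_succ, pow_two, h2, one_mul]
    rw [← this, e, c.mul_pow, ← pow_mul, mul_comm l, pow_mul, k_x3, one_pow, one_mul]
  exact this ▸ pow_mem h0 3

theorem cenX {z : K} (hx : z * kx = kx * z) {S : Subgroup K} (h : ∀ j ∈ [0, 1, 2, 3, 5, 6], κ false j ∈ S)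
    (ht : kt ∈ S) : z ∈ S :=
  InK.mem_lets ht h (by decide +kernel) (sift_sound π_ker π_sign πevB (L := [c3 8]) (α := 6) (β := 7)
    [(8, [[], [12], [13]]), (0, [[], [0], [4], [0, 4], [10, 4], [0, 11, 4], [11, 4], [6, 0]]), (1, [[], [0, 2, 6, 2, 6], [11, 4, 6], [0, 2, 6, 2, 4], [4, 6], [0, 2, 4, 2, 6], [10, 4, 6]]), (2, [[], [0, 2, 10, 4, 2, 4, 10], [10], [0, 2, 4, 2, 4, 11], [11], [0, 2, 4, 2, 4, 10]]), (3, [[], [0, 4, 6, 11, 4, 2, 6, 2], [4, 2, 6, 11, 4, 2, 6], [6, 2, 4, 10, 6, 2, 4], [2, 4, 2, 6, 11, 4, 2, 6, 2]]), (4, [[], [10, 4, 2, 4, 11, 4, 2, 4, 10], [11, 6, 2, 4, 10, 6, 2, 4, 11], [0, 2, 4, 2, 4]]), (5, [[], [6, 10, 6, 2, 4, 6, 2, 4, 11, 4], [4, 10, 4, 2, 4, 6, 2, 6, 11, 6]])]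
    (F := []) (by decide +kernel) (z := z) (by simpa using π_x ▸ π_comm hx) (by simp))

theorem cenA (e : Bool) {z : K} (hx : z * ε e 10 = ε e 10 * z) (hb : z * ε e 2 = ε e 2 * z)
    (hc : z * ε e 3 = ε e 3 * z) {S : Subgroup K} (h : ∀ j ∈ [10, 2, 3], ε e j ∈ S) (ht : kt ∈ S) : z ∈ S := by
  have p : ∀ j < 12, π (ε e j) = pE j := fun j hj => by
    by_cases h2 : 2 ≤ j
    · exact π_ε e j hj h2
    · have := ((gB e).isW (isE e j hj)).2
      rw [if_pos (by omega)] at this
      have e1 : ε e j = 1 := this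
      rw [e1, map_one]
      have : j = 0 ∨ j = 1 := by omega
      rcases this with rfl | rfl <;> rfl
  refine InK.mem_lets ht h (by decide +kernel) (sift_sound π_ker π_sign (ev_atm_map' p) (L := [pE 10, pE 2, pE 3])
    (α := 0) (β := 1) [(8, [[], [20], [21]]), (5, [[], [4], [5]]), (2, [[], [6], [7]])]
    (F := []) (by decide +kernel) (z := z) ?_ (by simp))
  simp only [List.forall_mem_cons, List.not_mem_nil, false_imp_iff, implies_true, and_true]
  exact ⟨p 10 (by omega) ▸ π_comm hx, p 2 (by omega) ▸ π_comm hb, p 3 (by omega) ▸ π_comm hc⟩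

/-! ## classes of involutions -/

theorem lift_conj {z v : K} {ρ : P11} (h : ρ * π v * ρ⁻¹ = π z) (hs : swap 0 1 * π v = π v * swap 0 1) :
    ∃ c, (π c = ρ ∨ π c = ρ * swap 0 1) ∧ (z = c * v * c⁻¹ ∨ z = c * v * c⁻¹ * kt) := by
  rcases Int.units_eq_one_or (Perm.sign ρ) with e | e
  · obtain ⟨c, rfl⟩ := π_surj e
    exact ⟨c, Or.inl rfl, π_eq (by simpa using h.symm)⟩
  · obtain ⟨c, hc⟩ := π_surj (σ := ρ * swap 0 1) (by rw [Perm.sign_mul, e, Perm.sign_swap (by decide)]; simp)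
    refine ⟨c, Or.inr hc, π_eq ?_⟩
    rw [map_mul, map_mul, map_inv, hc, ← h, mul_assoc ρ (swap 0 1), hs]
    simp [mul_assoc]

theorem supp8 {z : K} (h2 : z * z = 1) (h1 : z ≠ 1) (ht : z ≠ kt) :
    π z * π z = 1 ∧ (π z).support.card = (π ku).support.card := by
  have e : π z * π z = 1 := by rw [← map_mul, h2, map_one]
  refine ⟨e, ?_⟩
  rcases supp_inv e (fun q => (π_ker z q).elim h1 ht) (π_sign z) with q | q
  · exfalso
    have pv : π (ki * ku) = swap 4 6 * swap 5 7 := by rw [map_mul, π_i, π_u]; decide +kernel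
    obtain ⟨ρ, hρ⟩ := conj_inv e (τ := π (ki * ku)) (by rw [pv]; decide +kernel) (by rw [q, pv]; decide +kernel)
    obtain ⟨c, -, h⟩ := lift_conj hρ (by rw [pv]; decide +kernel)
    have k : c * (ki * ku) * c⁻¹ * (c * (ki * ku) * c⁻¹) = kt := by
      calc _ = c * (ki * ku * (ki * ku)) * c⁻¹ := by group
        _ = kt := by rw [k_iuiu, t_comm, mul_inv_cancel_right]
    rcases h with rfl | rfl
    · exact k_t_ne (k.symm.trans h2)
    · rw [mul_assoc _ kt, ← mul_assoc kt, ← t_comm, mul_assoc _ kt, k_tt, mul_one, k] at h2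
      exact k_t_ne h2
  · rw [q, π_u]; decide +kernel

theorem uu_π : π ku * π ku = 1 := by rw [← map_mul, k_uu, map_one]

theorem fix_u {z c : K} (h : z = c * ku * c⁻¹ * kt) : z = c * ki * ku * (c * ki)⁻¹ := by
  calc z = c * (kt * ku) * c⁻¹ := by rw [h, t_comm, ← mul_assoc, ← mul_assoc, ← mul_assoc, t_comm c]
    _ = _ := by rw [← k_iu]; group

theorem inv_conj {z : K} (h2 : z * z = 1) (h1 : z ≠ 1) (ht : z ≠ kt) : ∃ c, z = c * ku * c⁻¹ := by
  obtain ⟨e, q⟩ := supp8 h2 h1 ht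
  obtain ⟨ρ, hρ⟩ := conj_inv e uu_π q
  obtain ⟨c, -, h | h⟩ := lift_conj hρ (by rw [π_u]; decide +kernel)
  exacts [⟨c, h⟩, ⟨_, fix_u h⟩]

theorem inv_conj_x {z : K} (h2 : z * z = 1) (h1 : z ≠ 1) (ht : z ≠ kt) (hx : z * kx = kx * z) :
    ∃ c, c * kx = kx * c ∧ z = c * ku * c⁻¹ := by
  obtain ⟨e, q⟩ := supp8 h2 h1 ht
  obtain ⟨ρ, hρ, hc⟩ := conj_inv_c8 e uu_π q (π_x ▸ π_comm hx) (π_x ▸ π_comm k_xu.symm)
  obtain ⟨c, h0, h⟩ := lift_conj hρ (by rw [π_u]; decide +kernel)
  have cx : c * kx = kx * c := by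
    rw [← mul_inv_eq_iff_eq_mul]
    refine π_eq3 ?_ (by rw [conj_pow, k_x3]; simp) k_x3
    rw [map_mul, map_mul, map_inv, π_x, mul_inv_eq_iff_eq_mul]
    rcases h0 with h0 | h0
    · rw [h0, hc]
    · rw [h0, mul_assoc, show swap (0 : Fin 11) 1 * c3 8 = c3 8 * swap 0 1 by decide +kernel, ← mul_assoc, hc,
        mul_assoc]
  rcases h with h | h
  · exact ⟨c, cx, h⟩
  · exact ⟨_, by rw [mul_assoc, k_ix, ← mul_assoc, cx, mul_assoc], fix_u h⟩

/-! ## statements checked on all elements of `Z` -/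

noncomputable def orL {α : Type} (p : α → Bool) (l : List α) : Bool := List.rec false (fun a _ ih => bor (p a) ih) l
theorem orL_iff {α : Type} (p : α → Bool) (l : List α) : orL p l = true ↔ ∃ a ∈ l, p a = true := by
  induction l with
  | nil => simp [orL]
  | cons a l ih =>
    show bor (p a) (orL p l) = true ↔ _
    rw [bor_iff, ih]; simp

noncomputable def chkP (H C : List (List ℕ × List ℕ)) (z : ℕ) : Bool :=
  bor (orL (fun p => A.neq (A.evw (z :: TB0) p.1 A.one) (A.evw (z :: TB0) p.2 A.one)) H)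
    (orL (fun p => Nat.beq (A.evw (z :: TB0) p.1 A.one) (A.evw (z :: TB0) p.2 A.one)) C)

/-- letters with a variable -/
noncomputable def az (z : K) : ℕ → K
  | 0 => z
  | y + 1 => atm 12 (κ false) y

theorem Z_cov : ∀ y ∈ Z, ∃ x ∈ TL, XK.M x ∧ XK.el x = y :=
  gB0.cov (GS := GS) (by decide +kernel) (by decide +kernel)

theorem listP {H C : List (List ℕ × List ℕ)} (hc : lall (chkP H C) TL = true) {z : K} (hz : z ∈ Z)
    (h : ∀ p ∈ H, ev (az z) p.1 = ev (az z) p.2) : ∃ p ∈ C, ev (az z) p.1 = ev (az z) p.2 := by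
  obtain ⟨x, hx, m, rfl⟩ := Z_cov z hz
  have g : XK.Gens (x :: TB0) (az (XK.el x)) := fun y => by
    cases y with
    | zero => exact ⟨m, rfl⟩
    | succ y => exact gB0 y
  rcases (bor_iff _ _).1 ((lall_iff _ _).1 hc x hx) with h1 | h1
  · obtain ⟨p, hp, e⟩ := (orL_iff _ _).1 h1
    exact absurd (h p hp) (g.neq e)
  · obtain ⟨p, hp, e⟩ := (orL_iff _ _).1 h1
    exact ⟨p, hp, g.eq_ev e⟩

theorem az0 (z : K) : az z 0 = z := rfl
theorem azS (z : K) (y : ℕ) : az z (y + 1) = atm 12 (κ false) y := rfl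
theorem az_map (z : K) (w : List ℕ) : ev (az z) (w.map (· + 1)) = ev (atm 12 (κ false)) w := by
  induction w with
  | nil => rfl
  | cons y w ih => rw [List.map_cons, ev_cons, ev_cons, ih, azS]
theorem az1 (z : K) : az z 1 = ki := lB0
theorem az2 (z : K) : az z 2 = ki⁻¹ := lB1
theorem az5 (z : K) : az z 5 = ka := lB4
theorem az9 (z : K) : az z 9 = ku := lB8
theorem az11 (z : K) : az z 11 = ky := lB10
theorem az12 (z : K) : az z 12 = ky⁻¹ := lB11
theorem az21 (z : K) : az z 21 = kb := lB20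

theorem M7 {z : K} (hu : z * ku = ku * z) (hx : z * kx = kx * z) (h2 : z * z = 1) :
    z * (ki * z * ki⁻¹) = ki * z * ki⁻¹ * z := by
  have := listP (H := [([0, 0], []), ([0, 9], [9, 0])]) (C := [([0, 1, 0, 2], [1, 0, 2, 0])]) (by decide +kernel)
    (cenZ2 hu hx h2)
    (by simpa only [List.forall_mem_cons, List.not_mem_nil, false_imp_iff, implies_true, and_true, ev_cons, ev_nil,
      mul_one, az0, az9] using And.intro h2 hu)
  simpa only [List.mem_singleton, exists_eq_left, ev_cons, ev_nil, mul_one, mul_assoc, az0, az1, az2, az5, az9, az11, az12, az21] using this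

theorem M8a {z : K} (hu : z * ku = ku * z) (hx : z * kx = kx * z) (h2 : z * z = 1) (h1 : z ≠ 1)
    (ha : z * ka = ka * z) (h3 : (ky * z) ^ 3 = 1) : ∃ n < 3, z = ky ^ n * ka * (ky ^ n)⁻¹ := by
  have := listP (H := [([0, 0], []), ([0, 5], [5, 0]), ([0, 9], [9, 0]), ([11, 0, 11, 0, 11, 0], [])])
    (C := [([0], []), ([0], [5]), ([0], [11, 5, 12]), ([0], [11, 11, 5, 12, 12])]) (by decide +kernel) (cenZ2 hu hx h2)
    (by
      simp only [List.forall_mem_cons, List.not_mem_nil, false_imp_iff, implies_true, and_true, ev_cons, ev_nil,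
        mul_one, az0, az1, az2, az5, az9, az11, az12, az21]
      exact ⟨h2, ha, hu, by simpa only [pow_succ, pow_zero, one_mul, mul_assoc] using h3⟩)
  simp only [List.mem_cons, List.not_mem_nil, or_false, exists_eq_or_imp, exists_eq_left, ev_cons, ev_nil,
    mul_one, az0, az1, az2, az5, az9, az11, az12, az21] at this
  rcases this with e | e | e | e
  · exact absurd e h1
  · exact ⟨0, by omega, by simpa using e⟩
  · exact ⟨1, by omega, by simpa [mul_assoc] using e⟩
  · exact ⟨2, by omega, by simpa [mul_assoc, pow_two] using e⟩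

theorem M8b {z : K} (hu : z * ku = ku * z) (hx : z * kx = kx * z) (h2 : z * z = 1) (h1 : z ≠ 1)
    (ha : z * kb = kb * z) (h3 : (ky * z) ^ 3 = 1) : ∃ n < 3, z = ky ^ n * kb * (ky ^ n)⁻¹ := by
  have := listP (H := [([0, 0], []), ([0, 21], [21, 0]), ([0, 9], [9, 0]), ([11, 0, 11, 0, 11, 0], [])])
    (C := [([0], []), ([0], [21]), ([0], [11, 21, 12]), ([0], [11, 11, 21, 12, 12])]) (by decide +kernel) (cenZ2 hu hx h2)
    (by
      simp only [List.forall_mem_cons, List.not_mem_nil, false_imp_iff, implies_true, and_true, ev_cons, ev_nil,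
        mul_one, az0, az1, az2, az5, az9, az11, az12, az21]
      exact ⟨h2, ha, hu, by simpa only [pow_succ, pow_zero, one_mul, mul_assoc] using h3⟩)
  simp only [List.mem_cons, List.not_mem_nil, or_false, exists_eq_or_imp, exists_eq_left, ev_cons, ev_nil,
    mul_one, az0, az1, az2, az5, az9, az11, az12, az21] at this
  rcases this with e | e | e | e
  · exact absurd e h1
  · exact ⟨0, by omega, by simpa using e⟩
  · exact ⟨1, by omega, by simpa [mul_assoc] using e⟩
  · exact ⟨2, by omega, by simpa [mul_assoc, pow_two] using e⟩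

/-- the four-group -/
def InV (v : K) : Prop := v = 1 ∨ v = kt ∨ v = ku ∨ v = kt * ku

theorem InV.comm {v z : K} (h : InV v) (hu : z * ku = ku * z) : z * v = v * z := by
  rcases h with rfl | rfl | rfl | rfl
  exacts [by simp, t_comm z, hu, by rw [← mul_assoc, t_comm, mul_assoc, hu, mul_assoc]]

theorem inV_of {w : List ℕ} (h : orL (fun v => Nat.beq (A.evw TB0 w A.one) (A.evw TB0 v A.one)) [[], [16], [8], [16, 8]] = true) :
    InV (ev (atm 12 (κ false)) w) := by
  obtain ⟨v, hv, e⟩ := (orL_iff _ _).1 h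
  have := eqB e
  simp only [List.mem_cons, List.not_mem_nil, or_false] at hv
  rcases hv with rfl | rfl | rfl | rfl <;> simp only [ev_cons, ev_nil, mul_one, lB16, lB8] at this <;>
    simp [InV, this]

theorem M6 {z : K} (hz : z ∈ Z) (h3 : z ^ 3 = 1) : ∃ τ : K, τ * ku = ku * τ ∧ τ * kx = kx * τ ∧
    InV (ka⁻¹ * (τ * ka * τ⁻¹)) ∧ InV (kb⁻¹ * (τ * kb * τ⁻¹)) ∧ ∃ n < 3, τ * z * τ⁻¹ = ky ^ n := by
  obtain ⟨p, hp, e⟩ := listP (H := [([0, 0, 0], [])]) (C := TWs.flatMap fun τ => (List.range 3).map fun n =>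
    (τ.map (· + 1) ++ [0], (List.replicate n 10 ++ τ).map (· + 1))) (by decide +kernel) hz
    (by simpa only [List.forall_mem_cons, List.not_mem_nil, false_imp_iff, implies_true, and_true, ev_cons, ev_nil,
      mul_one, az0, pow_succ, pow_zero, one_mul, mul_assoc] using h3)
  obtain ⟨τ, hτ, hp⟩ := List.mem_flatMap.1 hp
  obtain ⟨n, hn, rfl⟩ := List.mem_map.1 hp
  have c := (lall_iff _ _).1 (show lall (fun τ => band (Nat.beq (A.evw TB0 (τ ++ [8]) A.one) (A.evw TB0 (8 :: τ) A.one))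
    (band (Nat.beq (A.evw TB0 (τ ++ [12]) A.one) (A.evw TB0 (12 :: τ) A.one))
    (band (orL (fun v => Nat.beq (A.evw TB0 (5 :: (τ ++ 4 :: invW 0 τ [])) A.one) (A.evw TB0 v A.one)) [[], [16], [8], [16, 8]])
    (orL (fun v => Nat.beq (A.evw TB0 (21 :: (τ ++ 20 :: invW 0 τ [])) A.one) (A.evw TB0 v A.one)) [[], [16], [8], [16, 8]]))))
    TWs = true by decide +kernel) τ hτ
  simp only [band_eq, Bool.and_eq_true] at c
  have c1 := eqB c.1
  have c2 := eqB c.2.1
  have c3 := inV_of c.2.2.1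
  have c4 := inV_of c.2.2.2
  have yp : ∀ n, ev (atm 12 (κ false)) (List.replicate n 10) = ky ^ n := fun n => by
    induction n with
    | zero => simp
    | succ l ih => rw [List.replicate_succ, ev_cons, ih, lB10, pow_succ']
  rw [az_map, ev_append, ev_append, az_map, yp] at e
  simp only [ev_cons, ev_append, ev_nil, mul_one, ev_invW (ivOk_zero 12 _), lB8, lB12, lB4, lB5, lB20, lB21, az0,
    ← mul_assoc] at c1 c2 c3 c4 e
  exact ⟨_, c1, c2, by simpa only [mul_assoc] using c3, by simpa only [mul_assoc] using c4, n, List.mem_range.1 hn,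
    by rw [e, mul_inv_cancel_right]⟩

/-! ## the elementary abelian group -/

theorem eE0 : eE 0 = 1 := rfl
theorem eE1 : eE 1 = kt := (evs1 16).trans lB16
theorem eE2 : eE 2 = ku := (evs1 8).trans lB8
theorem eE4 : eE 4 = ka := (evs1 4).trans lB4
theorem eE8 : eE 8 = ka2 := (evs1 18).trans lB18

theorem eE_sq : ∀ n < 16, eE n * eE n = 1 := fun n hn => by
  have := eqB ((allN_iff _ _).1 (show allN (fun n => Nat.beq (A.evw TB0 (EW.getD n [] ++ EW.getD n []) A.one)
    (A.evw TB0 [] A.one)) 16 = true by decide +kernel) n hn)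
  rwa [ev_append] at this
theorem eE_x : ∀ n < 16, eE n * kx = kx * eE n := fun n hn => by
  have := eqB ((allN_iff _ _).1 (show allN (fun n => Nat.beq (A.evw TB0 (EW.getD n [] ++ [12]) A.one)
    (A.evw TB0 (12 :: EW.getD n []) A.one)) 16 = true by decide +kernel) n hn)
  rwa [ev_append, evs1, ev_cons, lB12] at this
theorem eE_g : ∀ n < 16, kg * eE n * kg⁻¹ = eE (fg.getD n 0) := fun n hn => by
  have := eqB ((allN_iff _ _).1 (show allN (fun n => Nat.beq (A.evw TB0 (6 :: (EW.getD n [] ++ [7])) A.one)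
    (A.evw TB0 (EW.getD (fg.getD n 0) []) A.one)) 16 = true by decide +kernel) n hn)
  rwa [ev_cons, ev_append, evs1, lB6, lB7, ← mul_assoc] at this
theorem eE_i : ∀ n < 16, ki * eE n * ki⁻¹ = eE (fi.getD n 0) := fun n hn => by
  have := eqB ((allN_iff _ _).1 (show allN (fun n => Nat.beq (A.evw TB0 (0 :: (EW.getD n [] ++ [1])) A.one)
    (A.evw TB0 (EW.getD (fi.getD n 0) []) A.one)) 16 = true by decide +kernel) n hn)
  rwa [ev_cons, ev_append, evs1, lB0, lB1, ← mul_assoc] at this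
theorem eE_m : ∀ n < 16, ev (atm 12 (κ false)) (MW.getD n []) = eE (fm.getD n 0) := fun n hn =>
  eqB ((allN_iff _ _).1 (show allN (fun n => Nat.beq (A.evw TB0 (MW.getD n []) A.one)
    (A.evw TB0 (EW.getD (fm.getD n 0) []) A.one)) 16 = true by decide +kernel) n hn)
theorem eE_inj : ∀ n < 16, ∀ m < 16, eE n = eE m → n = m := fun n hn m hm e => by
  by_contra h
  have := (allN_iff _ _).1 ((allN_iff _ _).1 (show allN (fun n => allN (fun m => bor (Nat.beq n m)
    (A.neq (A.evw TB0 (EW.getD n []) A.one) (A.evw TB0 (EW.getD m []) A.one))) 16) 16 = true by decide +kernel) n hn) m hm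
  rcases (bor_iff _ _).1 this with q | q
  · exact h (Nat.eq_of_beq_eq_true q)
  · exact neB q e
theorem eE_b : ∀ n < 16, eE n * kb = kb * eE n → InV (eE n) := fun n hn e => by
  have := (allN_iff _ _).1 (show allN (fun n => bor (A.neq (A.evw TB0 (EW.getD n [] ++ [20]) A.one)
    (A.evw TB0 (20 :: EW.getD n []) A.one)) (orL (fun v => Nat.beq (A.evw TB0 (EW.getD n []) A.one) (A.evw TB0 v A.one))
      [[], [16], [8], [16, 8]])) 16 = true by decide +kernel) n hn
  rcases (bor_iff _ _).1 this with q | q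
  · have := neB q
    rw [ev_append, evs1, ev_cons, lB20] at this
    exact absurd e this
  · exact inV_of q

theorem cenV {z : K} (hu : z * ku = ku * z) (ha : z * ka = ka * z) (hy : z * ky = ky * z) (hb : z * kb = kb * z) :
    ∃ v, InV v ∧ ∃ l, z = v * kx ^ l := by
  have hy' : Commute z ky := hy
  have ha' : Commute z ka := ha
  have h2 : z * ka2 = ka2 * z := by
    rw [k_a2d]; exact ((hy'.inv_right.mul_right ha').mul_right hy').eq
  obtain ⟨n, hn, l, -, e⟩ := cenE hu ha h2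
  refine ⟨_, eE_b n hn ?_, l, e⟩
  have c0 : Commute kb kx := k_bx
  have c : kx ^ l * kb = kb * kx ^ l := (c0.symm.pow_left l).eq
  rw [e, mul_assoc, c, ← mul_assoc, ← mul_assoc] at hb
  exact mul_right_cancel hb

end Cfsg.Agent.H8Ly
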