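import Cfsg.Agent.H8.LyD
import Cfsg.Agent.Blk.ZStar

/-! # Groups of Lyons type: the embedding of `2.A11` and fusion of the four-group -/

set_option autoImplicit false
set_option linter.unusedVariables false
set_option linter.unusedSimpArgs false
set_option linter.unusedSectionVars false

namespace Cfsg.Agent.H8Ly
open Subgroup Equiv Cfsg.Agent.Spor

variable {G : Type} [Group G]

/-- `ψ` identifies the model with the centraliser of the involution `ψ kt` -/
structure LT (ψ : K →* G) : Prop where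
  inj : Function.Injective ψ
  cen : ∀ g, g * ψ kt = ψ kt * g → ∃ z, ψ z = g

theorem exists_LT {t : G} (ht : orderOf t = 2)
    (hC : IsNonsplitDoubleCover (centralizer ({t} : Set G)) (alternatingGroup (Fin 11))) :
    ∃ ψ : K →* G, LT ψ ∧ ψ kt = t := by
  obtain ⟨h2, ⟨e⟩, hns⟩ := hC
  set C := centralizer ({t} : Set G)
  let p : C →* alternatingGroup (Fin 11) := e.toMonoidHom.comp (QuotientGroup.mk' _)
  have ps : Function.Surjective p := e.surjective.comp (QuotientGroup.mk'_surjective _)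
  have pk : p.ker = center C := by
    ext c; simp [p, MonoidHom.mem_ker]
  let t' : C := ⟨t, mem_centralizer_singleton_iff.2 rfl⟩
  have t1 : t' ≠ 1 := fun q => by
    have : t = 1 := congrArg Subtype.val q
    rw [this, orderOf_one] at ht; omega
  have tc : t' ∈ center C := mem_center_iff.2 fun g => Subtype.ext (mem_centralizer_singleton_iff.1 g.2)
  have t2 : t' * t' = 1 := Subtype.ext (by have := pow_orderOf_eq_one t; rwa [ht, pow_two] at this)
  obtain ⟨L, -⟩ := Cov.lifts_two ps pk.le (IsPGroup.of_card (n := 1) (by rw [pk, h2]; rfl))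
  have fn : ∀ j < 9, Fin.ofNat 11 j ≠ 10 ∧ Fin.ofNat 11 j ≠ 9 := by decide
  have fi : ∀ i < 9, ∀ j < 9, i ≠ j → Fin.ofNat 11 i ≠ Fin.ofNat 11 j := by decide +kernel
  have ex : ∀ j, ∃ x : C, j < 9 → x * x * x = 1 ∧ (p x : P11) = c3 j := fun j => by
    by_cases hj : j < 9
    · obtain ⟨x, h⟩ := L.ex 10 9 (Fin.ofNat 11 j) (by decide) (fn j hj).1.symm (fn j hj).2.symm
      exact ⟨x, fun _ => h⟩
    · exact ⟨1, fun h => absurd h hj⟩
  choose x hx using ex
  have x0 := hx 0 (by omega)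
  have x1 := hx 1 (by omega)
  have zt : x 0 * x 1 * x 0 * x 1 = t' := by
    have m := Cov.Lifts.sq_mem (π := p) (o := 10) (s := 9) (i := 0) (j := 1) (by decide) (by decide) (by decide)
      (by decide) (by decide) (by decide) x0.2 x1.2
    rcases eq_of_card_two h2 tc t1 (pk ▸ m) with q | q
    · exfalso
      obtain ⟨σ, hσ⟩ := L.section_of (o := 10) (s := 9) (i := 0) (j := 1) (by decide) (by decide) (by decide)
        (by decide) (by decide) (by decide) x0.1 x1.1 x0.2 x1.2 (MonoidHom.id C) p (fun _ => rfl) q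
      refine hns σ.range (isComplement'_of_disjoint_and_mul_eq_univ ?_ ?_)
      · rw [← pk, disjoint_def]
        rintro _ h1 ⟨a, rfl⟩
        rw [MonoidHom.mem_ker, hσ] at h1
        rw [h1, map_one]
      · refine Set.eq_univ_of_forall fun g => ⟨g * (σ (p g))⁻¹, ?_, σ (p g), ⟨_, rfl⟩, by simp⟩
        rw [← pk]
        simp [MonoidHom.mem_ker, hσ]
    · exact q
  have car : Carm x t' := ⟨fun i hi => (hx i hi).1, fun i hi j hj ne => zt ▸
    L.z_eq (o := 10) (s := 9) (k := 0) (l := 1) (by decide) (fn i hi).1 (fn i hi).2 (fn j hj).1 (fn j hj).2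
      (fi i hi j hj ne) (by decide) (by decide) (by decide) (by decide) (by decide) (hx i hi).1 (hx j hj).1
      x0.1 x1.1 (hx i hi).2 (hx j hj).2 x0.2 x1.2, t2, fun i _ => mem_center_iff.1 tc _⟩
  obtain ⟨φ, hφ⟩ := exHom car
  have φt : φ kt = t' := by rw [tX, ← zt]; simp only [map_mul, hφ 0 (by omega), hφ 1 (by omega)]
  have pφ : ∀ j < 9, (p.comp φ) (ξ j) = cA j := fun j hj =>
    Subtype.ext (by rw [MonoidHom.comp_apply, hφ j hj, (hx j hj).2, cA_coe hj])
  haveI := simpleA11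
  have inj : Function.Injective φ := inj_of_cover πA_surj πA_ker πA_t φ (φt ▸ t1) ⟨ξ 0, ξ 1, fun q => by
    have := congrArg (fun c => (p c : P11)) q
    simp only [map_mul, coe_mul, hφ 0 (by omega), hφ 1 (by omega), x0.2, x1.2] at this
    revert this; decide +kernel⟩
  refine ⟨C.subtype.comp φ, ⟨C.subtype_injective.comp inj, fun g hg => ?_⟩, by simp [φt, t']⟩
  have hg' : g ∈ C := mem_centralizer_singleton_iff.2 (by simpa [φt, t'] using hg)
  obtain ⟨z, hz⟩ : p ⟨g, hg'⟩ ∈ (p.comp φ).range := by rw [range_eq_gsub pφ ξ_top, cA_top]; exact mem_top _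
  rcases eq_of_card_two h2 tc t1 (x := (φ z)⁻¹ * ⟨g, hg'⟩) (by
    rw [← pk, MonoidHom.mem_ker, map_mul, map_inv, ← hz]; simp) with q | q
  · exact ⟨z, congrArg Subtype.val (inv_mul_eq_one.1 q)⟩
  · exact ⟨z * kt, by
      have : φ (z * kt) = ⟨g, hg'⟩ := by rw [map_mul, φt, ← q, mul_inv_cancel_left]
      exact congrArg Subtype.val this⟩

/-- conjugation by `h` takes `ψ z` to `ψ w` -/
def Cj (ψ : K →* G) (h : G) (z w : K) : Prop := h * ψ z * h⁻¹ = ψ w

section
variable {ψ : K →* G} {h h' : G} {z w z' w' v : K}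
theorem Cj.mul (a : Cj ψ h z w) (b : Cj ψ h z' w') : Cj ψ h (z * z') (w * w') := by
  unfold Cj at *; rw [map_mul, map_mul, ← a, ← b]; group
theorem Cj.inv (a : Cj ψ h z w) : Cj ψ h z⁻¹ w⁻¹ := by
  unfold Cj at *; rw [map_inv, map_inv, ← a]; group
theorem Cj.one : Cj ψ h 1 1 := by simp [Cj]
theorem Cj.pow (a : Cj ψ h z w) (n : ℕ) : Cj ψ h (z ^ n) (w ^ n) := by
  unfold Cj at *; rw [map_pow, map_pow, ← a, conj_pow]
theorem Cj.comp (a : Cj ψ h z w) (b : Cj ψ h' w v) : Cj ψ (h' * h) z v := by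
  unfold Cj at *; rw [← b, ← a]; group
theorem Cj.symm (a : Cj ψ h z w) : Cj ψ h⁻¹ w z := by
  unfold Cj at *; rw [← a]; group
theorem Cj.ofK (c z : K) : Cj ψ (ψ c) z (c * z * c⁻¹) := by simp [Cj]
theorem Cj.thenK (a : Cj ψ h z w) (c : K) : Cj ψ (ψ c * h) z (c * w * c⁻¹) := a.comp (Cj.ofK c w)
theorem Cj.of_eq (a : Cj ψ h z w) (e : w = w') : Cj ψ h z w' := e ▸ a
theorem Cj.fixK (a : Cj ψ h z w) {c : K} (e : c * w = w * c) : Cj ψ (ψ c * h) z w :=
  (a.thenK c).of_eq (by rw [e, mul_inv_cancel_right])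
theorem Cj.self (e : h * ψ z = ψ z * h) : Cj ψ h z z := by unfold Cj; rw [e, mul_inv_cancel_right]
theorem Cj.comm_of (a : Cj ψ h z z) : h * ψ z = ψ z * h := mul_inv_eq_iff_eq_mul.1 a
theorem Cj.hpow (a : Cj ψ h z z) (n : ℕ) : Cj ψ (h ^ n) z z :=
  Cj.self (Commute.pow_left a.comm_of n)
theorem Cj.ev {n : ℕ} {f g : ℕ → K} (a : ∀ j < n, Cj ψ h (f j) (g j)) (l : List ℕ) :
    Cj ψ h (ev (atm n f) l) (ev (atm n g) l) := by
  induction l with
  | nil => exact Cj.one
  | cons y l ih =>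
    rw [ev_cons, ev_cons]
    refine Cj.mul ?_ ih
    rw [atm_def, atm_def]
    split_ifs with h1 h2
    exacts [a _ h1, (a _ h1).inv, Cj.one]

variable (L : LT ψ)
include L
theorem LT.uniq (a : Cj ψ h z w) (b : Cj ψ h z w') : w = w' := L.inj (Eq.trans (Eq.symm a) b)
theorem LT.cinj (a : Cj ψ h z w) (b : Cj ψ h z' w) : z = z' := L.uniq a.symm b.symm
theorem LT.comm (a : Cj ψ h z w) (b : Cj ψ h z' w') (e : z * z' = z' * z) : w * w' = w' * w :=
  L.uniq (a.mul b) (by rw [e]; exact b.mul a)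
theorem LT.pow1 (a : Cj ψ h z w) {n : ℕ} (e : z ^ n = 1) : w ^ n = 1 := L.uniq (a.pow n) (by rw [e]; exact Cj.one)
theorem LT.sq1 (a : Cj ψ h z w) (e : z * z = 1) : w * w = 1 := L.uniq (a.mul a) (by rw [e]; exact Cj.one)
theorem LT.ne1 (a : Cj ψ h z w) (e : z ≠ 1) : w ≠ 1 := fun q => e (L.cinj (q ▸ a) Cj.one)
theorem LT.ofK {c : K} (a : Cj ψ (ψ c) z z) : c * z = z * c := mul_inv_eq_iff_eq_mul.1 (L.uniq (Cj.ofK c z) a)
theorem LT.inK (a : Cj ψ h kt kt) : ∃ c, ψ c = h := L.cen h a.comm_of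

/-- an element taking `v` to `t` takes the centraliser of `v` into `K` -/
theorem LT.ex (a : Cj ψ h v kt) (e : z * v = v * z) : ∃ w, Cj ψ h z w := by
  obtain ⟨w, hw⟩ := L.cen (h * ψ z * h⁻¹) (by
    rw [← a]
    calc h * ψ z * h⁻¹ * (h * ψ v * h⁻¹) = h * ψ (z * v) * h⁻¹ := by rw [map_mul]; group
      _ = _ := by rw [e, map_mul]; group)
  exact ⟨w, hw.symm⟩

theorem LT.ord {z : K} (h2 : z * z = 1) (h1 : z ≠ 1) : orderOf (ψ z) = 2 := by
  rw [orderOf_injective ψ L.inj]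
  exact orderOf_eq_prime (by rw [pow_two, h2]) h1

theorem LT.exists_swap [Finite G] [IsSimpleGroup G] : ∃ r, Cj ψ r kt ku ∧ Cj ψ r ku kt := by
  have o := L.ord k_tt k_t_ne
  have : ¬ IsIsolatedInvolution (ψ kt) := fun hi => by
    haveI : Fact (Nat.Prime 2) := ⟨Nat.prime_two⟩
    have hO : pPrimeCore 2 G = ⊥ := by
      refine (inferInstance : (pPrimeCore 2 G).Normal).eq_bot_or_eq_top.resolve_right fun q => ?_
      have := Core.not_dvd_card_pPrimeCore (G := G) 2
      rw [q, card_top, ← o] at this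
      exact this (orderOf_dvd_natCard _)
    have c : ψ kt ∈ center G := mem_center_iff.2 fun g => by
      have := Blk.zstar hi g
      rw [hO, mem_bot, mul_inv_eq_one, mul_inv_eq_iff_eq_mul] at this
      exact this.symm
    rcases (inferInstance : (center G).Normal).eq_bot_or_eq_top with q | q
    · rw [q, mem_bot, map_eq_one_iff _ L.inj] at c; exact k_t_ne c
    · exact k_ab_ne (L.inj (by rw [map_mul, map_mul]; exact mem_center_iff.1 (q ▸ mem_top (ψ kb)) _))
  rw [IsIsolatedInvolution, not_and, not_forall] at this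
  obtain ⟨g, hg⟩ := this o
  rw [Classical.not_imp] at hg
  obtain ⟨z, hz⟩ := L.cen _ hg.1.eq.symm
  have a : Cj ψ g kt z := hz.symm
  obtain ⟨c, rfl⟩ := inv_conj (L.sq1 a k_tt) (L.ne1 a k_t_ne) (fun q => hg.2 (by rw [← hz, q]))
  have b : Cj ψ (ψ c⁻¹ * g) kt ku := (a.thenK c⁻¹).of_eq (by group)
  obtain ⟨w, hw⟩ := L.ex b.symm (t_comm ku).symm
  obtain ⟨d, rfl⟩ := inv_conj (L.sq1 hw k_tt) (L.ne1 hw k_t_ne) (fun q => k_u_net (L.cinj b.symm (q ▸ hw)))
  refine ⟨ψ c⁻¹ * g * ψ d, Cj.comp (Cj.self ?_) b, ?_⟩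
  · rw [← map_mul, t_comm, map_mul]
  · simpa using (Cj.ofK d ku).comp hw.symm
end

end Cfsg.Agent.H8Ly
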