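import Cfsg.Agent.H8.LyE

/-! # Groups of Lyons type: construction of the involution `m` normalising the four-group -/

set_option autoImplicit false
set_option linter.unusedVariables false
set_option linter.unusedSimpArgs false
set_option linter.unusedSectionVars false

namespace Cfsg.Agent.H8Ly
open Subgroup Equiv Cfsg.Agent.Spor

variable {G : Type} [Group G] {ψ : K →* G} {h r m : G} {z w v v' : K} {k : ℕ}

theorem inV_t : InV kt := Or.inr (Or.inl rfl)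
theorem inV_u : InV ku := Or.inr (Or.inr (Or.inl rfl))
theorem inV_tu : InV (kt * ku) := Or.inr (Or.inr (Or.inr rfl))
theorem c_xa : Commute kx ka := k_ax.symm
theorem c_xb : Commute kx kb := k_bx.symm
theorem c_xy : Commute kx ky := k_yx.symm
theorem c_xu : Commute kx ku := k_xu
theorem c_xi : Commute kx ki := k_ix.symm
theorem x_sq : kx ^ 2 = kx⁻¹ := eq_inv_of_mul_eq_one_left (by rw [← pow_succ, k_x3])
theorem y_sq : ky ^ 2 = ky⁻¹ := eq_inv_of_mul_eq_one_left (by rw [← pow_succ, k_y3])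
theorem tuu : kt * ku * ku = kt := by rw [mul_assoc, k_uu, mul_one]
theorem comm_a2 (ha : z * ka = ka * z) (hy : z * ky = ky * z) : z * ka2 = ka2 * z := by
  have hy' : Commute z ky := hy
  have ha' : Commute z ka := ha
  rw [k_a2d]; exact ((hy'.inv_right.mul_right ha').mul_right hy').eq
theorem xcube (l : ℕ) : (kx ^ l) ^ 3 = 1 := by rw [← pow_mul, mul_comm, pow_mul, k_x3, one_pow]

theorem cube_tw {H : Type*} [Group H] {y w : H} (hy : y ^ 2 = y⁻¹) (hw : w * w = 1) (h : (y ^ 2 * w) ^ 3 = 1) :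
    (y * w) ^ 3 = 1 := by
  have e : y * w = y * (y ^ 2 * w)⁻¹ * y⁻¹ := by rw [hy, mul_inv_rev, inv_eq_of_mul_eq_one_right hw]; group
  rw [e, conj_pow, inv_pow, h]; simp

structure Mt (ψ : K →* G) (m : G) : Prop where
  t : Cj ψ m kt (kt * ku)
  u : Cj ψ m ku ku
  x : Cj ψ m kx kx

theorem Mt.tu (M : Mt ψ m) : Cj ψ m (kt * ku) kt := (M.t.mul M.u).of_eq tuu

theorem Mt.mulK (M : Mt ψ m) {c : K} (hu : c * ku = ku * c) (hx : c * kx = kx * c) : Mt ψ (ψ c * m) :=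
  ⟨M.t.fixK (inV_tu.comm hu), M.u.fixK hu, M.x.fixK hx⟩

structure MA (ψ : K →* G) (m : G) (k : ℕ) : Prop extends Mt ψ m where
  a : Cj ψ m ka ka
  b : Cj ψ m kb kb2
  y : Cj ψ m ky (ky⁻¹ * kx ^ k)

theorem MA.mulK (M : MA ψ m k) {c : K} (hu : c * ku = ku * c) (hx : c * kx = kx * c) (ha : c * ka = ka * c)
    (hb : c * kb = kb * c) (hy : c * ky = ky * c) : MA ψ (ψ c * m) k := by
  have hy' : Commute c ky := hy
  have hb' : Commute c kb := hb
  have hx' : Commute c kx := hx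
  refine ⟨M.toMt.mulK hu hx, M.a.fixK ha, M.b.fixK ?_, M.y.fixK (hy'.inv_right.mul_right (hx'.pow_right k)).eq⟩
  rw [k_b2d]; exact ((hy'.inv_right.mul_right hb').mul_right hy').eq

theorem MA.yi (M : MA ψ m k) : Cj ψ m (ky⁻¹ * kx ^ k) ky := (M.y.inv.mul (M.x.pow k)).of_eq (by
  rw [mul_inv_rev, inv_inv, mul_assoc, ← (c_xy.pow_left k).eq, inv_mul_cancel_left])

theorem MA.b2 (M : MA ψ m k) : Cj ψ m kb2 kb := by
  have := (M.y.inv.mul M.b).mul M.y
  rw [← k_b2d] at this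
  refine this.of_eq ?_
  calc _ = (kx ^ k)⁻¹ * (kb * kx ^ k) := by rw [k_b2d]; group
    _ = kb := by rw [← (c_xb.pow_left k).eq, inv_mul_cancel_left]

theorem MA.a2 (M : MA ψ m k) : Cj ψ m ka2 (ky * ka * ky⁻¹) := by
  have := (M.y.inv.mul M.a).mul M.y
  rw [← k_a2d] at this
  refine this.of_eq ?_
  have c : Commute (kx ^ k) (ky * ka * ky⁻¹) := ((c_xy.mul_right c_xa).mul_right c_xy.inv_right).pow_left k
  calc _ = (kx ^ k)⁻¹ * (ky * ka * ky⁻¹ * kx ^ k) := by group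
    _ = _ := by rw [← c.eq, inv_mul_cancel_left]

variable (L : LT ψ)
include L

theorem LT.exV (a : Cj ψ h v kt) (b : Cj ψ h v' ku) (hv : InV v) (hv' : InV v') (e : z * ku = ku * z) :
    ∃ w, Cj ψ h z w ∧ w * ku = ku * w := by
  obtain ⟨w, hw⟩ := L.ex a (hv.comm e)
  exact ⟨w, hw, L.comm hw b (hv'.comm e)⟩

theorem LT.swap_x (a : Cj ψ r kt ku) (b : Cj ψ r ku kt) : Cj ψ r kx kx ∨ Cj ψ r kx kx⁻¹ := by
  obtain ⟨x', hx, xu⟩ := L.exV b a inV_u inV_t k_xu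
  have key : ∀ c, c * ku = ku * c → c ^ 3 = 1 → Commute x' c := fun c h1 h3 => by
    obtain ⟨c', hc, cu⟩ := L.exV a.symm b.symm inV_u inV_t h1
    exact L.comm hx (inv_inv r ▸ hc.symm) (comm_x_of_cube cu (L.pow1 hc h3)).symm
  have hy := key ky k_yu k_y3
  have hya := key (ky * ka) (by rw [mul_assoc, k_au, ← mul_assoc, k_yu, mul_assoc]) k_ya3
  have ha : Commute x' ka := by simpa using hy.inv_right.mul_right hya
  obtain ⟨n, hn, l, hl, e⟩ := cenE xu ha (comm_a2 ha hy)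
  have c : Commute (eE n) kx := eE_x n hn
  have h3 := L.pow1 hx k_x3
  rw [e, (c.pow_right l).mul_pow, xcube, mul_one, pow_succ, pow_two, eE_sq n hn, one_mul] at h3
  rw [h3, one_mul] at e
  interval_cases l
  · exact absurd (by simpa using e) (L.ne1 hx k_x_ne)
  · exact Or.inl (hx.of_eq (by simpa using e))
  · exact Or.inr (hx.of_eq (e.trans x_sq))

theorem LT.exists_m0 [Finite G] [IsSimpleGroup G] : ∃ m, Mt ψ m ∧
    ∀ z, z * ku = ku * z → z * kx = kx * z → z * z = 1 → ∃ w, Cj ψ m z w ∧ w * z = z * w := by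
  obtain ⟨r, a, b⟩ := L.exists_swap
  have hx := L.swap_x a b
  refine ⟨r * (ψ ki * r⁻¹), ⟨?_, ?_, ?_⟩, fun z hu hz h2 => ?_⟩
  · exact (((b.symm.thenK ki).of_eq k_iu).comp (a.mul b)).of_eq (t_comm ku)
  · exact (a.symm.fixK (t_comm ki)).comp a
  · rcases hx with hx | hx
    · exact (hx.symm.fixK k_ix).comp hx
    · have h1 : Cj ψ r kx⁻¹ kx := by simpa using hx.inv
      exact (h1.symm.fixK c_xi.symm.inv_right.eq).comp h1
  · obtain ⟨z', h1, h3⟩ := L.exV a.symm b.symm inV_u inV_t hu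
    have h4 : z' * kx = kx * z' := by
      rcases hx with hx | hx
      · exact L.comm h1 hx.symm hz
      · exact L.comm h1 hx.symm (Commute.inv_right hz).eq
    have h5 := M7 h3 h4 (L.sq1 h1 h2)
    obtain ⟨w, h6, -⟩ := L.exV (z := ki * z' * ki⁻¹) b a inV_u inV_t (by
      have e := inV_tu.comm h3
      have e2 : ku = ki * (kt * ku) * ki⁻¹ := by
        rw [← mul_assoc, t_comm ki, mul_assoc kt, mul_assoc kt, k_iu, ← mul_assoc, k_tt, one_mul]
      rw [e2]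
      calc _ = ki * (z' * (kt * ku)) * ki⁻¹ := by group
        _ = _ := by rw [e]; group)
    exact ⟨w, (h1.thenK ki).comp h6, L.comm h6 (inv_inv r ▸ h1.symm) h5.symm⟩

theorem LT.exists_m1 [Finite G] [IsSimpleGroup G] : ∃ m, Mt ψ m ∧ ∃ l < 3, ∃ n, (n = 1 ∨ n = 2) ∧
    Cj ψ m ky (ky ^ n * kx ^ l) ∧ (∃ j, Cj ψ m ka (ky ^ j * ka * (ky ^ j)⁻¹)) ∧
    ∃ j, Cj ψ m kb (ky ^ j * kb * (ky ^ j)⁻¹) := by
  obtain ⟨m, M, hm⟩ := L.exists_m0
  obtain ⟨y', h1, -⟩ := L.exV M.tu M.u inV_tu inV_u k_yu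
  obtain ⟨l, hl, z0, hz, e⟩ := cenZ (L.comm h1 M.u k_yu) (L.comm h1 M.x k_yx)
  have c : Commute kx z0 := (Z_x hz).symm
  have h3 := L.pow1 h1 k_y3
  rw [e, (c.pow_left l).mul_pow, xcube, one_mul] at h3
  obtain ⟨τ, τu, τx, τa, τb, n, hn, τz⟩ := M6 hz h3
  have M' := M.mulK τu τx
  have cτ : Commute τ kx := τx
  have hy : Cj ψ (ψ τ * m) ky (ky ^ n * kx ^ l) := (h1.thenK τ).of_eq (by
    rw [e, ← τz, (c.pow_left l).eq, mul_assoc, mul_assoc, mul_assoc, mul_assoc, (cτ.inv_left.pow_right l).eq])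
  have n0 : n ≠ 0 := by
    rintro rfl
    have := L.cinj (hy.of_eq (by simp)) (M'.x.pow l)
    interval_cases l
    exacts [k_y_ne0 (by simpa using this), k_y_ne1 (by simpa using this), k_y_ne2 this]
  have key : ∀ a : K, a * ku = ku * a → a * kx = kx * a → a * a = 1 → a ≠ 1 → (ky * a) ^ 3 = 1 →
      InV (a⁻¹ * (τ * a * τ⁻¹)) → ∃ w, Cj ψ (ψ τ * m) a w ∧ w * ku = ku * w ∧ w * kx = kx * w ∧ w * w = 1 ∧ w ≠ 1 ∧
        w * a = a * w ∧ (ky * w) ^ 3 = 1 := by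
    intro a au ax aa a1 a3 av
    obtain ⟨w, w1, w2⟩ := hm a au ax aa
    have w3 := w1.thenK τ
    have wu := L.comm w3 M'.u au
    have wx : Commute _ kx := L.comm w3 M'.x ax
    have ww := L.sq1 w3 aa
    refine ⟨_, w3, wu, wx, ww, L.ne1 w3 a1, ?_, ?_⟩
    · have c1 : Commute (τ * w * τ⁻¹) (τ * a * τ⁻¹) := by
        show _ * _ = _ * _
        calc _ = τ * (w * a) * τ⁻¹ := by group
          _ = _ := by rw [w2]; group
      have c2 : Commute (τ * w * τ⁻¹) (a⁻¹ * (τ * a * τ⁻¹)) := av.comm wu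
      have := (c1.mul_right c2.inv_right).eq
      rwa [show τ * a * τ⁻¹ * (a⁻¹ * (τ * a * τ⁻¹))⁻¹ = a by group] at this
    · have := L.pow1 (hy.mul w3) a3
      rw [mul_assoc, ← (wx.pow_right l).eq, ← mul_assoc,
        (((c_xy.symm.pow_left n).mul_left wx).pow_right l).mul_pow, xcube, mul_one] at this
      have n12 : n = 1 ∨ n = 2 := by omega
      rcases n12 with rfl | rfl
      · simpa using this
      · exact cube_tw y_sq ww this
  obtain ⟨a', a1, a2, a3, a4, a5, a6, a7⟩ := key ka k_au k_ax k_aa k_a_ne k_ya3 τa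
  obtain ⟨b', b1, b2, b3, b4, b5, b6, b7⟩ := key kb k_bu k_bx k_bb k_b_ne k_yb3 τb
  obtain ⟨j, -, ej⟩ := M8a a2 a3 a4 a5 a6 a7
  obtain ⟨j', -, ej'⟩ := M8b b2 b3 b4 b5 b6 b7
  exact ⟨_, M', l, hl, n, by omega, hy, ⟨j, a1.of_eq ej⟩, j', b1.of_eq ej'⟩

theorem LT.exists_m2 [Finite G] [IsSimpleGroup G] : ∃ m, ∃ k < 3, MA ψ m k := by
  obtain ⟨m, M, l, hl, n, hn, hy, ⟨j, ha⟩, j', hb⟩ := L.exists_m1
  have cu : Commute ky ku := k_yu
  have M' := M.mulK (c := (ky ^ j)⁻¹) (cu.pow_left j).inv_left.eq (c_xy.symm.pow_left j).inv_left.eq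
  have ha' : Cj ψ (ψ (ky ^ j)⁻¹ * m) ka ka := (ha.thenK _).of_eq (by group)
  have hy' : Cj ψ (ψ (ky ^ j)⁻¹ * m) ky (ky ^ n * kx ^ l) :=
    hy.fixK (((Commute.pow_pow_self ky j n).mul_right ((c_xy.symm.pow_left j).pow_right l)).inv_left).eq
  have e : (ky ^ j)⁻¹ * ky ^ j' = ky ^ ((2 * j + j') % 3) := by
    rw [← pow_eq_pow_mod _ k_y3, pow_add, pow_mul, y_sq, inv_pow]
  have hb' : Cj ψ (ψ (ky ^ j)⁻¹ * m) kb (ky ^ ((2 * j + j') % 3) * kb * (ky ^ ((2 * j + j') % 3))⁻¹) :=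
    (hb.thenK _).of_eq (by rw [← e]; group)
  generalize ψ (ky ^ j)⁻¹ * m = m' at *
  have q := ((ha'.mul hb').mul ha'.inv).mul hb'.inv
  rw [k_ab] at q
  have q := L.uniq q M'.t
  have l3 : (2 * j + j') % 3 < 3 := Nat.mod_lt _ (by omega)
  generalize (2 * j + j') % 3 = s at *
  have hb2 : Cj ψ m' kb kb2 := by
    interval_cases s
    · exact absurd (by simpa using q) k_ab0
    · exact absurd (by simpa using q) k_ab1
    · exact hb'.of_eq (by rw [y_sq, k_b2d, inv_inv])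
  rcases hn with rfl | rfl
  · exfalso
    have h2 : Cj ψ m' ka2 ka2 := by
      have := (hy'.inv.mul ha').mul hy'
      rw [← k_a2d] at this
      refine this.of_eq ?_
      have c : Commute (kx ^ l) ka2 := (Commute.pow_left (comm_a2 c_xa c_xy) l)
      calc _ = (kx ^ l)⁻¹ * (ka2 * kx ^ l) := by rw [k_a2d]; group
        _ = _ := by rw [← c.eq, inv_mul_cancel_left]
    have q := ((h2.mul hb2).mul h2.inv).mul hb2.inv
    rw [k_a2b] at q
    exact k_a2b2 (L.uniq q M'.u)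
  · exact ⟨m', l, hl, M', ha', hb2, y_sq ▸ hy'⟩

theorem LT.fixV (M : Mt ψ m) (hv : InV v) {l : ℕ} (a : Cj ψ m (v * kx ^ l) (v * kx ^ l)) : v = 1 ∨ v = ku := by
  have b : Cj ψ m v v := by simpa using a.mul (M.x.pow l).inv
  rcases hv with rfl | rfl | rfl | rfl
  · exact Or.inl rfl
  · exact absurd (by simpa using L.uniq b M.t) k_u_ne
  · exact Or.inr rfl
  · exact absurd (by simpa using L.uniq b M.tu) k_u_ne

omit L in
theorem InV.commx (hv : InV v) (l : ℕ) {c : K} (hu : c * ku = ku * c) (hx : c * kx = kx * c) :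
    v * kx ^ l * c = c * (v * kx ^ l) :=
  (Commute.mul_right (hv.comm hu) (Commute.pow_right hx l)).eq.symm

theorem LT.exists_m3 [Finite G] [IsSimpleGroup G] : ∃ m, ∃ k < 3, MA ψ m k ∧ m * m = 1 := by
  obtain ⟨m, k, hk, M⟩ := L.exists_m2
  obtain ⟨z, hz⟩ := L.inK (M.t.comp M.tu)
  obtain ⟨v, hv, l, e⟩ := cenV (z := z) (L.ofK (hz ▸ M.u.comp M.u)) (L.ofK (hz ▸ M.a.comp M.a))
    (L.ofK (hz ▸ M.y.comp M.yi)) (L.ofK (hz ▸ M.b.comp M.b2))
  have cm : m * ψ z = ψ z * m := by rw [hz, mul_assoc]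
  have M' : MA ψ (ψ z * m) k := e ▸ M.mulK (hv.commx l rfl c_xu.symm) (hv.commx l c_xu rfl) (hv.commx l k_au k_ax)
    (hv.commx l k_bu k_bx) (hv.commx l k_yu k_yx)
  have sq : ψ z * m * (ψ z * m) = ψ (z ^ 3) := by
    rw [mul_assoc, ← mul_assoc m, cm, mul_assoc, ← hz, pow_succ, pow_two, map_mul, map_mul, mul_assoc]
  rw [e, (Commute.pow_right (hv.comm c_xu).symm l).mul_pow, xcube, mul_one, ← e] at sq
  rcases L.fixV M.toMt hv (e ▸ Cj.self cm) with q | q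
  · exact ⟨_, k, hk, M', by rw [sq, q]; simp⟩
  · refine ⟨_, k, hk, M'.mulK (t_comm _).symm (t_comm _).symm (t_comm _).symm (t_comm _).symm (t_comm _).symm, ?_⟩
    generalize ψ z * m = n at *
    calc ψ kt * n * (ψ kt * n) = ψ kt * (n * ψ kt * n⁻¹) * (n * n) := by group
      _ = 1 := by rw [M'.t, sq, q, ← map_mul, ← map_mul, ← mul_assoc, k_tt, one_mul, ← pow_succ',
        show 3 + 1 = 2 * 2 by rfl, pow_mul, pow_two ku, k_uu, one_pow, map_one]

theorem LT.exists_m [Finite G] [IsSimpleGroup G] :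
    ∃ ψ' : K →* G, LT ψ' ∧ ψ' kt = ψ kt ∧ ∃ m, ∃ k < 2, MA ψ' m k ∧ m * m = 1 := by
  obtain ⟨m, k, hk, M, h2⟩ := L.exists_m3
  by_cases e : k < 2
  · exact ⟨ψ, L, rfl, m, k, e, M, h2⟩
  obtain rfl : k = 2 := by omega
  obtain ⟨α, αt, αu, αa, αb, αb2, αy, αx⟩ := exα
  have c : ∀ z w, Cj ψ m (α z) (α w) → Cj (ψ.comp α.toMonoidHom) m z w := fun _ _ h => h
  refine ⟨ψ.comp α.toMonoidHom, ⟨L.inj.comp α.injective, fun g hg => ?_⟩, by simp [αt], m, 1, by omega,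
    ⟨⟨c _ _ ?_, c _ _ ?_, c _ _ ?_⟩, c _ _ ?_, c _ _ ?_, c _ _ ?_⟩, h2⟩
  · obtain ⟨z, hz⟩ := L.cen g (by simpa [αt] using hg)
    exact ⟨α.symm z, by simpa using hz⟩
  · rw [map_mul, αt, αu]; exact M.t
  · rw [αu]; exact M.u
  · rw [αx]; exact M.x.inv
  · rw [αa]; exact M.a
  · rw [αb, αb2]; exact M.b
  · rw [map_mul, map_inv, pow_one, αy, αx, ← x_sq]; exact M.y

end Cfsg.Agent.H8Ly
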