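import Cfsg.Agent.H8.LyF

/-! # Groups of Lyons type: the relations satisfied by `m` -/

set_option autoImplicit false
set_option linter.unusedVariables false
set_option linter.unusedSimpArgs false
set_option linter.unusedSectionVars false
set_option maxRecDepth 100000

namespace Cfsg.Agent.H8Ly
open Subgroup Equiv Cfsg.Agent.Spor Cfsg.Agent.Spor.LyUC

theorem k_itu : ki * (kt * ku) * ki⁻¹ = ku := by
  have := eqB (w := [0, 16, 8, 1]) (u := [8]) (by decide +kernel)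
  simp only [ev_cons, ev_nil, lB0, lB1, lB8, lB16, mul_assoc, mul_inv_rev, inv_inv, pow_succ, pow_zero, one_mul, mul_one, inv_one] at this ⊢
  exact this
theorem k_ib2 : ki * kb2 * ki⁻¹ = ky * kb * ky⁻¹ := by
  have := eqB (w := [0, 22, 1]) (u := [10, 20, 11]) (by decide +kernel)
  simp only [ev_cons, ev_nil, lB0, lB1, lB10, lB11, lB20, lB22, mul_assoc, mul_inv_rev, inv_inv, pow_succ, pow_zero, one_mul, mul_one, inv_one] at this ⊢
  exact this
theorem k_iyi : ki * ky⁻¹ * ki⁻¹ = ky := by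
  have := eqB (w := [0, 11, 1]) (u := [10]) (by decide +kernel)
  simp only [ev_cons, ev_nil, lB0, lB1, lB10, lB11, mul_assoc, mul_inv_rev, inv_inv, pow_succ, pow_zero, one_mul, mul_one, inv_one] at this ⊢
  exact this
theorem k_sb2 : ks * kb2 * ks⁻¹ = ky * ka * ky⁻¹ := by
  have := eqB (w := [2, 22, 3]) (u := [10, 4, 11]) (by decide +kernel)
  simp only [ev_cons, ev_nil, lB2, lB3, lB4, lB10, lB11, lB22, mul_assoc, mul_inv_rev, inv_inv, pow_succ, pow_zero, one_mul, mul_one, inv_one] at this ⊢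
  exact this
theorem k_syi : ks * ky⁻¹ * ks⁻¹ = ky := by
  have := eqB (w := [2, 11, 3]) (u := [10]) (by decide +kernel)
  simp only [ev_cons, ev_nil, lB2, lB3, lB10, lB11, mul_assoc, mul_inv_rev, inv_inv, pow_succ, pow_zero, one_mul, mul_one, inv_one] at this ⊢
  exact this
theorem k_c1 : (ks * ky)⁻¹ * kb2 * (ks * ky) = ka := by
  have := eqB (w := [11, 3, 22, 2, 10]) (u := [4]) (by decide +kernel)
  simp only [ev_cons, ev_nil, lB2, lB3, lB4, lB10, lB11, lB22, mul_assoc, mul_inv_rev, inv_inv, pow_succ, pow_zero, one_mul, mul_one, inv_one] at this ⊢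
  exact this
theorem k_c2 : (ks * ky)⁻¹ * ka2 * (ks * ky) = kb := by
  have := eqB (w := [11, 3, 18, 2, 10]) (u := [20]) (by decide +kernel)
  simp only [ev_cons, ev_nil, lB2, lB3, lB10, lB11, lB18, lB20, mul_assoc, mul_inv_rev, inv_inv, pow_succ, pow_zero, one_mul, mul_one, inv_one] at this ⊢
  exact this
theorem k_c3 : (ks * ky)⁻¹ * ky⁻¹ * (ks * ky) = ky := by
  have := eqB (w := [11, 3, 11, 2, 10]) (u := [10]) (by decide +kernel)
  simp only [ev_cons, ev_nil, lB2, lB3, lB10, lB11, mul_assoc, mul_inv_rev, inv_inv, pow_succ, pow_zero, one_mul, mul_one, inv_one] at this ⊢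
  exact this
theorem k_igi : ki * kg * ki * (ki * kg * ki) = 1 := by
  have := eqB (w := [0, 6, 0, 0, 6, 0]) (u := []) (by decide +kernel)
  simp only [ev_cons, ev_nil, lB0, lB6, mul_assoc, mul_inv_rev, inv_inv, pow_succ, pow_zero, one_mul, mul_one, inv_one] at this ⊢
  exact this
theorem k_igix : ki * kg * ki * kx = kx * (ki * kg * ki) := by
  have := eqB (w := [0, 6, 0, 12]) (u := [12, 0, 6, 0]) (by decide +kernel)
  simp only [ev_cons, ev_nil, lB0, lB6, lB12, mul_assoc, mul_inv_rev, inv_inv, pow_succ, pow_zero, one_mul, mul_one, inv_one] at this ⊢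
  exact this
theorem k_i_inv : ki⁻¹ = ki := by
  have := eqB (w := [1]) (u := [0]) (by decide +kernel)
  simp only [ev_cons, ev_nil, lB0, lB1, mul_assoc, mul_inv_rev, inv_inv, pow_succ, pow_zero, one_mul, mul_one, inv_one] at this ⊢
  exact this

theorem inv_kill {H : Type*} [Group H] {p m ζ : H} (hp : p * p = 1) (hm : m * m = 1) {n : ℕ}
    (e : (p * m) ^ n = ζ) (c : p * ζ = ζ * p) (h3 : ζ ^ 3 = 1) : (p * m) ^ n = 1 := by
  have e1 : p * (p * m) * p⁻¹ = (p * m)⁻¹ := by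
    rw [← mul_assoc, hp, one_mul, mul_inv_rev, inv_eq_of_mul_eq_one_right hm]
  have e2 : p * ζ * p⁻¹ = ζ⁻¹ := by rw [← e, ← conj_pow, e1, inv_pow]
  rw [c, mul_inv_cancel_right] at e2
  rw [pow_succ, pow_two] at h3
  nth_rw 1 [e2] at h3
  rwa [inv_mul_cancel, one_mul, ← e] at h3

variable {G : Type} [Group G] {ψ : K →* G} {h m : G} {k : ℕ}

theorem Cj.fixx {z w : K} (a : Cj ψ h z (kx ^ k * w * (kx ^ k)⁻¹)) (c : Commute kx w) : Cj ψ h z w :=
  a.of_eq (by rw [(c.pow_left k).eq, mul_inv_cancel_right])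

theorem MA.eE (M : MA ψ m k) : ∀ n < 16, Cj ψ m (eE n) (eE (fm.getD n 0)) := fun n hn => by
  let E4 : ℕ → List ℕ := fun n => (if n % 2 = 1 then [0] else []) ++ (if n / 2 % 2 = 1 then [2] else []) ++
    (if n / 4 % 2 = 1 then [4] else []) ++ (if n / 8 % 2 = 1 then [6] else [])
  have e1 : ∀ n < 16, EW.getD n [] = subW 0 4 [[16], [8], [4], [18]] (E4 n) := by decide +kernel
  have e2 : ∀ n < 16, MW.getD n [] = subW 0 4 [[16, 8], [8], [4], [10, 4, 11]] (E4 n) := by decide +kernel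
  rw [← eE_m n hn, H8Ly.eE, e1 n hn, e2 n hn, ev_subW (ivOk_zero _ _), ev_subW (ivOk_zero _ _)]
  refine Cj.ev (fun j hj => ?_) _
  interval_cases j <;> simp only [wv, List.getD_cons_zero, List.getD_cons_succ, ev_cons, ev_nil, mul_one, lB16, lB8,
    lB4, lB18, lB10, lB11, ← mul_assoc]
  exacts [M.t, M.u, M.a, M.a2]

variable (L : LT ψ) (M : MA ψ m k) (h2 : m * m = 1)
include L M h2

theorem LT.fpf {p : K} (pp : p * p = 1) (px : p * kx = kx * p) {F : ℕ → ℕ}
    (hF : ∀ n < 16, Cj ψ (ψ p * m) (eE n) (eE (F n)))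
    (hc : ∀ n < 16, F n < 16 ∧ F (F (F (F (F n)))) = n ∧ (F n = n → n = 0)) : (ψ p * m) ^ 5 = 1 := by
  have h5 : ∀ n < 16, Cj ψ ((ψ p * m) ^ 5) (eE n) (eE n) := fun n h0 => by
    have h1 := (hc _ h0).1
    have h2 := (hc _ h1).1
    have h3 := (hc _ h2).1
    have h4 := (hc _ h3).1
    have := ((((hF _ h0).comp (hF _ h1)).comp (hF _ h2)).comp (hF _ h3)).comp (hF _ h4)
    rw [(hc _ h0).2.1] at this
    simpa only [pow_succ', pow_zero, mul_one] using this
  obtain ⟨z, hz⟩ := L.inK (eE1 ▸ h5 1 (by omega))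
  rw [← hz] at h5
  obtain ⟨n, hn, l, -, e⟩ := cenE (z := z) (L.ofK (eE2 ▸ h5 2 (by omega))) (L.ofK (eE4 ▸ h5 4 (by omega)))
    (L.ofK (eE8 ▸ h5 8 (by omega)))
  have c : Cj ψ (ψ p * m) z z := Cj.self (hz ▸ (Commute.self_pow _ 5).eq)
  have d := L.uniq (e ▸ c) ((hF n hn).mul ((M.x.fixK px).pow l))
  rw [mul_left_inj] at d
  rw [(hc n hn).2.2 (eE_inj _ hn _ (hc n hn).1 d).symm, eE0, one_mul] at e
  exact inv_kill (by rw [← map_mul, pp, map_one]) h2 hz.symm
    (by rw [← map_mul, ← map_mul, e, (Commute.pow_right px l).eq]) (by rw [← map_pow, e, xcube, map_one])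

theorem LT.gm5 : (ψ kg * m) ^ 5 = 1 :=
  L.fpf M h2 k_gg k_gx (F := fun n => fg.getD (fm.getD n 0) 0)
    (fun n hn => ((M.eE n hn).thenK kg).of_eq (eE_g _ (by revert n; decide +kernel))) (by decide +kernel)

theorem LT.igim5 : (ψ (ki * kg * ki) * m) ^ 5 = 1 :=
  L.fpf M h2 k_igi k_igix (F := fun n => fi.getD (fg.getD (fi.getD (fm.getD n 0) 0) 0) 0)
    (fun n hn => ((M.eE n hn).thenK _).of_eq (by
      have : ∀ n < 16, fm.getD n 0 < 16 ∧ fi.getD n 0 < 16 ∧ fg.getD n 0 < 16 := by decide +kernel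
      have h1 := (this n hn).1
      have h2 := (this _ h1).2.1
      rw [← eE_i _ (this _ h2).2.2, ← eE_g _ h2, ← eE_i _ h1]; group)) (by decide +kernel)

theorem LT.im3 : (ψ ki * m) ^ 3 = 1 := by
  have ht := (M.t.thenK ki).of_eq k_itu
  have hu := (M.u.thenK ki).of_eq k_iu
  have htu := M.tu.fixK (t_comm ki)
  have hx := M.x.fixK k_ix
  have ha := (M.a.thenK ki).of_eq k_ia
  have hb := (M.b.thenK ki).of_eq k_ib2
  have hy : Cj ψ (ψ ki * m) ky (ky * kx ^ k) := (M.y.thenK ki).of_eq (by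
    calc _ = ki * ky⁻¹ * ki⁻¹ * (ki * kx ^ k * ki⁻¹) := by group
      _ = _ := by rw [k_iyi, ← (c_xi.pow_left k).eq, mul_inv_cancel_right])
  have hB : ∀ n, Cj ψ (ψ ki * m) (ky ^ n * kb * (ky ^ n)⁻¹) (ky ^ (n + 1) * kb * (ky ^ (n + 1))⁻¹) := fun n => by
    refine Cj.fixx (k := k * n) ((((hy.pow n).mul hb).mul (hy.pow n).inv).of_eq ?_)
      (((c_xy.pow_right _).mul_right c_xb).mul_right (c_xy.pow_right _).inv_right)
    rw [← (c_xy.pow_left k).eq, (c_xy.pow_left k).mul_pow]; group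
  generalize hh : ψ ki * m = h at *
  have p3 : h ^ 3 = h * (h * h) := by simp only [pow_succ', pow_zero, mul_one]
  obtain ⟨z, hz⟩ := L.inK ((ht.comp hu).comp htu)
  obtain ⟨v, hv, l, e⟩ := cenV (z := z) (L.ofK (hz ▸ (hu.comp htu).comp ht)) (L.ofK (hz ▸ (ha.comp ha).comp ha))
    (L.ofK (hz ▸ ((hy.comp (hy.mul (hx.pow k))).comp ((hy.mul (hx.pow k)).mul (hx.pow k))).of_eq (by
      rw [mul_assoc, mul_assoc, show kx ^ k * (kx ^ k * kx ^ k) = (kx ^ k) ^ 3 by
        simp only [pow_succ', pow_zero, mul_one], xcube, mul_one])))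
    (L.ofK (hz ▸ by simpa [k_y3] using ((hB 0).comp (hB 1)).comp (hB 2)))
  rw [← p3] at hz
  have c : Cj ψ h z z := Cj.self (hz ▸ (Commute.self_pow _ 3).eq)
  have c' : Cj ψ h (v * kx ^ l) (v * kx ^ l) := e ▸ c
  have b : Cj ψ h v v := by simpa using c'.mul (hx.pow l).inv
  have v1 : v = 1 := by
    rcases hv with rfl | rfl | rfl | rfl
    · rfl
    · exact absurd (L.uniq ht b) k_u_net
    · exact absurd (by simpa using L.uniq hu b) k_t_ne
    · exact absurd (by simpa using L.uniq b htu) k_u_ne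
  rw [v1, one_mul] at e
  subst hh
  exact inv_kill (by rw [← map_mul, k_ii, map_one]) h2 hz.symm
    (by rw [← map_mul, ← map_mul, e, (c_xi.pow_left l).eq]) (by rw [← map_pow, e, xcube, map_one])

theorem LT.msm : ∃ e : Bool, Cj ψ m (κ e 1) (κ e 1 * ky * kx ^ k) := by
  have mi : m⁻¹ = m := inv_eq_of_mul_eq_one_right h2
  have fin : ∀ {z w w'}, Cj ψ (m * (ψ ks * m)) z w → (ks * ky)⁻¹ * w * (ks * ky) = w' → Commute kx w' →
      Cj ψ (ψ (ks * ky * kx ^ k)⁻¹ * (m * (ψ ks * m))) z w' := fun {z w w'} a e c =>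
    (a.thenK _).of_eq (by
      calc _ = (kx ^ k)⁻¹ * ((ks * ky)⁻¹ * w * (ks * ky) * kx ^ k) := by group
        _ = _ := by rw [e, ← (c.pow_left k).eq, inv_mul_cancel_left])
  have cu : Commute (ks * ky) ku := Commute.mul_left k_su k_yu
  have a1 := ((M.t.fixK (inV_tu.comm k_su)).comp M.tu).fixK (c := (ks * ky * kx ^ k)⁻¹) (t_comm _)
  have a2 := fin ((M.u.fixK k_su).comp M.u) (by rw [cu.inv_left.eq, inv_mul_cancel_right]) c_xu
  have a3 := fin (((M.a.thenK ks).of_eq k_bd.symm).comp M.b) k_c1 c_xa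
  have a4 := fin (((M.b.thenK ks).of_eq k_sb2).comp (Cj.fixx (k := k) (w := ka2)
    (((M.y.mul M.a).mul M.y.inv).of_eq (by
      rw [← (c_xy.inv_right.pow_left k).eq, k_a2d]; group)) (comm_a2 c_xa c_xy))) k_c2 c_xb
  have a5 := fin (((M.y.thenK ks).of_eq (w' := ky * (kx ^ k)⁻¹) (by
    calc _ = ks * ky⁻¹ * ks⁻¹ * (ks * kx * ks⁻¹) ^ k := by rw [conj_pow]; group
      _ = _ := by rw [k_syi, k_sx, inv_pow])).comp ((M.y.mul (M.x.pow k).inv).of_eq (mul_inv_cancel_right _ _)))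
    k_c3 c_xy
  obtain ⟨z, hz⟩ := L.inK a1
  rw [← hz] at a2 a3 a4 a5
  obtain ⟨v, hv, l, e⟩ := cenV (L.ofK a2) (L.ofK a3) (L.ofK a5) (L.ofK a4)
  have s1 : Cj ψ m ks (ks * ky * kx ^ k * (v * kx ^ l)) := by
    rw [Cj, mi, map_mul _ _ (v * _), ← e, hz, map_inv, mul_inv_cancel_left, mul_assoc]
  have s2 := mi ▸ s1.symm
  have key : ∀ v', Cj ψ m v v' → InV v' → v * v' * (kx ^ l) ^ 2 = 1 := fun v' hv' iv => by
    have := L.uniq s2 (((s1.mul M.y).mul (M.x.pow k)).mul (hv'.mul (M.x.pow l)))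
    have c1 : Commute v ky := (hv.comm k_yu).symm
    have c2 : Commute v kx := (hv.comm c_xu).symm
    have c3 : Commute v' kx := (iv.comm c_xu).symm
    have q : ks * ky * kx ^ k * (v * kx ^ l) * (ky⁻¹ * kx ^ k) * kx ^ k * (v' * kx ^ l) =
        ks * ((kx ^ k) ^ 3 * (v * v' * (kx ^ l) ^ 2)) := by
      have r1 : ∀ n w, kx ^ n * (ky⁻¹ * w) = ky⁻¹ * (kx ^ n * w) := fun n w => (c_xy.inv_right.pow_left n).left_comm w
      have r2 : ∀ w, v * (ky⁻¹ * w) = ky⁻¹ * (v * w) := fun w => c1.inv_right.left_comm w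
      have r3 : ∀ n w, kx ^ n * (v * w) = v * (kx ^ n * w) := fun n w => (c2.symm.pow_left n).left_comm w
      have r4 : ∀ n w, kx ^ n * (v' * w) = v' * (kx ^ n * w) := fun n w => (c3.symm.pow_left n).left_comm w
      simp only [← pow_mul, mul_assoc, r1, r2, r3, r4, mul_inv_cancel_left, ← pow_add]
      congr 4; ring
    rw [q, xcube, one_mul] at this
    exact mul_left_cancel (this.symm.trans (mul_one _).symm)
  have k1 : (kx ^ l) ^ 2 = 1 → kx ^ l = 1 := fun q => by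
    have := xcube l
    rwa [pow_succ, q, one_mul] at this
  have k2 : ku * (kx ^ l) ^ 2 ≠ 1 := fun q => by
    have : (ku * (kx ^ l) ^ 2) ^ 3 = 1 := by rw [q, one_pow]
    rw [← pow_mul, (c_xu.symm.pow_right (l * 2)).mul_pow, xcube, mul_one, pow_succ, pow_two, k_uu, one_mul] at this
    exact k_u_ne this
  rcases id hv with rfl | rfl | rfl | rfl
  · exact ⟨false, s1.of_eq (by rw [k1 (by simpa using key 1 Cj.one hv), mul_one, mul_one]; rfl)⟩
  · exact absurd (by simpa only [← mul_assoc kt kt, k_tt, one_mul] using key _ M.t inV_tu) k2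
  · refine ⟨true, κ_true1 ▸ (s1.mul M.t).of_eq ?_⟩
    rw [k1 (by simpa [k_uu] using key _ M.u hv), mul_one, mul_assoc, ← mul_assoc ku, t_comm ku, tuu, t_comm,
      t_comm ks]
    simp only [mul_assoc]
  · exact absurd (by simpa only [t_comm (kt * ku), ← mul_assoc kt kt, k_tt, one_mul] using key _ M.tu inV_t) k2

end Cfsg.Agent.H8Ly
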