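import Cfsg.Agent.H8.LyA
import Cfsg.Agent.Spor.LyUHa.Main
import Cfsg.Agent.Spor.LyUKa.Main
import Cfsg.Agent.Spor.LyUKb.Main
import Cfsg.Agent.Spor.LyUP.L.Main
import Cfsg.Agent.Spor.LyUD.S.Main
import Cfsg.Agent.Spor.LyUG.Main

/-! # Presentations of `McL:2` and `3.McL:2` on seven generators -/

set_option autoImplicit false
set_option linter.unusedVariables false
set_option linter.unusedSimpArgs false
set_option maxRecDepth 100000

namespace Cfsg.Agent.H8Ly
open Subgroup Equiv Cfsg.Agent.Spor Cfsg.Agent.Spor.LyUY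

theorem bound6 : Bound 6 5 LyUHa.RL (22275 * (105 * 768)) :=
  (LyUHa.cert.bound' (LyUKa.cert.bound LyUKb.cert.bound_nil (H := [([], 11, false), ([], 11, false), ([], 11, false), ([], 0, true), ([], 1, true), ([], 2, true), ([], 3, true), ([], 4, true)]) (by decide +kernel)) (H := [([], 0, true), ([], 1, true), ([], 2, true), ([], 3, true), ([], 4, true), ([], 5, true), ([], 6, true), ([], 7, true), ([], 8, true), ([], 9, true), ([], 10, true), ([], 11, true), ([], 12, true), ([], 13, true), ([], 14, true), ([], 15, true), ([], 16, true)]) (H' := [([], 17, false), ([], 17, false), ([], 17, false), ([], 17, false), ([], 0, true), ([], 1, true), ([], 2, true), ([], 3, true), ([], 4, true), ([], 5, true), ([], 6, true), ([], 7, true), ([], 8, true), ([], 9, true), ([], 10, true)]) (by decide +kernel) (by decide +kernel))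

theorem boundB : Bound 7 5 RB 1796256000 := fun G _ f h => by
  have x1 : f 6 = 1 := by simpa [atm_two_mul f (n := 7) (j := 6) (by omega)] using h.rel [12] (by decide)
  have : gsub 7 f = gsub 6 f := le_antisymm (gsub_le fun j hj => by
    by_cases e : j = 6
    · rw [e, x1]; exact one_mem _
    · exact mem_gsub f (by omega)) (gsub_le fun j hj => mem_gsub f (by omega))
  rw [this]
  exact bound6 G f (h.restrict (H := [([], 0, true), ([], 1, true), ([], 2, true), ([], 3, true), ([], 4, true), ([], 5, true), ([], 6, true), ([], 7, true), ([], 8, true), ([], 9, true), ([], 10, true), ([], 11, true), ([], 12, true), ([], 13, true), ([], 14, true), ([], 15, true), ([], 16, true)]) (by decide +kernel))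

/-- one of the two presentations -/
def PR {G : Type} [Group G] (f : ℕ → G) : Prop := Pres 7 5 (RK ++ RM0) f ∨ Pres 7 5 (RK ++ RM1) f

section
variable {G : Type} [Group G] {f : ℕ → G}

theorem PR.x3 (h : PR f) : f 6 ^ 3 = 1 := by
  have : ev (atm 7 f) [12, 12, 12] = 1 := h.elim (fun h => h.rel _ (by decide)) (fun h => h.rel _ (by decide))
  simpa [atm_two_mul f (n := 7) (j := 6) (by omega), pow_succ'] using this

theorem ev12 (f : ℕ → G) : ev (atm 7 f) [12] = f 6 := by simp [atm_two_mul f (n := 7) (j := 6) (by omega)]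

theorem PR.quot (h : PR f) : ∃ (Q : Type) (_ : Group Q) (θ : gsub 7 f →* Q), Function.Surjective θ ∧
    θ.ker = zpowers (lift (gsub 7 f) f 6) ∧ Pres 7 5 RB fun j => θ (lift (gsub 7 f) f j) := by
  have h' : PR (lift (gsub 7 f) f) := h.imp Pres.lift Pres.lift
  have t := gsub_lift 7 f
  generalize lift (gsub 7 f) f = g at *
  have e : wsub 7 g [[12]] = zpowers (g 6) := by rw [wsub_single, ev12]
  haveI : Finite (wsub 7 g [[12]]) := by
    rw [e]; exact (isOfFinOrder_iff_pow_eq_one.2 ⟨3, by omega, h'.x3⟩).finite_zpowers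
  have iv : IvOk (2 * 5) (atm 7 g) := h'.elim Pres.ivOk Pres.ivOk
  have n := norm_of_list iv (BW := [[0], [2], [4], [6], [8], [10], [12]]) (AW := [[12]])
    (I := [[[0]], [[1]], [[0]], [[0]], [[0]], [[0]], [[0]]]) (h'.elim
      (fun h => consAll_sound iv h.rel (H := [([], 12, true), ([], 13, true), ([], 14, true), ([], 15, true), ([], 20, true), ([], 16, true), ([], 24, false)]) (by decide +kernel))
      (fun h => consAll_sound iv h.rel (H := [([], 12, true), ([], 13, true), ([], 14, true), ([], 15, true), ([], 20, true), ([], 16, true), ([], 24, false)]) (by decide +kernel)))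
  rw [wsub_gens g (by decide), t, e] at n
  haveI : (zpowers (g 6)).Normal := ⟨fun a ha x => n x (mem_top x) a ha⟩
  refine ⟨_, inferInstance, QuotientGroup.mk' (zpowers (g 6)), QuotientGroup.mk'_surjective _,
    QuotientGroup.ker_mk' _, ?_⟩
  have x1 : ∀ l ∈ [[12]], ev (atm 7 fun j => QuotientGroup.mk' (zpowers (g 6)) (g j)) l = 1 := fun l hl => by
    rw [List.mem_singleton.1 hl, ev12]; exact (QuotientGroup.eq_one_iff _).2 (mem_zpowers _)
  rcases h' with h' | h'
  · exact ⟨(h'.map _).sq, ((h'.map _).append x1).cons_repl (y := 13) (u := []) (H := [([], 24, true), ([], 0, true), ([], 1, true), ([], 2, true), ([], 3, true), ([], 4, true), ([], 5, true), ([], 6, true), ([], 7, true), ([], 8, true), ([], 9, true), ([], 10, true), ([], 17, true), ([], 18, true), ([], 19, true), ([], 21, true), ([], 22, true), ([], 23, true), ([], 24, true)]) (by decide +kernel)⟩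
  · exact ⟨(h'.map _).sq, ((h'.map _).append x1).cons_repl (y := 13) (u := []) (H := [([], 24, true), ([], 0, true), ([], 1, true), ([], 2, true), ([], 3, true), ([], 4, true), ([], 5, true), ([], 6, true), ([], 7, true), ([], 8, true), ([], 9, true), ([], 10, true), ([], 42, true), ([], 18, true), ([], 44, true), ([], 21, true), ([], 22, true), ([], 23, true), ([], 24, true)]) (by decide +kernel)⟩

theorem PR.card (h : PR f) : Nat.card (gsub 7 f) ∣ 3 * 1796256000 := by
  obtain ⟨Q, _, θ, s, k, p⟩ := h.quot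
  rw [← θ.ker.card_mul_index, index_ker, range_eq_gsub (fun _ _ => rfl) (gsub_lift 7 f), k, Nat.card_zpowers]
  exact Nat.mul_dvd_mul (orderOf_dvd_of_pow_eq_one (PR.x3 (h.imp Pres.lift Pres.lift))) (boundB _ _ p)
end

theorem bound1 : Bound 7 5 (RK ++ RM1) (3 * 1796256000) := fun _ _ _ h => PR.card (Or.inr h)

/-! ## the group `McL:2` -/

noncomputable abbrev PB : Subgroup (Perm ℕ) := gsub 7 LyUP.fP
noncomputable abbrev pb : ℕ → PB := lift PB LyUP.fP
theorem cardPB : Nat.card PB = 1796256000 := Nat.dvd_antisymm (boundB _ _ LyUP.pres) LyUP.L.lb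
instance instFinitePB : Finite PB := Nat.finite_of_card_ne_zero (by rw [cardPB]; norm_num)
theorem exPB {Q : Type} [Group Q] {g : ℕ → Q} (h : Pres 7 5 RB g) : ∃ ψ : PB →* Q, ∀ j < 7, ψ (pb j) = g j :=
  boundB.exists_hom (by norm_num) LyUP.pres h LyUP.L.lb

theorem stab_eq {Γ : Type*} [Group Γ] [Finite Γ] {L B : Subgroup Γ} {φ : Γ →* Perm ℕ} {p s t : ℕ} (hB : B ≤ L)
    (hf : ∀ x ∈ B, φ x p = p) (ho : (orbS (L.map φ) p).ncard = s) (hs : 0 < s) (hL : Nat.card L = s * t)
    (ht : t ∣ Nat.card B) : ∀ x ∈ L, φ x p = p → x ∈ B := by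
  letI : MulAction L ℕ := MulAction.compHom ℕ (φ.comp L.subtype)
  have e1 : MulAction.orbit L p = orbS (L.map φ) p := by
    ext c
    exact ⟨fun ⟨g, e⟩ => ⟨_, ⟨g, g.2, rfl⟩, e⟩, fun ⟨_, ⟨g, hg, e1⟩, e⟩ => ⟨⟨g, hg⟩, by subst e1; exact e⟩⟩
  have e2 := (MulAction.stabilizer L p).index_mul_card
  rw [MulAction.index_stabilizer, e1, ho, hL] at e2
  have e3 : B.subgroupOf L = MulAction.stabilizer L p := eq_of_le_of_card_ge (fun g hg => hf g hg) (by
    rw [Nat.eq_of_mul_eq_mul_left hs e2, Nat.card_congr (subgroupOfEquivOfLe hB).toEquiv]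
    exact Nat.le_of_dvd Nat.card_pos ht)
  intro x hx e
  have : (⟨x, hx⟩ : L) ∈ B.subgroupOf L := e3 ▸ e
  exact this

theorem PB_facts : IsCoatom (wsub 7 pb LW) ∧ ∀ ζ ∈ wsub 7 pb LW,
    (ev (atm 7 pb) [0, 10])⁻¹ * ζ * ev (atm 7 pb) [0, 10] ∈ wsub 7 pb LW → ζ ∈ wsub 7 pb SBW := by
  obtain ⟨φ, hφ⟩ := exPB LyUD.pres
  have t := gsub_lift 7 LyUP.fP
  have a := LyUD.S.act hφ t (s := 116640) (by rw [card_wsub_lift]; exact LyUP.L.cardL) (by rw [cardPB])
  refine ⟨LyUD.S.coatom hφ t a, fun ζ h1 h2 => ?_⟩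
  have c := (wsub 7 pb LW).index_mul_card
  rw [a.index, cardPB] at c
  refine stab_eq (fun x hx => (a.stab x).1 (LyUD.S.fix0 hφ x hx)) (LyUD.S.fix3 hφ) (LyUD.S.orb3 hφ) (by norm_num)
    (t := 1296) (by omega) (by rw [card_wsub_lift]; exact LyUP.L.cardB) ζ h1 ?_
  have := (a.stab _).2 h2
  rwa [map_mul, map_mul, map_inv, Perm.mul_apply, Perm.mul_apply, Perm.inv_eq_iff_eq, LyUD.S.send hφ] at this

/-- elements centralising or inverting `b` -/
def NZ {H : Type*} [Group H] (b : H) : Subgroup H where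
  carrier := {g | g * b * g⁻¹ = b ∨ g * b * g⁻¹ = b⁻¹}
  one_mem' := Or.inl (by simp)
  mul_mem' := fun {x y} hx hy => by
    have e : x * y * b * (x * y)⁻¹ = x * (y * b * y⁻¹) * x⁻¹ := by group
    have e2 : x * b⁻¹ * x⁻¹ = (x * b * x⁻¹)⁻¹ := by group
    rcases hx with hx | hx <;> rcases hy with hy | hy <;> simp only [Set.mem_setOf_eq, e, hy, e2, hx, inv_inv] <;> simp
  inv_mem' := fun {x} hx => by
    rcases hx with hx | hx
    · left; conv_lhs => rw [← hx]
      group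
    · right
      calc x⁻¹ * b * x⁻¹⁻¹ = x⁻¹ * (b⁻¹)⁻¹ * x := by simp
        _ = b⁻¹ := by conv_lhs => rw [← hx]
                      group

theorem NZ_map {H H' : Type*} [Group H] [Group H'] (θ : H →* H') {b g : H} (h : g ∈ NZ b) : θ g ∈ NZ (θ b) :=
  h.imp (fun e => by simpa using congrArg θ e) (fun e => by simpa using congrArg θ e)

section
variable {G : Type} [Group G] {f : ℕ → G}

theorem PR.mem2 (h : PR f) {b : G} (hb : b = ev (atm 7 f) (WD.getD 2 [])) (hL : ∀ w ∈ LW, ev (atm 7 f) w ∈ NZ b)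
    (hx : f 6 * b = b * f 6) (hne : f 2 * b * (f 2)⁻¹ * b ≠ b * (f 2 * b * (f 2)⁻¹)) {z : G} (hz : z ∈ gsub 7 f)
    (h1 : z ∈ NZ b) (h2 : (ev (atm 7 f) [0, 10])⁻¹ * z * ev (atm 7 f) [0, 10] ∈ NZ b) {S : Subgroup G}
    (hS : ∀ w ∈ SBW, ev (atm 7 f) w ∈ S) (hxS : f 6 ∈ S) : z ∈ S := by
  obtain ⟨Q, _, θ, s, k, p⟩ := h.quot
  obtain ⟨ρ, hρ⟩ := exPB p
  have hl := lift_gsub (n := 7) f
  set g := lift (gsub 7 f) f
  have ee : ∀ w, ρ (ev (atm 7 pb) w) = θ (ev (atm 7 g) w) := fun w => by rw [ev_atm_map' hρ, ev_atm_map]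
  have ec : ∀ w, ((ev (atm 7 g) w : gsub 7 f) : G) = ev (atm 7 f) w := fun w => ev_atm_map' hl w
  have nz : ∀ {y : gsub 7 f}, (y : G) ∈ NZ b → θ y ∈ NZ (θ (ev (atm 7 g) (WD.getD 2 []))) := fun {y} hy =>
    NZ_map θ (hy.imp (fun e => Subtype.ext (by simpa only [coe_mul, coe_inv, ec, hb] using e))
      (fun e => Subtype.ext (by simpa only [coe_mul, coe_inv, ec, hb] using e)))
  have g6 : (g 6 : G) = f 6 := hl 6 (by omega)
  have key : (NZ (θ (ev (atm 7 g) (WD.getD 2 [])))).comap ρ = wsub 7 pb LW := by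
    have le : wsub 7 pb LW ≤ (NZ (θ (ev (atm 7 g) (WD.getD 2 [])))).comap ρ := wsub_le fun w hw => by
      rw [mem_comap, ee]; exact nz (by rw [ec]; exact hL w hw)
    refine (PB_facts.1.le_iff.1 le).resolve_left fun q => hne ?_
    have m : pb 2 ∈ (NZ (θ (ev (atm 7 g) (WD.getD 2 [])))).comap ρ := q ▸ mem_top _
    rw [mem_comap, hρ 2 (by omega)] at m
    have g2 : (g 2 : G) = f 2 := hl 2 (by omega)
    have cb : ∀ y : gsub 7 f, θ y = 1 → Commute b y := fun y hy => by
      obtain ⟨n, rfl⟩ : y ∈ zpowers (g 6) := k ▸ hy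
      rw [coe_zpow, g6]; exact (Commute.symm hx).zpow_right n
    set B := ev (atm 7 g) (WD.getD 2 [])
    have eB : (B : G) = b := hb ▸ ec _
    rcases m with m | m
    · have := cb (B⁻¹ * (g 2 * B * (g 2)⁻¹)) (by simp only [map_mul, map_inv, m, inv_mul_cancel])
      simpa [eB, g2] using ((Commute.refl b).mul_right this).eq.symm
    · have := cb (B * (g 2 * B * (g 2)⁻¹)) (by simp only [map_mul, map_inv, m, mul_inv_cancel])
      simpa [eB, g2] using ((Commute.refl b).inv_right.mul_right this).eq.symm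
  obtain ⟨ζ, hζ⟩ : θ ⟨z, hz⟩ ∈ ρ.range := by
    rw [range_eq_gsub hρ (gsub_lift 7 _), ← range_eq_gsub (φ := θ) (fun _ _ => rfl) (gsub_lift 7 f)]; exact ⟨_, rfl⟩
  have m := PB_facts.2 ζ (key ▸ (show ρ ζ ∈ NZ _ from hζ ▸ nz h1)) (key ▸ (show ρ _ ∈ NZ _ by
    rw [map_mul, map_mul, map_inv, hζ, ee, ← map_inv, ← map_mul, ← map_mul]
    exact nz (by simpa only [coe_mul, coe_inv, ec] using h2)))
  have m2 : θ ⟨z, hz⟩ ∈ (wsub 7 g SBW).map θ := by
    rw [wsub_map (fun _ _ => rfl), ← wsub_map hρ]; exact ⟨ζ, m, hζ⟩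
  obtain ⟨y, hy, e⟩ := m2
  have y1 : (y : G) ∈ S := (wsub_le (K := S.comap (gsub 7 f).subtype) fun w hw => by
    rw [mem_comap, coe_subtype, ec]; exact hS w hw) hy
  obtain ⟨n, e2⟩ : y⁻¹ * ⟨z, hz⟩ ∈ zpowers (g 6) := k ▸ (by rw [MonoidHom.mem_ker, map_mul, map_inv, e, inv_mul_cancel])
  have e3 : z = y * f 6 ^ n := by
    have := congrArg Subtype.val e2
    simp only [coe_zpow, g6, coe_mul, coe_inv] at this
    rw [this, mul_inv_cancel_left]
  exact e3 ▸ mul_mem y1 (zpow_mem hxS n)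

theorem ev_avoid {n q : ℕ} {g : ℕ → G} (h : ∀ j < n, j ≠ q → f j = g j) {l : List ℕ}
    (hl : l.all (fun y => y / 2 != q) = true) : ev (atm n f) l = ev (atm n g) l := by
  induction l with
  | nil => rfl
  | cons y l ih =>
    simp only [List.all_cons, Bool.and_eq_true, bne_iff_ne] at hl
    rw [ev_cons, ev_cons, ih (by simpa using hl.2), atm_def, atm_def]
    split_ifs with h1 h2
    · rw [h _ h1 hl.1]
    · rw [h _ h1 hl.1]
    · rfl

theorem rel0 (h : Pres 7 5 (RK ++ RM0) f) : ∀ l ∈ RY0, ev (atm 11 (wv 7 f WD)) l = 1 := by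
  let f' : ℕ → G := fun j => if j = 6 then 1 else f j
  have e : ∀ j < 7, j ≠ 6 → f' j = f j := fun j _ hj => if_neg hj
  have p : Pres 7 5 RB f' := ⟨fun j h1 h2 => by rw [e j h2 (by omega)]; exact h.sq j h1 h2, fun l hl => by
    have : ∀ l ∈ RB, l = [12] ∨ (l ∈ RK ++ RM0 ∧ l.all (fun y => y / 2 != 6) = true) := by decide +kernel
    rcases this l hl with rfl | ⟨h1, h2⟩
    · rw [ev12]; rfl
    · rw [ev_avoid e h2]; exact h.rel l h1⟩
  obtain ⟨ρ, hρ⟩ := exPB p
  have q : Pres 11 0 RY0 (wv 7 pb WD) :=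
    Pres.of_map PB.subtype_injective (fun j _ => wv_map (lift_gsub _) WD j) LyUP.L.pyW
  have q2 := (q.map ρ).congr (g := wv 7 f' WD) fun j _ => wv_map hρ WD j
  intro l hl
  rw [← q2.rel l hl]
  refine ev_avoid (q := 10) (fun j hj h10 => (ev_avoid e ?_).symm) ?_
  · revert j; decide +kernel
  · revert l; decide +kernel
end

/-! ## the group `3.McL:2` -/

noncomputable abbrev Γ1 : Subgroup (GL (Fin LyM.A.d) (ZMod 5)) := gsub 7 LyUG.F
noncomputable abbrev γ1 : ℕ → Γ1 := lift Γ1 LyUG.F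

theorem cardΓ1 : Nat.card Γ1 = 3 * 1796256000 := by
  have d := bound1 _ _ LyUG.presF
  have c := LyK.cC.card
  rw [LyMca.cardP] at c
  let C := (gsub 4 (LyM.X.gen LyK.TC)).map LyM.H.subtype
  have c' : Nat.card C = 3 * 898128000 := by rw [card_map_of_injective LyM.H.subtype_injective, c]
  have le : C ≤ Γ1 := by
    rw [map_le_iff_le_comap]; exact gsub_le LyUG.memC
  obtain ⟨q, hq⟩ := card_dvd_of_le le
  rw [hq, c'] at d
  have q2 : q ∣ 2 := Nat.dvd_of_mul_dvd_mul_left (by norm_num : 0 < 3 * 898128000) d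
  rcases (Nat.dvd_prime Nat.prime_two).1 q2 with rfl | rfl
  · exfalso
    haveI : Finite Γ1 := Nat.finite_of_card_ne_zero (by rw [hq, c']; norm_num)
    have e : C = Γ1 := eq_of_le_of_card_ge le (by omega)
    obtain ⟨y, hy, e1⟩ : ev (atm 7 LyUG.F) [2] ∈ C := e ▸ ev_atm_mem _ _ _
    have := congrArg Subtype.val (LyK.cC.comm y hy)
    rw [coe_mul, coe_mul, LyUG.ex, show (y : GL (Fin LyM.A.d) (ZMod 5)) = _ from e1, ← ev_append, ← ev_append] at this
    exact LyUG.sxne this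
  · rw [hq, c']

instance instFiniteΓ1 : Finite Γ1 := Nat.finite_of_card_ne_zero (by rw [cardΓ1]; norm_num)

theorem exΓ1 {Q : Type} [Group Q] {g : ℕ → Q} (h : Pres 7 5 (RK ++ RM1) g) :
    ∃ ψ : Γ1 →* Q, ∀ j < 7, ψ (γ1 j) = g j :=
  bound1.exists_hom (by norm_num) LyUG.presF h (cardΓ1 ▸ dvd_refl _)

theorem rel1 {G : Type} [Group G] {f : ℕ → G} (h : Pres 7 5 (RK ++ RM1) f) :
    ∀ l ∈ RY1, ev (atm 11 (wv 7 f WD)) l = 1 := by
  obtain ⟨ρ, hρ⟩ := exΓ1 h
  have q : Pres 11 0 RY1 (wv 7 γ1 WD) :=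
    Pres.of_map Γ1.subtype_injective (fun j _ => wv_map (lift_gsub _) WD j)
      ⟨fun _ h => absurd h (Nat.not_lt_zero _), LyUG.relU⟩
  exact ((q.map ρ).congr (g := wv 7 f WD) fun j _ => wv_map hρ WD j).rel

end Cfsg.Agent.H8Ly
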