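import Cfsg.Agent.H8.LyG
import Cfsg.Agent.H8.LyH
import Cfsg.Agent.H8.SE2

/-! # Groups of Lyons type: the normaliser of the subgroup of order three -/

set_option autoImplicit false
set_option linter.unusedVariables false
set_option linter.unusedSimpArgs false
set_option linter.unusedSectionVars false
set_option maxRecDepth 100000

namespace Cfsg.Agent.H8Ly
open Subgroup Equiv Cfsg.Agent.Spor Cfsg.Agent.Spor.LyUC Cfsg.Agent.Spor.LyUY

variable {G : Type} [Group G] {ψ : K →* G} {m : G} {k : ℕ} {e : Bool}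

/-- the generators -/
noncomputable def gf (ψ : K →* G) (e : Bool) (m : G) (j : ℕ) : G := if j = 4 then m else ψ (κ e j)

theorem gf_ne {j : ℕ} (h : j ≠ 4) : gf ψ e m j = ψ (κ e j) := if_neg h
theorem gf_ne' {j : ℕ} (h : j ≠ 4) (h1 : j ≠ 1) (h2 : j < 12) : gf ψ e m j = ψ (κ false j) := by
  rw [gf_ne h, κ_eq e h2 h1]

theorem ev_free {n : ℕ} (hn : n ≤ 12) {l : List ℕ} (h : l.all (fun y => y / 2 != 4 && y < 2 * n) = true) :
    ev (atm n (gf ψ e m)) l = ψ (ev (atm 12 (κ e)) l) := by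
  simp only [List.all_eq_true, Bool.and_eq_true, decide_eq_true_eq] at h
  rw [ev_atm_lt hn _ fun y hy => (h y hy).2, ev_atm_map]
  exact ev_avoid (q := 4) (fun j _ hj => gf_ne hj) (List.all_eq_true.2 fun y hy => (h y hy).1)

theorem free_one {n : ℕ} (hn : n ≤ 12) {R : List (List ℕ)}
    (h : lall (fun l => band (l.all fun y => y / 2 != 4 && y < 2 * n) (A.isW (TB e) l A.one)) R = true) :
    ∀ l ∈ R, ev (atm n (gf ψ e m)) l = 1 := fun l hl => by
  have := (lall_iff _ _).1 h l hl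
  rw [band_eq, Bool.and_eq_true] at this
  rw [ev_free hn this.1, (gB e).eq_one this.2, map_one]

section
variable {n : ℕ} (hn : 7 ≤ n)
include hn
theorem af0 : atm n (gf ψ e m) 0 = ψ ki := (atm_two_mul _ (j := 0) (by omega)).trans (gf_ne' (by omega) (by omega) (by omega))
theorem af2 : atm n (gf ψ e m) 2 = ψ (κ e 1) := (atm_two_mul _ (j := 1) (by omega)).trans (gf_ne (by omega))
theorem af4 : atm n (gf ψ e m) 4 = ψ ka := (atm_two_mul _ (j := 2) (by omega)).trans (gf_ne' (by omega) (by omega) (by omega))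
theorem af6 : atm n (gf ψ e m) 6 = ψ kg := (atm_two_mul _ (j := 3) (by omega)).trans (gf_ne' (by omega) (by omega) (by omega))
theorem af8 : atm n (gf ψ e m) 8 = m := atm_two_mul _ (j := 4) (by omega)
theorem af10 : atm n (gf ψ e m) 10 = ψ ky := (atm_two_mul _ (j := 5) (by omega)).trans (gf_ne' (by omega) (by omega) (by omega))
theorem af11 : atm n (gf ψ e m) 11 = (ψ ky)⁻¹ := (atm_odd _ (j := 5) (by omega)).trans (congrArg _ (gf_ne' (by omega) (by omega) (by omega)))
theorem af12 : atm n (gf ψ e m) 12 = ψ kx := (atm_two_mul _ (j := 6) (by omega)).trans (gf_ne' (by omega) (by omega) (by omega))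
theorem af13 : atm n (gf ψ e m) 13 = (ψ kx)⁻¹ := (atm_odd _ (j := 6) (by omega)).trans (congrArg _ (gf_ne' (by omega) (by omega) (by omega)))
end

theorem SS (e : Bool) : κ e 1 * κ e 1 = 1 := by
  have := (gB e).eq_one (w := [2, 2]) (by cases e <;> decide +kernel)
  rwa [ev_cons, ev_cons, ev_nil, mul_one, atm_two_mul _ (j := 1) (by omega)] at this

theorem LT.pr (L : LT ψ) (hk : k < 2) (M : MA ψ m k) (h2 : m * m = 1) : ∃ e, PR (gf ψ e m) := by
  obtain ⟨e, hs⟩ := L.msm M h2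
  have mi : m⁻¹ = m := inv_eq_of_mul_eq_one_right h2
  have sq : ∀ j < 5, j < 7 → gf ψ e m j * gf ψ e m j = 1 := fun j hj _ => by
    interval_cases j
    · rw [gf_ne' (by omega) (by omega) (by omega), ← map_mul]; exact (congrArg ψ k_ii).trans (map_one _)
    · rw [gf_ne (by omega), ← map_mul, SS, map_one]
    · rw [gf_ne' (by omega) (by omega) (by omega), ← map_mul]; exact (congrArg ψ k_aa).trans (map_one _)
    · rw [gf_ne' (by omega) (by omega) (by omega), ← map_mul]; exact (congrArg ψ k_gg).trans (map_one _)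
    · exact h2
  have rk : ∀ l ∈ RK, ev (atm 7 (gf ψ e m)) l = 1 := free_one (by omega) (by cases e <;> decide +kernel)
  have cj : ∀ {z w : K}, Cj ψ m z w → ∀ g, m * (ψ z * (m * g)) = ψ w * g := fun {z w} a g => by
    rw [← a, mi]; simp only [mul_assoc]
  have r1 := cj hs ((ψ kx ^ k)⁻¹ * ((ψ ky)⁻¹ * ψ (κ e 1)))
  have r2 := cj M.a (ψ ka)
  have r3 := cj M.y ((ψ kx ^ k)⁻¹ * ψ ky)
  have r4 := cj M.x (ψ kx)⁻¹
  have r5 := L.im3 M h2
  have r6 := L.gm5 M h2
  have r7 := L.igim5 M h2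
  rw [← map_mul, k_aa, map_one] at r2
  simp only [map_mul, map_pow, map_inv, mul_assoc, mul_inv_cancel_left, inv_mul_cancel, mul_inv_cancel] at r1 r3 r4 r7
  rw [← map_mul, SS, map_one] at r1
  simp only [pow_succ', pow_zero, mul_one, mul_assoc] at r5 r6 r7
  have h7 : 7 ≤ 7 := le_rfl
  refine ⟨e, ?_⟩
  interval_cases k
  · refine Or.inl (Pres.append ⟨sq, rk⟩ ?_)
    simp only [RM0, List.forall_mem_cons, List.not_mem_nil, false_imp_iff, implies_true, and_true, ev_cons, ev_nil,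
      mul_one, af0 h7, af2 h7, af4 h7, af6 h7, af8 h7, af10 h7, af11 h7, af12 h7, af13 h7]
    exact ⟨by simpa using r1, r2, by simpa using r3, r4, r5, r6, r7⟩
  · refine Or.inr (Pres.append ⟨sq, rk⟩ ?_)
    simp only [RM1, List.forall_mem_cons, List.not_mem_nil, false_imp_iff, implies_true, and_true, ev_cons, ev_nil,
      mul_one, af0 h7, af2 h7, af4 h7, af6 h7, af8 h7, af10 h7, af11 h7, af12 h7, af13 h7]
    exact ⟨by simpa using r1, r2, by simpa using r3, r4, r5, r6, r7⟩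

theorem tB (e : Bool) : ev (atm 12 (κ e)) [4, 2, 4, 2, 4, 2, 4, 2] = kt := by
  have := (gB e).eq_ev (w := [4, 2, 4, 2, 4, 2, 4, 2]) (u := [16]) (by cases e <;> decide +kernel)
  rwa [ev_cons _ 16, ev_nil, mul_one, atm_two_mul _ (j := 8) (by omega), κ_eq e (by omega) (by omega)] at this

theorem t_mem {S : Subgroup G} (h : gsub 7 (gf ψ e m) ≤ S) : ψ kt ∈ S := by
  rw [← tB e, ← ev_free (n := 7) (m := m) (by omega) (by decide)]
  exact h (ev_atm_mem _ _ _)

theorem lets_mem {S : Subgroup G} (h : gsub 7 (gf ψ e m) ≤ S) : ∀ j ∈ [0, 1, 2, 3, 5, 6], κ false j ∈ S.comap ψ := by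
  have a : ∀ j < 7, j ≠ 4 → j ≠ 1 → κ false j ∈ S.comap ψ := fun j h1 h2 h3 => by
    rw [mem_comap, ← gf_ne' (e := e) (m := m) h2 h3 (by omega)]; exact h (mem_gsub _ h1)
  simp only [List.forall_mem_cons, List.not_mem_nil, false_imp_iff, implies_true, and_true]
  refine ⟨a 0 (by omega) (by omega) (by omega), ?_, a 2 (by omega) (by omega) (by omega),
    a 3 (by omega) (by omega) (by omega), a 5 (by omega) (by omega) (by omega), a 6 (by omega) (by omega) (by omega)⟩
  have s : κ e 1 ∈ S.comap ψ := by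
    rw [mem_comap, ← gf_ne (m := m) (by omega)]; exact h (mem_gsub _ (by omega))
  cases e
  · exact s
  · rw [κ_true1] at s
    exact ((S.comap ψ).mul_mem_cancel_right (y := ks) (show kt ∈ S.comap ψ from t_mem h)).1 s

theorem cx_mem {S : Subgroup G} (h : gsub 7 (gf ψ e m) ≤ S) {z : K} (hz : z * kx = kx * z) : ψ z ∈ S :=
  cenX hz (lets_mem h) (t_mem h)

theorem Mt.im (M : Mt ψ m) (c : K) : ψ c * (ψ ki * m) * ψ kt * (ψ c * (ψ ki * m))⁻¹ = ψ (c * ku * c⁻¹) :=
  ((M.t.thenK ki).of_eq k_itu).thenK c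

theorem LT.cenx_le [Finite G] (L : LT ψ) (M : Mt ψ m) (e : Bool) : centralizer {ψ kx} ≤ gsub 7 (gf ψ e m) := by
  have mc : ∀ {z : K}, z * kx = kx * z → ψ z ∈ centralizer {ψ kx} := fun {z} h =>
    mem_centralizer_singleton_iff.2 (by rw [← map_mul, h, map_mul])
  have cm : ∀ {z : K}, ψ z ∈ centralizer {ψ kx} → z * kx = kx * z := fun {z} h =>
    L.inj (by rw [map_mul, map_mul]; exact mem_centralizer_singleton_iff.1 h)
  refine H8SE.se_le (t := ψ kt) (a := ψ ka) (b := ψ kb) (L.ord k_tt k_t_ne) (t_mem le_rfl) (mc (t_comm _).symm)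
    (fun g hg h => ?_) (fun s hs s2 h => ?_) (L.ord k_aa k_a_ne) (L.ord k_bb k_b_ne) (cx_mem le_rfl k_ax)
    (cx_mem le_rfl k_bx) (mc k_ax) (mc k_bx) (by rw [← map_mul, ← map_mul, k_abab])
  · obtain ⟨z, rfl⟩ := L.cen g h
    exact cx_mem le_rfl (cm hg)
  · obtain ⟨z, rfl⟩ := L.cen s h
    by_cases ht : z = kt
    · exact ⟨1, one_mem _, one_mem _, by simp [ht]⟩
    rw [orderOf_injective ψ L.inj] at s2
    obtain ⟨c, hc, rfl⟩ := inv_conj_x (Inv.sq_of_ord2 s2) (Inv.ne_one_of_ord2 s2) ht (cm hs)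
    refine ⟨_, mul_mem (cx_mem le_rfl hc) (mul_mem (cx_mem le_rfl k_ix) (mem_gsub (gf ψ e m) (j := 4) (by omega))),
      mul_mem (mc hc) (mul_mem (mc k_ix) (mem_centralizer_singleton_iff.2 M.x.comm_of)), M.im c⟩

end Cfsg.Agent.H8Ly
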