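import Cfsg.Agent.H8.LyI

/-! # Groups of Lyons type: the last relation -/

set_option autoImplicit false
set_option linter.unusedVariables false
set_option linter.unusedSimpArgs false
set_option linter.unusedSectionVars false
set_option maxRecDepth 100000

namespace Cfsg.Agent.H8Ly
open Subgroup Equiv Cfsg.Agent.Spor Cfsg.Agent.Spor.LyUC Cfsg.Agent.Spor.LyUY

theorem lE4 (e : Bool) : atm 12 (ε e) 4 = ε e 2 := atm_two_mul _ (j := 2) (by omega)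
theorem lE5 (e : Bool) : atm 12 (ε e) 5 = (ε e 2)⁻¹ := atm_odd _ (j := 2) (by omega)
theorem lE6 (e : Bool) : atm 12 (ε e) 6 = ε e 3 := atm_two_mul _ (j := 3) (by omega)
theorem lE7 (e : Bool) : atm 12 (ε e) 7 = (ε e 3)⁻¹ := atm_odd _ (j := 3) (by omega)
theorem lE8 (e : Bool) : atm 12 (ε e) 8 = ε e 4 := atm_two_mul _ (j := 4) (by omega)
theorem lE9 (e : Bool) : atm 12 (ε e) 9 = (ε e 4)⁻¹ := atm_odd _ (j := 4) (by omega)
theorem lE10 (e : Bool) : atm 12 (ε e) 10 = ε e 5 := atm_two_mul _ (j := 5) (by omega)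
theorem lE11 (e : Bool) : atm 12 (ε e) 11 = (ε e 5)⁻¹ := atm_odd _ (j := 5) (by omega)
theorem lE12 (e : Bool) : atm 12 (ε e) 12 = ε e 6 := atm_two_mul _ (j := 6) (by omega)
theorem lE13 (e : Bool) : atm 12 (ε e) 13 = (ε e 6)⁻¹ := atm_odd _ (j := 6) (by omega)
theorem lE14 (e : Bool) : atm 12 (ε e) 14 = ε e 7 := atm_two_mul _ (j := 7) (by omega)
theorem lE15 (e : Bool) : atm 12 (ε e) 15 = (ε e 7)⁻¹ := atm_odd _ (j := 7) (by omega)
theorem lE16 (e : Bool) : atm 12 (ε e) 16 = ε e 8 := atm_two_mul _ (j := 8) (by omega)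
theorem lE17 (e : Bool) : atm 12 (ε e) 17 = (ε e 8)⁻¹ := atm_odd _ (j := 8) (by omega)
theorem lE18 (e : Bool) : atm 12 (ε e) 18 = ε e 9 := atm_two_mul _ (j := 9) (by omega)
theorem lE19 (e : Bool) : atm 12 (ε e) 19 = (ε e 9)⁻¹ := atm_odd _ (j := 9) (by omega)
theorem lE20 (e : Bool) : atm 12 (ε e) 20 = ε e 10 := atm_two_mul _ (j := 10) (by omega)
theorem lE21 (e : Bool) : atm 12 (ε e) 21 = (ε e 10)⁻¹ := atm_odd _ (j := 10) (by omega)
theorem lE22 (e : Bool) : atm 12 (ε e) 22 = ε e 11 := atm_two_mul _ (j := 11) (by omega)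
theorem lE23 (e : Bool) : atm 12 (ε e) 23 = (ε e 11)⁻¹ := atm_odd _ (j := 11) (by omega)
theorem e_xw (e : Bool) : (ε e 11)⁻¹ * (ε e 10) * (ε e 11) = (ε e 2) := by
  have := (gE e).eq_ev (w := [23, 20, 22]) (u := [4]) (by cases e <;> decide +kernel)
  simp only [ev_cons, ev_nil, lE4, lE20, lE22, lE23, mul_assoc, mul_inv_rev, inv_inv, pow_succ, pow_zero, one_mul, mul_one, inv_one] at this ⊢
  exact this
theorem e_bw (e : Bool) : (ε e 11)⁻¹ * (ε e 2) * (ε e 11) = (ε e 10)⁻¹ := by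
  have := (gE e).eq_ev (w := [23, 4, 22]) (u := [21]) (by cases e <;> decide +kernel)
  simp only [ev_cons, ev_nil, lE4, lE21, lE22, lE23, mul_assoc, mul_inv_rev, inv_inv, pow_succ, pow_zero, one_mul, mul_one, inv_one] at this ⊢
  exact this
theorem e_cw (e : Bool) : (ε e 11)⁻¹ * (ε e 3) * (ε e 11) = (ε e 3) := by
  have := (gE e).eq_ev (w := [23, 6, 22]) (u := [6]) (by cases e <;> decide +kernel)
  simp only [ev_cons, ev_nil, lE6, lE22, lE23, mul_assoc, mul_inv_rev, inv_inv, pow_succ, pow_zero, one_mul, mul_one, inv_one] at this ⊢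
  exact this
theorem e_dw (e : Bool) : (ε e 11)⁻¹ * (ε e 7) * (ε e 11) = (ε e 7) := by
  have := (gE e).eq_ev (w := [23, 14, 22]) (u := [14]) (by cases e <;> decide +kernel)
  simp only [ev_cons, ev_nil, lE14, lE22, lE23, mul_assoc, mul_inv_rev, inv_inv, pow_succ, pow_zero, one_mul, mul_one, inv_one] at this ⊢
  exact this
theorem e_obo (e : Bool) : (ε e 9) * (ε e 2) * (ε e 9)⁻¹ = (ε e 3)⁻¹ := by
  have := (gE e).eq_ev (w := [18, 4, 19]) (u := [7]) (by cases e <;> decide +kernel)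
  simp only [ev_cons, ev_nil, lE4, lE7, lE18, lE19, mul_assoc, mul_inv_rev, inv_inv, pow_succ, pow_zero, one_mul, mul_one, inv_one] at this ⊢
  exact this
theorem e_xb (e : Bool) : (ε e 10) * (ε e 2) = (ε e 2) * (ε e 10) := by
  have := (gE e).eq_ev (w := [20, 4]) (u := [4, 20]) (by cases e <;> decide +kernel)
  simp only [ev_cons, ev_nil, lE4, lE20, mul_assoc, mul_inv_rev, inv_inv, pow_succ, pow_zero, one_mul, mul_one, inv_one] at this ⊢
  exact this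
theorem e_xxx (e : Bool) : (ε e 10)⁻¹ * (ε e 10)⁻¹ = (ε e 10) := by
  have := (gE e).eq_ev (w := [21, 21]) (u := [20]) (by cases e <;> decide +kernel)
  simp only [ev_cons, ev_nil, lE20, lE21, mul_assoc, mul_inv_rev, inv_inv, pow_succ, pow_zero, one_mul, mul_one, inv_one] at this ⊢
  exact this
theorem e_n1 (e : Bool) : 1 ≠ (ε e 10) := by
  have := (gE e).neq (w := []) (u := [20]) (by cases e <;> decide +kernel)
  simp only [ev_cons, ev_nil, lE20, mul_assoc, mul_inv_rev, inv_inv, pow_succ, pow_zero, one_mul, mul_one, inv_one] at this ⊢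
  exact this
theorem e_n2 (e : Bool) : (ε e 2) * (ε e 2) ≠ (ε e 10) := by
  have := (gE e).neq (w := [4, 4]) (u := [20]) (by cases e <;> decide +kernel)
  simp only [ev_cons, ev_nil, lE4, lE20, mul_assoc, mul_inv_rev, inv_inv, pow_succ, pow_zero, one_mul, mul_one, inv_one] at this ⊢
  exact this
theorem e_n3 (e : Bool) : (ε e 10) * (ε e 10) ≠ (ε e 10) := by
  have := (gE e).neq (w := [20, 20]) (u := [20]) (by cases e <;> decide +kernel)
  simp only [ev_cons, ev_nil, lE20, mul_assoc, mul_inv_rev, inv_inv, pow_succ, pow_zero, one_mul, mul_one, inv_one] at this ⊢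
  exact this
theorem e_n4 (e : Bool) : (ε e 2) ≠ (ε e 10) := by
  have := (gE e).neq (w := [4]) (u := [20]) (by cases e <;> decide +kernel)
  simp only [ev_cons, ev_nil, lE4, lE20, mul_assoc, mul_inv_rev, inv_inv, pow_succ, pow_zero, one_mul, mul_one, inv_one] at this ⊢
  exact this
theorem e_n5 (e : Bool) : (ε e 2) * (ε e 2) ≠ 1 := by
  have := (gE e).neq (w := [4, 4]) (u := []) (by cases e <;> decide +kernel)
  simp only [ev_cons, ev_nil, lE4, mul_assoc, mul_inv_rev, inv_inv, pow_succ, pow_zero, one_mul, mul_one, inv_one] at this ⊢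
  exact this
theorem e_n6 (e : Bool) : (ε e 2) * (ε e 2) * (ε e 10)⁻¹ * (ε e 10)⁻¹ ≠ (ε e 10) * (ε e 10) * (ε e 2) := by
  have := (gE e).neq (w := [4, 4, 21, 21]) (u := [20, 20, 4]) (by cases e <;> decide +kernel)
  simp only [ev_cons, ev_nil, lE4, lE20, lE21, mul_assoc, mul_inv_rev, inv_inv, pow_succ, pow_zero, one_mul, mul_one, inv_one] at this ⊢
  exact this
theorem e_pw1 : (ε true 11)⁻¹ * (ε true 4) * (ε true 11) = (ε true 6) := by
  have := (gE true).eq_ev (w := [23, 8, 22]) (u := [12]) (by decide +kernel)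
  simp only [ev_cons, ev_nil, lE8, lE12, lE22, lE23, mul_assoc, mul_inv_rev, inv_inv, pow_succ, pow_zero, one_mul, mul_one, inv_one] at this ⊢
  exact this
theorem e_pw0 : (ε false 11)⁻¹ * (ε false 4) * (ε false 11) = (ε false 4) * (ε false 4) * (ε false 6) := by
  have := (gE false).eq_ev (w := [23, 8, 22]) (u := [8, 8, 12]) (by decide +kernel)
  simp only [ev_cons, ev_nil, lE8, lE12, lE22, lE23, mul_assoc, mul_inv_rev, inv_inv, pow_succ, pow_zero, one_mul, mul_one, inv_one] at this ⊢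
  exact this
theorem e_prw : (ε false 11)⁻¹ * ((ε false 4) * (ε false 6)) * (ε false 11) = (ε false 4) * (ε false 6) := by
  have := (gE false).eq_ev (w := [23, 8, 12, 22]) (u := [8, 12]) (by decide +kernel)
  simp only [ev_cons, ev_nil, lE8, lE12, lE22, lE23, mul_assoc, mul_inv_rev, inv_inv, pow_succ, pow_zero, one_mul, mul_one, inv_one] at this ⊢
  exact this
theorem e_wo3 : (ε false 11) * (ε false 9) * ((ε false 11) * (ε false 9)) * ((ε false 11) * (ε false 9)) = (ε false 4) * (ε false 5) * (ε false 6) * (ε false 3)⁻¹ := by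
  have := (gE false).eq_ev (w := [22, 18, 22, 18, 22, 18]) (u := [8, 10, 12, 7]) (by decide +kernel)
  simp only [ev_cons, ev_nil, lE7, lE8, lE10, lE12, lE18, lE22, mul_assoc, mul_inv_rev, inv_inv, pow_succ, pow_zero, one_mul, mul_one, inv_one] at this ⊢
  exact this
theorem ε_t (e : Bool) : ε e 8 = kt := (ε_B e (by omega) (by omega)).trans (tB e)
theorem ε_x (e : Bool) : ε e 10 = kx := by
  rw [ε_B e (by omega) (by omega), show WE.getD 10 [] = [12] from rfl, ev_cons, ev_nil, mul_one,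
    atm_two_mul _ (j := 6) (by omega), κ_eq e (by omega) (by omega)]; rfl
theorem ε_w (e : Bool) : ε e 11 = κ e 7 := by
  rw [ε_B e (by omega) (by omega), show WE.getD 11 [] = [14] from rfl, ev_cons, ev_nil, mul_one,
    atm_two_mul _ (j := 7) (by omega)]

section
variable {H : Type*} [Group H]

/-- the test word -/
def cw (z d : H) : H := z * d⁻¹ * z * d * z⁻¹ * d⁻¹ * z⁻¹ * d

theorem cw_conj (w z d : H) : cw (w⁻¹ * z * w) (w⁻¹ * d * w) = w⁻¹ * cw z d * w := by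
  unfold cw; group

theorem nf_pair {j k : H} (hj : j ^ 3 = 1) (hk : k ^ 3 = 1) (c : Commute j k) {z : H} (hz : z ∈ closure {j, k}) :
    ∃ α < 3, ∃ β < 3, z = j ^ α * k ^ β := by
  have : ∃ α β : ℕ, z = j ^ α * k ^ β := by
    induction hz using closure_induction with
    | mem x hx =>
      rcases hx with rfl | rfl
      exacts [⟨1, 0, by simp⟩, ⟨0, 1, by simp⟩]
    | one => exact ⟨0, 0, by simp⟩
    | mul x y _ _ hx hy =>
      obtain ⟨a, b, rfl⟩ := hx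
      obtain ⟨a', b', rfl⟩ := hy
      exact ⟨a + a', b + b', by rw [pow_add, pow_add, (c.pow_pow a' b).symm.mul_mul_mul_comm]⟩
    | inv x _ hx =>
      obtain ⟨a, b, rfl⟩ := hx
      refine ⟨2 * a, 2 * b, inv_eq_of_mul_eq_one_right ?_⟩
      rw [(c.pow_pow (2 * a) b).symm.mul_mul_mul_comm, ← pow_add, ← pow_add, show a + 2 * a = 3 * a by ring,
        show b + 2 * b = 3 * b by ring, pow_mul, pow_mul, hj, hk]; simp
  obtain ⟨a, b, rfl⟩ := this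
  exact ⟨a % 3, Nat.mod_lt _ (by omega), b % 3, Nat.mod_lt _ (by omega), by
    rw [← pow_eq_pow_mod _ hj, ← pow_eq_pow_mod _ hk]⟩

theorem norm_pair [Finite H] {j k g : H} (hj : g * j * g⁻¹ ∈ closure {j, k}) (hk : g * k * g⁻¹ ∈ closure {j, k}) :
    g ∈ normalizer (closure {j, k} : Subgroup H) := by
  refine mem_normalizer_fintype fun z hz => ?_
  have : closure {j, k} ≤ (closure {j, k}).comap (MulAut.conj g).toMonoidHom := by
    rw [closure_le]; rintro _ (rfl | rfl); exacts [hj, hk]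
  exact this hz

theorem par_comm {n : ℕ} {f : ℕ → H} {x : H} (h : ∀ j < n, j ≠ 1 → f j * x = x * f j) (h1 : f 1 * x * (f 1)⁻¹ = x⁻¹)
    (hn : 1 < n) (l : List ℕ) : ev (atm n f) l * x * (ev (atm n f) l)⁻¹ =
      if (l.countP fun y => y / 2 == 1) % 2 = 0 then x else x⁻¹ := by
  induction l with
  | nil => simp
  | cons y l ih =>
    have e : ev (atm n f) (y :: l) * x * (ev (atm n f) (y :: l))⁻¹ =
        atm n f y * (ev (atm n f) l * x * (ev (atm n f) l)⁻¹) * (atm n f y)⁻¹ := by rw [ev_cons]; group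
    rw [e, ih, List.countP_cons]
    by_cases hy : y / 2 = 1
    · have a : atm n f y * x * (atm n f y)⁻¹ = x⁻¹ := by
        rw [atm_def, hy, if_pos hn]
        split_ifs
        · exact h1
        · calc (f 1)⁻¹ * x * (f 1)⁻¹⁻¹ = (f 1)⁻¹ * x⁻¹⁻¹ * f 1 := by simp
            _ = x⁻¹ := by conv_lhs => rw [← h1]
                          group
      have a' : atm n f y * x⁻¹ * (atm n f y)⁻¹ = x := by rw [← _root_.conj_inv, a, inv_inv]
      simp only [hy, beq_self_eq_true, if_true]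
      split_ifs with q1 q2 q2
      exacts [absurd q2 (by omega), a, a', absurd q2 (by omega)]
    · have c : Commute (atm n f y) x := by
        rw [atm_def]
        split_ifs with q1 q2
        exacts [h _ q1 hy, Commute.inv_left (h _ q1 hy), Commute.one_left _]
      simp only [beq_iff_eq, hy, if_false, add_zero]
      split_ifs
      · rw [c.eq, mul_inv_cancel_right]
      · rw [c.inv_right.eq, mul_inv_cancel_right]
end

variable {G : Type} [Group G] {ψ : K →* G} {m : G} {e : Bool}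

/-- the derived letters -/
noncomputable def gE' (ψ : K →* G) (e : Bool) (m : G) : ℕ → G := wv 7 (gf ψ e m) WD

theorem gE'_K {j : ℕ} (h2 : 2 ≤ j) (hj : j < 11) : gE' ψ e m j = ψ (ε e j) := by
  have : ∀ j < 11, 2 ≤ j → WE.getD j [] = WD.getD j [] ∧ (WD.getD j []).all (fun y => y / 2 != 4 && y < 2 * 7) = true := by
    decide +kernel
  rw [ε_B e h2 (by omega), (this j hj h2).1, ← ev_free (n := 7) (m := m) (by omega) (this j hj h2).2]; rfl

theorem lG0 : atm 11 (gE' ψ e m) 0 = gE' ψ e m 0 := (atm_two_mul _ (j := 0) (by omega))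
theorem lG1 : atm 11 (gE' ψ e m) 1 = (gE' ψ e m 0)⁻¹ := (atm_odd _ (j := 0) (by omega))
theorem lG2 : atm 11 (gE' ψ e m) 2 = gE' ψ e m 1 := (atm_two_mul _ (j := 1) (by omega))
theorem lG3 : atm 11 (gE' ψ e m) 3 = (gE' ψ e m 1)⁻¹ := (atm_odd _ (j := 1) (by omega))
theorem lG4 : atm 11 (gE' ψ e m) 4 = ψ (ε e 2) := (atm_two_mul _ (j := 2) (by omega)).trans (gE'_K (by omega) (by omega))
theorem lG5 : atm 11 (gE' ψ e m) 5 = (ψ (ε e 2))⁻¹ := (atm_odd _ (j := 2) (by omega)).trans (congrArg _ (gE'_K (by omega) (by omega)))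
theorem lG6 : atm 11 (gE' ψ e m) 6 = ψ (ε e 3) := (atm_two_mul _ (j := 3) (by omega)).trans (gE'_K (by omega) (by omega))
theorem lG7 : atm 11 (gE' ψ e m) 7 = (ψ (ε e 3))⁻¹ := (atm_odd _ (j := 3) (by omega)).trans (congrArg _ (gE'_K (by omega) (by omega)))
theorem lG8 : atm 11 (gE' ψ e m) 8 = ψ (ε e 4) := (atm_two_mul _ (j := 4) (by omega)).trans (gE'_K (by omega) (by omega))
theorem lG9 : atm 11 (gE' ψ e m) 9 = (ψ (ε e 4))⁻¹ := (atm_odd _ (j := 4) (by omega)).trans (congrArg _ (gE'_K (by omega) (by omega)))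
theorem lG10 : atm 11 (gE' ψ e m) 10 = ψ (ε e 5) := (atm_two_mul _ (j := 5) (by omega)).trans (gE'_K (by omega) (by omega))
theorem lG11 : atm 11 (gE' ψ e m) 11 = (ψ (ε e 5))⁻¹ := (atm_odd _ (j := 5) (by omega)).trans (congrArg _ (gE'_K (by omega) (by omega)))
theorem lG12 : atm 11 (gE' ψ e m) 12 = ψ (ε e 6) := (atm_two_mul _ (j := 6) (by omega)).trans (gE'_K (by omega) (by omega))
theorem lG13 : atm 11 (gE' ψ e m) 13 = (ψ (ε e 6))⁻¹ := (atm_odd _ (j := 6) (by omega)).trans (congrArg _ (gE'_K (by omega) (by omega)))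
theorem lG14 : atm 11 (gE' ψ e m) 14 = ψ (ε e 7) := (atm_two_mul _ (j := 7) (by omega)).trans (gE'_K (by omega) (by omega))
theorem lG15 : atm 11 (gE' ψ e m) 15 = (ψ (ε e 7))⁻¹ := (atm_odd _ (j := 7) (by omega)).trans (congrArg _ (gE'_K (by omega) (by omega)))
theorem lG16 : atm 11 (gE' ψ e m) 16 = ψ (ε e 8) := (atm_two_mul _ (j := 8) (by omega)).trans (gE'_K (by omega) (by omega))
theorem lG17 : atm 11 (gE' ψ e m) 17 = (ψ (ε e 8))⁻¹ := (atm_odd _ (j := 8) (by omega)).trans (congrArg _ (gE'_K (by omega) (by omega)))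
theorem lG18 : atm 11 (gE' ψ e m) 18 = ψ (ε e 9) := (atm_two_mul _ (j := 9) (by omega)).trans (gE'_K (by omega) (by omega))
theorem lG19 : atm 11 (gE' ψ e m) 19 = (ψ (ε e 9))⁻¹ := (atm_odd _ (j := 9) (by omega)).trans (congrArg _ (gE'_K (by omega) (by omega)))
theorem lG20 : atm 11 (gE' ψ e m) 20 = ψ (ε e 10) := (atm_two_mul _ (j := 10) (by omega)).trans (gE'_K (by omega) (by omega))
theorem lG21 : atm 11 (gE' ψ e m) 21 = (ψ (ε e 10))⁻¹ := (atm_odd _ (j := 10) (by omega)).trans (congrArg _ (gE'_K (by omega) (by omega)))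
/-- the common relators -/
def RY : List (List ℕ) := RY0.take 15
theorem y_j3 (h : ∀ l ∈ RY, ev (atm 11 (gE' ψ e m)) l = 1) :
    (gE' ψ e m 0) ^ 3 = 1 := by
  have := h [0, 0, 0] (by decide +kernel)
  rw [← mul_inv_eq_one]
  simp only [cw, ev_cons, ev_nil, lG0, mul_assoc, mul_inv_rev, inv_inv, pow_succ', pow_zero, one_mul, mul_one, inv_one] at this ⊢
  exact this
theorem y_k3 (h : ∀ l ∈ RY, ev (atm 11 (gE' ψ e m)) l = 1) :
    (gE' ψ e m 1) ^ 3 = 1 := by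
  have := h [2, 2, 2] (by decide +kernel)
  rw [← mul_inv_eq_one]
  simp only [cw, ev_cons, ev_nil, lG2, mul_assoc, mul_inv_rev, inv_inv, pow_succ', pow_zero, one_mul, mul_one, inv_one] at this ⊢
  exact this
theorem y_jk (h : ∀ l ∈ RY, ev (atm 11 (gE' ψ e m)) l = 1) :
    (gE' ψ e m 0) * (gE' ψ e m 1) = (gE' ψ e m 1) * (gE' ψ e m 0) := by
  have := h [0, 2, 1, 3] (by decide +kernel)
  rw [← mul_inv_eq_one]
  simp only [cw, ev_cons, ev_nil, lG0, lG1, lG2, lG3, mul_assoc, mul_inv_rev, inv_inv, pow_succ', pow_zero, one_mul, mul_one, inv_one] at this ⊢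
  exact this
theorem y_jb (h : ∀ l ∈ RY, ev (atm 11 (gE' ψ e m)) l = 1) :
    (gE' ψ e m 0) * (ψ (ε e 2)) = (ψ (ε e 2)) * (gE' ψ e m 0) := by
  have := h [0, 4, 1, 5] (by decide +kernel)
  rw [← mul_inv_eq_one]
  simp only [cw, ev_cons, ev_nil, lG0, lG1, lG4, lG5, mul_assoc, mul_inv_rev, inv_inv, pow_succ', pow_zero, one_mul, mul_one, inv_one] at this ⊢
  exact this
theorem y_jc (h : ∀ l ∈ RY, ev (atm 11 (gE' ψ e m)) l = 1) :
    (gE' ψ e m 0) * (ψ (ε e 3)) = (ψ (ε e 3)) * (gE' ψ e m 0) := by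
  have := h [0, 6, 1, 7] (by decide +kernel)
  rw [← mul_inv_eq_one]
  simp only [cw, ev_cons, ev_nil, lG0, lG1, lG6, lG7, mul_assoc, mul_inv_rev, inv_inv, pow_succ', pow_zero, one_mul, mul_one, inv_one] at this ⊢
  exact this
theorem y_kb (h : ∀ l ∈ RY, ev (atm 11 (gE' ψ e m)) l = 1) :
    (gE' ψ e m 1) * (ψ (ε e 2)) = (ψ (ε e 2)) * (gE' ψ e m 1) := by
  have := h [2, 4, 3, 5] (by decide +kernel)
  rw [← mul_inv_eq_one]
  simp only [cw, ev_cons, ev_nil, lG2, lG3, lG4, lG5, mul_assoc, mul_inv_rev, inv_inv, pow_succ', pow_zero, one_mul, mul_one, inv_one] at this ⊢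
  exact this
theorem y_kc (h : ∀ l ∈ RY, ev (atm 11 (gE' ψ e m)) l = 1) :
    (gE' ψ e m 1) * (ψ (ε e 3)) = (ψ (ε e 3)) * (gE' ψ e m 1) := by
  have := h [2, 6, 3, 7] (by decide +kernel)
  rw [← mul_inv_eq_one]
  simp only [cw, ev_cons, ev_nil, lG2, lG3, lG6, lG7, mul_assoc, mul_inv_rev, inv_inv, pow_succ', pow_zero, one_mul, mul_one, inv_one] at this ⊢
  exact this
theorem y_tj (h : ∀ l ∈ RY, ev (atm 11 (gE' ψ e m)) l = 1) :
    (ψ (ε e 8)) * (gE' ψ e m 0) * (ψ (ε e 8))⁻¹ = (gE' ψ e m 0)⁻¹ := by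
  have := h [16, 0, 17, 0] (by decide +kernel)
  rw [← mul_inv_eq_one]
  simp only [cw, ev_cons, ev_nil, lG0, lG16, lG17, mul_assoc, mul_inv_rev, inv_inv, pow_succ', pow_zero, one_mul, mul_one, inv_one] at this ⊢
  exact this
theorem y_tk (h : ∀ l ∈ RY, ev (atm 11 (gE' ψ e m)) l = 1) :
    (ψ (ε e 8)) * (gE' ψ e m 1) * (ψ (ε e 8))⁻¹ = (gE' ψ e m 1)⁻¹ := by
  have := h [16, 2, 17, 2] (by decide +kernel)
  rw [← mul_inv_eq_one]
  simp only [cw, ev_cons, ev_nil, lG2, lG16, lG17, mul_assoc, mul_inv_rev, inv_inv, pow_succ', pow_zero, one_mul, mul_one, inv_one] at this ⊢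
  exact this
theorem y_pj (h : ∀ l ∈ RY, ev (atm 11 (gE' ψ e m)) l = 1) :
    (ψ (ε e 4)) * (gE' ψ e m 0) * (ψ (ε e 4))⁻¹ = (gE' ψ e m 1) * (gE' ψ e m 1) := by
  have := h [8, 0, 9, 3, 3] (by decide +kernel)
  rw [← mul_inv_eq_one]
  simp only [cw, ev_cons, ev_nil, lG0, lG3, lG8, lG9, mul_assoc, mul_inv_rev, inv_inv, pow_succ', pow_zero, one_mul, mul_one, inv_one] at this ⊢
  exact this
theorem y_pk (h : ∀ l ∈ RY, ev (atm 11 (gE' ψ e m)) l = 1) :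
    (ψ (ε e 4)) * (gE' ψ e m 1) * (ψ (ε e 4))⁻¹ = (gE' ψ e m 0) := by
  have := h [8, 2, 9, 1] (by decide +kernel)
  rw [← mul_inv_eq_one]
  simp only [cw, ev_cons, ev_nil, lG1, lG2, lG8, lG9, mul_assoc, mul_inv_rev, inv_inv, pow_succ', pow_zero, one_mul, mul_one, inv_one] at this ⊢
  exact this
theorem y_qj (h : ∀ l ∈ RY, ev (atm 11 (gE' ψ e m)) l = 1) :
    (ψ (ε e 5)) * (gE' ψ e m 0) * (ψ (ε e 5))⁻¹ = (gE' ψ e m 0) * (gE' ψ e m 0) * (gE' ψ e m 1) := by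
  have := h [10, 0, 11, 3, 1, 1] (by decide +kernel)
  rw [← mul_inv_eq_one]
  simp only [cw, ev_cons, ev_nil, lG0, lG1, lG3, lG10, lG11, mul_assoc, mul_inv_rev, inv_inv, pow_succ', pow_zero, one_mul, mul_one, inv_one] at this ⊢
  exact this
theorem y_qk (h : ∀ l ∈ RY, ev (atm 11 (gE' ψ e m)) l = 1) :
    (ψ (ε e 5)) * (gE' ψ e m 1) * (ψ (ε e 5))⁻¹ = (gE' ψ e m 0) * (gE' ψ e m 1) := by
  have := h [10, 2, 11, 3, 1] (by decide +kernel)
  rw [← mul_inv_eq_one]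
  simp only [cw, ev_cons, ev_nil, lG1, lG2, lG3, lG10, lG11, mul_assoc, mul_inv_rev, inv_inv, pow_succ', pow_zero, one_mul, mul_one, inv_one] at this ⊢
  exact this
theorem y_rj (h : ∀ l ∈ RY, ev (atm 11 (gE' ψ e m)) l = 1) :
    (ψ (ε e 6)) * (gE' ψ e m 0) * (ψ (ε e 6))⁻¹ = (gE' ψ e m 0) * (gE' ψ e m 1) := by
  have := h [12, 0, 13, 3, 1] (by decide +kernel)
  rw [← mul_inv_eq_one]
  simp only [cw, ev_cons, ev_nil, lG0, lG1, lG3, lG12, lG13, mul_assoc, mul_inv_rev, inv_inv, pow_succ', pow_zero, one_mul, mul_one, inv_one] at this ⊢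
  exact this
theorem y_rk (h : ∀ l ∈ RY, ev (atm 11 (gE' ψ e m)) l = 1) :
    (ψ (ε e 6)) * (gE' ψ e m 1) * (ψ (ε e 6))⁻¹ = (gE' ψ e m 0) * (gE' ψ e m 1) * (gE' ψ e m 1) := by
  have := h [12, 2, 13, 3, 3, 1] (by decide +kernel)
  rw [← mul_inv_eq_one]
  simp only [cw, ev_cons, ev_nil, lG1, lG2, lG3, lG12, lG13, mul_assoc, mul_inv_rev, inv_inv, pow_succ', pow_zero, one_mul, mul_one, inv_one] at this ⊢
  exact this
theorem y0_00 (h : ∀ l ∈ RY0, ev (atm 11 (gE' ψ e m)) l = 1) :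
    cw ((gE' ψ e m 0) ^ 0 * (gE' ψ e m 1) ^ 0) ((ψ (ε e 7))) = 1 := by
  have := h [15, 14, 15, 14] (by decide +kernel)
  rw [← mul_inv_eq_one]
  simp only [cw, ev_cons, ev_nil, lG14, lG15, mul_assoc, mul_inv_rev, inv_inv, pow_succ', pow_zero, one_mul, mul_one, inv_one] at this ⊢
  exact this
theorem y0_10 (h : ∀ l ∈ RY0, ev (atm 11 (gE' ψ e m)) l = 1) :
    cw ((gE' ψ e m 0) ^ 1 * (gE' ψ e m 1) ^ 0) ((ψ (ε e 7))) = (ψ (ε e 2)) * (ψ (ε e 2)) := by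
  have := h [0, 15, 0, 14, 1, 15, 1, 14, 5, 5] (by decide +kernel)
  rw [← mul_inv_eq_one]
  simp only [cw, ev_cons, ev_nil, lG0, lG1, lG5, lG14, lG15, mul_assoc, mul_inv_rev, inv_inv, pow_succ', pow_zero, one_mul, mul_one, inv_one] at this ⊢
  exact this
theorem y0_01 (h : ∀ l ∈ RY0, ev (atm 11 (gE' ψ e m)) l = 1) :
    cw ((gE' ψ e m 0) ^ 0 * (gE' ψ e m 1) ^ 1) ((ψ (ε e 7))) = 1 := by
  have := h [2, 15, 2, 14, 3, 15, 3, 14] (by decide +kernel)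
  rw [← mul_inv_eq_one]
  simp only [cw, ev_cons, ev_nil, lG2, lG3, lG14, lG15, mul_assoc, mul_inv_rev, inv_inv, pow_succ', pow_zero, one_mul, mul_one, inv_one] at this ⊢
  exact this
theorem y0_20 (h : ∀ l ∈ RY0, ev (atm 11 (gE' ψ e m)) l = 1) :
    cw ((gE' ψ e m 0) ^ 2 * (gE' ψ e m 1) ^ 0) ((ψ (ε e 7))) = (ψ (ε e 2)) * (ψ (ε e 2)) := by
  have := h [0, 0, 15, 0, 0, 14, 1, 1, 15, 1, 1, 14, 5, 5] (by decide +kernel)
  rw [← mul_inv_eq_one]
  simp only [cw, ev_cons, ev_nil, lG0, lG1, lG5, lG14, lG15, mul_assoc, mul_inv_rev, inv_inv, pow_succ', pow_zero, one_mul, mul_one, inv_one] at this ⊢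
  exact this
theorem y0_11 (h : ∀ l ∈ RY0, ev (atm 11 (gE' ψ e m)) l = 1) :
    cw ((gE' ψ e m 0) ^ 1 * (gE' ψ e m 1) ^ 1) ((ψ (ε e 7))) = 1 := by
  have := h [0, 2, 15, 0, 2, 14, 3, 1, 15, 3, 1, 14] (by decide +kernel)
  rw [← mul_inv_eq_one]
  simp only [cw, ev_cons, ev_nil, lG0, lG1, lG2, lG3, lG14, lG15, mul_assoc, mul_inv_rev, inv_inv, pow_succ', pow_zero, one_mul, mul_one, inv_one] at this ⊢
  exact this
theorem y0_02 (h : ∀ l ∈ RY0, ev (atm 11 (gE' ψ e m)) l = 1) :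
    cw ((gE' ψ e m 0) ^ 0 * (gE' ψ e m 1) ^ 2) ((ψ (ε e 7))) = 1 := by
  have := h [2, 2, 15, 2, 2, 14, 3, 3, 15, 3, 3, 14] (by decide +kernel)
  rw [← mul_inv_eq_one]
  simp only [cw, ev_cons, ev_nil, lG2, lG3, lG14, lG15, mul_assoc, mul_inv_rev, inv_inv, pow_succ', pow_zero, one_mul, mul_one, inv_one] at this ⊢
  exact this
theorem y0_21 (h : ∀ l ∈ RY0, ev (atm 11 (gE' ψ e m)) l = 1) :
    cw ((gE' ψ e m 0) ^ 2 * (gE' ψ e m 1) ^ 1) ((ψ (ε e 7))) = (ψ (ε e 2)) := by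
  have := h [0, 0, 2, 15, 0, 0, 2, 14, 3, 1, 1, 15, 3, 1, 1, 14, 5] (by decide +kernel)
  rw [← mul_inv_eq_one]
  simp only [cw, ev_cons, ev_nil, lG0, lG1, lG2, lG3, lG5, lG14, lG15, mul_assoc, mul_inv_rev, inv_inv, pow_succ', pow_zero, one_mul, mul_one, inv_one] at this ⊢
  exact this
theorem y0_12 (h : ∀ l ∈ RY0, ev (atm 11 (gE' ψ e m)) l = 1) :
    cw ((gE' ψ e m 0) ^ 1 * (gE' ψ e m 1) ^ 2) ((ψ (ε e 7))) = (ψ (ε e 2)) := by
  have := h [0, 2, 2, 15, 0, 2, 2, 14, 3, 3, 1, 15, 3, 3, 1, 14, 5] (by decide +kernel)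
  rw [← mul_inv_eq_one]
  simp only [cw, ev_cons, ev_nil, lG0, lG1, lG2, lG3, lG5, lG14, lG15, mul_assoc, mul_inv_rev, inv_inv, pow_succ', pow_zero, one_mul, mul_one, inv_one] at this ⊢
  exact this
theorem y0_22 (h : ∀ l ∈ RY0, ev (atm 11 (gE' ψ e m)) l = 1) :
    cw ((gE' ψ e m 0) ^ 2 * (gE' ψ e m 1) ^ 2) ((ψ (ε e 7))) = 1 := by
  have := h [0, 0, 2, 2, 15, 0, 0, 2, 2, 14, 3, 3, 1, 1, 15, 3, 3, 1, 1, 14] (by decide +kernel)
  rw [← mul_inv_eq_one]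
  simp only [cw, ev_cons, ev_nil, lG0, lG1, lG2, lG3, lG14, lG15, mul_assoc, mul_inv_rev, inv_inv, pow_succ', pow_zero, one_mul, mul_one, inv_one] at this ⊢
  exact this
theorem y1_00 (h : ∀ l ∈ RY1, ev (atm 11 (gE' ψ e m)) l = 1) :
    cw ((gE' ψ e m 0) ^ 0 * (gE' ψ e m 1) ^ 0) ((ψ (ε e 7))) = 1 := by
  have := h [15, 14, 15, 14] (by decide +kernel)
  rw [← mul_inv_eq_one]
  simp only [cw, ev_cons, ev_nil, lG14, lG15, mul_assoc, mul_inv_rev, inv_inv, pow_succ', pow_zero, one_mul, mul_one, inv_one] at this ⊢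
  exact this
theorem y1_10 (h : ∀ l ∈ RY1, ev (atm 11 (gE' ψ e m)) l = 1) :
    cw ((gE' ψ e m 0) ^ 1 * (gE' ψ e m 1) ^ 0) ((ψ (ε e 7))) = (ψ (ε e 2)) * (ψ (ε e 2)) := by
  have := h [0, 15, 0, 14, 1, 15, 1, 14, 5, 5] (by decide +kernel)
  rw [← mul_inv_eq_one]
  simp only [cw, ev_cons, ev_nil, lG0, lG1, lG5, lG14, lG15, mul_assoc, mul_inv_rev, inv_inv, pow_succ', pow_zero, one_mul, mul_one, inv_one] at this ⊢
  exact this
theorem y1_01 (h : ∀ l ∈ RY1, ev (atm 11 (gE' ψ e m)) l = 1) :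
    cw ((gE' ψ e m 0) ^ 0 * (gE' ψ e m 1) ^ 1) ((ψ (ε e 7))) = (ψ (ε e 10)) := by
  have := h [2, 15, 2, 14, 3, 15, 3, 14, 21] (by decide +kernel)
  rw [← mul_inv_eq_one]
  simp only [cw, ev_cons, ev_nil, lG2, lG3, lG14, lG15, lG21, mul_assoc, mul_inv_rev, inv_inv, pow_succ', pow_zero, one_mul, mul_one, inv_one] at this ⊢
  exact this
theorem y1_20 (h : ∀ l ∈ RY1, ev (atm 11 (gE' ψ e m)) l = 1) :
    cw ((gE' ψ e m 0) ^ 2 * (gE' ψ e m 1) ^ 0) ((ψ (ε e 7))) = (ψ (ε e 2)) * (ψ (ε e 2)) := by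
  have := h [0, 0, 15, 0, 0, 14, 1, 1, 15, 1, 1, 14, 5, 5] (by decide +kernel)
  rw [← mul_inv_eq_one]
  simp only [cw, ev_cons, ev_nil, lG0, lG1, lG5, lG14, lG15, mul_assoc, mul_inv_rev, inv_inv, pow_succ', pow_zero, one_mul, mul_one, inv_one] at this ⊢
  exact this
theorem y1_11 (h : ∀ l ∈ RY1, ev (atm 11 (gE' ψ e m)) l = 1) :
    cw ((gE' ψ e m 0) ^ 1 * (gE' ψ e m 1) ^ 1) ((ψ (ε e 7))) = (ψ (ε e 10)) * (ψ (ε e 10)) := by
  have := h [0, 2, 15, 0, 2, 14, 3, 1, 15, 3, 1, 14, 21, 21] (by decide +kernel)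
  rw [← mul_inv_eq_one]
  simp only [cw, ev_cons, ev_nil, lG0, lG1, lG2, lG3, lG14, lG15, lG21, mul_assoc, mul_inv_rev, inv_inv, pow_succ', pow_zero, one_mul, mul_one, inv_one] at this ⊢
  exact this
theorem y1_02 (h : ∀ l ∈ RY1, ev (atm 11 (gE' ψ e m)) l = 1) :
    cw ((gE' ψ e m 0) ^ 0 * (gE' ψ e m 1) ^ 2) ((ψ (ε e 7))) = (ψ (ε e 10)) := by
  have := h [2, 2, 15, 2, 2, 14, 3, 3, 15, 3, 3, 14, 21] (by decide +kernel)
  rw [← mul_inv_eq_one]
  simp only [cw, ev_cons, ev_nil, lG2, lG3, lG14, lG15, lG21, mul_assoc, mul_inv_rev, inv_inv, pow_succ', pow_zero, one_mul, mul_one, inv_one] at this ⊢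
  exact this
theorem y1_21 (h : ∀ l ∈ RY1, ev (atm 11 (gE' ψ e m)) l = 1) :
    cw ((gE' ψ e m 0) ^ 2 * (gE' ψ e m 1) ^ 1) ((ψ (ε e 7))) = (ψ (ε e 2)) := by
  have := h [0, 0, 2, 15, 0, 0, 2, 14, 3, 1, 1, 15, 3, 1, 1, 14, 5] (by decide +kernel)
  rw [← mul_inv_eq_one]
  simp only [cw, ev_cons, ev_nil, lG0, lG1, lG2, lG3, lG5, lG14, lG15, mul_assoc, mul_inv_rev, inv_inv, pow_succ', pow_zero, one_mul, mul_one, inv_one] at this ⊢
  exact this
theorem y1_12 (h : ∀ l ∈ RY1, ev (atm 11 (gE' ψ e m)) l = 1) :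
    cw ((gE' ψ e m 0) ^ 1 * (gE' ψ e m 1) ^ 2) ((ψ (ε e 7))) = (ψ (ε e 2)) := by
  have := h [0, 2, 2, 15, 0, 2, 2, 14, 3, 3, 1, 15, 3, 3, 1, 14, 5] (by decide +kernel)
  rw [← mul_inv_eq_one]
  simp only [cw, ev_cons, ev_nil, lG0, lG1, lG2, lG3, lG5, lG14, lG15, mul_assoc, mul_inv_rev, inv_inv, pow_succ', pow_zero, one_mul, mul_one, inv_one] at this ⊢
  exact this
theorem y1_22 (h : ∀ l ∈ RY1, ev (atm 11 (gE' ψ e m)) l = 1) :
    cw ((gE' ψ e m 0) ^ 2 * (gE' ψ e m 1) ^ 2) ((ψ (ε e 7))) = (ψ (ε e 10)) * (ψ (ε e 10)) := by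
  have := h [0, 0, 2, 2, 15, 0, 0, 2, 2, 14, 3, 3, 1, 1, 15, 3, 3, 1, 1, 14, 21, 21] (by decide +kernel)
  rw [← mul_inv_eq_one]
  simp only [cw, ev_cons, ev_nil, lG0, lG1, lG2, lG3, lG14, lG15, lG21, mul_assoc, mul_inv_rev, inv_inv, pow_succ', pow_zero, one_mul, mul_one, inv_one] at this ⊢
  exact this
theorem y_t2j (h : ∀ l ∈ RY1, ev (atm 11 (gE' ψ e m)) l = 1) :
    cw ((gE' ψ e m 0)) ((ψ (ε e 4)) * (ψ (ε e 7))) = (ψ (ε e 10)) * (ψ (ε e 10)) * (ψ (ε e 2)) * (ψ (ε e 2)) := by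
  have := h [0, 15, 9, 0, 8, 14, 1, 15, 9, 1, 8, 14, 5, 5, 21, 21] (by decide +kernel)
  rw [← mul_inv_eq_one]
  simp only [cw, ev_cons, ev_nil, lG0, lG1, lG5, lG8, lG9, lG14, lG15, lG21, mul_assoc, mul_inv_rev, inv_inv, pow_succ', pow_zero, one_mul, mul_one, inv_one] at this ⊢
  exact this
theorem y_t2k (h : ∀ l ∈ RY1, ev (atm 11 (gE' ψ e m)) l = 1) :
    cw ((gE' ψ e m 0) ^ 0 * (gE' ψ e m 1) ^ 1) ((ψ (ε e 6)) * (ψ (ε e 7))) = (ψ (ε e 10)) * (ψ (ε e 10)) * (ψ (ε e 2)) := by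
  have := h [2, 15, 13, 2, 12, 14, 3, 15, 13, 3, 12, 14, 5, 21, 21] (by decide +kernel)
  rw [← mul_inv_eq_one]
  simp only [cw, ev_cons, ev_nil, lG2, lG3, lG5, lG12, lG13, lG14, lG15, lG21, mul_assoc, mul_inv_rev, inv_inv, pow_succ', pow_zero, one_mul, mul_one, inv_one] at this ⊢
  exact this
theorem y_t2kk (h : ∀ l ∈ RY1, ev (atm 11 (gE' ψ e m)) l = 1) :
    cw ((gE' ψ e m 0) ^ 0 * (gE' ψ e m 1) ^ 2) ((ψ (ε e 6)) * (ψ (ε e 7))) = (ψ (ε e 10)) * (ψ (ε e 10)) * (ψ (ε e 2)) := by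
  have := h [2, 2, 15, 13, 2, 2, 12, 14, 3, 3, 15, 13, 3, 3, 12, 14, 5, 21, 21] (by decide +kernel)
  rw [← mul_inv_eq_one]
  simp only [cw, ev_cons, ev_nil, lG2, lG3, lG5, lG12, lG13, lG14, lG15, lG21, mul_assoc, mul_inv_rev, inv_inv, pow_succ', pow_zero, one_mul, mul_one, inv_one] at this ⊢
  exact this
theorem y_s1 (h : ∀ l ∈ RY1, ev (atm 11 (gE' ψ e m)) l = 1) :
    (ψ (ε e 9))⁻¹ * (gE' ψ e m 1) * (ψ (ε e 9)) = (ψ (ε e 4))⁻¹ * (gE' ψ e m 0) * (ψ (ε e 4)) := by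
  have := h [19, 2, 18, 9, 1, 8] (by decide +kernel)
  rw [← mul_inv_eq_one]
  simp only [cw, ev_cons, ev_nil, lG1, lG2, lG8, lG9, lG18, lG19, mul_assoc, mul_inv_rev, inv_inv, pow_succ', pow_zero, one_mul, mul_one, inv_one] at this ⊢
  exact this
theorem y_s2 (h : ∀ l ∈ RY1, ev (atm 11 (gE' ψ e m)) l = 1) :
    ((ψ (ε e 4)) * (ψ (ε e 4)) * (ψ (ε e 6)) * (ψ (ε e 9)))⁻¹ * (gE' ψ e m 1) * ((ψ (ε e 4)) * (ψ (ε e 4)) * (ψ (ε e 6)) * (ψ (ε e 9))) = ((ψ (ε e 4)) * (ψ (ε e 6)))⁻¹ * (gE' ψ e m 0) * ((ψ (ε e 4)) * (ψ (ε e 6))) := by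
  have := h [19, 13, 9, 9, 2, 8, 8, 12, 18, 13, 9, 1, 8, 12] (by decide +kernel)
  rw [← mul_inv_eq_one]
  simp only [cw, ev_cons, ev_nil, lG1, lG2, lG8, lG9, lG12, lG13, lG18, lG19, mul_assoc, mul_inv_rev, inv_inv, pow_succ', pow_zero, one_mul, mul_one, inv_one] at this ⊢
  exact this
theorem y_s3 (h : ∀ l ∈ RY1, ev (atm 11 (gE' ψ e m)) l = 1) :
    ((ψ (ε e 4)) * (ψ (ε e 6)) * (ψ (ε e 9)))⁻¹ * (gE' ψ e m 1) * ((ψ (ε e 4)) * (ψ (ε e 6)) * (ψ (ε e 9))) = ((ψ (ε e 4)) * (ψ (ε e 5)) * (ψ (ε e 6)) * (ψ (ε e 3))⁻¹)⁻¹ * (gE' ψ e m 0) * ((ψ (ε e 4)) * (ψ (ε e 5)) * (ψ (ε e 6)) * (ψ (ε e 3))⁻¹) := by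
  have := h [19, 13, 9, 2, 8, 12, 18, 6, 13, 11, 9, 1, 8, 10, 12, 7] (by decide +kernel)
  rw [← mul_inv_eq_one]
  simp only [cw, ev_cons, ev_nil, lG1, lG2, lG6, lG7, lG8, lG9, lG10, lG11, lG12, lG13, lG18, lG19, mul_assoc, mul_inv_rev, inv_inv, pow_succ', pow_zero, one_mul, mul_one, inv_one] at this ⊢
  exact this

end Cfsg.Agent.H8Ly
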