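import Cfsg.Agent.H8.LyJ

/-! # Groups of Lyons type: determination of `w⁻¹ j w` -/

set_option autoImplicit false
set_option linter.unusedVariables false
set_option linter.unusedSimpArgs false
set_option linter.unusedSectionVars false
set_option maxRecDepth 100000

namespace Cfsg.Agent.H8Ly
open Subgroup Equiv Cfsg.Agent.Spor Cfsg.Agent.Spor.LyUC Cfsg.Agent.Spor.LyUY

variable {G : Type} [Group G] {ψ : K →* G} {m : G} {e : Bool}

theorem NZ_of_comm {H : Type*} [Group H] {g b : H} (h : g * b = b * g) : g ∈ NZ b :=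
  Or.inl (by rw [h, mul_inv_cancel_right])

theorem Mt.jx (M : Mt ψ m) {i : ℕ} (hi : i < 2) : Commute (gE' ψ e m i) (ψ (ε e 10)) := by
  have := par_comm (n := 7) (f := gf ψ e m) (x := ψ kx) (fun j hj h1 => by
    by_cases h4 : j = 4
    · rw [h4]; exact M.x.comm_of
    rw [gf_ne' h4 h1 (by omega), ← map_mul, ← map_mul]
    interval_cases j
    exacts [congrArg ψ k_ix, absurd rfl h1, congrArg ψ k_ax, congrArg ψ k_gx, absurd rfl h4, congrArg ψ k_yx, rfl])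
    (by
      rw [gf_ne (by omega), ← map_inv, ← map_mul, ← map_mul, ← map_inv]
      cases e
      · exact congrArg ψ k_sx
      · rw [κ_true1, mul_assoc ks, ← t_comm, ← k_sx]; congr 1; group) (by omega) (WD.getD i [])
  have q : ∀ i < 2, List.countP (fun y => y / 2 == 1) (WD.getD i []) % 2 = 0 := by decide +kernel
  rw [if_pos (q i hi)] at this
  rw [ε_x]
  exact mul_inv_eq_iff_eq_mul.1 this

theorem LT.z_mem [Finite G] (L : LT ψ) (M : Mt ψ m) (h : PR (gf ψ e m))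
    (hy : ∀ l ∈ RY, ev (atm 11 (gE' ψ e m)) l = 1) : ∃ α < 3, ∃ β < 3,
      (ψ (ε e 11))⁻¹ * gE' ψ e m 0 * ψ (ε e 11) = gE' ψ e m 0 ^ α * gE' ψ e m 1 ^ β := by
  have jb : Commute _ _ := y_jb hy
  have jc : Commute _ _ := y_jc hy
  have kb : Commute _ _ := y_kb hy
  have kc : Commute _ _ := y_kc hy
  have jk : Commute _ _ := y_jk hy
  have jx := M.jx (e := e) (i := 0) (by omega)
  have kx' := M.jx (e := e) (i := 1) (by omega)
  have cj : ∀ {u v : K}, (ε e 11)⁻¹ * u * ε e 11 = v → Commute (gE' ψ e m 0) (ψ u) →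
      Commute ((ψ (ε e 11))⁻¹ * gE' ψ e m 0 * ψ (ε e 11)) (ψ v) := fun {u v} q c => by
    rw [← q, map_mul, map_mul, map_inv]
    show _ * _ = _ * _
    calc _ = (ψ (ε e 11))⁻¹ * (gE' ψ e m 0 * ψ u) * ψ (ε e 11) := by group
      _ = _ := by rw [c.eq]; group
  have zb := cj (e_xw e) jx
  have zc := cj (e_cw e) jc
  have zx := (cj (e_bw e) jb).inv_right
  rw [← map_inv ψ (ε e 10)⁻¹, inv_inv] at zx
  have z3 : ((ψ (ε e 11))⁻¹ * gE' ψ e m 0 * ψ (ε e 11)) ^ 3 = 1 := by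
    have := conj_pow (a := (ψ (ε e 11))⁻¹) (b := gE' ψ e m 0) (i := 3)
    rw [inv_inv, y_j3 hy] at this
    simpa using this
  have tK : ∀ v, Commute (ψ v) (ψ (ε e 8)) := fun v => by
    rw [ε_t]; show _ * _ = _ * _; rw [← map_mul, t_comm, map_mul]
  have zt : ψ (ε e 8) * ((ψ (ε e 11))⁻¹ * gE' ψ e m 0 * ψ (ε e 11)) * (ψ (ε e 8))⁻¹ =
      ((ψ (ε e 11))⁻¹ * gE' ψ e m 0 * ψ (ε e 11))⁻¹ := by
    calc _ = (ψ (ε e 8) * (ψ (ε e 11))⁻¹) * gE' ψ e m 0 * (ψ (ε e 11) * (ψ (ε e 8))⁻¹) := by group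
      _ = (ψ (ε e 11))⁻¹ * (ψ (ε e 8) * gE' ψ e m 0 * (ψ (ε e 8))⁻¹) * ψ (ε e 11) := by
        rw [← (tK _).inv_left.eq, (tK _).inv_right.eq]; group
      _ = _ := by rw [y_tj hy]; group
  generalize (ψ (ε e 11))⁻¹ * gE' ψ e m 0 * ψ (ε e 11) = z at *
  have f6 : gf ψ e m 6 = ψ (ε e 10) := by rw [ε_x]; exact gf_ne' (by omega) (by omega) (by omega)
  set J : Subgroup G := closure {gE' ψ e m 0, gE' ψ e m 1}
  have j1 : gE' ψ e m 0 ∈ J := subset_closure (by simp)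
  have k1 : gE' ψ e m 1 ∈ J := subset_closure (by simp)
  have nc : ∀ {v : K}, Commute (gE' ψ e m 0) (ψ v) → Commute (gE' ψ e m 1) (ψ v) →
      ψ v ∈ (ψ.range ⊓ normalizer J) ⊔ J := fun {v} a b => mem_sup_left ⟨⟨_, rfl⟩, norm_pair
    (by rw [← a.eq, mul_inv_cancel_right]; exact j1) (by rw [← b.eq, mul_inv_cancel_right]; exact k1)⟩
  have hz : z ∈ (ψ.range ⊓ normalizer J) ⊔ J := by
    refine h.mem2 (b := ψ (ε e 2)) (gE'_K (by omega) (by omega)).symm (fun w hw => ?_)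
      (by rw [f6, ← map_mul, e_xb, map_mul]) ?_
      (L.cenx_le M e (mem_centralizer_singleton_iff.2 (ε_x e ▸ zx.eq))) (NZ_of_comm zb) (NZ_of_comm ?_)
      (fun w hw => ?_) (f6 ▸ nc jx kx')
    · have := (lall_iff _ _).1 (show lall (fun w => bor (w == invW 10 (WD.getD 0 []) [])
        (band (w.all fun y => y / 2 != 4 && y < 2 * 7)
          (bor (Nat.beq (A.evw (TB e) (w ++ WE.getD 2 [] ++ invW 0 w []) A.one) (A.evw (TB e) (WE.getD 2 []) A.one))
            (Nat.beq (A.evw (TB e) (w ++ WE.getD 2 [] ++ invW 0 w []) A.one)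
              (A.evw (TB e) (invW 0 (WE.getD 2 []) []) A.one))))) LW = true by cases e <;> decide +kernel) w hw
      rw [bor_iff, band_eq, Bool.and_eq_true, bor_iff, beq_iff_eq] at this
      rcases this with rfl | ⟨h1, h2⟩
      · rw [ev_invW (h.elim Pres.ivOk Pres.ivOk), ev_nil, mul_one]
        exact inv_mem (NZ_of_comm jb)
      · rw [ev_free (by omega) h1]
        refine NZ_map ψ (h2.imp (fun q => ?_) (fun q => ?_)) <;>
          simpa only [ev_append, ev_invW (ivOk_zero 12 _), ev_nil, mul_one, ← ε_B e (le_refl 2) (by omega)]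
            using (gB e).eq_ev q
    · rw [gf_ne' (by omega) (by omega) (by omega), ← map_inv, ← map_mul, ← map_mul, ← map_mul, ← map_mul]
      refine L.inj.ne fun q => ?_
      have := π_comm q
      rw [map_mul, map_mul, map_inv, π_ε e 2 (by omega) (by omega), π_κ0 2 (by omega)] at this
      revert this; decide +kernel
    · have o : ev (atm 7 (gf ψ e m)) [0, 10] = ψ (ε e 9) := gE'_K (j := 9) (by omega) (by omega)
      have q : ψ (ε e 9) * ψ (ε e 2) * (ψ (ε e 9))⁻¹ = (ψ (ε e 3))⁻¹ := by simpa using congrArg ψ (e_obo e)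
      rw [o]
      calc _ = (ψ (ε e 9))⁻¹ * (z * (ψ (ε e 9) * ψ (ε e 2) * (ψ (ε e 9))⁻¹)) * ψ (ε e 9) := by group
        _ = _ := by rw [q, zc.inv_right.eq, ← q]; group
    · have : ∀ w ∈ SBW, ∃ j < 7, w = WD.getD j [] := by decide +kernel
      obtain ⟨j, hj, rfl⟩ := this w hw
      change gE' ψ e m j ∈ _
      have jk1 := mul_mem j1 k1
      interval_cases j
      · exact mem_sup_right j1
      · exact mem_sup_right k1
      · rw [gE'_K (by omega) (by omega)]; exact nc jb kb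
      · rw [gE'_K (by omega) (by omega)]; exact nc jc kc
      · rw [gE'_K (by omega) (by omega)]
        exact mem_sup_left ⟨⟨_, rfl⟩, norm_pair (y_pj hy ▸ mul_mem k1 k1) (by rw [y_pk hy]; exact j1)⟩
      · rw [gE'_K (by omega) (by omega)]
        exact mem_sup_left ⟨⟨_, rfl⟩, norm_pair (y_qj hy ▸ mul_mem (mul_mem j1 j1) k1) (y_qk hy ▸ jk1)⟩
      · rw [gE'_K (by omega) (by omega)]
        exact mem_sup_left ⟨⟨_, rfl⟩, norm_pair (y_rj hy ▸ jk1) (y_rk hy ▸ mul_mem jk1 k1)⟩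
  rw [← SetLike.mem_coe, coe_mul_of_left_le_normalizer_right _ _ inf_le_right] at hz
  obtain ⟨_, ⟨⟨v, rfl⟩, -⟩, ι, hι, rfl⟩ := hz
  obtain ⟨α, hα, β, hβ, eι⟩ := nf_pair (y_j3 hy) (y_k3 hy) jk hι
  simp only at zb zc zx z3 zt ⊢
  have ci : ∀ {u : K}, Commute (gE' ψ e m 0) (ψ u) → Commute (gE' ψ e m 1) (ψ u) → Commute ι (ψ u) :=
    fun a b => eι ▸ (a.pow_left α).mul_left (b.pow_left β)
  have cv : ∀ {u : K}, Commute (ψ v * ι) (ψ u) → Commute ι (ψ u) → v * u = u * v := fun a b =>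
    L.inj (by simpa using (a.mul_left b.inv_left).eq)
  have ti : ψ (ε e 8) * ι * (ψ (ε e 8))⁻¹ = ι⁻¹ := by
    rw [eι, ← mul_assoc, ← mul_inv_cancel_right (_ * gE' ψ e m 0 ^ α) (ψ (ε e 8))⁻¹, inv_inv, mul_assoc _ (ψ _),
      mul_assoc _ (_ * _), ← conj_pow, ← conj_pow, y_tj hy, y_tk hy, inv_pow, inv_pow, ← mul_inv_rev,
      (jk.pow_pow α β).eq]
  have i3 : ι ^ 3 = 1 := by
    rw [eι, (jk.pow_pow α β).mul_pow, ← pow_mul, ← pow_mul, mul_comm α, mul_comm β, pow_mul, pow_mul, y_j3 hy,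
      y_k3 hy]; simp
  have nz : v ∈ (NZ ι).comap ψ := cenA e (cv zx (ci jx kx')) (cv zb (ci jb kb)) (cv zc (ci jc kc)) (by
    simp only [List.forall_mem_cons, List.not_mem_nil, false_imp_iff, implies_true, and_true]
    exact ⟨NZ_of_comm (ci jx kx').symm, NZ_of_comm (ci jb kb).symm, NZ_of_comm (ci jc kc).symm⟩)
    (Or.inr (ε_t e ▸ ti))
  rcases inv_mem nz with q | q
  · have c : Commute (ψ v) ι := by
      have : Commute (ψ v⁻¹) ι := mul_inv_eq_iff_eq_mul.1 q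
      simpa using this.inv_left
    rw [← mul_assoc, ← (tK v).eq, mul_assoc (ψ v), mul_assoc (ψ v), ti,
      (show (ψ v * ι)⁻¹ = (ψ v)⁻¹ * ι⁻¹ by rw [c.eq, mul_inv_rev]), mul_left_inj] at zt
    rw [c.mul_pow, i3, mul_one, pow_succ, pow_two] at z3
    nth_rw 1 [zt] at z3
    rw [inv_mul_cancel, one_mul] at z3
    exact ⟨α, hα, β, hβ, by rw [z3, one_mul, eι]⟩
  · have e2 : (ψ v * ι) ^ 2 = ψ v ^ 2 := by
      rw [map_inv] at q
      calc _ = ψ v ^ 2 * ((ψ v)⁻¹ * ι * (ψ v)⁻¹⁻¹) * ι := by simp only [pow_two]; group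
        _ = _ := by rw [q, inv_mul_cancel_right]
    have e4 : ψ v * ι = (ψ v ^ 2) ^ 2 := by
      rw [← e2, ← pow_mul, show 2 * 2 = 3 + 1 by rfl, pow_succ, z3, one_mul]
    have c : Commute (ψ v * ι) (ψ (ε e 8)) := e4 ▸ ((tK v).pow_left 2).pow_left 2
    rw [← c.eq, mul_inv_cancel_right] at zt
    rw [pow_succ, pow_two] at z3
    nth_rw 1 [zt] at z3
    rw [inv_mul_cancel, one_mul] at z3
    exact ⟨0, by omega, 0, by omega, by simpa using z3⟩

theorem LT.last [Finite G] (L : LT ψ) (M : Mt ψ m) (h : PR (gf ψ e m)) : e = false ∧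
    Pres 7 5 (RK ++ RM1) (gf ψ e m) ∧ (ψ (ε e 11))⁻¹ * gE' ψ e m 0 * ψ (ε e 11) = gE' ψ e m 1 := by
  have hy : ∀ l ∈ RY, ev (atm 11 (gE' ψ e m)) l = 1 := h.elim
    (fun h l hl => rel0 h l (List.mem_of_mem_take hl)) (fun h l hl => rel1 h l (by revert l; decide +kernel))
  obtain ⟨α, hα, β, hβ, hz⟩ := L.z_mem M h hy
  have mp : ∀ {u v : K}, (ε e 11)⁻¹ * u * ε e 11 = v → (ψ (ε e 11))⁻¹ * ψ u * ψ (ε e 11) = ψ v := fun q => by
    simpa using congrArg ψ q
  have hj : cw (gE' ψ e m 0) (ψ (ε e 7)) = ψ (ε e 2) * ψ (ε e 2) := by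
    simpa using h.elim (fun h => y0_10 (rel0 h)) (fun h => y1_10 (rel1 h))
  have t1 : cw (gE' ψ e m 0 ^ α * gE' ψ e m 1 ^ β) (ψ (ε e 7)) = ψ (ε e 10) := by
    rw [← hz, ← mp (e_dw e), cw_conj, hj, ← e_xxx e, map_mul, ← mp (e_bw e)]; group
  have n1 : (1 : G) ≠ ψ (ε e 10) := by simpa using L.inj.ne (e_n1 e)
  have n2 : ψ (ε e 2) * ψ (ε e 2) ≠ ψ (ε e 10) := by simpa using L.inj.ne (e_n2 e)
  have n3 : ψ (ε e 10) * ψ (ε e 10) ≠ ψ (ε e 10) := by simpa using L.inj.ne (e_n3 e)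
  have n4 : ψ (ε e 2) ≠ ψ (ε e 10) := L.inj.ne (e_n4 e)
  rcases h with h | h
  · exfalso
    have r := rel0 h
    interval_cases α <;> interval_cases β
    exacts [n1 ((y0_00 r).symm.trans t1), n1 ((y0_01 r).symm.trans t1), n1 ((y0_02 r).symm.trans t1),
      n2 ((y0_10 r).symm.trans t1), n1 ((y0_11 r).symm.trans t1), n4 ((y0_12 r).symm.trans t1),
      n2 ((y0_20 r).symm.trans t1), n4 ((y0_21 r).symm.trans t1), n1 ((y0_22 r).symm.trans t1)]
  have r := rel1 h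
  have ab : α = 0 ∧ (β = 1 ∨ β = 2) := by
    interval_cases α <;> interval_cases β
    exacts [(n1 ((y1_00 r).symm.trans t1)).elim, by omega, by omega,
      (n2 ((y1_10 r).symm.trans t1)).elim, (n3 ((y1_11 r).symm.trans t1)).elim, (n4 ((y1_12 r).symm.trans t1)).elim,
      (n2 ((y1_20 r).symm.trans t1)).elim, (n4 ((y1_21 r).symm.trans t1)).elim, (n3 ((y1_22 r).symm.trans t1)).elim]
  obtain ⟨rfl, hb⟩ := ab
  cases e
  · refine ⟨rfl, h, ?_⟩
    rcases hb with rfl | rfl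
    · simpa using hz
    exfalso
    have k2 : gE' ψ false m 1 ^ 2 = (gE' ψ false m 1)⁻¹ := eq_inv_of_mul_eq_one_left (by rw [← pow_succ, y_k3 hy])
    rw [pow_zero, one_mul, k2] at hz
    have s1 := y_s1 r
    have s2 := y_s2 r
    have s3 := y_s3 r
    have w1 := mp e_pw0
    have w2 := mp e_prw
    have w3 := congrArg ψ e_wo3
    have j3 := y_j3 hy
    simp only [map_mul, map_inv] at w1 w2 w3
    have n5 : ψ (ε false 2) * ψ (ε false 2) ≠ 1 := by simpa using L.inj.ne (e_n5 false)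
    generalize gE' ψ false m 0 = j at *
    generalize gE' ψ false m 1 = k at *
    generalize ψ (ε false 11) = w at *
    generalize ψ (ε false 9) = o at *
    generalize ψ (ε false 4) = p at *
    generalize ψ (ε false 6) = r at *
    generalize p * ψ (ε false 5) * r * (ψ (ε false 3))⁻¹ = s at *
    have a1 : (w * o)⁻¹ * j * (w * o) = p⁻¹ * j⁻¹ * p := by
      calc _ = (o⁻¹ * (w⁻¹ * j * w)⁻¹ * o)⁻¹ := by group
        _ = _ := by rw [hz, inv_inv, s1]; group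
    have a2 : (w * o)⁻¹ * (p⁻¹ * j⁻¹ * p) * (w * o) = (p * r)⁻¹ * j * (p * r) := by
      calc _ = (w⁻¹ * p * w * o)⁻¹ * (w⁻¹ * j * w)⁻¹ * (w⁻¹ * p * w * o) := by group
        _ = _ := by rw [hz, inv_inv, w1, s2]
    have a3 : (w * o)⁻¹ * ((p * r)⁻¹ * j * (p * r)) * (w * o) = s⁻¹ * j⁻¹ * s := by
      calc _ = ((w⁻¹ * (p * r) * w * o)⁻¹ * (w⁻¹ * j * w)⁻¹ * (w⁻¹ * (p * r) * w * o))⁻¹ := by group
        _ = _ := by rw [hz, inv_inv, w2, s3]; group
    have a4 : s⁻¹ * j * s = s⁻¹ * j⁻¹ * s := by rw [← a3, ← a2, ← a1, ← w3]; group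
    rw [mul_left_inj, mul_right_inj] at a4
    rw [pow_succ, pow_two] at j3
    nth_rw 1 [a4] at j3
    rw [inv_mul_cancel, one_mul] at j3
    exact n5 (by rw [← hj, j3]; simp [cw])
  · exfalso
    have t2 : cw (gE' ψ true m 0 ^ 0 * gE' ψ true m 1 ^ β) (ψ (ε true 6) * ψ (ε true 7)) =
        ψ (ε true 2 * ε true 2 * (ε true 10)⁻¹ * (ε true 10)⁻¹) := by
      have q : (ψ (ε true 11))⁻¹ * (ψ (ε true 4) * ψ (ε true 7)) * ψ (ε true 11) = ψ (ε true 6) * ψ (ε true 7) := by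
        rw [← mp e_pw1]; conv_rhs => rw [← mp (e_dw true)]
        group
      rw [← hz, ← q, cw_conj, y_t2j r, map_mul, map_mul, map_mul]
      have q1 := mp (e_bw true)
      have q2 := mp (e_xw true)
      calc _ = ((ψ (ε true 11))⁻¹ * ψ (ε true 10) * ψ (ε true 11)) * ((ψ (ε true 11))⁻¹ * ψ (ε true 10) * ψ (ε true 11)) *
          ((ψ (ε true 11))⁻¹ * ψ (ε true 2) * ψ (ε true 11)) * ((ψ (ε true 11))⁻¹ * ψ (ε true 2) * ψ (ε true 11)) := by
            group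
        _ = _ := by rw [q1, q2]
    refine L.inj.ne (e_n6 true) (t2.symm.trans ?_)
    rw [map_mul, map_mul]
    rcases hb with rfl | rfl
    exacts [y_t2k r, y_t2kk r]

end Cfsg.Agent.H8Ly
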