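import Cfsg.Agent.H8.LyK
import Cfsg.Agent.Spor.LyUD.V.Main
import Cfsg.Agent.Spor.LyB.Main
import Cfsg.Agent.Spor.LyS
import Cfsg.Agent.Spor.LyCh.Main

/-! # Uniqueness of groups of Lyons type -/

set_option autoImplicit false
set_option linter.unusedVariables false
set_option linter.unusedSimpArgs false
set_option linter.unusedSectionVars false
set_option maxRecDepth 100000

namespace Cfsg.Agent.H8Ly
open Subgroup Equiv Cfsg.Agent.Spor Cfsg.Agent.Spor.LyUY

/-- the presentation on eight generators -/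
noncomputable def RP : List (List ℕ) := RK ++ RM1 ++ LyUE.BW

theorem presB1 {G : Type} [Group G] {f : ℕ → G} (h : Pres 7 5 RB f) : Pres 7 5 (RK ++ RM1) f := by
  have a12 : atm 7 f 12 = ev (atm 7 f) [] := by simpa using h.rel [12] (by decide)
  have a13 : atm 7 f 13 = ev (atm 7 f) [] := by
    rw [atm_odd f (j := 6) (by omega), ← atm_two_mul f (n := 7) (j := 6) (by omega), a12]; simp
  refine ⟨h.sq, fun l hl => ?_⟩
  rw [← ev_repl a12, ← ev_repl a13]
  exact consAll_sound h.ivOk h.rel (L := (RK ++ RM1).map fun l => repl 13 [] (repl 12 [] l)) (H := [([], 0, true), ([], 1, true), ([], 2, true), ([], 3, true), ([], 4, true), ([], 5, true), ([], 6, true), ([], 7, true), ([], 8, true), ([], 9, true), ([], 10, true), ([], 18, false), ([], 18, false), ([], 18, false), ([], 18, false), ([], 18, false), ([], 18, false), ([], 11, true), ([], 12, true), ([], 13, true), ([], 18, false), ([], 14, true), ([], 15, true), ([], 16, true)])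
    (by decide +kernel) _ (List.mem_map_of_mem hl)

theorem card3 {Γ Δ : Type*} [Group Γ] [Group Δ] [Finite Γ] (φ : Γ →* Δ) {S : Subgroup Γ} {x : Γ} (m : x ∈ S)
    (x3 : x ^ 3 = 1) (x1 : x ≠ 1) (k : φ x = 1) : 3 * Nat.card (S.map φ) ∣ Nat.card S := by
  have e := (φ.comp S.subtype).ker.card_mul_index
  rw [index_ker, MonoidHom.range_comp, range_subtype] at e
  rw [← e]
  exact Nat.mul_dvd_mul_right (dvd_card_of_pow (x := (⟨⟨x, m⟩, k⟩ : (φ.comp S.subtype).ker)) Nat.prime_three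
    (Subtype.ext (Subtype.ext x3)) fun q => x1 (congrArg (fun y => y.1.1) q)) _

theorem mem13 {Γ : Type*} [Group Γ] (f : ℕ → Γ) {W : List (List ℕ)} (hW : [13] ∈ W) : f 6 ∈ wsub 7 f W := by
  have := inv_mem (mem_wsub (n := 7) f hW)
  simpa [atm_odd f (n := 7) (j := 6) (by omega)] using this

theorem lift_ne {Γ : Type*} [Group Γ] {f : ℕ → Γ} (h : ev (atm 7 f) [2, 12] ≠ ev (atm 7 f) [12, 2]) :
    lift (gsub 7 f) f 6 ≠ 1 := fun q => h (by
  have : f 6 = 1 := (lift_gsub f 6 (by omega)).symm.trans (congrArg Subtype.val q)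
  simp [atm_two_mul f (n := 7) (j := 6) (by omega), this])

theorem cardW : (∀ W s, s ∣ Nat.card (wsub 7 LyUP.fP W) → s ∣ Nat.card (wsub 7 γ1 W)) ∧
    ∀ W s, [13] ∈ W → s ∣ Nat.card (wsub 7 LyUP.fP W) → 3 * s ∣ Nat.card (wsub 7 γ1 W) := by
  obtain ⟨φ, hφ⟩ := exΓ1 (presB1 LyUP.pres)
  refine ⟨fun W s h => h.trans (wsub_map hφ W ▸ card_map_dvd _ φ), fun W s hW h => ?_⟩
  have := card3 φ (mem13 γ1 hW) (PR.x3 (Or.inr LyUG.presF.lift)) (lift_ne LyUG.sxne)
    ((hφ 6 (by omega)).trans ((ev12 _).symm.trans (LyUP.pres.rel [12] (by decide))))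
  rw [wsub_map hφ] at this
  exact (Nat.mul_dvd_mul_left 3 h).trans this

theorem pres7 {G : Type} [Group G] {f : ℕ → G} (h : Pres 8 5 RP f) : Pres 7 5 (RK ++ RM1) f :=
  ⟨fun j h1 _ => h.sq j h1 (by omega), fun l hl => by
    rw [← ev_atm_lt (n := 7) (N := 8) (by omega) f (by revert l; decide +kernel)]
    exact h.rel l (List.mem_append_left _ hl)⟩

theorem card_le {G : Type} [Group G] {f : ℕ → G} (h : Pres 8 5 RP f) (ht : gsub 8 f = ⊤) :
    Finite G ∧ Nat.card G ≤ 5388768000 * 9606125 := by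
  obtain ⟨ρ, hρ⟩ := exΓ1 (pres7 h)
  obtain ⟨φ, hφ⟩ := exΓ1 (presB1 LyUD.pres)
  let Y : DCtx LyUE.D (ZMod 5) Γ1 G := ⟨LyM.Ω.comp Γ1.subtype Γ1.subtype_injective, ρ, f 7⟩
  have hg : Y.X.Gens LyUE.TT (atm 7 γ1) := LyUG.gF.lift fun _ hj => mem_gsub _ hj
  have hu : Y.Upto 597 := LyUE.upto (DCtx.At.of (Y := Y) hg hρ rfl) fun w hw => h.rel w (List.mem_append_right _ hw)
  have t := gsub_lift 7 LyUG.F
  have d := LyUD.V.done hu hg hφ (LyUD.S.act hφ t (s := 3 * 116640) (cardW.2 _ _ (by decide) LyUP.L.cardL) cardΓ1) t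
    cardΓ1 (cardW.2 _ 116640 (by decide) LyUP.L.cardV) (cardW.1 _ _ LyUP.L.cardS3) (cardW.1 _ _ LyUP.L.cardS4)
    (cardW.1 _ _ LyUP.L.cardS5)
  have g := DCtx.gen_top (Y := Y) hρ rfl ht
  exact ⟨d.finite g, d.card_le g⟩

theorem K_top {S : Subgroup K} (h : ∀ j ∈ [0, 1, 2, 3, 5, 6, 7], κ false j ∈ S) (z : K) : z ∈ S := by
  have : gsub 9 ξ ≤ S := gsub_le fun j hj => by
    have c := (allN_iff _ _).1 (show allN (fun j => band
      (Nat.beq (LyUC.A.evw LyUC.TX [2 * j] LyUC.A.one) (LyUC.A.evw LyUC.TB0 (([[4, 14, 10, 0, 14, 12, 15, 1, 11, 15, 5], [15, 4, 11, 14, 12, 15, 10, 5, 14], [14, 10, 0, 14, 12, 15, 1, 11, 15], [15, 10, 2, 14, 12, 15, 3, 11, 14], [14, 2, 0, 14, 12, 15, 1, 3, 15], [6, 15, 10, 2, 14, 12, 15, 3, 11, 14, 7], [4, 14, 2, 0, 14, 12, 15, 1, 3, 15, 5], [0, 14, 2, 0, 14, 12, 15, 1, 3, 15, 1], [12]] : List (List ℕ)).getD j []) LyUC.A.one))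
      ((([[4, 14, 10, 0, 14, 12, 15, 1, 11, 15, 5], [15, 4, 11, 14, 12, 15, 10, 5, 14], [14, 10, 0, 14, 12, 15, 1, 11, 15], [15, 10, 2, 14, 12, 15, 3, 11, 14], [14, 2, 0, 14, 12, 15, 1, 3, 15], [6, 15, 10, 2, 14, 12, 15, 3, 11, 14, 7], [4, 14, 2, 0, 14, 12, 15, 1, 3, 15, 5], [0, 14, 2, 0, 14, 12, 15, 1, 3, 15, 1], [12]] : List (List ℕ)).getD j []).all fun y => [0, 1, 2, 3, 5, 6, 7].contains (y / 2))) 9 = true by
      decide +kernel) j hj
    rw [band_eq, Bool.and_eq_true] at c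
    have := gX.cross gB0 c.1
    rw [ev_cons, ev_nil, mul_one, atm_two_mul _ hj] at this
    exact this ▸ ev_mem_of_lets h c.2
  exact this (ξ_top ▸ mem_top z)

theorem exists_gens {G : Type} [Group G] [Finite G] [IsSimpleGroup G] {t : G} (ht : orderOf t = 2)
    (hC : IsNonsplitDoubleCover (centralizer ({t} : Set G)) (alternatingGroup (Fin 11))) :
    ∃ f : ℕ → G, Pres 8 5 RP f ∧ gsub 8 f = ⊤ := by
  obtain ⟨ψ0, L0, -⟩ := exists_LT ht hC
  obtain ⟨ψ, L, -, m, k, hk, M, h2⟩ := L0.exists_m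
  obtain ⟨e, h⟩ := L.pr hk M h2
  obtain ⟨rfl, p, hw⟩ := L.last M.toMt h
  have le : gsub 7 (gf ψ false m) ≤ gsub 8 (gf ψ false m) := gsub_le fun j hj => mem_gsub _ (by omega)
  have al : ∀ z, ψ z ∈ gsub 8 (gf ψ false m) := K_top (S := (gsub 8 (gf ψ false m)).comap ψ) fun j hj => by
    by_cases e : j = 7
    · rw [e, mem_comap, ← gf_ne (m := m) (by omega)]; exact mem_gsub _ (by omega)
    · exact lets_mem le j (by simp at hj ⊢; omega)
  refine ⟨gf ψ false m, ⟨fun j h1 _ => p.sq j h1 (by omega), fun l hl => ?_⟩, H8SE.se_top (t := ψ kt) (a := ψ ka)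
    (b := ψ kb) (L.ord k_tt k_t_ne) (al _) (fun g hg => ?_) (fun s s2 hs => ?_) (L.ord k_aa k_a_ne)
    (L.ord k_bb k_b_ne) (al _) (al _) (by rw [← map_mul, ← map_mul, k_abab])⟩
  · rcases List.mem_append.1 hl with hl | hl
    · rw [ev_atm_lt (n := 7) (N := 8) (by omega) _ (by revert l; decide +kernel)]
      exact p.rel l hl
    · have := (lall_iff _ _).1 (show lall (fun l => bor (l == invW 10 (WD.getD 0 []) (14 :: (WD.getD 1 [] ++ [15])))
        (band (l.all fun y => y / 2 != 4 && y < 2 * 8) (LyUC.A.isW LyUC.TB0 l LyUC.A.one))) LyUE.BW = true by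
        decide +kernel) l hl
      rw [bor_iff, band_eq, Bool.and_eq_true, beq_iff_eq] at this
      rcases this with rfl | ⟨h1, h2⟩
      · have w1 : atm 8 (gf ψ false m) 14 = ψ (ε false 11) :=
          (atm_two_mul _ (j := 7) (by omega)).trans (by rw [ε_w]; exact gf_ne (by omega))
        have w2 : atm 8 (gf ψ false m) 15 = (ψ (ε false 11))⁻¹ :=
          (atm_odd _ (j := 7) (by omega)).trans (by rw [ε_w]; exact congrArg _ (gf_ne (by omega)))
        rw [ev_invW (ivOk_atm (k := 5) fun j h1 _ => p.sq j h1 (by omega)), ev_cons, ev_append, ev_cons, ev_nil, w1, w2,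
          ev_atm_lt (n := 7) (N := 8) (by omega) _ (by decide +kernel),
          ev_atm_lt (n := 7) (N := 8) (by omega) _ (by decide +kernel)]
        change (gE' ψ false m 0)⁻¹ * (_ * (gE' ψ false m 1 * _)) = 1
        rw [← hw]; group
      · rw [ev_free (by omega) h1]; exact (congrArg ψ (gB0.eq_one h2)).trans (map_one _)
  · obtain ⟨z, rfl⟩ := L.cen g hg
    exact al z
  · obtain ⟨z, rfl⟩ := L.cen s hs
    by_cases ht : z = kt
    · exact ⟨1, one_mem _, by simp [ht]⟩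
    rw [orderOf_injective ψ L.inj] at s2
    obtain ⟨c, rfl⟩ := inv_conj (Inv.sq_of_ord2 s2) (Inv.ne_one_of_ord2 s2) ht
    exact ⟨_, mul_mem (al c) (mul_mem (al _) (mem_gsub (gf ψ false m) (j := 4) (by omega))), M.toMt.im c⟩

theorem gensH : ∃ f : ℕ → LyM.H, Pres 8 5 RP f ∧ gsub 8 f = ⊤ :=
  haveI := LyS.simpleH
  exists_gens LyK.cK.ord (LyB.centz ▸ LyK.nonsplit)

theorem boundP : Bound 8 5 RP 51765179004000000 := fun G _ f h => by
  obtain ⟨g, hg, tg⟩ := gensH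
  let p : ℕ → G × LyM.H := fun j => (f j, g j)
  obtain ⟨fin, le⟩ := card_le (h.prod hg).lift (gsub_lift 8 p)
  have d1 := card_range_dvd ((MonoidHom.fst G LyM.H).comp (gsub 8 p).subtype)
  have d2 := card_range_dvd ((MonoidHom.snd G LyM.H).comp (gsub 8 p).subtype)
  rw [range_eq_gsub (g := f) (fun j hj => by rw [MonoidHom.comp_apply, lift_gsub p j hj]; rfl) (gsub_lift 8 p)] at d1
  rw [range_eq_gsub (g := g) (fun j hj => by rw [MonoidHom.comp_apply, lift_gsub p j hj]; rfl) (gsub_lift 8 p), tg,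
    card_top, LyS.cardH] at d2
  have := Nat.le_of_dvd Nat.card_pos d2
  rwa [show Nat.card (gsub 8 p) = 51765179004000000 from le_antisymm le this] at d1

theorem iso_of {n k M : ℕ} {R : List (List ℕ)} (b : Bound n k R M) (hM : M ≠ 0) {H G : Type} [Group H] [Group G]
    [IsSimpleGroup H] [Nontrivial G] (c : Nat.card H = M) {g : ℕ → H} {f : ℕ → G} (hg : Pres n k R g)
    (tg : gsub n g = ⊤) (hf : Pres n k R f) (tf : gsub n f = ⊤) : Nonempty (H ≃* G) := by
  obtain ⟨ρ, hρ⟩ := b.exists_hom hM hg hf (by rw [tg, card_top, c])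
  let e : H ≃* gsub n g := (topEquiv.symm.trans (MulEquiv.subgroupCongr tg.symm))
  have s : Function.Surjective (ρ.comp e.toMonoidHom) :=
    (MonoidHom.range_eq_top.1 ((range_eq_gsub hρ (gsub_lift n g)).trans tf)).comp e.surjective
  obtain ⟨x, hx⟩ := exists_ne (1 : G)
  obtain ⟨y, rfl⟩ := s x
  exact ⟨MulEquiv.ofBijective _ ⟨inj_of_simple _ hx, s⟩⟩

theorem isoH {G : Type} [Group G] [Finite G] [IsSimpleGroup G] {t : G} (ht : orderOf t = 2)
    (hC : IsNonsplitDoubleCover (centralizer ({t} : Set G)) (alternatingGroup (Fin 11))) : Nonempty (LyM.H ≃* G) := by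
  obtain ⟨g, hg, tg⟩ := gensH
  obtain ⟨f, hf, tf⟩ := exists_gens ht hC
  exact @iso_of _ _ _ _ boundP (by norm_num) LyM.H G _ _ LyS.simpleH _ LyS.cardH g f hg tg hf tf

theorem isoLy {G : Type*} [Group G] [Finite G] [IsSimpleGroup G] {t : G} (ht : orderOf t = 2)
    (hC : IsNonsplitDoubleCover (centralizer ({t} : Set G)) (alternatingGroup (Fin 11))) :
    Nonempty (G ≃* Cfsg.Spor.Ly) := by
  let e : G ≃* Shrink.{0} G := (Shrink.mulEquiv).symm
  haveI : Finite (Shrink.{0} G) := Finite.of_equiv _ e.toEquiv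
  haveI : IsSimpleGroup (Shrink.{0} G) := e.symm.isSimpleGroup
  obtain ⟨e1⟩ := isoH (t := e t) (by rw [e.orderOf_eq, ht]) (nonsplit_congr hC (centralizerMap e t))
  obtain ⟨σ, hσ⟩ := LyS.homH
  haveI : Finite Cfsg.Spor.Ly := Nat.finite_of_card_ne_zero (by rw [LyS.isLy.2]; norm_num)
  have b : Function.Bijective σ := (Nat.bijective_iff_surjective_and_card σ).2 ⟨hσ, by rw [LyS.isLy.2, LyS.cardH]⟩
  exact ⟨e.trans (e1.symm.trans (MulEquiv.ofBijective σ b).symm)⟩

end Cfsg.Agent.H8Ly
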