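import Cfsg.Agent.Spor.OnUa.Main
import Cfsg.Agent.Spor.OnUb.Main
import Cfsg.Agent.Spor.OnD.D0
import Cfsg.Agent.Spor.PX4
import Cfsg.Agent.Spor.MatW
import Cfsg.Agent.Spor.MatQ
import Cfsg.Agent.Blk.Cov1
import Cfsg.Agent.S0813

/-! # The model `U` of `4².L3(4)` in `GL(16, 3)` -/

set_option autoImplicit false
set_option linter.unusedVariables false
set_option linter.unusedSimpArgs false
set_option maxRecDepth 100000

namespace Cfsg.Agent.H8On
open Subgroup Cfsg.Agent.Spor Cfsg.Agent.Spor.OnD Matrix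

abbrev RU : List (List ℕ) := OnUb.RL

theorem boundU : Bound 4 0 RU (448 * 720) :=
  OnUb.cert.bound (OnUa.cert.bound_nil) (H := [([], 15, true), ([], 16, true), ([], 17, true), ([], 0, true),
    ([], 1, true), ([], 2, true), ([], 3, true), ([], 19, true)]) (by decide +kernel)

theorem pres0 {G : Type*} [Group G] {n : ℕ} {RL : List (List ℕ)} {f : ℕ → G}
    (h : ∀ l ∈ RL, ev (atm n f) l = 1) : Pres n 0 RL f := ⟨fun _ h => absurd h (Nat.not_lt_zero _), h⟩

theorem allP_of {α : Type} {p : α → Bool} {l : List α} (h : lall p l = true) : AllP (fun a => p a = true) l := by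
  induction l with
  | nil => trivial
  | cons a l ih =>
    have h' : band (p a) (lall p l) = true := h
    rw [band_eq, Bool.and_eq_true] at h'
    exact ⟨h'.1, ih h'.2⟩

theorem cen_bot {G : Type*} [Group G] [IsSimpleGroup G] (h : ¬ (Nat.card G).Prime) {x : G} (hx : x ∈ center G) :
    x = 1 := by
  rcases (inferInstance : (center G).Normal).eq_bot_or_eq_top with q | q
  · rwa [q] at hx
  · haveI : IsMulCommutative G := ⟨⟨fun a b => mem_center_iff.1 (q ▸ mem_top b) a⟩⟩
    exact absurd (Group.is_simple_iff_prime_card.1 inferInstance) h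

theorem exY {F : Type} [Field F] [Fintype F] (hF : Fintype.card F = 4) :
    ∃ y : ℕ → ProjectiveSpecialLinearGroup (Fin 3) F, Pres 4 0 (zw :: kw :: RU) y ∧ gsub 4 y = ⊤ := by
  obtain ⟨ω, hω⟩ := exists_omega (F := F) (by rw [hF])
  have h2 : ((2 : ℕ) : F) = 0 := cast_eq_zero_of_card (k := 2) hF
  let X : Ctx A4 F (Fin 3) := Ctx.f4 A4 (Equiv.refl _) h2 ω hω (by decide +kernel)
  have hc := Ctx.codA_gen (X := X) (TT := T4) (k := 4) (by decide +kernel)
    (Ctx.exists_SL (UU := UU) (W := UW) (by decide +kernel))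
  refine ⟨_, hc.presQ (slToMat_inj 3) (RL := zw :: kw :: RU) (k := 0) (allP_of (by decide +kernel)), ?_⟩
  rw [← gsub_map, Class.SL_eq_top_of_transvection_mem (gsub 4 _), ← MonoidHom.range_eq_map,
    QuotientGroup.range_mk']
  intro i j h c
  have key : ∀ (i j : Fin 3) (b : Fin 2), i ≠ j → A4.eqT T4 (nth [] WR (6 * i + 2 * j + b))
      (nth [] TR (6 * i + 2 * j + b)) = true ∧ ∀ r s : Fin 3, A4.mat (nth [] TR (6 * i + 2 * j + b)) r s =
        if r = s then 1 else if i = r ∧ j = s then 32 ^ b.1 else 0 := by decide +kernel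
  have m : ∀ b : Fin 2, SpecialLinearGroup.transvection h (ω ^ b.1) ∈ gsub 4 (X.gen (slToMat 3 F) T4) :=
    fun b => hc.mem_of_eqT (slToMat_inj 3) (key i j b h).1 (X.eq_mk'_of_ent _ (fun r s => by
      have e1 : X.decR 1 = 1 := X.decR_one (by decide)
      have e2 : X.decR (32 ^ b.1) = ω ^ b.1 := by
        fin_cases b
        · simpa using e1
        · rw [Ctx.decR_two rfl, show dig A4.B (32 ^ 1) 0 = 0 by decide +kernel,
            show dig A4.B (32 ^ 1) 1 = 1 by decide +kernel]
          simp [X, Ctx.f4, Ctx.two]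
      show (1 + Matrix.single i j (ω ^ b.1) : Matrix _ _ F) r s = _
      by_cases q : r = s
      · subst q
        have : ¬ (i = r ∧ j = r) := fun q => h (q.1.trans q.2.symm)
        simp [e1, Matrix.single_apply, this]
      · by_cases q' : i = r ∧ j = s
        · simp [q, q', e2, Matrix.single_apply]
        · simp [q, q', X.decR_zero, Matrix.single_apply]) (key i j b h).2)
  have o0 : ω ≠ 0 := fun q => by simp [q] at hω
  have o1 : ω ≠ 1 := fun q => by
    rw [q] at hω; push_cast at h2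
    exact one_ne_zero (α := F) (by linear_combination hω - h2)
  have hc4 : c = 0 ∨ c = 1 ∨ c = ω ∨ c = 1 + ω := by
    have := FiniteField.pow_card c
    rw [hF] at this; push_cast at h2
    have q : c * (c - 1) * (c - ω) * (c - (1 + ω)) = 0 := by
      linear_combination this + (c ^ 2 - c) * hω + (-c ^ 3 - ω * c ^ 3 + ω * c ^ 2 + c) * h2
    simpa [sub_eq_zero, or_assoc] using q
  rcases hc4 with rfl | rfl | rfl | rfl
  · rw [SpecialLinearGroup.transvection_coeff_zero]; exact one_mem _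
  · simpa using m 0
  · simpa using m 1
  · rw [SpecialLinearGroup.transvection_add]; exact mul_mem (by simpa using m 0) (by simpa using m 1)

theorem sqA : A.sq = true := by decide +kernel
theorem hp3 : ((A.p : ℕ) : ZMod 3) = 0 := by decide
instance instCharA : CharP (ZMod 3) A.p := ZMod.charP 3
noncomputable abbrev Ω : MRep A (ZMod 3) (GL (Fin A.d) (ZMod 3)) := MRep.gl A (ZMod 3) sqA hp3
noncomputable abbrev FX : ℕ → GL (Fin A.d) (ZMod 3) := Ω.gen TX
theorem gFX : Ω.Gens TX (atm 4 FX) := MRep.gl_gens (by decide +kernel)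
theorem presFX : Pres 4 0 RU FX := pres0 fun l hl => gFX.eq_one
    ((lall_iff _ _).1 (show lall (fun w => A.isW TX w A.one) RU = true by decide +kernel) l hl)

/-- the model of `4².L3(4)` -/
def U : Type := gsub 4 FX
noncomputable instance instGroupU : Group U := inferInstanceAs (Group (gsub 4 FX))
noncomputable def ξ : ℕ → U := lift (gsub 4 FX) FX
noncomputable def XU : MRep A (ZMod 3) U := Ω.comp (gsub 4 FX).subtype (gsub 4 FX).subtype_injective
theorem gX : XU.Gens TX (atm 4 ξ) := gFX.lift fun _ hj => mem_gsub FX hj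
theorem presξ : Pres 4 0 RU ξ := presFX.lift
theorem ξ_top : gsub 4 ξ = ⊤ := gsub_lift 4 FX
theorem exHom0 {G : Type} [Group G] {x : ℕ → G} (h : Pres 4 0 RU x) (hc : 448 * 720 ∣ Nat.card U) :
    ∃ ψ : U →* G, ∀ j < 4, ψ (ξ j) = x j := boundU.exists_hom (by norm_num) presFX h hc
attribute [irreducible] U instGroupU ξ XU

noncomputable def w (l : List ℕ) : U := ev (atm 4 ξ) l
noncomputable def z : U := w zw
noncomputable def k : U := w kw
noncomputable def zel (n : ℕ) : U := z ^ (n % 4) * k ^ (n / 4)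

theorem zM : XU.M (nth A.one ZL 1) ∧ XU.el (nth A.one ZL 1) = z := gX.isW (by decide +kernel)
theorem kM : XU.M (nth A.one ZL 4) ∧ XU.el (nth A.one ZL 4) = k := gX.isW (by decide +kernel)
theorem zelM {n : ℕ} (h : n < 16) : XU.M (nth A.one ZL n) ∧ XU.el (nth A.one ZL n) = zel n := by
  have : nth A.one ZL n = A.mul (A.pw (nth A.one ZL 1) (n % 4)) (A.pw (nth A.one ZL 4) (n / 4)) :=
    Nat.eq_of_beq_eq_true ((allN_iff (fun n => Nat.beq (nth A.one ZL n) (A.mul (A.pw (nth A.one ZL 1) (n % 4))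
      (A.pw (nth A.one ZL 4) (n / 4)))) 16).1 (by decide +kernel) n h)
  rw [this, (zM.1.pw _).1.el_mul (kM.1.pw _).1, (zM.1.pw _).2, (kM.1.pw _).2, zM.2, kM.2]
  exact ⟨(zM.1.pw _).1.mul (kM.1.pw _).1, rfl⟩
theorem zel_inj {n m : ℕ} (hn : n < 16) (hm : m < 16) (h : zel n = zel m) : n = m := by
  by_contra q
  have := (allN_iff _ 16).1 ((allN_iff (fun n => allN (fun m => bor (Nat.beq n m)
    (A.neq (nth A.one ZL n) (nth A.one ZL m))) 16) 16).1 (by decide +kernel) n hn) m hm
  rw [bor_iff, Nat.beq_eq] at this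
  exact (zelM hn).1.neq (zelM hm).1 (this.resolve_left q) (by rw [(zelM hn).2, (zelM hm).2, h])

theorem cen_of {x : U} (h : ∀ j < 4, ξ j * x = x * ξ j) : x ∈ center U :=
  mem_center_iff.2 fun g => comm_of_gens h g (ξ_top ▸ mem_top _)
theorem cen_of' {l : List ℕ} (h : allN (fun j => Nat.beq (A.evw TX (2 * j :: l) A.one)
    (A.evw TX (lapp l [2 * j]) A.one)) 4 = true) : w l ∈ center U := cen_of fun j hj => by
  have := gX.eq_ev ((allN_iff _ _).1 h j hj)
  simpa [ev_lapp, atm_two_mul _ hj, w] using this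
theorem z_cen : z ∈ center U := cen_of' (by decide +kernel)
theorem k_cen : k ∈ center U := cen_of' (by decide +kernel)
theorem zel_cen (n : ℕ) : zel n ∈ center U := mul_mem (pow_mem z_cen _) (pow_mem k_cen _)
theorem z4 : z ^ 4 = 1 := by
  rw [← zM.2, ← (zM.1.pw 4).2, show A.pw (nth A.one ZL 1) 4 = A.one by decide +kernel, MRep.el_one]
theorem k4 : k ^ 4 = 1 := by
  rw [← kM.2, ← (kM.1.pw 4).2, show A.pw (nth A.one ZL 4) 4 = A.one by decide +kernel, MRep.el_one]

theorem le_card_of_inj {α : Type*} {S : Set α} (hS : S.Finite) {N : ℕ} (f : ℕ → α) (h1 : ∀ n < N, f n ∈ S)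
    (h2 : ∀ n < N, ∀ m < N, f n = f m → n = m) : N ≤ S.ncard ∧ (S.ncard ≤ N → ∀ x ∈ S, ∃ n < N, f n = x) := by
  have e : (f '' Set.Iio N).ncard = N := by
    rw [Set.InjOn.ncard_image (s := Set.Iio N) fun a ha b hb => h2 a ha b hb, Set.ncard_Iio_nat]
  have s : f '' Set.Iio N ⊆ S := by rintro _ ⟨n, hn, rfl⟩; exact h1 n hn
  refine ⟨e ▸ Set.ncard_le_ncard s hS, fun h x hx => ?_⟩
  rw [← Set.eq_of_subset_of_ncard_le s (e.symm ▸ h) hS] at hx
  exact hx

theorem cardL {F : Type} [Field F] [Fintype F] (hF : Fintype.card F = 4) :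
    Nat.card (ProjectiveSpecialLinearGroup (Fin 3) F) = 20160 := card_PSL_eq hF (by decide +kernel)

theorem card_aux {L : Type} [Group L] [IsSimpleGroup L] (hL : Nat.card L = 20160) {y : ℕ → L}
    (hy : Pres 4 0 (zw :: kw :: RU) y) (ht : gsub 4 y = ⊤) : Nat.card U = 448 * 720 := by
  let f : ℕ → U × L := fun j => (ξ j, y j)
  let D := gsub 4 f
  have hp : Pres 4 0 RU f := presξ.prod (pres0 fun l hl => hy.rel l (by simp [hl]))
  have hd : Nat.card D ∣ 448 * 720 := boundU _ f hp
  have pos : 0 < Nat.card D := Nat.pos_of_dvd_of_pos hd (by norm_num)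
  haveI : Finite D := Nat.finite_of_card_ne_zero pos.ne'
  let s : D →* L := (MonoidHom.snd U L).comp D.subtype
  let t : D →* U := (MonoidHom.fst U L).comp D.subtype
  have ss : Function.Surjective s := MonoidHom.range_eq_top.1 (by
    rw [range_eq_gsub (f := lift D f) (g := y) (fun j hj => by simp [s, D, lift_coe (mem_gsub f hj), f])
      (gsub_lift 4 f), ht])
  have ts : Function.Surjective t := MonoidHom.range_eq_top.1 (by
    rw [range_eq_gsub (f := lift D f) (g := ξ) (fun j hj => by simp [t, D, lift_coe (mem_gsub f hj), f])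
      (gsub_lift 4 f), ξ_top])
  have c1 := card_of_quot ss
  have c2 := card_of_quot ts
  have m : ∀ l ∈ [zw, kw], (w l, (1 : L)) ∈ D := fun l hl => by
    have : ev (atm 4 f) l = (w l, 1) := Prod.ext (ev_atm_map (MonoidHom.fst U L) 4 f l)
      ((ev_atm_map (MonoidHom.snd U L) 4 f l).trans (hy.rel l (by
        simp only [List.mem_cons, List.not_mem_nil, or_false] at hl ⊢; tauto)))
    exact this ▸ ev_atm_mem 4 f l
  let zD : D := ⟨(z, 1), m zw (by simp)⟩
  let kD : D := ⟨(k, 1), m kw (by simp)⟩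
  have l16 := (le_card_of_inj (S := (s.ker : Set D)) (Set.toFinite _) (N := 16) (fun n => zD ^ (n % 4) * kD ^ (n / 4))
    (fun n _ => mul_mem (pow_mem (show zD ∈ s.ker from rfl) _) (pow_mem (show kD ∈ s.ker from rfl) _))
    (fun n hn m hm e => zel_inj hn hm (by simpa [t, zD, kD, zel] using congrArg t e))).1
  rw [← Nat.card_coe_set_eq] at l16
  change 16 ≤ Nat.card s.ker at l16
  have cD : Nat.card D = 448 * 720 := le_antisymm (Nat.le_of_dvd (by norm_num) hd) (by rw [c1, hL]; omega)
  have inj : Set.InjOn s t.ker := fun a ha b hb e => Subtype.ext (Prod.ext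
    ((show t a = 1 from ha).trans (show t b = 1 from hb).symm) e)
  have c3 : Nat.card (t.ker.map s) = Nat.card t.ker := by
    rw [← SetLike.coe_sort_coe, ← SetLike.coe_sort_coe t.ker, Nat.card_coe_set_eq, Nat.card_coe_set_eq, coe_map,
      inj.ncard_image]
  rcases (Normal.map inferInstance s ss : (t.ker.map s).Normal).eq_bot_or_eq_top with q | q
  · rw [q, card_bot] at c3
    rw [← cD, c2, ← c3, one_mul]
  · exfalso
    rw [q, card_top, hL] at c3
    have c4 : Nat.card U = 16 := by rw [cD, ← c3] at c2; omega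
    have a1 : ξ 0 ^ 16 = 1 := c4 ▸ pow_card_eq_one'
    refine gX.ne_one (w := List.replicate 16 0) (by decide +kernel) ?_
    rw [Mult.ev_replicate, show atm 4 ξ 0 = ξ 0 from atm_two_mul ξ (j := 0) (by omega), a1]

theorem cardU : Nat.card U = 448 * 720 := by
  haveI : Fact (Nat.Prime 2) := ⟨Nat.prime_two⟩
  haveI := Fintype.ofFinite (GaloisField 2 2)
  have hF : Fintype.card (GaloisField 2 2) = 4 := by
    rw [← Nat.card_eq_fintype_card, GaloisField.card 2 2 (by omega)]; rfl
  obtain ⟨y, h1, h2⟩ := exY hF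
  haveI := Class.PSL_isSimpleGroup (ι := Fin 3) (F := GaloisField 2 2) (by simp)
  exact card_aux (cardL hF) h1 h2
instance instFiniteU : Finite U := Nat.finite_of_card_ne_zero (by rw [cardU]; norm_num)

theorem exHom {G : Type} [Group G] {x : ℕ → G} (h : Pres 4 0 RU x) : ∃ ψ : U →* G, ∀ j < 4, ψ (ξ j) = x j :=
  exHom0 h (by rw [cardU])

theorem hom_ext {G : Type*} [Group G] {f g : U →* G} (h : ∀ j < 4, f (ξ j) = g (ξ j)) (x : U) : f x = g x :=
  gsub_le (K := f.eqLocus g) h (ξ_top ▸ mem_top x)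

abbrev L : Type := U ⧸ center U
noncomputable def π : U →* L := QuotientGroup.mk' _

theorem exL {F : Type} [Field F] [Fintype F] (hF : Fintype.card F = 4) :
    Nonempty (ProjectiveSpecialLinearGroup (Fin 3) F ≃* L) ∧ ∀ x ∈ center U, ∃ n < 16, zel n = x := by
  obtain ⟨y, h1, h2⟩ := exY hF
  haveI := Class.PSL_isSimpleGroup (ι := Fin 3) (F := F) (by simp)
  obtain ⟨ψ, hψ⟩ := exHom (x := y) (pres0 fun l hl => h1.rel l (by simp [hl]))
  have ss : Function.Surjective ψ := MonoidHom.range_eq_top.1 (by rw [range_eq_gsub hψ ξ_top, h2])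
  have c1 := card_of_quot ss
  rw [cardU, cardL hF] at c1
  have l16 := (le_card_of_inj (S := (ψ.ker : Set U)) (Set.toFinite _) (N := 16) zel
    (fun n _ => mul_mem (pow_mem ((ev_atm_map' hψ zw).trans (h1.rel _ (by simp))) _)
      (pow_mem ((ev_atm_map' hψ kw).trans (h1.rel _ (by simp))) _)) (fun n hn m hm => zel_inj hn hm)).2
    (by rw [← Nat.card_coe_set_eq]; change Nat.card ψ.ker ≤ 16; omega)
  have e : center U = ψ.ker := by
    refine le_antisymm (fun x hx => ?_) fun x hx => ?_
    · have : ψ x ∈ center _ := mem_center_iff.2 fun g => by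
        obtain ⟨g, rfl⟩ := ss g
        rw [← map_mul, mem_center_iff.1 hx, map_mul]
      exact cen_bot (by rw [cardL hF]; norm_num) this
    · obtain ⟨n, -, rfl⟩ := l16 x hx
      exact zel_cen n
  exact ⟨quot_center_equiv ss e, e ▸ l16⟩

theorem factsL : IsSimpleGroup L ∧ Nat.card L = 20160 ∧ Nat.card (MulAut L) = 12 * 20160 ∧
    ∀ x ∈ center U, ∃ n < 16, zel n = x := by
  haveI : Fact (Nat.Prime 2) := ⟨Nat.prime_two⟩
  haveI := Fintype.ofFinite (GaloisField 2 2)
  have hF : Fintype.card (GaloisField 2 2) = 4 := by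
    rw [← Nat.card_eq_fintype_card, GaloisField.card 2 2 (by omega)]; rfl
  obtain ⟨⟨e⟩, h⟩ := exL hF
  haveI := Class.PSL_isSimpleGroup (ι := Fin 3) (F := GaloisField 2 2) (by simp)
  refine ⟨e.symm.isSimpleGroup, by rw [← Nat.card_congr e.toEquiv, cardL hF], ?_, h⟩
  rw [← Class.card_mulAut_congr e, S0813.result 2 2 (by omega) hF 3 (by omega) (by omega),
    Class.card_PGL_eq_card_SL, card_SL_eq (M := 60480) hF (by decide +kernel)]
  rfl

instance instSimpleL : IsSimpleGroup L := factsL.1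
theorem cardL' : Nat.card L = 20160 := factsL.2.1
theorem cen_zel {x : U} (h : x ∈ center U) : ∃ n < 16, zel n = x := factsL.2.2.2 x h
theorem π_eq_one {x : U} : π x = 1 ↔ x ∈ center U := QuotientGroup.eq_one_iff x

end Cfsg.Agent.H8On
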