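import Cfsg.Agent.H8.OnA

/-! # Automorphisms of `4².L3(4)` and of its quotients -/

set_option autoImplicit false
set_option linter.unusedVariables false
set_option linter.unusedSimpArgs false
set_option maxRecDepth 100000

namespace Cfsg.Agent.H8On
open Subgroup Cfsg.Agent.Spor Cfsg.Agent.Spor.OnD

noncomputable def autOk (d : ℕ) : Bool :=
  band (A.gensOk (nth [] TB d) 4)
  (band (allN (fun j => A.isW TX ((nth [] BW d).getD j []) (nth A.one (nth [] TB d) (2 * j))) 4)
  (band (lall (fun w => A.isW (nth [] TB d) w A.one) RU)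
  (band (allN (fun j => A.isW (nth [] TB d) ((nth [] BV d).getD j []) (nth A.one TX (2 * j))) 4)
  (band (A.isW (nth [] TB d) zw (nth A.one ZL (nth 0 ZA d)))
  (band (A.isW (nth [] TB d) kw (nth A.one ZL (nth 0 KA d)))
  (band (Nat.blt (nth 0 ZA d) 16) (Nat.blt (nth 0 KA d) 16)))))))

theorem autOk_all : allN autOk 12 = true := by decide +kernel

theorem gB {d : ℕ} (hd : d < 12) : XU.Gens (nth [] TB d) (atm 4 (wv 4 ξ (nth [] BW d))) := by
  have h := (allN_iff _ _).1 autOk_all d hd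
  simp only [autOk, band_eq, Bool.and_eq_true, allN_iff] at h
  refine MRep.Gens.of h.1 fun j hj => ?_
  have := gX.isW (h.2.1 j hj)
  rw [wv, ← this.2, this.1.ρ_el]

theorem exβ (d : ℕ) : ∃ β : MulAut U, d < 12 → (∀ j < 4, β (ξ j) = wv 4 ξ (nth [] BW d) j) ∧
    β z = zel (nth 0 ZA d) ∧ β k = zel (nth 0 KA d) ∧ ∀ j < 4, β (wv 4 ξ (nth [] BV d) j) = ξ j := by
  by_cases hd : d < 12
  swap
  · exact ⟨1, fun h => absurd h hd⟩
  have h := (allN_iff _ _).1 autOk_all d hd
  simp only [autOk, band_eq, Bool.and_eq_true, allN_iff, lall_iff, Nat.blt_eq] at h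
  obtain ⟨-, -, h3, h4, h5, h6, h7, h8⟩ := h
  obtain ⟨b, hb⟩ := exHom (x := wv 4 ξ (nth [] BW d)) (pres0 fun l hl => (gB hd).eq_one (h3 l hl))
  have e : ∀ j < 4, b (wv 4 ξ (nth [] BV d) j) = ξ j := fun j hj => by
    rw [wv, ev_atm_map' hb, ← ((gB hd).isW (h4 j hj)).2, (gX _).2, atm_two_mul _ hj]
  have s : Function.Surjective b := MonoidHom.range_eq_top.1 (eq_top_of_gens ξ_top fun j hj => ⟨_, e j hj⟩)
  refine ⟨MulEquiv.ofBijective b (Finite.surjective_iff_bijective.1 s), fun _ => ⟨hb, ?_, ?_, e⟩⟩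
  · exact (ev_atm_map' hb zw).trans (((gB hd).isW h5).2.symm.trans (zelM h7).2)
  · exact (ev_atm_map' hb kw).trans (((gB hd).isW h6).2.symm.trans (zelM h8).2)

noncomputable def β (d : ℕ) : MulAut U := (exβ d).choose
theorem β_ξ {d : ℕ} (hd : d < 12) : ∀ j < 4, β d (ξ j) = wv 4 ξ (nth [] BW d) j := ((exβ d).choose_spec hd).1
theorem β_z {d : ℕ} (hd : d < 12) : β d z = zel (nth 0 ZA d) := ((exβ d).choose_spec hd).2.1
theorem β_k {d : ℕ} (hd : d < 12) : β d k = zel (nth 0 KA d) := ((exβ d).choose_spec hd).2.2.1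
theorem β_w {d : ℕ} (hd : d < 12) (l : List ℕ) : β d (w l) = ev (atm 4 (wv 4 ξ (nth [] BW d))) l :=
  ev_atm_map' (φ := (β d).toMonoidHom) (β_ξ hd) l
theorem β_sq {d : ℕ} (hd : d < 4) (x : U) : β d (β d x) = x := by
  refine hom_ext (f := (β d).toMonoidHom.comp (β d).toMonoidHom) (g := MonoidHom.id U) (fun j hj => ?_) x
  have e : nth [] BW d = nth [] BV d := by interval_cases d <;> decide +kernel
  show β d (β d (ξ j)) = ξ j
  rw [β_ξ (by omega) j hj, e]
  exact ((exβ d).choose_spec (by omega)).2.2.2 j hj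
theorem β_zero (x : U) : β 0 x = x := by
  refine hom_ext (f := (β 0).toMonoidHom) (g := MonoidHom.id U) (fun j hj => ?_) x
  show β 0 (ξ j) = ξ j
  rw [β_ξ (by omega) j hj, wv, show (nth [] BW 0).getD j [] = [2 * j] by interval_cases j <;> decide +kernel]
  simp [atm_two_mul _ hj]

theorem ξ3 {j : ℕ} (hj : j < 4) : ξ j ^ 3 = 1 := by
  have := presξ.rel [2 * j, 2 * j, 2 * j] (by interval_cases j <;> decide +kernel)
  simpa [atm_two_mul _ hj, pow_succ, mul_assoc] using this

section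
variable {M : Type*} [Group M]

theorem aut_cen (α : MulAut M) {x : M} (h : x ∈ center M) : α x ∈ center M :=
  mem_center_iff.2 fun g => by
    obtain ⟨g, rfl⟩ := α.surjective g
    rw [← map_mul, mem_center_iff.1 h, map_mul]

theorem exists_ind {p : M →* L} (hs : Function.Surjective p) (hk : p.ker = center M) (α : MulAut M) :
    ∃ a : MulAut L, ∀ m, a (p m) = p (α m) := by
  let f : L →* L := p.liftOfSurjective hs ⟨p.comp α.toMonoidHom, fun x hx => by
    rw [hk] at hx
    exact show α x ∈ p.ker from hk ▸ aut_cen α hx⟩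
  have hf : ∀ m, f (p m) = p (α m) := fun m => p.liftOfRightInverse_comp_apply _ _ _ m
  have s : Function.Surjective f := fun l => by
    obtain ⟨m, rfl⟩ := hs l
    obtain ⟨m, rfl⟩ := α.surjective m
    exact ⟨_, hf m⟩
  exact ⟨MulEquiv.ofBijective f (Finite.surjective_iff_bijective.1 s), hf⟩

theorem lift_eq {p : M →* L} (hk : p.ker = center M) (h3 : (Nat.card (center M)).Coprime 3) {f g : U →* M}
    (h : ∀ x, p (f x) = p (g x)) (x : U) : f x = g x :=
  hom_ext (fun j hj => Mult.lift_unique hk.le (hk ▸ h3) (h _) (by rw [← map_pow, ξ3 hj, map_one])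
    (by rw [← map_pow, ξ3 hj, map_one])) x
end

theorem π_surj : Function.Surjective π := QuotientGroup.mk'_surjective _
theorem π_ker : π.ker = center U := QuotientGroup.ker_mk' _
theorem card_cen : Nat.card (center U) = 16 := by
  have := card_of_quot π_surj
  rw [cardU, cardL', π_ker] at this; omega
theorem cenL {x : L} (h : x ∈ center L) : x = 1 := cen_bot (by rw [cardL']; norm_num) h

theorem aut_L (a : MulAut L) : ∃ x : U, ∃ d < 12, ∀ y, a (π y) = π (x * β d y * x⁻¹) := by
  choose B hB using fun d => exists_ind π_surj π_ker (β d)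
  let f : L × Fin 12 → MulAut L := fun q => MulAut.conj q.1 * B q.2
  have inj : Function.Injective f := by
    rintro ⟨l, d⟩ ⟨l', d'⟩ e
    obtain ⟨x, rfl⟩ := π_surj l
    obtain ⟨x', rfl⟩ := π_surj l'
    have e1 : ∀ y, x * β d y * x⁻¹ = x' * β d' y * x'⁻¹ :=
      lift_eq π_ker (by rw [card_cen]; norm_num) (f := (MulAut.conj x * β d).toMonoidHom)
        (g := (MulAut.conj x' * β d').toMonoidHom) fun y => by
          have := congrArg (fun a : MulAut L => a (π y)) e
          simpa [f, hB] using this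
    have e2 : ∀ y ∈ center U, β d y = β d' y := fun y hy => by
      have := e1 y
      rwa [mem_center_iff.1 (aut_cen _ hy), mem_center_iff.1 (aut_cen _ hy), mul_inv_cancel_right,
        mul_inv_cancel_right] at this
    have key : ∀ d d' : Fin 12, nth 0 ZA d < 16 ∧ nth 0 KA d < 16 ∧
        (nth 0 ZA d = nth 0 ZA d' → nth 0 KA d = nth 0 KA d' → d = d') := by decide +kernel
    have e3 : d = d' := (key d d').2.2
      (zel_inj (key d d).1 (key d' d).1 (by rw [← β_z d.2, ← β_z d'.2, e2 z z_cen]))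
      (zel_inj (key d d).2.1 (key d' d).2.1 (by rw [← β_k d.2, ← β_k d'.2, e2 k k_cen]))
    subst e3
    have e4 : π (x'⁻¹ * x) ∈ center L := mem_center_iff.2 fun g => by
      obtain ⟨g, rfl⟩ := π_surj g
      obtain ⟨g, rfl⟩ := (β d).surjective g
      rw [← map_mul, ← map_mul]
      congr 1
      calc β d g * (x'⁻¹ * x) = x'⁻¹ * (x' * β d g * x'⁻¹) * x := by group
        _ = _ := by rw [← e1]; group
    have := cenL e4
    rw [map_mul, map_inv, inv_mul_eq_one] at this
    rw [this]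
  haveI : Finite (MulAut L) := Nat.finite_of_card_ne_zero (by rw [factsL.2.2.1]; norm_num)
  obtain ⟨⟨l, d⟩, rfl⟩ := (inj.bijective_of_nat_card_le (by simp [factsL.2.2.1, cardL'])).2 a
  obtain ⟨x, rfl⟩ := π_surj l
  exact ⟨x, d, d.2, fun y => by simp [f, hB]⟩

section
variable {M : Type*} [Group M]

theorem exHom' [Finite M] {x : ℕ → M} (h : Pres 4 0 RU x) : ∃ ψ : U →* M, ∀ j < 4, ψ (ξ j) = x j := by
  let e : M ≃* Shrink.{0} M := (Shrink.mulEquiv).symm
  obtain ⟨ψ, hψ⟩ := exHom (h.map e.toMonoidHom)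
  exact ⟨e.symm.toMonoidHom.comp ψ, fun j hj => by simp [hψ j hj]⟩

theorem exists_ρ [Finite M] {p : M →* L} (hs : Function.Surjective p) (hk : p.ker = center M)
    (h4 : Nat.card (center M) = 4) : ∃ ρ : U →* M, ∀ x, p (ρ x) = π x := by
  obtain ⟨f, h1, h2⟩ := Mult.exists_pres hs hk.le (r := 3) (by rw [hk, h4]; norm_num) (n := 4) (k := 0)
    (g := fun j => π (ξ j)) (T := CJT) (Q := [(0, 3), (2, 3), (4, 3), (6, 3)])
    ((presξ.map π).cons (H := (List.range 19).map fun i => ([], i, true)) (by decide +kernel))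
    (fun j hj => by rw [← map_pow, ξ3 hj, map_one])
  have h5 : ev (atm 4 f) [0, 2, 0, 2, 0, 2, 0, 2, 0, 2] ∈ center M := by
    rw [← hk, MonoidHom.mem_ker, ev_atm_map' h1, ← ev_atm_map, π_eq_one]
    exact cen_of' (by decide +kernel)
  have h6 : ev (atm 4 f) ((List.replicate 4 [0, 2, 0, 2, 0, 2, 0, 2, 0, 2]).flatten) = 1 := by
    have := congrArg Subtype.val (pow_card_eq_one' (x := (⟨_, h5⟩ : center M)))
    rw [h4] at this
    simpa only [List.replicate, List.flatten_cons, List.flatten_nil, ev_append, ev_nil, SubmonoidClass.coe_pow,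
      pow_succ, pow_zero, one_mul, mul_one, mul_assoc, OneMemClass.coe_one, coe_mul] using this
  obtain ⟨ρ, hρ⟩ := exHom' (x := f) ((h2.append (RL' := [_]) (fun l hl => List.mem_singleton.1 hl ▸ h6)).cons
    (H := (List.range 20).map fun i => ([], i, true)) (by decide +kernel))
  exact ⟨ρ, hom_ext (f := p.comp ρ) fun j hj => by simp [hρ j hj, h1 j hj]⟩

theorem aut_lift {ρ : U →* M} (hs : Function.Surjective ρ) (hk : ∀ x, ρ x = 1 → x ∈ center U)
    (h4 : Nat.card (center M) = 4) (α : MulAut M) : ∃ x : U, ∃ d < 12, ∀ y, α (ρ y) = ρ (x * β d y * x⁻¹) := by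
  let p : M →* L := ρ.liftOfSurjective hs ⟨π, fun x hx => π_eq_one.2 (hk x hx)⟩
  have hp : ∀ x, p (ρ x) = π x := fun m => ρ.liftOfRightInverse_comp_apply _ _ _ m
  have ps : Function.Surjective p := fun l => by
    obtain ⟨m, rfl⟩ := π_surj l
    exact ⟨_, hp m⟩
  have pk : p.ker = center M := by
    ext m
    obtain ⟨m, rfl⟩ := hs m
    rw [MonoidHom.mem_ker, hp]
    refine ⟨fun h => mem_center_iff.2 fun g => ?_, fun h => cenL (mem_center_iff.2 fun g => ?_)⟩
    · obtain ⟨g, rfl⟩ := hs g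
      rw [← map_mul, mem_center_iff.1 (π_eq_one.1 h), map_mul]
    · obtain ⟨g, rfl⟩ := π_surj g
      rw [← hp, ← hp, ← map_mul, mem_center_iff.1 h, map_mul]
  obtain ⟨a, ha⟩ := exists_ind ps pk α
  obtain ⟨x, d, hd, h⟩ := aut_L a
  exact ⟨x, d, hd, lift_eq pk (by rw [h4]; norm_num) (f := α.toMonoidHom.comp ρ)
    (g := ρ.comp (MulAut.conj x * β d).toMonoidHom) fun y => by
      have := h y
      rw [← hp, ha, ← hp] at this
      exact this⟩
end

end Cfsg.Agent.H8On
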