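import Cfsg.Agent.H8.OnB

/-! # Groups of O'Nan type: coordinates on the involution centraliser -/

set_option autoImplicit false
set_option linter.unusedVariables false
set_option linter.unusedSimpArgs false
set_option maxRecDepth 100000
set_option synthInstance.maxSize 100000
set_option synthInstance.maxHeartbeats 400000

namespace Cfsg.Agent.H8On
open Subgroup Cfsg.Agent.Spor Cfsg.Agent.Spor.OnD

/-- the centraliser of `ρ z ^ 2` is `ρ U` extended by `c` -/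
structure St {G : Type*} [Group G] (ρ : U →* G) (c : G) (d e i : ℕ) : Prop where
  hd : 0 < d ∧ d < 4
  he : e = 0 ∨ e = 2
  hi : i < 4
  hk : ρ k = ρ z ^ e
  oz : orderOf (ρ z) = 4
  ker : ∀ x, ρ x = 1 → x ∈ center U
  cj : ∀ x, c * ρ x * c⁻¹ = ρ (β d x)
  sq : c * c = ρ z ^ i
  out : ∀ x, ρ x ≠ c
  cen : ∀ g, g * ρ z ^ 2 = ρ z ^ 2 * g ↔ ∃ x, g = ρ x ∨ g = ρ x * c
  card : Nat.card (centralizer ({ρ z ^ 2} : Set G)) = 161280
  hout : ∀ g, g * ρ z ^ 2 = ρ z ^ 2 * g → (∀ x, g * ρ x = ρ x * g) → ∃ x, g = ρ x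

theorem map_zel {G : Type*} [Group G] {ρ : U →* G} {ζ : G} {x y : ℕ} (h1 : ρ z = ζ ^ x) (h2 : ρ k = ζ ^ y)
    (n : ℕ) : ρ (zel n) = ζ ^ (x * (n % 4) + y * (n / 4)) := by
  rw [zel, map_mul, map_pow, map_pow, h1, h2, ← pow_mul, ← pow_mul, pow_add]

theorem pow_eq4 {G : Type*} [Group G] {ζ : G} (h : orderOf ζ = 4) {a b : ℕ} : ζ ^ a = ζ ^ b ↔ a % 4 = b % 4 := by
  rw [pow_eq_pow_iff_modEq, h]; rfl

theorem exists_ρ' {M : Type*} [Group M] [Finite M] (hZc : IsCyclic (center M)) (h4 : Nat.card (center M) = 4)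
    (hperf : commutator M = ⊤) (e : M ⧸ center M ≃* L) : ∃ (ρ : U →* M) (e : ℕ), Function.Surjective ρ ∧
      (∀ x, ρ x = 1 → x ∈ center U) ∧ (e = 0 ∨ e = 2) ∧ ρ k = ρ z ^ e ∧ orderOf (ρ z) = 4 ∧
      ∀ m ∈ center M, ∃ j < 4, m = ρ z ^ j := by
  let p : M →* L := e.toMonoidHom.comp (QuotientGroup.mk' _)
  have ps : Function.Surjective p := e.surjective.comp (QuotientGroup.mk'_surjective _)
  have pk : p.ker = center M := by ext c; simp [p, MonoidHom.mem_ker]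
  obtain ⟨ρ, hρ⟩ := exists_ρ ps pk h4
  have h1 : p.ker ≤ ρ.range := Mult.ker_le ps pk.le hperf (by
    have : ρ.range.map p = ⊤ := eq_top_iff.2 fun l _ => by
      obtain ⟨x, rfl⟩ := π_surj l
      exact ⟨_, ⟨x, rfl⟩, hρ x⟩
    rw [this, index_top]; exact Nat.coprime_one_right _)
  have s : Function.Surjective ρ := fun m => by
    obtain ⟨x, hx⟩ := π_surj (p m)
    have := h1 (show (ρ x)⁻¹ * m ∈ p.ker by rw [MonoidHom.mem_ker, map_mul, map_inv, hρ, hx, inv_mul_cancel])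
    simpa using mul_mem (show ρ x ∈ ρ.range from ⟨x, rfl⟩) this
  have kr : ∀ x, ρ x = 1 → x ∈ center U := fun x hx => π_eq_one.1 (by rw [← hρ, hx, map_one])
  obtain ⟨ζ, hζ⟩ := IsCyclic.exists_monoid_generator (α := center M)
  have oζ : orderOf (ζ : M) = 4 := by
    rw [orderOf_coe, orderOf_eq_card_of_forall_mem_powers hζ, h4]
  have g : ∀ m ∈ center M, ∃ j < 4, m = ζ ^ j := fun m hm => by
    obtain ⟨j, hj⟩ := hζ ⟨m, hm⟩
    exact ⟨j % 4, Nat.mod_lt _ (by omega), (congrArg Subtype.val hj).symm.trans ((pow_eq4 oζ).2 (by omega))⟩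
  have cm : ∀ x ∈ center U, ρ x ∈ center M := fun x hx => by
    rw [← pk, MonoidHom.mem_ker, hρ, π_eq_one]; exact hx
  obtain ⟨x, hx, ex⟩ := g _ (cm z z_cen)
  obtain ⟨y, hy, ey⟩ := g _ (cm k k_cen)
  obtain ⟨u, hu⟩ := s ζ
  obtain ⟨n, hn, rfl⟩ := cen_zel (π_eq_one.1 (by rw [← hρ, hu, ← MonoidHom.mem_ker, pk]; exact ζ.2) : u ∈ center U)
  rw [map_zel ex ey, ← pow_one (ζ : M), ← pow_mul, one_mul, pow_eq4 oζ] at hu
  have key : ∀ x < 4, ∀ y < 4, ∀ n < 16, (x * (n % 4) + y * (n / 4)) % 4 = 1 % 4 → ∃ d < 12, ∃ e < 3,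
      (e = 0 ∨ e = 2) ∧ Nat.Coprime 4 (x * (nth 0 ZA d % 4) + y * (nth 0 ZA d / 4)) ∧
      (x * (nth 0 KA d % 4) + y * (nth 0 KA d / 4)) % 4 = ((x * (nth 0 ZA d % 4) + y * (nth 0 ZA d / 4)) * e) % 4 ∧
      ∀ j < 4, ∃ j' < 4, j % 4 = ((x * (nth 0 ZA d % 4) + y * (nth 0 ZA d / 4)) * j') % 4 := by
    decide +kernel
  obtain ⟨d, hd, e, -, he, k1, k2, k3⟩ := key x hx y hy n hn hu
  have ez := (congrArg ρ (β_z hd)).trans (map_zel ex ey _)
  refine ⟨ρ.comp (β d).toMonoidHom, e, s.comp (β d).surjective, fun u hu => ?_, he, ?_, ?_, fun m hm => ?_⟩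
  · simpa using aut_cen (β d)⁻¹ (kr _ hu)
  · show ρ (β d k) = ρ (β d z) ^ e
    rw [ez, β_k hd, map_zel ex ey, ← pow_mul, pow_eq4 oζ, k2]
  · show orderOf (ρ (β d z)) = 4
    rw [ez, Nat.Coprime.orderOf_pow (oζ ▸ k1), oζ]
  · obtain ⟨j, hj, rfl⟩ := g m hm
    obtain ⟨j', hj', q⟩ := k3 j hj
    refine ⟨j', hj', ?_⟩
    show _ = ρ (β d z) ^ j'
    rw [ez, ← pow_mul, pow_eq4 oζ, q]

theorem exists_St {G : Type*} [Group G] [Finite G] {t : G} (ht : orderOf t = 2)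
    (M : Subgroup (centralizer ({t} : Set G))) [M.Normal] (hM : M.index = 2)
    (hout : centralizer (M : Set (centralizer ({t} : Set G))) ≤ M) (hZc : IsCyclic (center M))
    (h4 : Nat.card (center M) = 4) (hperf : commutator M = ⊤) (e : M ⧸ center M ≃* L) :
    ∃ (ρ : U →* G) (c : G) (d e i : ℕ), St ρ c d e i ∧ ρ z ^ 2 = t := by
  obtain ⟨ρ, ε, s, kr, he, hk, oz, g⟩ := exists_ρ' hZc h4 hperf e
  obtain ⟨c0, hc0⟩ : ∃ c0, c0 ∉ M := by
    by_contra! q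
    rw [(eq_top_iff (a := M)).2 fun x _ => q x, index_top] at hM
    omega
  obtain ⟨x, d, hd, h⟩ := aut_lift s kr h4 (MulAut.conjNormal c0)
  let C := centralizer ({t} : Set G)
  let c : C := (ρ x : C)⁻¹ * c0
  have hc : c ∉ M := fun q => hc0 (by simpa [c] using mul_mem (ρ x).2 q)
  have cj : ∀ y, c * ρ y * c⁻¹ = ρ (β d y) := fun y => by
    have := congrArg Subtype.val (h y)
    rw [MulAut.conjNormal_apply, map_mul, map_mul, map_inv] at this
    calc c * ρ y * c⁻¹ = (ρ x : C)⁻¹ * (c0 * ρ y * c0⁻¹) * ρ x := by simp only [c]; group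
      _ = _ := by rw [this]; simp [mul_assoc]
  have cM : ∀ u : C, (∀ y, u * ρ y = ρ y * u) → ∃ j < 4, u = (ρ z : C) ^ j := fun u hu => by
    have m : u ∈ M := hout fun m hm => by
      obtain ⟨y, hy⟩ := s ⟨m, hm⟩
      have := hu y
      rw [hy] at this; exact this.symm
    obtain ⟨j, hj, q⟩ := g ⟨u, m⟩ (mem_center_iff.2 fun m => by
      obtain ⟨y, rfl⟩ := s m
      exact Subtype.ext (hu y).symm)
    exact ⟨j, hj, congrArg Subtype.val q⟩
  have d4 : d < 4 := by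
    have q : ρ (β d k) = ρ (β d z) ^ ε := Subtype.ext (by
      rw [SubmonoidClass.coe_pow, ← cj, ← cj, conj_pow, hk, SubmonoidClass.coe_pow])
    rw [β_z hd, β_k hd, map_zel (pow_one _).symm hk, map_zel (pow_one _).symm hk, ← pow_mul, pow_eq4 oz] at q
    have key : ∀ d < 12, ∀ e < 3, e ≠ 1 → (1 * (nth 0 KA d % 4) + e * (nth 0 KA d / 4)) % 4 =
      (1 * (nth 0 ZA d % 4) + e * (nth 0 ZA d / 4)) * e % 4 → d < 4 := by decide +kernel
    exact key d hd ε (by omega) (by omega) q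
  have d0 : 0 < d := Nat.pos_of_ne_zero (by
    rintro rfl
    obtain ⟨j, -, q⟩ := cM c fun y => by rw [← mul_inv_eq_iff_eq_mul, cj, β_zero]
    exact hc (q ▸ pow_mem (ρ z).2 j))
  obtain ⟨i, hi, q⟩ := cM (c * c) fun y => by
    rw [← mul_inv_eq_iff_eq_mul]
    conv_rhs => rw [← β_sq d4 y, ← cj, ← cj]
    group
  let ι : U →* G := C.subtype.comp (M.subtype.comp ρ)
  have oz' : orderOf (ι z) = 4 := by simp only [ι, MonoidHom.comp_apply, subtype_apply, orderOf_coe, oz]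
  obtain ⟨j, hj, q'⟩ := cM ⟨t, mem_centralizer_singleton_iff.2 rfl⟩ fun y =>
    Subtype.ext (mem_centralizer_singleton_iff.1 (ρ y : C).2).symm
  have et : ι z ^ 2 = t := by
    have q'' : t = ι z ^ j := congrArg Subtype.val q'
    have o := ht
    rw [q'', orderOf_pow, oz'] at o
    rw [q'']; congr 1
    interval_cases j <;> simp_all
  refine ⟨ι, c, d, ε, i, ⟨⟨d0, d4⟩, he, hi, ?_, oz', fun y hy => kr y (Subtype.ext (Subtype.ext hy)),
    fun y => congrArg Subtype.val (cj y), congrArg Subtype.val q, fun y hy => hc ?_, fun g => ?_, ?_,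
    fun u h1 h2 => ?_⟩, et⟩
  · simp [ι, hk]
  · exact (Subtype.ext hy : (ρ y : C) = c) ▸ (ρ y).2
  · rw [et, ← mem_centralizer_singleton_iff]
    refine ⟨fun hg => ?_, ?_⟩
    · by_cases m : (⟨g, hg⟩ : C) ∈ M
      · obtain ⟨y, hy⟩ := s ⟨_, m⟩
        exact ⟨y, Or.inl (by simp [ι, hy])⟩
      · obtain ⟨y, hy⟩ := s ⟨⟨g, hg⟩ * c⁻¹, (mul_mem_iff_of_index_two hM).2 (by simp [m, hc])⟩
        exact ⟨y, Or.inr (by simp [ι, hy])⟩
    · rintro ⟨y, rfl | rfl⟩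
      exacts [(ρ y : C).2, ((ρ y : C) * c).2]
  · rw [et, ← M.card_mul_index, hM, ← (center M).card_mul_index, h4, index, Nat.card_congr e.toEquiv, cardL']
  · obtain ⟨j, -, q⟩ := cM ⟨u, mem_centralizer_singleton_iff.2 (et ▸ h1)⟩ fun y => Subtype.ext (h2 y)
    exact ⟨z ^ j, by simpa [ι] using congrArg Subtype.val q⟩

theorem St.map {G G' : Type*} [Group G] [Group G'] {ρ : U →* G} {c : G} {d e i : ℕ} (h : St ρ c d e i)
    (φ : G ≃* G') : St (φ.toMonoidHom.comp ρ) (φ c) d e i := by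
  have q : ∀ x, (φ.toMonoidHom.comp ρ) x = φ (ρ x) := fun _ => rfl
  refine ⟨h.hd, h.he, h.hi, by simp only [q, h.hk, map_pow], by rw [q, φ.orderOf_eq, h.oz],
    fun x hx => h.ker x (φ.map_eq_one_iff.1 hx), fun x => by simp only [q, ← h.cj, map_mul, map_inv],
    by rw [q, ← map_mul, h.sq, map_pow], fun x hx => h.out x (φ.injective hx), fun g => ?_, ?_, fun g h1 h2 => ?_⟩
  · obtain ⟨g, rfl⟩ := φ.surjective g
    simp only [q, ← map_pow, ← map_mul, φ.apply_eq_iff_eq]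
    simpa only [← map_pow] using h.cen g
  · rw [← h.card]
    refine (Nat.card_congr (φ.toEquiv.subtypeEquiv fun g => ?_)).symm
    simp only [q, mem_centralizer_singleton_iff, ← map_pow φ, MulEquiv.toEquiv_eq_coe, EquivLike.coe_coe, ← map_mul,
      φ.apply_eq_iff_eq]
  · obtain ⟨g, rfl⟩ := φ.surjective g
    simp only [q, ← map_pow φ, ← map_mul, φ.apply_eq_iff_eq] at h1 h2 ⊢
    exact h.hout g h1 h2

end Cfsg.Agent.H8On
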