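import Cfsg.Agent.H8.OnC

/-! # Groups of O'Nan type: codes for a Sylow 2-subgroup of the centraliser -/

set_option autoImplicit false
set_option linter.unusedVariables false
set_option linter.unusedSimpArgs false
set_option linter.unusedSectionVars false
set_option maxRecDepth 100000

namespace Cfsg.Agent.H8On
open Subgroup Cfsg.Agent.Spor Cfsg.Agent.Spor.OnD

noncomputable def tm (a b : Nat) : Nat :=
  Nat.land (Nat.shiftRight (nth 0 (nth [] TM (Nat.div a 8)) (Nat.mod a 8)) (Nat.mul 10 b)) 1023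
def dg (dt b : Nat) : Nat := Nat.land (Nat.shiftRight dt (Nat.mul 10 b)) 1023
def ex (e r : Nat) : Nat := Nat.add (Nat.div r 64) (Nat.mul e (Nat.div r 256))
def mkc (r j ε : Nat) : Nat := Nat.add (Nat.mod r 64) (Nat.add (Nat.mul 64 (Nat.mod j 4)) (Nat.mul 256 ε))
noncomputable def mul0 (e a b j ε : Nat) : Nat := mkc (tm a b) (Nat.add j (ex e (tm a b))) ε
noncomputable def mulc (e i s dt n m : Nat) : Nat :=
  Bool.rec (mul0 e (Nat.mod n 64) (Nat.mod (dg dt (Nat.mod m 64)) 64)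
      (Nat.add (Nat.div n 64) (Nat.add (Nat.mul s (Nat.div m 64)) (Nat.add (ex e (dg dt (Nat.mod m 64)))
        (Nat.mul i (Nat.div m 256))))) (Nat.sub 1 (Nat.div m 256)))
    (mul0 e (Nat.mod n 64) (Nat.mod m 64) (Nat.add (Nat.div n 64) (Nat.div m 64)) (Nat.div m 256))
    (Nat.blt n 256)

noncomputable def τ (a : ℕ) : U := w (nth [] TW a)
noncomputable def eU (n : ℕ) : U := τ (n % 64) * zel (n / 64)
noncomputable def mU (n : ℕ) : ℕ := A.mul (nth A.one TL (Nat.mod n 64)) (nth A.one ZL (Nat.div n 64))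

theorem τM {a : ℕ} (h : a < 64) : XU.M (nth A.one TL a) ∧ XU.el (nth A.one TL a) = τ a :=
  gX.isW ((allN_iff (fun a => A.isW TX (nth [] TW a) (nth A.one TL a)) 64).1 (by decide +kernel) a h)
theorem mUM {n : ℕ} (h : n < 1024) : XU.M (mU n) ∧ XU.el (mU n) = eU n := by
  have a := τM (Nat.mod_lt n (show 64 > 0 by omega))
  have b := zelM (n := n / 64) (by omega)
  exact ⟨a.1.mul b.1, (a.1.el_mul b.1).trans (by rw [a.2, b.2, eU])⟩
theorem land_lt (x : ℕ) : Nat.land x 1023 < 1024 := Nat.and_lt_two_pow x (n := 10) (by norm_num)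
theorem τ_mul {a b : ℕ} (ha : a < 64) (hb : b < 64) : τ a * τ b = eU (tm a b) := by
  have := Nat.eq_of_beq_eq_true ((allN_iff _ _).1 ((allN_iff (fun a => allN (fun b =>
    Nat.beq (A.mul (nth A.one TL a) (nth A.one TL b)) (mU (tm a b))) 64) 64).1 (by decide +kernel) a ha) b hb)
  rw [← (mUM (n := tm a b) (land_lt _)).2, ← (τM ha).2, ← (τM hb).2, ← (τM ha).1.el_mul (τM hb).1, this]
theorem β_τ {d a : ℕ} (hd : 0 < d ∧ d < 4) (ha : a < 64) : β d (τ a) = eU (dg (nth 0 DT d) a) := by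
  have := ((allN_iff (fun d => bor (Nat.beq d 0) (allN (fun a =>
    A.isW (nth [] TB d) (nth [] TW a) (mU (dg (nth 0 DT d) a))) 64)) 4).1 (by decide +kernel) d hd.2)
  rw [bor_iff, Nat.beq_eq, allN_iff] at this
  rw [τ, β_w (by omega), ← ((gB (by omega)).isW (this.resolve_left (by omega) a ha)).2]
  exact (mUM (land_lt _)).2
theorem τ_zero : τ 0 = 1 := rfl

theorem inj_of_nodup {WL : List (List ℕ)} (h : band (nodup (A.evs TX WL)) (lall A.bd (A.evs TX WL)) = true)
    {i j : ℕ} (hi : i < WL.length) (hj : j < WL.length) (e : w WL[i] = w WL[j]) : i = j := by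
  rw [band_eq, Bool.and_eq_true, lall_iff, MRep.evs_eq] at h
  have := MRep.M.eq_of_el (gX.ev1 WL[i]).1 (gX.ev1 WL[j]).1 (h.2 _ (List.mem_map_of_mem (List.getElem_mem hi)))
    (h.2 _ (List.mem_map_of_mem (List.getElem_mem hj))) (by rw [(gX.ev1 _).2, (gX.ev1 _).2]; exact e)
  exact (List.Nodup.getElem_inj_iff (nodup_sound h.1) (hi := by simpa using hi) (hj := by simpa using hj)).1
    (by simpa using this)

noncomputable def cjw (l m : List ℕ) : List ℕ := lapp l (lapp m (invW 0 l []))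
theorem w_cjw (l m : List ℕ) : w (cjw l m) = w l * w m * (w l)⁻¹ := by
  simp [w, cjw, ev_lapp, ev_invW (ivOk_zero 4 ξ), mul_assoc]

theorem inj_of_nodup' {WL : List (List ℕ)} (h : band (nodup (A.evs TX (WL.map fun l => cjw l yw)))
    (lall A.bd (A.evs TX (WL.map fun l => cjw l yw))) = true) {i j : ℕ} (hi : i < WL.length)
    (hj : j < WL.length) (e : π (w (nth [] WL i)) = π (w (nth [] WL j))) : i = j := by
  refine inj_of_nodup h (by simpa using hi) (by simpa using hj) ?_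
  rw [nth_eq, nth_eq, List.getD_eq_getElem _ _ hi, List.getD_eq_getElem _ _ hj] at e
  have q : (w WL[j])⁻¹ * w WL[i] ∈ center U := π_eq_one.1 (by rw [map_mul, map_inv, e, inv_mul_cancel])
  rw [List.getElem_map, List.getElem_map, w_cjw, w_cjw]
  calc w WL[i] * w yw * (w WL[i])⁻¹ = w WL[j] * ((w WL[j])⁻¹ * w WL[i] * w yw) * (w WL[i])⁻¹ := by group
    _ = _ := by rw [← mem_center_iff.1 q]; group

theorem τ_inj {a b : ℕ} (ha : a < 64) (hb : b < 64) (e : π (τ a) = π (τ b)) : a = b :=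
  inj_of_nodup' (WL := TW) (by decide +kernel) ha hb e

theorem π_eU (n : ℕ) : π (eU n) = π (τ (n % 64)) := by rw [eU, map_mul, π_eq_one.2 (zel_cen _), mul_one]

theorem cenU {x : U} (h : π x * π (τ 16) = π (τ 16) * π x) : ∃ a < 64, ∃ n, x = τ a * zel n := by
  have h1 := (le_card_of_inj (S := conjugatesOf (π (τ 16))) (Set.toFinite _) (N := 315)
    (fun n => π (w (nth [] (CW.map fun l => cjw l (nth [] TW 16)) n))) (fun n hn => by
      rw [nth_eq, List.getD_eq_getElem _ _ (by rw [List.length_map]; exact hn), List.getElem_map, w_cjw, map_mul, map_mul, map_inv]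
      exact isConj_iff.2 ⟨_, rfl⟩)
    (fun n hn m hm => inj_of_nodup' (by decide +kernel) (by rw [List.length_map]; exact hn) (by rw [List.length_map]; exact hm))).1
  rw [← Nat.card_coe_set_eq, card_conjugatesOf] at h1
  have h2 := (centralizer ({π (τ 16)} : Set L)).card_mul_index
  rw [cardL'] at h2
  obtain ⟨a, ha, e⟩ := (le_card_of_inj (S := (centralizer ({π (τ 16)} : Set L) : Set L)) (Set.toFinite _) (N := 64)
    (fun a => π (τ a)) (fun a ha => mem_centralizer_singleton_iff.2 (by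
      rw [← map_mul, ← map_mul, τ_mul ha (by omega), τ_mul (by omega) ha, π_eU, π_eU,
        (by decide +kernel : ∀ a < 64, tm a 16 % 64 = tm 16 a % 64) a ha]))
    (fun a ha b hb => τ_inj ha hb)).2 (by
      rw [← Nat.card_coe_set_eq]
      change Nat.card (centralizer ({π (τ 16)} : Set L)) ≤ 64
      nlinarith) _ (mem_centralizer_singleton_iff.2 h)
  obtain ⟨n, -, q⟩ := cen_zel (x := (τ a)⁻¹ * x) (π_eq_one.1 (by rw [map_mul, map_inv, e, inv_mul_cancel]))
  exact ⟨a, ha, n, by rw [q, mul_inv_cancel_left]⟩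

theorem inv_conj {a : ℕ} (ha : a < 64) (h0 : a ≠ 0) (h : tm a a % 64 = 0) :
    ∃ x n, x * τ a * x⁻¹ = τ 16 * zel n := by
  have := (allN_iff (fun a => bor (Nat.beq a 0) (bor (Nat.blt 0 (tm a a % 64)) (band (Nat.blt (nth 0 IZ a) 16)
    (A.isW TX (cjw (nth [] IW a) (nth [] TW a)) (mU (16 + 64 * nth 0 IZ a)))))) 64).1 (by decide +kernel) a ha
  simp only [bor_iff, band_eq, Bool.and_eq_true, Nat.beq_eq, Nat.blt_eq] at this
  obtain ⟨h1, h2⟩ := (this.resolve_left h0).resolve_left (by omega)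
  refine ⟨w (nth [] IW a), (16 + 64 * nth 0 IZ a) / 64, ?_⟩
  rw [τ, ← w_cjw, w, ← (gX.isW h2).2, (mUM (by omega)).2, eU, show (16 + 64 * nth 0 IZ a) % 64 = 16 by omega]

theorem eU16 : eU 16 = τ 16 := by simp [eU, zel]
theorem β_u {d : ℕ} (hd : 0 < d ∧ d < 4) : β d (τ 16) = τ 16 := by
  rw [β_τ hd (by omega), (by decide +kernel : ∀ d < 4, 0 < d → dg (nth 0 DT d) 16 = 16) d hd.2 hd.1, eU16]

variable {G : Type} [Group G]

/-- the element with a given code -/
noncomputable def el (ρ : U →* G) (c : G) (n : ℕ) : G := ρ (τ (n % 64)) * ρ z ^ (n / 64 % 4) * c ^ (n / 256)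
/-- the exponent of the action on the centre -/
noncomputable def sz (d e : ℕ) : ℕ := nth 0 ZA d % 4 + e * (nth 0 ZA d / 4)
/-- multiplication of codes -/
noncomputable abbrev mu (d e i : ℕ) : ℕ → ℕ → ℕ := mulc e i (sz d e) (nth 0 DT d)

/-- codes for a group of order 512 -/
structure Cd (el : ℕ → G) (μ : ℕ → ℕ → ℕ) : Prop where
  mul : ∀ {n m}, n < 512 → m < 512 → el (μ n m) = el n * el m
  lt : ∀ {n m}, n < 512 → m < 512 → μ n m < 512
  inj : ∀ {n m}, n < 512 → m < 512 → el n = el m → n = m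
  zero : el 0 = 1

namespace St
variable {ρ : U →* G} {c : G} {d e i : ℕ} (h : St ρ c d e i)
include h

theorem ρ_zel (n : ℕ) : ρ (zel n) = ρ z ^ (n % 4 + e * (n / 4)) := by
  simpa using map_zel (pow_one _).symm h.hk n
omit h in
theorem zc (x : U) (n : ℕ) : ρ z ^ n * ρ x = ρ x * ρ z ^ n := by
  rw [← map_pow, ← map_mul, ← map_mul, mem_center_iff.1 (pow_mem z_cen n)]
theorem cz (n : ℕ) : c * ρ z ^ n = ρ z ^ (sz d e * n) * c := by
  rw [← mul_inv_eq_iff_eq_mul, ← conj_pow, h.cj, β_z (by have := h.hd; omega), h.ρ_zel, ← pow_mul, sz]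
theorem el_mk (r j ε : ℕ) : el ρ c (mkc r j ε) = ρ (τ (r % 64)) * ρ z ^ j * c ^ ε := by
  have e : mkc r j ε = r % 64 + (64 * (j % 4) + 256 * ε) := rfl
  rw [el, show mkc r j ε % 64 = r % 64 by omega, show mkc r j ε / 256 = ε by omega,
    (pow_eq4 h.oz).2 (show mkc r j ε / 64 % 4 % 4 = j % 4 by omega)]
theorem ρ_eU (r : ℕ) : ρ (eU r) = ρ (τ (r % 64)) * ρ z ^ ex e r := by
  rw [eU, map_mul, h.ρ_zel, (pow_eq4 h.oz).2 (show (r / 64 % 4 + e * (r / 64 / 4)) % 4 = ex e r % 4 by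
    rw [show ex e r = r / 64 + e * (r / 256) from rfl, Nat.div_div_eq_div_mul, show 64 * 4 = 256 from rfl]; omega)]
theorem el_mul0 {a b : ℕ} (ha : a < 64) (hb : b < 64) (j ε : ℕ) :
    el ρ c (mul0 e a b j ε) = ρ (τ a) * ρ (τ b) * ρ z ^ j * c ^ ε := by
  rw [mul0, h.el_mk, ← map_mul, τ_mul ha hb, h.ρ_eU, mul_assoc (ρ _) (ρ z ^ _) (ρ z ^ _), ← pow_add, add_comm]; rfl

theorem el_mul {n m : ℕ} (hn : n < 512) (hm : m < 512) : el ρ c (mu d e i n m) = el ρ c n * el ρ c m := by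
  have l := fun n => Nat.mod_lt n (show 64 > 0 by omega)
  have p : ∀ n, ρ z ^ (n % 4) = ρ z ^ n := fun n => (pow_eq4 h.oz).2 (by omega)
  by_cases q : n < 256
  · have : mu d e i n m = mul0 e (n % 64) (m % 64) (n / 64 + m / 64) (m / 256) := by
      rw [mu, mulc, Nat.blt_eq.mpr q]; rfl
    rw [this, h.el_mul0 (l n) (l m), el, el, p, p, show n / 256 = 0 by omega, pow_add, pow_zero, mul_one]
    simp only [mul_assoc]
    rw [← mul_assoc (ρ z ^ _) (ρ _), zc, mul_assoc]
  · have : mu d e i n m = mul0 e (n % 64) (dg (nth 0 DT d) (m % 64) % 64) (n / 64 + (sz d e * (m / 64) +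
        (ex e (dg (nth 0 DT d) (m % 64)) + i * (m / 256)))) (1 - m / 256) := by
      rw [mu, mulc, Bool.eq_false_iff.2 (mt Nat.blt_eq.mp q)]; rfl
    have e1 : c * ρ (τ (m % 64)) = ρ (τ (dg (nth 0 DT d) (m % 64) % 64)) *
        ρ z ^ ex e (dg (nth 0 DT d) (m % 64)) * c := by
      rw [← mul_inv_eq_iff_eq_mul, h.cj, β_τ h.hd (l m), h.ρ_eU]
    have e2 : c * c ^ (m / 256) = ρ z ^ (i * (m / 256)) * c ^ (1 - m / 256) := by
      rcases (by omega : m / 256 = 0 ∨ m / 256 = 1) with q | q <;> simp [q, h.sq]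
    rw [this, h.el_mul0 (l n) (l _), el, el, p, p, show n / 256 = 1 by omega, pow_one]
    simp only [mul_assoc]
    rw [← mul_assoc c, e1]
    simp only [mul_assoc]
    rw [← mul_assoc c, h.cz, mul_assoc, e2, ← mul_assoc (ρ z ^ _) (ρ _), zc]
    simp only [← mul_assoc, ← pow_add]
    simp only [mul_assoc, ← pow_add]
    congr 4; ring

theorem el_in {n : ℕ} (hn : n < 256) : el ρ c n = ρ (τ (n % 64) * z ^ (n / 64 % 4)) := by
  simp [el, show n / 256 = 0 by omega]
theorem el_out {n : ℕ} (h1 : 256 ≤ n) (hn : n < 512) : el ρ c n = ρ (τ (n % 64) * z ^ (n / 64 % 4)) * c := by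
  simp [el, show n / 256 = 1 by omega]
theorem ne_out (x y : U) : ρ x ≠ ρ y * c := fun q => h.out (y⁻¹ * x) (by rw [map_mul, map_inv, q, inv_mul_cancel_left])
theorem π_eq {x y : U} (q : ρ x = ρ y) : π x = π y := by
  have := π_eq_one.2 (h.ker (y⁻¹ * x) (by rw [map_mul, map_inv, q, inv_mul_cancel]))
  rwa [map_mul, map_inv, inv_mul_eq_one, eq_comm] at this

theorem cd : Cd (el ρ c) (mu d e i) := by
  refine ⟨h.el_mul, fun {n m} hn hm => ?_, fun {n m} hn hm q => ?_, by simp [el, τ_zero]⟩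
  · have e : ∀ r j ε, ε < 2 → mkc r j ε < 512 := fun r j ε _ => by
      show r % 64 + (64 * (j % 4) + 256 * ε) < 512
      omega
    rw [mu, mulc]
    cases Nat.blt n 256
    · exact e _ _ _ (show 1 - m / 256 < 2 by omega)
    · exact e _ _ _ (show m / 256 < 2 by omega)
  · have k : ρ (τ (n % 64) * z ^ (n / 64 % 4)) = ρ (τ (m % 64) * z ^ (m / 64 % 4)) → n % 256 = m % 256 := fun q => by
      have a := h.π_eq q
      rw [map_mul, map_mul, π_eq_one.2 (pow_mem z_cen _), π_eq_one.2 (pow_mem z_cen _), mul_one, mul_one] at a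
      have b := τ_inj (Nat.mod_lt _ (by omega)) (Nat.mod_lt _ (by omega)) a
      rw [b, map_mul, map_mul, mul_left_cancel_iff, map_pow, map_pow, pow_eq4 h.oz] at q
      omega
    by_cases q1 : n < 256 <;> by_cases q2 : m < 256
    · rw [h.el_in q1, h.el_in q2] at q; have := k q; omega
    · rw [h.el_in q1, h.el_out (by omega) hm] at q; exact absurd q (h.ne_out _ _)
    · rw [h.el_in q2, h.el_out (by omega) hn] at q; exact absurd q.symm (h.ne_out _ _)
    · rw [h.el_out (by omega) hm, h.el_out (by omega) hn] at q; have := k (mul_right_cancel q); omega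

theorem el_z : el ρ c 64 = ρ z := by simp [el, τ_zero]
theorem el_t : el ρ c 128 = ρ z ^ 2 := by simp [el, τ_zero]
theorem el_u : el ρ c 16 = ρ (τ 16) := by simp [el]
theorem el_cen {n : ℕ} (hn : n < 512) : el ρ c n * el ρ c 128 = el ρ c 128 * el ρ c n := by
  rw [h.el_t, h.cen]
  by_cases q : n < 256
  exacts [⟨_, Or.inl (h.el_in q)⟩, ⟨_, Or.inr (h.el_out (by omega) hn)⟩]

theorem cenB {g : G} (h1 : g * el ρ c 128 = el ρ c 128 * g) (h2 : g * el ρ c 16 = el ρ c 16 * g) :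
    ∃ n < 512, g = el ρ c n := by
  rw [h.el_t, h.cen] at h1
  rw [h.el_u] at h2
  have e' : ∀ r j ε, ε < 2 → mkc r j ε < 512 := fun r j ε _ => by
    show r % 64 + (64 * (j % 4) + 256 * ε) < 512
    omega
  obtain ⟨x, rfl | rfl⟩ := h1
  · obtain ⟨a, ha, n, rfl⟩ := cenU (x := x) (by rw [← map_mul, ← map_mul]; exact h.π_eq (by simpa using h2))
    exact ⟨mkc a (n % 4 + e * (n / 4)) 0, e' _ _ _ (by omega), by rw [h.el_mk, map_mul, h.ρ_zel, Nat.mod_eq_of_lt ha, pow_zero, mul_one]⟩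
  · obtain ⟨a, ha, n, rfl⟩ := cenU (x := x) (by
      rw [← map_mul, ← map_mul]
      refine h.π_eq ?_
      have := h.cj (τ 16)
      rw [β_u h.hd, mul_inv_eq_iff_eq_mul] at this
      rw [mul_assoc, this, ← mul_assoc, ← mul_assoc] at h2
      simpa using h2)
    exact ⟨mkc a (n % 4 + e * (n / 4)) 1, e' _ _ _ (by omega), by rw [h.el_mk, map_mul, h.ρ_zel, Nat.mod_eq_of_lt ha, pow_one]⟩

theorem real : sz d e * i % 4 = i % 4 := by
  have := h.cz i
  rw [← h.sq, ← mul_assoc, mul_left_inj, h.sq, pow_eq4 h.oz] at this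
  exact this.symm

end St
end Cfsg.Agent.H8On
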