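import Cfsg.Agent.H8.OnE0
import Cfsg.Agent.Blk.ZStar

/-! # Groups of O'Nan type: fusion of involutions -/

set_option autoImplicit false
set_option linter.unusedVariables false
set_option linter.unusedSimpArgs false
set_option linter.unusedSectionVars false
set_option maxRecDepth 100000

namespace Cfsg.Agent.H8On
open Subgroup Cfsg.Agent.Spor Cfsg.Agent.Spor.OnD

variable {G : Type} [Group G]

namespace Cd
variable {el : ℕ → G} {μ : ℕ → ℕ → ℕ} (h : Cd el μ)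
include h
theorem eq_iff {n m : ℕ} (hn : n < 512) (hm : m < 512) : Nat.beq n m = true ↔ el n = el m :=
  ⟨fun q => by rw [Nat.eq_of_beq_eq_true q], fun q => by rw [h.inj hn hm q]; exact Nat.beq_refl _⟩
theorem cm_iff {n m : ℕ} (hn : n < 512) (hm : m < 512) : cm μ n m = true ↔ el n * el m = el m * el n := by
  rw [cm, h.eq_iff (h.lt hn hm) (h.lt hm hn), h.mul hn hm, h.mul hm hn]
theorem mul_iff {n m r : ℕ} (hn : n < 512) (hm : m < 512) (hr : r < 512) :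
    Nat.beq (μ n m) r = true ↔ el n * el m = el r := by rw [h.eq_iff (h.lt hn hm) hr, h.mul hn hm]
theorem one_iff {n m : ℕ} (hn : n < 512) (hm : m < 512) : Nat.beq (μ n m) 0 = true ↔ el n * el m = 1 := by
  rw [h.mul_iff hn hm (by omega), h.zero]
theorem ne {n m : ℕ} (hn : n < 512) (hm : m < 512) (q : n ≠ m) : el n ≠ el m := fun e => q (h.inj hn hm e)
theorem ne1 {n : ℕ} (hn : n < 512) (q : n ≠ 0) : el n ≠ 1 := h.zero ▸ h.ne hn (by omega) q

theorem exS [Finite G] : ∃ T : Subgroup G, Nat.card T = 512 ∧ ∀ g, g ∈ T ↔ ∃ n < 512, el n = g := by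
  let S : Submonoid G := ⟨⟨el '' Set.Iio 512, by
    rintro _ _ ⟨n, hn, rfl⟩ ⟨m, hm, rfl⟩; exact ⟨_, h.lt hn hm, h.mul hn hm⟩⟩, ⟨0, by simp, h.zero⟩⟩
  refine ⟨⟨S, fun {x} hx => ?_⟩, ?_, fun g => Iff.rfl⟩
  · have : x⁻¹ = x ^ (orderOf x - 1) := by
      rw [inv_eq_iff_mul_eq_one, ← pow_succ', Nat.sub_add_cancel (orderOf_pos x), pow_orderOf_eq_one]
    rw [this]; exact S.pow_mem hx _
  · show Nat.card (el '' Set.Iio 512) = 512
    rw [Nat.card_coe_set_eq, Set.InjOn.ncard_image (s := Set.Iio 512) fun a ha b hb => h.inj ha hb,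
      Set.ncard_Iio_nat]
end Cd

/-- `g` centralises `t` and `u` -/
def InB (t u g : G) : Prop := g * t = t * g ∧ g * u = u * g
theorem cj_comm {g x y : G} : g * x * g⁻¹ * (g * y * g⁻¹) = g * y * g⁻¹ * (g * x * g⁻¹) ↔ x * y = y * x := by
  simp only [conj_mul, mul_left_inj, mul_right_inj]
theorem InB.cj {t u g r : G} (h1 : r * t * r⁻¹ = u) (h2 : r * u * r⁻¹ = t) : InB t u (r * g * r⁻¹) ↔ InB t u g := by
  unfold InB
  conv_lhs => rw [← h2]; enter [2]; rw [← h1]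
  rw [cj_comm, cj_comm, and_comm]

namespace St
variable {ρ : U →* G} {c : G} {d e i : ℕ} (h : St ρ c d e i)
include h

theorem cand : cB (mu d e i) = true ∧ ((d = 3 ∧ e = 0 ∧ i = 0) ∨ exA (mu d e i) = true) := by
  have : candOk d e i = true := by
    obtain ⟨h1, h2⟩ := h.hd
    rcases h.he with rfl | rfl <;> interval_cases d
    exacts [(allN_iff _ _).1 cand10 i h.hi, (allN_iff _ _).1 cand20 i h.hi, (allN_iff _ _).1 cand30 i h.hi,
      (allN_iff _ _).1 cand12 i h.hi, (allN_iff _ _).1 cand22 i h.hi, (allN_iff _ _).1 cand32 i h.hi]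
  simpa [candOk, bor_iff, bn_iff, h.real] using this

theorem in_cen (x : U) : ρ x * el ρ c 128 = el ρ c 128 * ρ x := by rw [h.el_t, h.cen]; exact ⟨x, Or.inl rfl⟩
theorem c_cen : c * el ρ c 128 = el ρ c 128 * c := by rw [h.el_t, h.cen]; exact ⟨1, Or.inr (by simp)⟩
theorem cases {g : G} (q : g * el ρ c 128 = el ρ c 128 * g) : ∃ x, g = ρ x ∨ g = ρ x * c := by
  rwa [h.el_t, h.cen] at q
theorem cj_in {g : G} (q : g * el ρ c 128 = el ρ c 128 * g) (y : U) : ∃ x, g * ρ y * g⁻¹ = ρ x := by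
  obtain ⟨x, rfl | rfl⟩ := h.cases q
  · exact ⟨x * y * x⁻¹, by simp⟩
  · exact ⟨x * β d y * x⁻¹, by rw [map_mul, map_mul, ← h.cj, map_inv]; group⟩
theorem oo (x y : U) : ∃ v, ρ x * c * (ρ y * c) = ρ v :=
  ⟨x * β d y * z ^ i, by rw [map_mul, map_mul, ← h.cj, map_pow, ← h.sq]; group⟩
theorem sq_in {g : G} (q : g * el ρ c 128 = el ρ c 128 * g) : ∃ x, g * g = ρ x := by
  obtain ⟨x, rfl | rfl⟩ := h.cases q
  exacts [⟨x * x, by simp⟩, h.oo x x]
theorem tt : el ρ c 128 * el ρ c 128 = 1 := by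
  rw [h.el_t, ← pow_add, show 2 + 2 = 4 from rfl, ← h.oz, pow_orderOf_eq_one]
theorem zz : el ρ c 64 * el ρ c 64 = el ρ c 128 := by rw [h.el_t, h.el_z, pow_two]
theorem t_ne : el ρ c 128 ≠ 1 := h.cd.ne1 (by omega) (by omega)
theorem tu_ne : el ρ c 16 ≠ el ρ c 128 := h.cd.ne (by omega) (by omega) (by omega)
theorem mu_in {a b : ℕ} (ha : a < 256) (hb : b < 256) : mu d e i a b = mul0 e (a % 64) (b % 64) (a / 64 + b / 64) 0 := by
  rw [mu, mulc, Nat.blt_eq.mpr ha, show Nat.div b 256 = 0 from Nat.div_eq_of_lt hb]; rfl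
theorem uu : el ρ c 16 * el ρ c 16 = 1 := by
  rw [← h.cd.one_iff (by omega) (by omega), h.mu_in (by omega) (by omega)]
  rcases h.he with rfl | rfl <;> decide +kernel
theorem u_ut : el ρ c 2 * el ρ c 144 * (el ρ c 2)⁻¹ = el ρ c 16 := by
  rw [mul_inv_eq_iff_eq_mul, ← h.el_mul (by omega) (by omega), ← h.el_mul (by omega) (by omega),
    h.mu_in (by omega) (by omega), h.mu_in (by omega) (by omega)]
  congr 1
  rcases h.he with rfl | rfl <;> decide +kernel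

variable [Finite G]

theorem sylow {y : G} (h1 : y * y = 1) (h2 : y * el ρ c 128 = el ρ c 128 * y) :
    ∃ s, ∃ n < 512, s * el ρ c 128 = el ρ c 128 * s ∧ s * y * s⁻¹ = el ρ c n := by
  obtain ⟨T, hT, m⟩ := h.cd.exS
  obtain ⟨s, hs, q⟩ := exists_conj_mem (S := centralizer {el ρ c 128}) (T := T) Nat.prime_two
    (mem_centralizer_singleton_iff.2 h2) (by rw [pow_two, h1])
    (not_dvd_relIndex (fun g hg => by
      obtain ⟨n, hn, rfl⟩ := (m g).1 hg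
      exact mem_centralizer_singleton_iff.2 (h.el_cen hn)) (h.el_t ▸ h.card) hT (by norm_num))
  obtain ⟨n, hn, q⟩ := (m _).1 q
  exact ⟨s⁻¹, n, hn, mem_centralizer_singleton_iff.1 (inv_mem hs), by rw [q, inv_inv]⟩

theorem inn {y : U} (h1 : ρ y * ρ y = 1) (h2 : ρ y ≠ 1) (h3 : ρ y ≠ el ρ c 128) :
    ∃ g, g * el ρ c 128 = el ρ c 128 * g ∧ g * ρ y * g⁻¹ = el ρ c 16 := by
  obtain ⟨s, n, hn, hs, q⟩ := h.sylow h1 (h.in_cen y)
  obtain ⟨x, hx⟩ := h.cj_in hs y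
  have n2 : n < 256 := by
    by_contra r
    exact h.ne_out _ _ (hx.symm.trans (q.trans (h.el_out (by omega) hn)))
  have e1 : el ρ c n * el ρ c n = 1 := by rw [← q, conj_mul, h1]; simp
  have e2 : n ≠ 0 := by
    rintro rfl
    rw [h.cd.zero, conj_eq_one_iff] at q; exact h2 q
  have e3 : n ≠ 128 := by
    rintro rfl
    rw [mul_inv_eq_iff_eq_mul, ← hs, mul_right_inj] at q; exact h3 q
  have e4 := Nat.eq_of_beq_eq_true ((h.cd.one_iff hn hn).2 e1)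
  rw [h.mu_in n2 n2] at e4
  have e5 : tm (n % 64) (n % 64) % 64 + (64 * ((n / 64 + n / 64 + ex e (tm (n % 64) (n % 64))) % 4) + 0) = 0 := e4
  have e6 : n % 64 ≠ 0 := fun r => by
    rw [r, show tm 0 0 = 0 by decide +kernel, show ex e 0 = 0 from rfl] at e5; omega
  obtain ⟨v, m, hv⟩ := inv_conj (Nat.mod_lt n (by omega)) e6 (by omega)
  obtain ⟨j, e7⟩ : ∃ j, ρ v * el ρ c n * (ρ v)⁻¹ = el ρ c 16 * ρ z ^ j := ⟨_, by
    rw [h.el_in n2, map_mul, map_pow, ← mul_assoc, mul_assoc, ← map_inv, zc, ← mul_assoc, ← map_mul, ← map_mul,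
      hv, map_mul, h.ρ_zel, h.el_u, mul_assoc, ← pow_add]⟩
  have e8 : ρ z ^ (j + j) = ρ z ^ 0 := by
    have : el ρ c 16 * ρ z ^ j * (el ρ c 16 * ρ z ^ j) = 1 := by rw [← e7, conj_mul, e1]; simp
    rw [h.el_u, mul_assoc, ← mul_assoc (ρ z ^ j), zc, ← mul_assoc, ← mul_assoc, ← h.el_u, h.uu, one_mul] at this
    rw [pow_add, this, pow_zero]
  rw [pow_eq4 h.oz] at e8
  have c1 : ρ v * s * el ρ c 128 = el ρ c 128 * (ρ v * s) := by rw [mul_assoc, hs, ← mul_assoc, h.in_cen, mul_assoc]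
  have c2 : ρ v * s * ρ y * (ρ v * s)⁻¹ = el ρ c 16 * ρ z ^ j := by rw [← e7, ← q]; group
  rcases (by omega : j % 4 = 0 % 4 ∨ j % 4 = 2 % 4) with r | r
  · exact ⟨_, c1, by rw [c2, (pow_eq4 h.oz).2 r, pow_zero, mul_one]⟩
  · refine ⟨el ρ c 2 * (ρ v * s), by rw [mul_assoc, c1, ← mul_assoc, h.el_cen (by omega), mul_assoc], ?_⟩
    rw [← h.u_ut, show el ρ c 144 = el ρ c 16 * ρ z ^ j by rw [(pow_eq4 h.oz).2 r]; simp [el], ← c2]; group

theorem u_conj [IsSimpleGroup G] : IsConj (el ρ c 128) (el ρ c 16) := by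
  have o : orderOf (el ρ c 128) = 2 := orderOf_eq_prime (by rw [pow_two, h.tt]) h.t_ne
  have : ¬ IsIsolatedInvolution (el ρ c 128) := fun hi => by
    haveI : Fact (Nat.Prime 2) := ⟨Nat.prime_two⟩
    have hO : pPrimeCore 2 G = ⊥ := by
      refine (inferInstance : (pPrimeCore 2 G).Normal).eq_bot_or_eq_top.resolve_right fun q => ?_
      have := Core.not_dvd_card_pPrimeCore (G := G) 2
      rw [q, card_top, ← o] at this
      exact this (orderOf_dvd_natCard _)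
    have hc : el ρ c 128 ∈ center G := mem_center_iff.2 fun g => by
      have := Blk.zstar hi g
      rw [hO, mem_bot, mul_inv_eq_one, mul_inv_eq_iff_eq_mul] at this
      exact this.symm
    rcases (inferInstance : (center G).Normal).eq_bot_or_eq_top with q | q
    · rw [q, mem_bot] at hc; exact h.t_ne hc
    · have := h.u_ut
      rw [mem_center_iff.1 (q ▸ mem_top (el ρ c 144)) (el ρ c 2), mul_inv_cancel_right] at this
      exact h.cd.ne (by omega) (by omega) (by omega) this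
  rw [IsIsolatedInvolution, not_and, not_forall] at this
  obtain ⟨g, hg⟩ := this o
  rw [Classical.not_imp] at hg
  by_contra nc
  set t := el ρ c 128 with ht
  have key : ∀ y, IsConj t (ρ y) → ρ y = t := fun y q => by
    by_contra r
    obtain ⟨a, ha⟩ := isConj_iff.1 q
    obtain ⟨b, -, hb⟩ := h.inn (y := y) (by rw [← ha, conj_mul, h.tt]; simp)
      (by rw [← ha, Ne, conj_eq_one_iff]; exact h.t_ne) r
    exact nc (q.trans (isConj_iff.2 ⟨b, hb⟩))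
  obtain ⟨s, n, hn, hs, q⟩ := h.sylow (y := g * t * g⁻¹) (by rw [conj_mul, h.tt]; simp) hg.1.eq.symm
  have vt : el ρ c n ≠ t := fun r => hg.2 (by rwa [r, mul_inv_eq_iff_eq_mul, ← hs, mul_right_inj] at q)
  obtain ⟨r, hr⟩ : ∃ r, r * el ρ c n * r⁻¹ = t := ⟨(s * g)⁻¹, by rw [← q]; group⟩
  have cv : IsConj t (el ρ c n) := (isConj_iff.2 ⟨r, hr⟩).symm
  have n2 : ¬ n < 256 := fun a => vt (by rw [h.el_in a] at cv ⊢; exact key _ cv)
  have vv : el ρ c n * el ρ c n = 1 := by rw [← q, conj_mul, conj_mul, h.tt]; simp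
  have out : ∀ x, IsConj t x → x * el ρ c n = el ρ c n * x → x ≠ el ρ c n → ∃ y, r * x * r⁻¹ = ρ y * c :=
    fun x a1 a2 a3 => by
      obtain ⟨y, a | a⟩ := h.cases (g := r * x * r⁻¹) (by rw [← ht, ← hr, cj_comm, a2])
      · rw [key y (a ▸ a1.trans (isConj_iff.2 ⟨r, rfl⟩)), ← hr] at a
        exact absurd (by simpa using a) a3
      · exact ⟨y, a⟩
  obtain ⟨y1, o1⟩ := out t (IsConj.refl t) (h.el_cen hn).symm vt.symm
  have nz : ¬ el ρ c n * el ρ c 64 = el ρ c 64 * el ρ c n := fun a => by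
    obtain ⟨y, b⟩ := h.sq_in (g := r * el ρ c 64 * r⁻¹) (by rw [← ht, ← hr, cj_comm, a])
    rw [conj_mul, h.zz, ← ht, o1] at b
    exact h.ne_out _ _ b.symm
  have cvt : IsConj t (el ρ c n * t) := by
    refine cv.trans (isConj_iff.2 ⟨(ρ z)⁻¹, ?_⟩)
    rw [h.el_z, h.el_out (by omega) hn] at nz
    have a := h.cz 1
    have b := h.cz 2
    have b' := h.c_cen
    rw [h.el_t, b, mul_left_inj, pow_eq4 h.oz] at b'
    rw [pow_one, mul_one] at a
    rcases (by omega : sz d e % 4 = 1 % 4 ∨ sz d e % 4 = 3 % 4) with w | w <;> rw [(pow_eq4 h.oz).2 w] at a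
    · exact absurd (by rw [mul_assoc, a, ← mul_assoc, ← zc, pow_one, mul_assoc]) nz
    · rw [h.el_out (by omega) hn, inv_inv, mul_assoc, mul_assoc, a, ht, mul_assoc (ρ _) c, h.c_cen, h.el_t,
        ← mul_assoc (ρ _) (ρ z ^ 3), ← zc, ← mul_assoc (ρ _) (ρ z ^ 2), ← zc]
      group
  have fin : ∀ s s', s < 512 → s' < 512 → ¬ okB (mu d e i) n s s' = true := fun s s' l1 l2 a => by
    have l3 := h.cd.lt (h.cd.lt l1 hn) l2
    simp only [okB, band_eq, Bool.and_eq_true, bn_iff, h.cd.one_iff l1 l2, h.cd.cm_iff l3 hn, h.cd.eq_iff l3 hn,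
      h.cd.eq_iff l3 (h.cd.lt hn (show 128 < 512 by omega)), h.el_mul (h.cd.lt l1 hn) l2, h.el_mul l1 hn,
      h.el_mul hn (show 128 < 512 by omega)] at a
    obtain ⟨a1, a2, a3, a4⟩ := a
    rw [← inv_eq_of_mul_eq_one_right a1] at a2 a3 a4
    obtain ⟨y2, o2⟩ := out _ (cv.trans (isConj_iff.2 ⟨_, rfl⟩)) a2 a3
    obtain ⟨y3, o3⟩ := h.oo y2 y1
    rw [← o1, ← o2, conj_mul] at o3
    have c3 : el ρ c s * el ρ c n * (el ρ c s)⁻¹ * t = el ρ c s * (el ρ c n * t) * (el ρ c s)⁻¹ := by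
      rw [← conj_mul, h.el_cen l1, mul_inv_cancel_right]
    rw [key y3 (o3 ▸ (c3 ▸ cvt.trans (isConj_iff.2 ⟨_, rfl⟩)).trans (isConj_iff.2 ⟨r, rfl⟩)), ← hr,
      mul_left_inj, mul_right_inj, hr] at o3
    exact a4 (by nth_rw 2 [← o3]; rw [mul_assoc _ t, ht, h.tt, mul_one])
  have := (allN_iff _ _).1 h.cand.1 n hn
  simp only [bor_iff, Nat.blt_eq, h.cd.cm_iff hn (show 64 < 512 by omega),
    Nat.eq_of_beq_eq_true ((h.cd.one_iff hn hn).2 vv)] at this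
  rcases this with a | a | a | a | a | a
  exacts [n2 a, by omega, nz a, fin _ _ (by omega) (by omega) a, fin _ _ (by omega) (by omega) a,
    fin _ _ (by omega) (by omega) a]

theorem exists_swap [IsSimpleGroup G] :
    ∃ r, r * el ρ c 128 * r⁻¹ = el ρ c 16 ∧ r * el ρ c 16 * r⁻¹ = el ρ c 128 := by
  obtain ⟨g, hg⟩ := isConj_iff.1 h.u_conj
  obtain ⟨y, b⟩ := h.sq_in (g := g⁻¹ * el ρ c 64 * g⁻¹⁻¹) (by
    rw [show el ρ c 128 = g⁻¹ * el ρ c 16 * g⁻¹⁻¹ by rw [← hg]; group, cj_comm, h.el_z, h.el_u, ← map_mul, ← map_mul,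
      mem_center_iff.1 z_cen])
  rw [conj_mul, h.zz] at b
  obtain ⟨x, h1, h2⟩ := h.inn (y := y) (by rw [← b, conj_mul, h.tt]; simp)
    (by rw [← b, Ne, conj_eq_one_iff]; exact h.t_ne) (fun q => h.tu_ne (by
      rw [← hg]; nth_rw 1 [← q]; rw [← b]; group))
  refine ⟨g * x⁻¹, ?_, by rw [← h2, ← b]; group⟩
  rw [← hg, mul_assoc g x⁻¹, (Commute.inv_left h1).eq]; group

theorem inB_iff {g : G} : InB (el ρ c 128) (el ρ c 16) g ↔ ∃ n < 512, cm (mu d e i) n 16 = true ∧ g = el ρ c n := by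
  refine ⟨fun a => ?_, ?_⟩
  · obtain ⟨n, hn, rfl⟩ := h.cenB a.1 a.2
    exact ⟨n, hn, (h.cd.cm_iff hn (by omega)).2 a.2, rfl⟩
  · rintro ⟨n, hn, a, rfl⟩
    exact ⟨h.el_cen hn, (h.cd.cm_iff hn (by omega)).1 a⟩

theorem nB_iff {x : ℕ} (hx : x < 512) : nB (mu d e i) x = true ↔ ∀ g, InB (el ρ c 128) (el ρ c 16) g →
    g * el ρ c x = el ρ c x * g ∨ el ρ c x * g * el ρ c x = g := by
  simp only [nB, allN_iff, bor_iff, bn_iff, h.inB_iff, ← imp_iff_not_or]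
  refine ⟨?_, fun a n hn b => ?_⟩
  · rintro a _ ⟨n, hn, b, rfl⟩
    have := a n hn b
    rwa [h.cd.cm_iff hn hx, h.cd.mul_iff (h.cd.lt hx hn) hx hn, h.el_mul hx hn] at this
  · rw [h.cd.cm_iff hn hx, h.cd.mul_iff (h.cd.lt hx hn) hx hn, h.el_mul hx hn]
    exact a _ ⟨n, hn, b, rfl⟩

theorem ceB_iff {x : ℕ} (hx : x < 512) : ceB (mu d e i) x = true ↔ ∀ g, InB (el ρ c 128) (el ρ c 16) g →
    g * el ρ c x = el ρ c x * g := by
  simp only [ceB, allN_iff, bor_iff, bn_iff, h.inB_iff, ← imp_iff_not_or]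
  refine ⟨?_, fun a n hn b => (h.cd.cm_iff hn hx).2 (a _ ⟨n, hn, b, rfl⟩)⟩
  rintro a _ ⟨n, hn, b, rfl⟩
  exact (h.cd.cm_iff hn hx).1 (a n hn b)

theorem ncB_iff {x : ℕ} (hx : x < 512) : ncB (mu d e i) x = true ↔ ∃ p q,
    (InB (el ρ c 128) (el ρ c 16) p ∧ p * p = 1 ∧ p * el ρ c x = el ρ c x * p) ∧
    (InB (el ρ c 128) (el ρ c 16) q ∧ q * q = 1 ∧ q * el ρ c x = el ρ c x * q) ∧ p * q ≠ q * p := by
  simp only [ncB, ivB, anyN_iff, band_eq, Bool.and_eq_true, bn_iff, h.inB_iff]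
  constructor
  · rintro ⟨p, hp, ⟨a1, a2, a3⟩, q, hq, ⟨b1, b2, b3⟩, r⟩
    exact ⟨_, _, ⟨⟨p, hp, a2, rfl⟩, (h.cd.one_iff hp hp).1 a1, (h.cd.cm_iff hp hx).1 a3⟩,
      ⟨⟨q, hq, b2, rfl⟩, (h.cd.one_iff hq hq).1 b1, (h.cd.cm_iff hq hx).1 b3⟩, mt (h.cd.cm_iff hp hq).2 r⟩
  · rintro ⟨_, _, ⟨⟨p, hp, a2, rfl⟩, a1, a3⟩, ⟨⟨q, hq, b2, rfl⟩, b1, b3⟩, r⟩
    exact ⟨p, hp, ⟨(h.cd.one_iff hp hp).2 a1, a2, (h.cd.cm_iff hp hx).2 a3⟩, q, hq,
      ⟨(h.cd.one_iff hq hq).2 b1, b2, (h.cd.cm_iff hq hx).2 b3⟩, mt (h.cd.cm_iff hp hq).1 r⟩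

theorem good [IsSimpleGroup G] : d = 3 ∧ e = 0 ∧ i = 0 := by
  refine h.cand.2.resolve_right fun a => ?_
  obtain ⟨r, h1, h2⟩ := h.exists_swap
  have b : InB (el ρ c 128) (el ρ c 16) (el ρ c 64) := ⟨h.el_cen (by omega), by
    rw [h.el_z, h.el_u, ← map_mul, ← map_mul, mem_center_iff.1 z_cen]⟩
  obtain ⟨x, hx, b1, b2⟩ := h.inB_iff.1 ((InB.cj h1 h2).2 b)
  have l : 64 < 512 := by omega
  have := (allN_iff _ _).1 a x hx
  simp only [bor_iff, bn_iff, band_eq, Bool.and_eq_true, h.nB_iff hx, h.nB_iff l, h.ceB_iff hx, h.ceB_iff l,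
    h.ncB_iff hx, h.ncB_iff l, h.cd.mul_iff hx hx (show 16 < 512 by omega), ← b2] at this
  have s : ∀ g, ∃ g', g = r * g' * r⁻¹ := fun g => ⟨r⁻¹ * g * r, by group⟩
  rcases this with a | a | ⟨a, a'⟩ | ⟨a', a⟩ | ⟨a', a⟩ <;> apply a
  · rw [conj_mul, h.zz, h1]
  · exact b1
  · intro g hg
    obtain ⟨g, rfl⟩ := s g
    rw [cj_comm, conj_mul, conj_mul, mul_left_inj, mul_right_inj]
    exact a' g ((InB.cj h1 h2).1 hg)
  · intro g hg
    obtain ⟨g, rfl⟩ := s g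
    rw [cj_comm]
    exact a' g ((InB.cj h1 h2).1 hg)
  · obtain ⟨p, q, ⟨a1, a2, a3⟩, ⟨b1, b2, b3⟩, a4⟩ := a'
    exact ⟨r * p * r⁻¹, r * q * r⁻¹, ⟨(InB.cj h1 h2).2 a1, by rw [conj_mul, a2]; simp, cj_comm.2 a3⟩,
      ⟨(InB.cj h1 h2).2 b1, by rw [conj_mul, b2]; simp, cj_comm.2 b3⟩, mt cj_comm.1 a4⟩

end St
end Cfsg.Agent.H8On
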