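import Cfsg.Agent.H8.OnD

/-! # Groups of O'Nan type: checks on the candidates for the Sylow 2-subgroup -/

set_option autoImplicit false
set_option linter.unusedVariables false
set_option linter.unusedSimpArgs false
set_option linter.unusedSectionVars false
set_option maxRecDepth 100000

noncomputable section
namespace Cfsg.Agent.H8On
open Subgroup Cfsg.Agent.Spor Cfsg.Agent.Spor.OnD

def bn (a : Bool) : Bool := Bool.rec true false a
theorem bn_iff (a : Bool) : bn a = true ↔ ¬ a = true := bnot_iff a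
def cm (μ : Nat → Nat → Nat) (a b : Nat) : Bool := Nat.beq (μ a b) (μ b a)
def anyN (g : Nat → Bool) (m : Nat) : Bool := Nat.rec false (fun i ih => bor (g i) ih) m
theorem anyN_iff (g : ℕ → Bool) (m : ℕ) : anyN g m = true ↔ ∃ i < m, g i = true := by
  induction m with
  | zero => simp [anyN]
  | succ m ih =>
    rw [show anyN g (m + 1) = bor (g m) (anyN g m) from rfl, bor_iff, ih, Nat.exists_lt_succ_right, or_comm]

def okB (μ : Nat → Nat → Nat) (n s s' : Nat) : Bool :=
  band (Nat.beq (μ s s') 0) (band (cm μ (μ (μ s n) s') n)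
    (band (bn (Nat.beq (μ (μ s n) s') n)) (bn (Nat.beq (μ (μ s n) s') (μ n 128)))))
def cB (μ : Nat → Nat → Nat) : Bool := allN (fun n => bor (Nat.blt n 256) (bor (Nat.blt 0 (μ n n))
  (bor (cm μ n 64) (bor (okB μ n 32 32) (bor (okB μ n 5 149) (okB μ n 2 2)))))) 512
def nB (μ : Nat → Nat → Nat) (x : Nat) : Bool :=
  allN (fun b => bor (bn (cm μ b 16)) (bor (cm μ b x) (Nat.beq (μ (μ x b) x) b))) 512
def ceB (μ : Nat → Nat → Nat) (x : Nat) : Bool := allN (fun b => bor (bn (cm μ b 16)) (cm μ b x)) 512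
def ivB (μ : Nat → Nat → Nat) (x p : Nat) : Bool := band (Nat.beq (μ p p) 0) (band (cm μ p 16) (cm μ p x))
def ncB (μ : Nat → Nat → Nat) (x : Nat) : Bool :=
  anyN (fun p => band (ivB μ x p) (anyN (fun q => band (ivB μ x q) (bn (cm μ p q))) 512)) 512
def exA (μ : Nat → Nat → Nat) : Bool := allN (fun x => bor (bn (Nat.beq (μ x x) 16)) (bor (bn (cm μ x 16))
  (bor (band (bn (nB μ x)) (nB μ 64)) (bor (band (ceB μ 64) (bn (ceB μ x))) (band (ncB μ 64) (bn (ncB μ x))))))) 512
def candOk (d e i : Nat) : Bool := bor (bn (Nat.beq (sz d e * i % 4) (i % 4)))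
  (band (cB (mu d e i)) (bor (band (Nat.beq d 3) (band (Nat.beq e 0) (Nat.beq i 0))) (exA (mu d e i))))

theorem cand10 : allN (candOk 1 0) 4 = true := by decide +kernel
theorem cand12 : allN (candOk 1 2) 4 = true := by decide +kernel
theorem cand20 : allN (candOk 2 0) 4 = true := by decide +kernel
theorem cand22 : allN (candOk 2 2) 4 = true := by decide +kernel
theorem cand30 : allN (candOk 3 0) 4 = true := by decide +kernel
theorem cand32 : allN (candOk 3 2) 4 = true := by decide +kernel

end Cfsg.Agent.H8On
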