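import Cfsg.Agent.H8.OnE0
import Cfsg.Agent.Spor.OnD.D1

/-! # Groups of O'Nan type: checks on automorphisms of the centraliser of a four-group -/

set_option autoImplicit false
set_option maxRecDepth 100000

noncomputable section
namespace Cfsg.Agent.H8On
open Cfsg.Agent.Spor Cfsg.Agent.Spor.OnD

def μ0 : Nat → Nat → Nat := mulc 0 0 3 (nth 0 DT 3)
theorem μ0_eq : mu 3 0 0 = μ0 := by
  rw [mu, show sz 3 0 = 3 by decide +kernel]; rfl
def sel (x y z r : Nat) : Nat := Nat.rec x (fun r _ => Nat.rec x (fun r _ => Nat.rec y (fun _ _ => z) r) r) r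
def evd (x y z : Nat) (f : Nat) : Nat → Nat :=
  Nat.rec (fun _ => 0) (fun _ ih w => Bool.rec (μ0 (ih (Nat.div w 4)) (sel x y z (Nat.mod w 4))) 0 (Nat.beq w 0)) f
def th (x y z n : Nat) : Nat := evd x y z 10 (Nat.land (Nat.shiftRight WTB (Nat.mul 20 n)) 1048575)
def lany {α : Type} (p : α → Bool) (l : List α) : Bool := List.rec false (fun a _ ih => bor (p a) ih) l
theorem lany_iff {α : Type} (p : α → Bool) (l : List α) : lany p l = true ↔ ∃ a ∈ l, p a = true := by
  induction l with
  | nil => simp [lany]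
  | cons a l ih => rw [show lany p (a :: l) = bor (p a) (lany p l) from rfl, bor_iff, ih]; simp
def inn (l : List (Nat × Nat)) : Bool :=
  anyN (fun b => band (cm μ0 b 16) (lall (fun p => Nat.beq (μ0 b p.1) (μ0 p.2 b)) l)) 512
def reps : List (Nat × Nat) := [(1, 256), (1, 261), (1, 272), (1, 277), (256, 1), (256, 4), (256, 33), (256, 36)]
def iv0 (x : Nat) : Bool := band (Nat.beq (μ0 x x) 0) (cm μ0 x 16)
def sq0 (x : Nat) : Nat := μ0 x x
def pairOk (x y : Nat) : Bool := bor (bn (iv0 x)) (bor (bn (iv0 y)) (bor (bn (Nat.beq (sq0 (sq0 (μ0 x y))) 144))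
  (anyN (fun b => band (cm μ0 b 16)
    (lany (fun p => band (Nat.beq (μ0 b x) (μ0 p.1 b)) (Nat.beq (μ0 b y) (μ0 p.2 b))) reps)) 512)))
def dj (j : Bool) : Nat := Bool.rec 272 277 j
def L4 (j : Bool) : List (Nat × Nat) :=
  Bool.rec [(299, 299), (446, 446), (491, 446), (382, 299)] [(430, 430), (443, 443), (379, 430), (366, 443)] j
def ps (x y z n : Nat) : Nat := th x y z (μ0 (μ0 2 n) 2)
def concl (x y z : Nat) (j : Bool) : Bool := lany (fun p => lany (fun w =>
  inn [(th x y z 1, dj j), (th x y z (dj j), 1), (th x y z p.1, p.2), (th x y z 64, w)]) [37, 53]) (L4 j)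
def trOk (x y z : Nat) : Bool := bor (bn (cm μ0 z 16)) (bor (bn (Nat.beq (μ0 z z) 144))
  (bor (bn (Nat.beq (th x y z 128) 16)) (bor (bn (Nat.beq (th x y z 16) 128))
  (bor (bn (inn [(1, th x y z x), (272, th x y z y), (299, th x y z z)]))
  (bor (bn (inn [(1, ps x y z (ps x y z (ps x y z 1))), (272, ps x y z (ps x y z (ps x y z 272))),
    (299, ps x y z (ps x y z (ps x y z 299)))])) (band (concl x y z false) (concl x y z true)))))))

theorem th_ok : allN (fun n => bor (bn (cm μ0 n 16)) (Nat.beq (th 1 272 299 n) n)) 512 = true := by decide +kernel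
theorem tr_ok : lall (fun p => allN (trOk p.1 p.2) 512) reps = true := by decide +kernel
theorem pair_ok : allN (fun x => allN (pairOk x) 512) 512 = true := by decide +kernel
theorem out_ok : ∀ j : Bool, allN (fun n => bor (Nat.blt n 256) (bor (Nat.blt 0 (μ0 n n))
    (anyN (fun s => Nat.beq (μ0 s (dj j)) (μ0 n s)) 512))) 512 = true := by decide +kernel

end Cfsg.Agent.H8On
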