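import Cfsg.Agent.H8.OnE
import Cfsg.Agent.H8.OnF0

/-! # Groups of O'Nan type: the action on the centraliser of a four-group -/

set_option autoImplicit false
set_option linter.unusedVariables false
set_option linter.unusedSimpArgs false
set_option linter.unusedSectionVars false
set_option maxRecDepth 100000

namespace Cfsg.Agent.H8On
open Subgroup Cfsg.Agent.Spor Cfsg.Agent.Spor.OnD

variable {G : Type} [Group G]

namespace St
variable {ρ : U →* G} {c : G} (h : St ρ c 3 0 0)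
include h

theorem cd0 : Cd (el ρ c) μ0 := μ0_eq ▸ h.cd

theorem evd_cj {r : G} {x y z x' y' z' : ℕ} (l : x < 512 ∧ y < 512 ∧ z < 512) (l' : x' < 512 ∧ y' < 512 ∧ z' < 512)
    (h1 : r * el ρ c x * r⁻¹ = el ρ c x') (h2 : r * el ρ c y * r⁻¹ = el ρ c y')
    (h3 : r * el ρ c z * r⁻¹ = el ρ c z') (f w : ℕ) : evd x y z f w < 512 ∧ evd x' y' z' f w < 512 ∧
      r * el ρ c (evd x y z f w) * r⁻¹ = el ρ c (evd x' y' z' f w) := by
  have z0 : (0 : ℕ) < 512 ∧ (0 : ℕ) < 512 ∧ r * el ρ c 0 * r⁻¹ = el ρ c 0 := by simp [h.cd0.zero]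
  induction f generalizing w with
  | zero => exact z0
  | succ f ih =>
    have e : ∀ x y z, evd x y z (f + 1) w = Bool.rec (μ0 (evd x y z f (Nat.div w 4)) (sel x y z (Nat.mod w 4))) 0
      (Nat.beq w 0) := fun _ _ _ => rfl
    rw [e, e]
    cases Nat.beq w 0
    · obtain ⟨a1, a2, a3⟩ := ih (Nat.div w 4)
      have s : sel x y z (Nat.mod w 4) < 512 ∧ sel x' y' z' (Nat.mod w 4) < 512 ∧
          r * el ρ c (sel x y z (Nat.mod w 4)) * r⁻¹ = el ρ c (sel x' y' z' (Nat.mod w 4)) := by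
        rcases Nat.mod w 4 with _ | _ | _ | _
        exacts [⟨l.1, l'.1, h1⟩, ⟨l.1, l'.1, h1⟩, ⟨l.2.1, l'.2.1, h2⟩, ⟨l.2.2, l'.2.2, h3⟩]
      exact ⟨h.cd0.lt a1 s.1, h.cd0.lt a2 s.2.1, by
        show r * el ρ c (μ0 _ _) * r⁻¹ = el ρ c (μ0 _ _)
        rw [h.cd0.mul a1 s.1, h.cd0.mul a2 s.2.1, ← conj_mul, a3, s.2.2]⟩
    · exact z0

theorem evd_mem {K : Subgroup G} {x y z : ℕ} (l : x < 512 ∧ y < 512 ∧ z < 512) (h1 : el ρ c x ∈ K)
    (h2 : el ρ c y ∈ K) (h3 : el ρ c z ∈ K) (f w : ℕ) : el ρ c (evd x y z f w) ∈ K := by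
  induction f generalizing w with
  | zero => exact (h.cd0.zero ▸ one_mem K : el ρ c 0 ∈ K)
  | succ f ih =>
    have e : evd x y z (f + 1) w = Bool.rec (μ0 (evd x y z f (Nat.div w 4)) (sel x y z (Nat.mod w 4))) 0
      (Nat.beq w 0) := rfl
    rw [e]
    cases Nat.beq w 0
    · have s : sel x y z (Nat.mod w 4) < 512 ∧ el ρ c (sel x y z (Nat.mod w 4)) ∈ K := by
        rcases Nat.mod w 4 with _ | _ | _ | _
        exacts [⟨l.1, h1⟩, ⟨l.1, h1⟩, ⟨l.2.1, h2⟩, ⟨l.2.2, h3⟩]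
      show el ρ c (μ0 _ _) ∈ K
      rw [h.cd0.mul (h.evd_cj (r := 1) l l (by simp) (by simp) (by simp) f _).1 s.1]
      exact mul_mem (ih _) s.2
    · exact (h.cd0.zero ▸ one_mem K : el ρ c 0 ∈ K)

variable [Finite G]

theorem inB0 {g : G} : InB (el ρ c 128) (el ρ c 16) g ↔ ∃ n < 512, cm μ0 n 16 = true ∧ g = el ρ c n :=
  μ0_eq ▸ h.inB_iff
theorem inB_el {n : ℕ} (hn : n < 512) : InB (el ρ c 128) (el ρ c 16) (el ρ c n) ↔ cm μ0 n 16 = true := by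
  rw [h.cd0.cm_iff hn (by omega)]
  exact ⟨fun a => a.2, fun a => ⟨h.el_cen hn, a⟩⟩

theorem inn_iff {l : List (ℕ × ℕ)} (hl : ∀ p ∈ l, p.1 < 512 ∧ p.2 < 512) : H8On.inn l = true ↔
    ∃ b, InB (el ρ c 128) (el ρ c 16) b ∧ ∀ p ∈ l, b * el ρ c p.1 * b⁻¹ = el ρ c p.2 := by
  simp only [H8On.inn, anyN_iff, band_eq, Bool.and_eq_true, lall_iff, h.inB0, mul_inv_eq_iff_eq_mul]
  have e : ∀ b < 512, ∀ p ∈ l, Nat.beq (μ0 b p.1) (μ0 p.2 b) = true ↔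
      el ρ c b * el ρ c p.1 = el ρ c p.2 * el ρ c b := fun b hb p hp => by
    rw [h.cd0.mul_iff hb (hl p hp).1 (h.cd0.lt (hl p hp).2 hb), h.cd0.mul (hl p hp).2 hb]
  constructor
  · rintro ⟨b, hb, a1, a2⟩
    exact ⟨_, ⟨b, hb, a1, rfl⟩, fun p hp => (e b hb p hp).1 (a2 p hp)⟩
  · rintro ⟨_, ⟨b, hb, a1, rfl⟩, a2⟩
    exact ⟨b, hb, a1, fun p hp => (e b hb p hp).2 (a2 p hp)⟩

theorem tu : el ρ c 16 * el ρ c 128 = el ρ c 144 := (h.cd0.mul_iff (by omega) (by omega) (by omega)).1 (by decide +kernel)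

theorem pair_rep {x y : G} (hx : InB (el ρ c 128) (el ρ c 16) x) (hy : InB (el ρ c 128) (el ρ c 16) y)
    (h1 : x * x = 1) (h2 : y * y = 1) (h3 : x * y * (x * y) * (x * y * (x * y)) = el ρ c 16 * el ρ c 128) :
    ∃ b, InB (el ρ c 128) (el ρ c 16) b ∧ ∃ p ∈ reps, b * x * b⁻¹ = el ρ c p.1 ∧ b * y * b⁻¹ = el ρ c p.2 := by
  obtain ⟨x, lx, bx, rfl⟩ := h.inB0.1 hx
  obtain ⟨y, ly, by', rfl⟩ := h.inB0.1 hy
  have := (allN_iff _ _).1 ((allN_iff _ _).1 pair_ok x lx) y ly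
  have l1 := h.cd0.lt lx ly
  have l2 := h.cd0.lt l1 l1
  simp only [pairOk, iv0, sq0, bor_iff, bn_iff, band_eq, Bool.and_eq_true, anyN_iff, lany_iff, bx, by',
    h.cd0.one_iff lx lx, h.cd0.one_iff ly ly, h1, h2, h.cd0.mul_iff l2 l2 (show 144 < 512 by omega),
    h.cd0.mul l1 l1, h.cd0.mul lx ly, h3, h.tu, and_self, not_true, false_or] at this
  obtain ⟨b, hb, a1, p, hp, a2, a3⟩ := this
  have lp := (by decide : ∀ p ∈ reps, p.1 < 512 ∧ p.2 < 512) p hp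
  rw [h.cd0.mul_iff hb lx (h.cd0.lt lp.1 hb), h.cd0.mul lp.1 hb] at a2
  rw [h.cd0.mul_iff hb ly (h.cd0.lt lp.2 hb), h.cd0.mul lp.2 hb] at a3
  exact ⟨_, (h.inB_el hb).2 a1, p, hp, mul_inv_eq_iff_eq_mul.2 a2, mul_inv_eq_iff_eq_mul.2 a3⟩

omit h [Finite G] in
theorem _root_.Cfsg.Agent.H8On.InB.swap {t u b r : G} (hb : InB t u b) (h1 : r * t * r⁻¹ = u) (h2 : r * u * r⁻¹ = t) :
    b * r * t * (b * r)⁻¹ = u ∧ b * r * u * (b * r)⁻¹ = t := by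
  constructor
  · rw [← mul_inv_eq_iff_eq_mul.2 hb.2]; nth_rw 1 [← h1]; group
  · rw [← mul_inv_eq_iff_eq_mul.2 hb.1]; nth_rw 1 [← h2]; group

theorem norm [IsSimpleGroup G] (j : Bool) : ∃ r, ∃ p ∈ L4 j, ∃ w ∈ [37, 53],
    r * el ρ c 128 * r⁻¹ = el ρ c 16 ∧ r * el ρ c 16 * r⁻¹ = el ρ c 128 ∧ r * el ρ c 1 * r⁻¹ = el ρ c (dj j) ∧
    r * el ρ c (dj j) * r⁻¹ = el ρ c 1 ∧ r * el ρ c p.1 * r⁻¹ = el ρ c p.2 ∧ r * el ρ c 64 * r⁻¹ = el ρ c w := by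
  have C := h.cd0
  obtain ⟨r0, s1, s2⟩ := h.exists_swap
  have m : ∀ {a b d : ℕ}, (a < 512 ∧ b < 512 ∧ d < 512 ∧ Nat.beq (μ0 a b) d = true) →
      el ρ c a * el ρ c b = el ρ c d := fun q => (C.mul_iff q.1 q.2.1 q.2.2.1).1 q.2.2.2
  have b1 := (h.inB_el (n := 1) (by omega)).2 (by decide +kernel)
  have b2 := (h.inB_el (n := 272) (by omega)).2 (by decide +kernel)
  have b3 := (h.inB_el (n := 299) (by omega)).2 (by decide +kernel)
  obtain ⟨b, hb, p, hp, e1, e2⟩ := h.pair_rep ((InB.cj s1 s2).2 b1) ((InB.cj s1 s2).2 b2)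
    (by rw [conj_mul, m (d := 0) (by decide +kernel), C.zero]; simp)
    (by rw [conj_mul, m (d := 0) (by decide +kernel), C.zero]; simp)
    (by simp only [conj_mul]
        rw [m (a := 1) (d := μ0 1 272) (by decide +kernel), m (d := sq0 (μ0 1 272)) (by decide +kernel),
          m (d := 144) (by decide +kernel), ← h.tu, ← conj_mul, s1, s2, h.el_cen (n := 16) (by omega)])
  obtain ⟨s1, s2⟩ := hb.swap s1 s2
  set r := b * r0
  replace e1 : r * el ρ c 1 * r⁻¹ = el ρ c p.1 := by rw [← e1]; simp only [r]; group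
  replace e2 : r * el ρ c 272 * r⁻¹ = el ρ c p.2 := by rw [← e2]; simp only [r]; group
  obtain ⟨g, lg, bg, e3⟩ := h.inB0.1 ((InB.cj s1 s2).2 b3)
  have lp := (by decide : ∀ p ∈ reps, p.1 < 512 ∧ p.2 < 512) p hp
  have T : ∀ n < 512, InB (el ρ c 128) (el ρ c 16) (el ρ c n) → th p.1 p.2 g n < 512 ∧
      r * el ρ c n * r⁻¹ = el ρ c (th p.1 p.2 g n) := fun n hn a => by
    have q := (allN_iff _ _).1 th_ok n hn
    rw [bor_iff, bn_iff, (h.inB_el hn).1 a, Nat.beq_eq] at q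
    have := (h.evd_cj (by omega) ⟨lp.1, lp.2, lg⟩ e1 e2 e3 10 (Nat.land (Nat.shiftRight WTB (Nat.mul 20 n)) 1048575)).2
    rwa [show evd 1 272 299 10 _ = n from q.resolve_left (by simp)] at this
  have bt := (h.inB_el (n := 128) (by omega)).2 (by decide +kernel)
  have bu := (h.inB_el (n := 16) (by omega)).2 (by decide +kernel)
  have ss : el ρ c 2 * el ρ c 2 = 1 := by rw [m (d := 0) (by decide +kernel), C.zero]
  have si : (el ρ c 2)⁻¹ = el ρ c 2 := inv_eq_of_mul_eq_one_right ss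
  have q1 : r * el ρ c 2 * el ρ c 128 * (r * el ρ c 2)⁻¹ = el ρ c 16 := by
    rw [← s1, mul_assoc r, h.el_cen (by omega)]; group
  have q2 : r * el ρ c 2 * el ρ c 144 * (r * el ρ c 2)⁻¹ = el ρ c 128 := by
    rw [← s2, ← h.u_ut]; group
  have q3 : r * el ρ c 2 * el ρ c 16 * (r * el ρ c 2)⁻¹ = el ρ c 144 := by
    have : el ρ c 16 = el ρ c 144 * el ρ c 128 := (m (by decide +kernel)).symm
    rw [this, ← conj_mul, q1, q2, m (d := 144) (by decide +kernel)]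
  have P : ∀ n, n < 512 ∧ InB (el ρ c 128) (el ρ c 16) (el ρ c n) → (ps p.1 p.2 g n < 512 ∧
      InB (el ρ c 128) (el ρ c 16) (el ρ c (ps p.1 p.2 g n))) ∧
      r * el ρ c 2 * el ρ c n * (r * el ρ c 2)⁻¹ = el ρ c (ps p.1 p.2 g n) := fun n ⟨hn, a⟩ => by
    have l1 := C.lt (show 2 < 512 by omega) hn
    have l2 := C.lt l1 (show 2 < 512 by omega)
    have e : el ρ c (μ0 (μ0 2 n) 2) = el ρ c 2 * el ρ c n * (el ρ c 2)⁻¹ := by
      rw [C.mul l1 (by omega), C.mul (by omega) hn, si]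
    have a' : InB (el ρ c 128) (el ρ c 16) (el ρ c (μ0 (μ0 2 n) 2)) := ⟨h.el_cen l2, by
      rw [e, ← h.u_ut, cj_comm, ← h.tu, ← mul_assoc, a.2, mul_assoc, a.1, mul_assoc]⟩
    obtain ⟨t1, t2⟩ := T _ l2 a'
    exact ⟨⟨t1, (show _ = el ρ c (ps p.1 p.2 g n) from t2) ▸ (InB.cj s1 s2).2 a'⟩, by rw [ps, ← t2, e]; group⟩
  have P3 : ∀ n, n < 512 ∧ InB (el ρ c 128) (el ρ c 16) (el ρ c n) →
      ps p.1 p.2 g (ps p.1 p.2 g (ps p.1 p.2 g n)) < 512 ∧ (r * el ρ c 2 * (r * el ρ c 2) * (r * el ρ c 2)) * el ρ c n * ((r * el ρ c 2 * (r * el ρ c 2) * (r * el ρ c 2)))⁻¹ =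
        el ρ c (ps p.1 p.2 g (ps p.1 p.2 g (ps p.1 p.2 g n))) := fun n a => by
    have a1 := P n a
    have a2 := P _ a1.1
    have a3 := P _ a2.1
    exact ⟨a3.1.1, by rw [← a3.2, ← a2.2, ← a1.2]; generalize r * el ρ c 2 = q; group⟩
  have := (allN_iff _ _).1 ((lall_iff _ _).1 tr_ok p hp) g lg
  have t1 := T _ lp.1 (e1 ▸ (InB.cj s1 s2).2 b1)
  have t2 := T _ lp.2 (e2 ▸ (InB.cj s1 s2).2 b2)
  have t3 := T _ lg (e3 ▸ (InB.cj s1 s2).2 b3)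
  have u1 := P3 1 ⟨by omega, b1⟩
  have u2 := P3 272 ⟨by omega, b2⟩
  have u3 := P3 299 ⟨by omega, b3⟩
  have n3 : H8On.inn [(1, th p.1 p.2 g p.1), (272, th p.1 p.2 g p.2), (299, th p.1 p.2 g g)] = true :=
    (h.inn_iff (by simp [t1.1, t2.1, t3.1])).2 ⟨r * r, ⟨by
      rw [← mul_inv_eq_iff_eq_mul]; nth_rw 2 [← s2]; rw [← s1]; group, by
      rw [← mul_inv_eq_iff_eq_mul]; nth_rw 2 [← s1]; rw [← s2]; group⟩, by
      simp only [List.mem_cons, List.not_mem_nil, or_false, forall_eq_or_imp, forall_eq, ← t1.2, ← t2.2, ← t3.2,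
        ← e1, ← e2, ← e3]
      refine ⟨?_, ?_, ?_⟩ <;> group⟩
  have n4 : H8On.inn [(1, ps p.1 p.2 g (ps p.1 p.2 g (ps p.1 p.2 g 1))),
      (272, ps p.1 p.2 g (ps p.1 p.2 g (ps p.1 p.2 g 272))),
      (299, ps p.1 p.2 g (ps p.1 p.2 g (ps p.1 p.2 g 299)))] = true := (h.inn_iff (by simp [u1.1, u2.1, u3.1])).2 ⟨(r * el ρ c 2 * (r * el ρ c 2) * (r * el ρ c 2)), ⟨by
      rw [← mul_inv_eq_iff_eq_mul]; nth_rw 2 [← q2]; rw [← q3, ← q1]; generalize r * el ρ c 2 = q; group, by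
      rw [← mul_inv_eq_iff_eq_mul]; nth_rw 2 [← q1]; rw [← q2, ← q3]; generalize r * el ρ c 2 = q; group⟩, by
      simp only [List.mem_cons, List.not_mem_nil, or_false, forall_eq_or_imp, forall_eq]
      exact ⟨u1.2, u2.2, u3.2⟩⟩
  have n1 : Nat.beq (μ0 g g) 144 = true := (C.mul_iff lg lg (by omega)).2 (by
    rw [← e3, conj_mul, m (d := 144) (by decide +kernel), ← h.tu, ← conj_mul, s1, s2, h.el_cen (n := 16) (by omega)])
  have n2 : Nat.beq (th p.1 p.2 g 128) 16 = true :=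
    (C.eq_iff (T 128 (by omega) bt).1 (by omega)).2 ((T 128 (by omega) bt).2.symm.trans s1)
  have n2' : Nat.beq (th p.1 p.2 g 16) 128 = true :=
    (C.eq_iff (T 16 (by omega) bu).1 (by omega)).2 ((T 16 (by omega) bu).2.symm.trans s2)
  simp only [trOk, bor_iff, bn_iff, bg, n1, n2, n2', n3, n4, not_true, false_or, band_eq, Bool.and_eq_true] at this
  have k : concl p.1 p.2 g j = true := by cases j; exacts [this.1, this.2]
  simp only [concl, lany_iff] at k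
  obtain ⟨q, hq, w, hw, k⟩ := k
  have lq := (by decide +kernel : ∀ j, ∀ q ∈ L4 j, q.1 < 512 ∧ q.2 < 512 ∧ dj j < 512 ∧ cm μ0 q.1 16 = true ∧
    cm μ0 (dj j) 16 = true) j q hq
  have lw : w < 512 := by simp at hw; omega
  have v1 := T 1 (by omega) b1
  have v2 := T _ lq.2.2.1 ((h.inB_el lq.2.2.1).2 lq.2.2.2.2)
  have v3 := T _ lq.1 ((h.inB_el lq.1).2 lq.2.2.2.1)
  have v4 := T 64 (by omega) ((h.inB_el (by omega)).2 (by decide +kernel))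
  obtain ⟨b', hb', k⟩ := (h.inn_iff (by simp [v1.1, v2.1, v3.1, v4.1, lw, lq.2.1, lq.2.2.1])).1 k
  simp only [List.mem_cons, List.not_mem_nil, or_false, forall_eq_or_imp, forall_eq, ← v1.2, ← v2.2, ← v3.2,
    ← v4.2] at k
  obtain ⟨k1, k2, k3, k4⟩ := k
  refine ⟨b' * r, q, hq, w, hw, (hb'.swap s1 s2).1, (hb'.swap s1 s2).2, ?_, ?_, ?_, ?_⟩
  exacts [by rw [← k1]; group, by rw [← k2]; group, by rw [← k3]; group, by rw [← k4]; group]

end St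
end Cfsg.Agent.H8On
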