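import Cfsg.Agent.H8.OnF
import Cfsg.Agent.Spor.OnUc.Main

/-! # Groups of O'Nan type: the involution centraliser in `GL(8, 3)` -/

set_option autoImplicit false
set_option linter.unusedVariables false
set_option linter.unusedSimpArgs false
set_option linter.unusedSectionVars false
set_option maxRecDepth 100000

namespace Cfsg.Agent.H8On
open Subgroup Cfsg.Agent.Spor Cfsg.Agent.Spor.OnD

variable {G : Type} [Group G]

/-- the relation "the packed matrix represents the group element" -/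
structure Rep (A : PA) (R : ℕ → G → Prop) : Prop where
  one : R A.one 1
  mul : ∀ {m m' g g'}, R m g → R m' g' → R (A.mul m m') (g * g')
  eq : ∀ {m g g'}, R m g → R m g' → g = g'
  ne : ∀ {m m' g g'}, R m g → R m' g' → A.neq m m' = true → g ≠ g'

namespace Rep
variable {A : PA} {R : ℕ → G → Prop} (h : Rep A R)
include h
theorem beq {m m' : ℕ} {g g' : G} (a : R m g) (b : R m' g') (e : Nat.beq m m' = true) : g = g' :=
  h.eq a (Nat.eq_of_beq_eq_true e ▸ b)
theorem evw {TT : List ℕ} {a : ℕ → G} (hT : ∀ y, R (nth A.one TT y) (a y)) (l : List ℕ) {x : ℕ} {g : G}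
    (hx : R x g) : R (A.evw TT l x) (g * ev a l) := by
  induction l generalizing x g with
  | nil => rw [ev_nil, mul_one]; exact hx
  | cons y l ih => rw [ev_cons, ← mul_assoc]; exact ih (h.mul hx (hT y))
theorem ev1 {TT : List ℕ} {a : ℕ → G} (hT : ∀ y, R (nth A.one TT y) (a y)) (l : List ℕ) :
    R (A.evw TT l A.one) (ev a l) := by simpa using h.evw hT l h.one
theorem atm {TT : List ℕ} {n : ℕ} {F F' : ℕ → G} (h0 : TT.length = 2 * n)
    (h1 : ∀ j < n, R (nth A.one TT (2 * j)) (F j) ∧ R (nth A.one TT (2 * j + 1)) (F' j))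
    (h2 : allN (fun j => Nat.beq (A.mul (nth A.one TT (2 * j)) (nth A.one TT (2 * j + 1))) A.one) n = true) (y : ℕ) :
    R (nth A.one TT y) (Spor.atm n F y) := by
  rw [atm_def]
  split_ifs with a b
  · have := (h1 _ a).1
    rwa [show 2 * (y / 2) = y by omega] at this
  · have := (h1 _ a).2
    rw [← inv_eq_of_mul_eq_one_right (h.beq (h.mul (h1 _ a).1 this) h.one ((allN_iff _ _).1 h2 _ a))] at this
    rwa [show 2 * (y / 2) + 1 = y by omega] at this
  · rw [nth_eq, List.getD_eq_default _ _ (by omega)]; exact h.one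
end Rep

theorem boundC : Bound 5 0 OnUc.RL (224 * 720) :=
  OnUc.cert.bound (OnUa.cert.bound_nil) (H := [([], 15, true), ([], 16, true), ([], 17, true), ([], 0, true),
    ([], 1, true), ([], 2, true), ([], 3, true), ([], 19, true)]) (by decide +kernel)
theorem sqA8 : A8.sq = true := by decide +kernel
theorem hp8 : ((A8.p : ℕ) : ZMod 3) = 0 := by decide
instance instCharA8 : CharP (ZMod 3) A8.p := ZMod.charP 3
noncomputable abbrev Ω8 : MRep A8 (ZMod 3) (GL (Fin A8.d) (ZMod 3)) := MRep.gl A8 (ZMod 3) sqA8 hp8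
theorem gF8 : Ω8.Gens T8 (atm 5 (Ω8.gen T8)) := MRep.gl_gens (by decide +kernel)
theorem presF8 : Pres 5 0 OnUc.RL (Ω8.gen T8) := pres0 fun l hl => gF8.eq_one
    ((lall_iff _ _).1 (show lall (fun w => A8.isW T8 w A8.one) OnUc.RL = true by decide +kernel) l hl)

/-- generators of the centraliser -/
noncomputable def f5 (ρ : U →* G) (c : G) (j : ℕ) : G := if j < 4 then ρ (ξ j) else c
/-- value of a word in the generators of the centraliser -/
noncomputable def v5 (ρ : U →* G) (c : G) (l : List ℕ) : G := ev (atm 5 (f5 ρ c)) l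
noncomputable def cw (n : ℕ) : List ℕ :=
  nth [] TW (n % 64) ++ (List.replicate (n / 64 % 4) zw).flatten ++ List.replicate (n / 256) 8

theorem v5_in (ρ : U →* G) (c : G) {l : List ℕ} (hl : ∀ y ∈ l, y < 8) : v5 ρ c l = ρ (w l) := by
  rw [v5, ev_atm_lt (n := 4) (by omega) _ hl, w, ev_atm_map' (g := f5 ρ c) fun j hj => (if_pos hj).symm]
theorem atm8 (ρ : U →* G) (c : G) : atm 5 (f5 ρ c) 8 = c := atm_two_mul (f5 ρ c) (j := 4) (by omega)
theorem v5_cw (ρ : U →* G) (c : G) (n : ℕ) : v5 ρ c (cw n) = el ρ c n := by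
  have e : ∀ j, v5 ρ c (List.replicate j zw).flatten = ρ z ^ j := fun j => by
    induction j with
    | zero => simp [v5]
    | succ j ih =>
      rw [List.replicate_succ, List.flatten_cons, v5, ev_append, ← v5, ← v5, ih, v5_in _ _ (by decide), pow_succ']
      rfl
  rw [cw, v5, ev_append, ev_append, Mult.ev_replicate, atm8, ← v5, ← v5, e, v5_in _ _
    ((by decide +kernel : ∀ a < 64, ∀ y ∈ nth [] TW a, y < 8) _ (Nat.mod_lt _ (by omega)))]
  rfl

namespace St
variable {ρ : U →* G} {c : G} (h : St ρ c 3 0 0)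
include h

theorem cc : c * c = 1 := by simpa using h.sq
theorem gsub5 : gsub 5 (f5 ρ c) = centralizer {el ρ c 128} := by
  refine le_antisymm (gsub_le fun j hj => mem_centralizer_singleton_iff.2 ?_) fun g hg => ?_
  · unfold f5; split_ifs
    exacts [h.in_cen _, h.c_cen]
  · have m : ∀ x, ρ x ∈ gsub 5 (f5 ρ c) := fun x => gsub_le (K := (gsub 5 (f5 ρ c)).comap ρ)
      (fun j hj => mem_comap.2 ((show f5 ρ c j = ρ (ξ j) from if_pos hj) ▸ mem_gsub (f5 ρ c) (show j < 5 by omega))) (ξ_top ▸ mem_top x)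
    obtain ⟨x, rfl | rfl⟩ := h.cases (mem_centralizer_singleton_iff.1 hg)
    exacts [m x, mul_mem (m x) (mem_gsub (f5 ρ c) (j := 4) (by omega))]

theorem pres5 : Pres 5 0 OnUc.RL (f5 ρ c) := by
  refine (pres0 (RL := (kw :: RU) ++ [8, 8] :: (List.range 4).map fun j =>
    lapp [8, 2 * j, 9] (invW 0 ((nth [] BW 3).getD j []) [])) fun l hl => ?_).cons
    (H := (List.range 20).map (fun i => ([], i + 1, true)) ++ ([], 0, true) ::
      (List.range 5).map fun i => ([], i + 21, true)) (by decide +kernel)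
  simp only [List.mem_append, List.mem_cons (b := [8, 8]), List.mem_map, List.mem_range] at hl
  rcases hl with hl | rfl | ⟨j, hj, rfl⟩
  · rw [← v5, v5_in _ _ ((by decide +kernel : ∀ l ∈ kw :: RU, ∀ y ∈ l, y < 8) l hl)]
    rcases List.mem_cons.1 hl with rfl | hl
    · exact h.hk.trans (pow_zero _)
    · rw [w, presξ.rel l hl, map_one]
  · simp [atm8, h.cc]
  · have a9 : atm 5 (f5 ρ c) 9 = c⁻¹ := by simp [atm_def, f5]
    rw [ev_lapp, ev_invW (ivOk_zero _ _), ← v5, ← v5,
      v5_in (l := List.getD _ _ _) _ _ ((by decide +kernel : ∀ j < 4, ∀ y ∈ (nth [] BW 3).getD j [], y < 8) j hj)]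
    simp only [v5, ev_cons, ev_nil, atm8, a9, atm_two_mul (f5 ρ c) (show j < 5 by omega), mul_one, f5, if_pos hj]
    rw [← mul_assoc, h.cj, β_ξ (by omega) j hj, mul_inv_eq_one]; rfl

theorem exRep : ∃ R : ℕ → G → Prop, Rep A8 R ∧ ∀ y, R (nth A8.one T8 y) (atm 5 (f5 ρ c) y) := by
  obtain ⟨ψ, hψ⟩ := boundC.exists_hom (by norm_num) h.pres5 presF8 (by rw [h.gsub5, h.el_t, h.card])
  let K := gsub 5 (f5 ρ c)
  have m : ∀ x, ρ x ∈ K := fun x => h.gsub5.ge (mem_centralizer_singleton_iff.2 (h.in_cen x))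
  let ρ' : U →* K := ρ.codRestrict K m
  have e : ∀ l : List ℕ, (∀ y ∈ l, y < 8) → ψ (ρ' (w l)) = ev (atm 5 (Ω8.gen T8)) l := fun l hl => by
    rw [← ev_atm_map' hψ]
    congr 1
    exact Subtype.ext ((v5_in ρ c hl).symm.trans (ev_atm_map' (lift_gsub _) l).symm)
  have k1 : ∀ x, ψ (ρ' x) = 1 → ρ x = 1 := fun x hx => by
    let N := (ψ.comp ρ').ker
    have hc : x ∈ center U := by
      rcases (Normal.map inferInstance π π_surj : (N.map π).Normal).eq_bot_or_eq_top with q | q
      · exact π_eq_one.1 (q.le (mem_map_of_mem π (show x ∈ N from hx)))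
      · exfalso
        obtain ⟨y, hy, a⟩ := q.ge (mem_top (π (w [0])))
        have a' : y⁻¹ * w [0] ∈ center U := π_eq_one.1 (by rw [map_mul, map_inv, a, inv_mul_cancel])
        have := congrArg (ψ.comp ρ') (mem_center_iff.1 a' (w [2]))
        simp only [map_mul, map_inv, (show (ψ.comp ρ') y = 1 from hy), inv_one, one_mul] at this
        simp only [MonoidHom.comp_apply, e [0] (by decide), e [2] (by decide), ← ev_append] at this
        exact gF8.neq (by decide +kernel) this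
    obtain ⟨n, hn, rfl⟩ := cen_zel hc
    have a : ρ (zel n) = ρ (w (cw (64 * (n % 4)))) := by
      rw [← v5_in ρ c ((by decide +kernel : ∀ j < 4, ∀ y ∈ cw (64 * j), y < 8) _ (Nat.mod_lt _ (by omega))),
        v5_cw, h.ρ_zel, el, show 64 * (n % 4) % 64 = 0 by omega, show 64 * (n % 4) / 256 = 0 by omega,
        show 64 * (n % 4) / 64 % 4 = n % 4 by omega]
      simp [τ_zero]
    rw [show ρ' (zel n) = ρ' (w (cw (64 * (n % 4)))) from Subtype.ext a,
      e _ ((by decide +kernel : ∀ j < 4, ∀ y ∈ cw (64 * j), y < 8) _ (Nat.mod_lt _ (by omega)))] at hx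
    by_cases q : n % 4 = 0
    · simp [h.ρ_zel, q]
    · exact absurd hx (gF8.ne_one ((by decide +kernel : ∀ j < 4, j ≠ 0 →
        A8.neq (A8.evw T8 (cw (64 * j)) A8.one) A8.one = true) _ (Nat.mod_lt _ (by omega)) q))
  have inj : Function.Injective ψ := (injective_iff_map_eq_one ψ).2 fun g hg => by
    have gc := mem_centralizer_singleton_iff.1 (h.gsub5.le g.2)
    obtain ⟨x, hx⟩ := h.hout g (h.el_t ▸ gc) fun x => by
      obtain ⟨y, hy⟩ := h.cj_in gc x
      have : ρ (y * x⁻¹) = 1 := k1 _ (by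
        rw [show ρ' (y * x⁻¹) = g * ρ' x * g⁻¹ * (ρ' x)⁻¹ from Subtype.ext (by simp [ρ', hy])]
        simp [hg])
      rw [map_mul, map_inv, mul_inv_eq_one, ← hy] at this
      exact mul_inv_eq_iff_eq_mul.1 this
    exact Subtype.ext (hx.trans (k1 x (by rwa [show ρ' x = g from Subtype.ext hx.symm])))
  let X := Ω8.comp ψ inj
  have gX : X.Gens T8 (atm 5 (lift K (f5 ρ c))) := gF8.comp inj hψ
  refine ⟨fun m g => X.M m ∧ (X.el m : G) = g, ⟨⟨X.M_one, by rw [X.el_one]; rfl⟩, fun a b => ⟨a.1.mul b.1, ?_⟩,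
    fun a b => a.2.symm.trans b.2, fun a b e q => a.1.neq b.1 e (Subtype.ext (a.2.trans (q.trans b.2.symm)))⟩,
    fun y => ⟨(gX y).1, ?_⟩⟩
  · rw [a.1.el_mul b.1, coe_mul, a.2, b.2]
  · rw [(gX y).2]
    exact (atm_map K.subtype 5 _ y).trans (congrFun (atm_congr (lift_gsub _)) y)

end St
end Cfsg.Agent.H8On
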