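import Cfsg.Agent.H8.OnG
import Cfsg.Agent.H8.SE2
import Cfsg.Agent.Spor.ONSimple

/-! # Groups of O'Nan type: generators satisfying the presentation -/

set_option autoImplicit false
set_option linter.unusedVariables false
set_option linter.unusedSimpArgs false
set_option linter.unusedSectionVars false
set_option maxRecDepth 100000

namespace Cfsg.Agent.H8On
open Subgroup Cfsg.Agent.Spor Cfsg.Agent.Spor.OnD

variable {G : Type} [Group G]

noncomputable def bw (j : Bool) : List ℕ := nth [] bW j.toNat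
noncomputable def T6 (j : Bool) (g : ℕ) : List ℕ := A8.evs T8 [cw 16, cw 16, bw j, bw j, cw 1, cw 1, cw (dj j),
  cw (dj j), cw 128, cw 128, cw g, cw (μ0 g 144)]
noncomputable def F6 (ρ : U →* G) (c : G) (j : Bool) (g i : ℕ) : G :=
  [el ρ c 16, v5 ρ c (bw j), el ρ c 1, el ρ c (dj j), el ρ c 128, el ρ c g].getD i 1
noncomputable def ok6 (j : Bool) (g : ℕ) : Bool := allN (fun i => Nat.beq (A8.mul (nth A8.one (T6 j g) (2 * i))
  (nth A8.one (T6 j g) (2 * i + 1))) A8.one) 6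
def RL1 : List (List ℕ) := [[0, 2, 0, 2, 0, 2], [0, 4, 0, 4], [0, 6, 0, 6], [0, 8, 0, 8], [2, 4, 2, 4, 2, 4], [2, 6, 2, 6], [2, 8, 2, 8], [4, 6, 4, 6, 4, 6, 4, 6, 4, 6, 4, 6, 4, 6, 4, 6], [4, 8, 4, 8], [6, 8, 6, 8], [0, 8, 11, 11], [0, 8, 6, 4, 6, 4, 6, 4, 6, 4], [4, 11, 6, 11, 6, 4, 6, 10, 6, 10], [6, 11, 4, 11, 4, 6, 4, 10, 4, 10], [2, 4, 6, 10, 2, 4, 6, 10, 2, 4, 6, 10, 2, 4, 6, 10, 2, 4, 6, 10], [10, 2, 4, 10, 4, 2, 10, 2, 4, 10, 4], [0, 2, 0, 4, 2, 0, 2, 0, 4, 2, 4, 0]]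
def RL2 : List (List ℕ) := [[0, 2, 0, 2, 0, 2], [2, 4, 2, 4, 2, 4], [2, 6, 2, 6], [2, 8, 2, 8], [10, 2, 4, 10, 4, 2, 10, 2, 4, 10, 4]]
def g0 (j : Bool) : ℕ := Bool.rec 299 430 j
noncomputable def rel6 (j : Bool) (g : ℕ) (RL : List (List ℕ)) : Bool :=
  band (ok6 j g) (lall (fun w => A8.isW (T6 j g) w A8.one) (MRep.sqL 5 RL))

theorem key6 : ∀ j, ∀ p ∈ L4 j, rel6 j p.2 RL1 = true ∧ rel6 j p.1 RL2 = true ∧ p.2 < 512 ∧ dj j < 512 ∧
    (p.2 = g0 j ∨ evd 1 (dj j) p.2 10 (nth 0 G1 j.toNat) = g0 j) := by decide +kernel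
theorem key6' : ∀ j, ok6 j (g0 j) = true ∧ allN (fun i => A8.isW (T6 j (g0 j)) (nth [] (nth [] GW j.toNat) i)
    (nth A8.one T8 (2 * i))) 5 = true ∧ A8.isW (T6 j (g0 j)) (lapp (nth [] XW j.toNat) [0, 2, 0, 4, 2])
      (A8.mul (A8.evw T8 (cw 37) A8.one) (A8.evw (T6 j (g0 j)) (nth [] XW j.toNat) A8.one)) = true := by
  decide +kernel

theorem nth_evs (A : PA) (TT : List ℕ) (W : List (List ℕ)) (i : ℕ) :
    nth A.one (A.evs TT W) i = A.evw TT (W.getD i []) A.one := by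
  rw [MRep.evs_eq, nth_eq]
  exact List.getD_map W [] fun w => A.evw TT w A.one

theorem Rep.r6 {ρ : U →* G} {c : G} {R : ℕ → G → Prop} (h : Rep A8 R)
    (hT : ∀ y, R (nth A8.one T8 y) (Spor.atm 5 (f5 ρ c) y)) {j : Bool} {g : ℕ} (hk : ok6 j g = true) (y : ℕ) :
    R (nth A8.one (T6 j g) y) (Spor.atm 6 (F6 ρ c j g) y) := by
  refine h.atm (F' := fun i => v5 ρ c ([cw 16, bw j, cw 1, cw (dj j), cw 128, cw (μ0 g 144)].getD i []))
    (by rw [T6, MRep.evs_eq, List.length_map]; rfl) (fun i hi => ?_) hk y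
  unfold F6
  simp only [← v5_cw, T6, nth_evs]
  interval_cases i <;> simp only [Nat.reduceMul, Nat.reduceAdd, List.getD_cons_zero, List.getD_cons_succ] <;>
    exact ⟨h.ev1 hT _, h.ev1 hT _⟩

/-- elements of order 3 centralising the square of `y` centralise `y` -/
def Qy (y : G) : Prop := ∀ x, x * x * x = 1 → Commute x (y * y) → Commute x y
theorem Qy.cj {y : G} (h : Qy y) (g : G) : Qy (g * y * g⁻¹) := fun x h1 h2 => by
  obtain ⟨x, rfl⟩ : ∃ x', x = g * x' * g⁻¹ := ⟨g⁻¹ * x * g, by group⟩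
  rw [conj_mul] at h2
  exact cj_comm.2 (h x (by rwa [conj_mul, conj_mul, conj_eq_one_iff] at h1) (cj_comm.1 h2))
theorem Qy.inv {y : G} (h : Qy y) : Qy y⁻¹ := fun x h1 h2 =>
  (h x h1 (by rw [← mul_inv_rev] at h2; simpa using h2.inv_right)).inv_right

theorem be_comm {a b c e f : G} (aa : a * a = 1) (bb : b * b = 1) (ab : a * b * a * b * a * b = 1)
    (ef : e * f * (e * f) * (e * f) = 1) (ea : Commute e a) (ec : Commute e c) (fa : Commute f a) (fb : Commute f b)
    (fc : Commute f c) (q : Qy (a * (b * (a * c) * b))) (yy : a * (b * (a * c) * b) * (a * (b * (a * c) * b)) = a * c) :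
    Commute e b := by
  have bi : b⁻¹ = b := inv_eq_of_mul_eq_one_right bb
  have h1 := ea.mul_left fa
  have h2 := h1.mul_right (ec.mul_left fc)
  have h3 : Commute (e * f) (b * (a * c) * b) := by
    have := h1.mul_right (q _ ef (yy.symm ▸ h2))
    rwa [← mul_assoc, aa, one_mul] at this
  have h4 : Commute (b * (e * f) * b⁻¹) (a * c) := by
    have := (cj_comm (g := b)).2 h3
    rwa [show b * (b * (a * c) * b) * b⁻¹ = a * c by rw [← mul_assoc, ← mul_assoc, bb]; group] at this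
  have h5 : Commute (b * (e * f) * b⁻¹) (b * (a * c) * b) := by
    have := (cj_comm (g := b)).2 h2
    nth_rw 2 3 [bi] at this; exact this
  have h6 := (q _ (by rw [conj_mul, conj_mul, ef]; simp) (yy.symm ▸ h4)).mul_right h5.inv_right
  rw [mul_inv_cancel_right] at h6
  have h7 : Commute (e * f) (b * a * b) := (cj_comm (g := b)).1 (by
    rw [show b * (b * a * b) * b⁻¹ = a by rw [← mul_assoc, ← mul_assoc, bb]; group]; exact h6)
  have h8 := (h1.mul_right h7).mul_right h1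
  rw [show a * (b * a * b) * a = b by rw [← mul_left_inj b, bb, ← ab]; group] at h8
  simpa using h8.mul_left fb.inv_left

theorem conj_of_braid {H : Subgroup G} {x y : G} (hx : x ∈ H) (hy : y ∈ H) (xx : x * x = 1) (yy : y * y = 1)
    (h : x * y * (x * y) * (x * y) = 1) : ∃ g ∈ H, g * x * g⁻¹ = y :=
  ⟨x * y, mul_mem hx hy, by
    rw [mul_inv_rev, inv_eq_of_mul_eq_one_right xx, inv_eq_of_mul_eq_one_right yy, ← mul_left_inj y, yy, ← h]; group⟩

namespace St
variable {ρ : U →* G} {c : G} (h : St ρ c 3 0 0)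
include h

theorem pres6 {j : Bool} {g : ℕ} {RL : List (List ℕ)} (hk : rel6 j g RL = true) : Pres 6 5 RL (F6 ρ c j g) := by
  obtain ⟨R, hR, hT⟩ := h.exRep
  rw [rel6, band_eq, Bool.and_eq_true, lall_iff] at hk
  have e := fun l hl => hR.beq (hR.ev1 (hR.r6 hT hk.1) l) hR.one (hk.2 l hl)
  refine ⟨fun i hi hi' => ?_, fun l hl => e l (List.mem_append_right _ hl)⟩
  have := e [2 * i, 2 * i] (List.mem_append_left _ (List.mem_map.2 ⟨i, List.mem_range.2 hi, rfl⟩))
  simpa [atm_two_mul _ hi'] using this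

theorem genC (j : Bool) {K : Subgroup G} (hK : ∀ i < 6, F6 ρ c j (g0 j) i ∈ K) {g : G}
    (hg : g * el ρ c 128 = el ρ c 128 * g) : g ∈ K := by
  obtain ⟨R, hR, hT⟩ := h.exRep
  refine gsub_le (fun i hi => ?_) (h.gsub5.ge (mem_centralizer_singleton_iff.2 hg))
  rw [← atm_two_mul (f5 ρ c) hi, ← hR.beq (hR.ev1 (hR.r6 hT (key6' j).1) _) (hT _) ((allN_iff _ _).1 (key6' j).2.1 i hi)]
  exact ev_mem_of hK _

theorem y_conj (j : Bool) : ∃ x, x * (el ρ c 16 * (v5 ρ c (bw j) * (el ρ c 16 * el ρ c 1) * v5 ρ c (bw j))) * x⁻¹ =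
    el ρ c 37 := by
  obtain ⟨R, hR, hT⟩ := h.exRep
  have r := hR.r6 hT (key6' j).1
  have := hR.beq (hR.ev1 r _) (hR.mul (hR.ev1 hT _) (hR.ev1 r _)) (key6' j).2.2
  rw [ev_lapp, ← v5, v5_cw, ← mul_inv_eq_iff_eq_mul] at this
  exact ⟨ev (atm 6 (F6 ρ c j (g0 j))) (nth [] XW j.toNat), by rw [← this]; simp [atm_def, F6, mul_assoc]⟩

theorem Qz : Qy (el ρ c 64) := fun x h1 h2 => by
  rw [h.zz] at h2
  obtain ⟨y, hy⟩ := h.sq_in (h2.mul_left h2).eq
  rw [← mul_assoc, h1, one_mul] at hy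
  rw [hy, h.el_z]
  exact (Commute.map (mem_center_iff.1 z_cen y) ρ)

theorem bw_cen (j : Bool) : v5 ρ c (bw j) * el ρ c 128 = el ρ c 128 * v5 ρ c (bw j) :=
  mem_centralizer_singleton_iff.1 (h.gsub5.le (ev_atm_mem _ _ _))

variable [Finite G] [IsSimpleGroup G]

theorem tuple (j : Bool) : ∃ r, r * el ρ c 128 * r⁻¹ = el ρ c 16 ∧ r * el ρ c 16 * r⁻¹ = el ρ c 128 ∧
    r * el ρ c 1 * r⁻¹ = el ρ c (dj j) ∧ r * el ρ c (dj j) * r⁻¹ = el ρ c 1 ∧ ∃ φ : Cfsg.Spor.ON ≃* G,
      ∀ i < 6, φ (ONG.f i) = [el ρ c 16, v5 ρ c (bw j), el ρ c 1, el ρ c (dj j), r * v5 ρ c (bw j) * r⁻¹,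
        el ρ c 128].getD i 1 := by
  have C := h.cd0
  obtain ⟨r, p, hp, w, hw, s1, s2, s3, s4, s5, s6⟩ := h.norm j
  obtain ⟨k1, k2, k3, k4, k5⟩ := key6 j p hp
  refine ⟨r, s1, s2, s3, s4, ?_⟩
  have P1 := h.pres6 k1
  have P2 := (h.pres6 k2).map (MulAut.conj r).toMonoidHom
  set a := el ρ c 16 with ha
  set b := v5 ρ c (bw j) with hb
  set x := el ρ c 1 with hx
  set d := el ρ c (dj j) with hd
  set t := el ρ c 128 with ht
  let F : ℕ → G := fun i => [a, b, x, d, r * b * r⁻¹, t, el ρ c p.2].getD i 1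
  have aa : a * a = 1 := P1.sq 0 (by omega) (by omega)
  have bb : b * b = 1 := P1.sq 1 (by omega) (by omega)
  have xx : x * x = 1 := P1.sq 2 (by omega) (by omega)
  have dd : d * d = 1 := P1.sq 3 (by omega) (by omega)
  have ee : r * b * r⁻¹ * (r * b * r⁻¹) = 1 := by rw [conj_mul, bb]; simp
  have tt : t * t = 1 := h.tt
  have sq : ∀ i < 6, i < 7 → F i * F i = 1 := fun i hi _ => by
    interval_cases i
    exacts [aa, bb, xx, dd, ee, tt]
  have cm2 : ∀ {u v : G}, u * u = 1 → v * v = 1 → u * (v * (u * v)) = 1 → Commute u v := fun {u v} a1 a2 a3 => by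
    have := eq_inv_of_mul_eq_one_left (show u * v * (u * v) = 1 by rw [← a3]; group)
    rwa [mul_inv_rev, inv_eq_of_mul_eq_one_right a1, inv_eq_of_mul_eq_one_right a2] at this
  have r1 : ∀ l ∈ RL1, ev (atm 6 fun i => [a, b, x, d, t, el ρ c p.2].getD i 1) l = 1 := P1.rel
  simp only [RL1, List.mem_cons, List.not_mem_nil, or_false, forall_eq_or_imp, forall_eq] at r1
  simp only [ev_cons, ev_nil, atm_def, mul_one, Nat.reduceDiv, Nat.reduceMod, Nat.reduceLT, if_true,
    List.getD_cons_zero, List.getD_cons_succ] at r1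
  obtain ⟨ab, ax, -, -, bx, bd, -, -, -, -, -, -, -, -, -, -, yy⟩ := r1
  have bt : Commute t b := (h.bw_cen j).symm
  have be : Commute (r * b * r⁻¹) b := by
    refine be_comm (c := x) (f := t) aa bb (by rw [← ab]; group) ?_ ?_ ?_ (h.el_cen (by omega)).symm bt
      (h.el_cen (by omega)).symm ?_ ?_
    · rw [← s2, conj_mul, conj_mul, conj_mul, conj_eq_one_iff, ← mul_left_inj b, ← mul_right_inj a]
      calc _ = a * (b * (a * (b * (a * b)))) * (a * b) := by group
        _ = _ := by rw [ab]; simp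
    · rw [← s1]; exact cj_comm.2 bt.symm
    · rw [← s4]; exact cj_comm.2 (cm2 bb dd bd)
    · obtain ⟨y, hy⟩ := h.y_conj j
      have q : Qy (el ρ c 37) := by
        have := h.Qz.cj r
        rw [s6] at this
        simp only [List.mem_cons, List.not_mem_nil, or_false] at hw
        rcases hw with rfl | rfl
        · exact this
        · rw [eq_inv_of_mul_eq_one_left ((C.one_iff (n := 37) (m := 53) (by omega) (by omega)).1 (by decide +kernel))]
          exact this.inv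
      have := q.cj y⁻¹
      rw [← hy] at this
      simpa only [mul_assoc, inv_inv, inv_mul_cancel_left, inv_mul_cancel, mul_one] using this
    · rw [← mul_left_inj (x * a)]
      calc _ = a * (b * (a * (x * (b * (a * (b * (a * (x * (b * (x * a)))))))))) := by group
        _ = _ := by rw [yy, mul_assoc, ← mul_assoc x, xx, one_mul, aa]
  have iv : IvOk (2 * 6) (atm 7 F) := ivOk_atm sq
  have PF : Pres 7 6 ONG.RL F := ⟨sq, consAll_sound iv (RL := RL1.map (subW 12 6 [[0], [2], [4], [6], [10], [12]]) ++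
      (RL2.map (subW 12 6 [[10], [8], [6], [4], [0], [12]]) ++ [[2, 8, 2, 8]])) (fun l hl => by
      simp only [List.mem_append, List.mem_map, List.mem_singleton] at hl
      rcases hl with ⟨l, hl, rfl⟩ | ⟨l, hl, rfl⟩ | rfl
      · rw [ev_subW iv, ← P1.rel l hl]
        refine congrArg (ev · l) (atm_congr fun i hi => ?_)
        interval_cases i <;> simp [wv, atm_def, F, F6, ha, hb, hx, hd, ht]
      · rw [ev_subW iv, ← P2.rel l hl]
        refine congrArg (ev · l) (atm_congr fun i hi => ?_)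
        interval_cases i <;> simp [wv, atm_def, F, F6, ← ha, ← hb, ← hx, ← hd, ← ht, s1, s2, s3, s4, s5]
      · simp only [ev_cons, ev_nil, atm_def, mul_one, Nat.reduceDiv, Nat.reduceMod, Nat.reduceLT, if_true, F,
          List.getD_cons_zero, List.getD_cons_succ]
        rw [← mul_assoc (r * b * r⁻¹), be.eq, mul_assoc b, ee, mul_one, bb])
    (H := [([], 0, true), ([], 1, true), ([], 2, true), ([], 20, false), ([], 3, true), ([], 4, true), ([], 5, true),
      ([], 22, true), ([], 6, true), ([], 7, true), ([], 19, false), ([], 8, true), ([], 18, false), ([], 9, true),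
      ([], 17, false), ([], 10, true), ([], 11, true), ([], 12, true), ([], 13, true), ([], 14, true), ([], 15, true),
      ([], 21, true)]) (by decide +kernel)⟩
  let H := gsub 7 F
  have m : ∀ i < 7, F i ∈ H := fun i hi => mem_gsub F hi
  have l0 : g0 j < 512 := by cases j <;> decide
  have hC : ∀ g, g * t = t * g → g ∈ H := fun g => h.genC j fun i hi => by
    interval_cases i
    exacts [m 0 (by omega), m 1 (by omega), m 2 (by omega), m 3 (by omega), m 5 (by omega), by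
      show el ρ c (g0 j) ∈ H
      rcases k5 with q | q <;> rw [← q]
      exacts [m 6 (by omega), h.evd_mem ⟨by omega, k4, k3⟩ (m 2 (by omega)) (m 3 (by omega)) (m 6 (by omega)) _ _]]
  have hC' : ∀ g, g * t = t * g → r * g * r⁻¹ ∈ H := fun g =>
    h.genC j (K := H.comap (MulAut.conj r).toMonoidHom) fun i hi => by
      interval_cases i
      exacts [show r * a * r⁻¹ ∈ H from s2.symm ▸ m 5 (by omega), m 4 (by omega),
        show r * x * r⁻¹ ∈ H from s3.symm ▸ m 3 (by omega), show r * d * r⁻¹ ∈ H from s4.symm ▸ m 2 (by omega),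
        show r * t * r⁻¹ ∈ H from s1.symm ▸ m 0 (by omega), hC _ ((InB.cj s1 s2).2 ((h.inB_el l0).2 (by cases j <;> decide +kernel))).1]
  have tu : ∃ g ∈ H, g * t * g⁻¹ = a := by
    refine ⟨el ρ c 2 * (r * el ρ c 2 * r⁻¹)⁻¹, mul_mem (hC _ (h.el_cen (by omega)))
      (inv_mem (hC' _ (h.el_cen (by omega)))), ?_⟩
    have q : r * el ρ c 144 * r⁻¹ = el ρ c 144 := by
      rw [← h.tu, ← conj_mul, s1, s2, h.el_cen (n := 16) (by omega)]
    rw [← s2, ha, ← h.u_ut]; nth_rw 2 [← q]; group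
  have td : ∃ g ∈ H, g * t * g⁻¹ = d := by
    obtain ⟨g1, a1, b1⟩ := conj_of_braid (m 5 (by omega)) (m 4 (by omega)) tt ee (by
      show t * (r * b * r⁻¹) * (t * (r * b * r⁻¹)) * (t * (r * b * r⁻¹)) = 1
      rw [← s2, conj_mul, conj_mul, conj_mul, conj_eq_one_iff, ← ab]; group)
    obtain ⟨g2, a2, b2⟩ := conj_of_braid (m 4 (by omega)) (m 3 (by omega)) ee dd (by
      show r * b * r⁻¹ * d * (r * b * r⁻¹ * d) * (r * b * r⁻¹ * d) = 1
      rw [← s3, conj_mul, conj_mul, conj_mul, conj_eq_one_iff, ← bx]; group)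
    exact ⟨g2 * g1, mul_mem a2 a1, by
      change g1 * t * g1⁻¹ = r * b * r⁻¹ at b1
      change g2 * (r * b * r⁻¹) * g2⁻¹ = d at b2
      rw [← b2, ← b1]; group⟩
  have o2 : ∀ {u : G}, u * u = 1 → u ≠ 1 → orderOf u = 2 := fun a1 a2 => orderOf_eq_prime (by rwa [pow_two]) a2
  have l1 := C.lt k4 (show 64 < 512 by omega)
  have top : H = ⊤ := H8SE.se_top (a := d) (b := el ρ c (μ0 (dj j) 64)) (o2 tt h.t_ne) (m 5 (by omega)) hC
    (fun s hs q => by
      have ss : s * s = 1 := by rw [← pow_two, ← hs, pow_orderOf_eq_one]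
      have s1 : s ≠ 1 := fun e => by rw [e, orderOf_one] at hs; omega
      by_cases st : s = t
      · exact ⟨1, one_mem _, by simp [st]⟩
      obtain ⟨y, rfl | rfl⟩ := h.cases q
      · obtain ⟨g, a1, a2⟩ := h.inn ss s1 st
        obtain ⟨g', b1, b2⟩ := tu
        exact ⟨g⁻¹ * g', mul_mem (inv_mem (hC _ a1)) b1, by
          rw [mul_inv_rev, mul_assoc, mul_assoc, ← mul_assoc g', ← mul_assoc (g' * t), b2, ha, ← a2]; group⟩
      · obtain ⟨g, n, hn, a1, a2⟩ := h.sylow ss q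
        have := (allN_iff _ _).1 (out_ok j) n hn
        simp only [bor_iff, Nat.blt_eq, anyN_iff, Nat.eq_of_beq_eq_true ((C.one_iff hn hn).2 (by
          rw [← a2, conj_mul, ss]; simp))] at this
        rcases this with e | e | ⟨s, hs, e⟩
        · obtain ⟨y', e'⟩ := h.cj_in (g := g⁻¹) (Commute.inv_left a1) (τ (n % 64) * z ^ (n / 64 % 4))
          rw [← h.el_in e, ← a2] at e'
          exact absurd (show ρ y' = ρ y * c by rw [← e']; group) (h.ne_out _ _)
        · omega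
        · rw [C.mul_iff hs k4 (C.lt hn hs), C.mul hn hs, ← mul_inv_eq_iff_eq_mul, ← a2] at e
          obtain ⟨g', b1, b2⟩ := td
          refine ⟨g⁻¹ * el ρ c s * g', mul_mem (mul_mem (inv_mem (hC _ a1)) (hC _ (h.el_cen hs))) b1, ?_⟩
          calc _ = g⁻¹ * (el ρ c s * (g' * t * g'⁻¹) * (el ρ c s)⁻¹) * g := by group
            _ = _ := by rw [b2, hd, e]; group)
    (o2 dd (C.ne1 k4 (by cases j <;> decide)))
    (o2 ((C.one_iff l1 l1).1 (by cases j <;> decide +kernel)) (C.ne1 l1 (by cases j <;> decide +kernel)))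
    (m 3 (by omega)) (hC _ (h.el_cen l1)) (by
      rw [C.mul k4 (by omega), ← hd, ← mul_assoc d d, dd, one_mul, h.zz])
  obtain ⟨φ, hφ⟩ := ONG.hom PF
  haveI := ONG.simple
  refine ⟨MulEquiv.ofBijective φ ⟨inj_of_simple φ (x := ONG.f 5) (by rw [hφ 5 (by omega)]; exact h.t_ne),
    MonoidHom.range_eq_top.1 (by rw [range_eq_gsub hφ ONG.top]; exact top)⟩, fun i hi => ?_⟩
  refine (hφ i (by omega)).trans ?_
  interval_cases i <;> rfl

end St
end Cfsg.Agent.H8On
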