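import Cfsg.Agent.H8.OnH

/-! # Uniqueness of the O'Nan group -/

set_option autoImplicit false
set_option linter.unusedVariables false

namespace Cfsg.Agent.H8On
open Subgroup Cfsg.Agent.Spor Matrix

theorem exists_good {G : Type*} [Group G] [Finite G] [IsSimpleGroup G] {t : G} (ht : orderOf t = 2)
    (M : Subgroup (centralizer ({t} : Set G))) [M.Normal] (hM : M.index = 2)
    (hout : centralizer (M : Set (centralizer ({t} : Set G))) ≤ M) (hZc : IsCyclic (center M))
    (h4 : Nat.card (center M) = 4) (hperf : commutator M = ⊤) {F : Type} [Field F] [Fintype F]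
    (hF : Fintype.card F = 4) (e : M ⧸ center M ≃* ProjectiveSpecialLinearGroup (Fin 3) F) :
    ∃ (φ : G ≃* Cfsg.Spor.ON) (ρ : U →* Cfsg.Spor.ON) (c : Cfsg.Spor.ON), St ρ c 3 0 0 := by
  obtain ⟨e'⟩ := (exL hF).1
  obtain ⟨ρ, c, d, ε, i, h, -⟩ := exists_St ht M hM hout hZc h4 hperf (e.trans e')
  let s : G ≃* Shrink.{0} G := (Shrink.mulEquiv).symm
  haveI : Finite (Shrink.{0} G) := Finite.of_equiv _ s.toEquiv
  haveI : IsSimpleGroup (Shrink.{0} G) := s.symm.isSimpleGroup
  obtain ⟨rfl, rfl, rfl⟩ := (h.map s).good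
  obtain ⟨-, -, -, -, -, φ, -⟩ := (h.map s).tuple false
  exact ⟨s.trans φ.symm, _, _, h.map (s.trans φ.symm)⟩

end Cfsg.Agent.H8On
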