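import Cfsg.Agent.H8.OnH
import Cfsg.Agent.Spor.ON122760.S.Main

/-! # The O'Nan group: suborbit lengths, and a class of involutions of the centraliser -/

set_option autoImplicit false
set_option maxRecDepth 100000000
set_option Elab.async false

noncomputable section
namespace Cfsg.Agent.H8On
open Cfsg.Agent.Spor Cfsg.Agent.Spor.OnD

section
open ON122760.S
theorem orb1 : (orbS (ON122760.S.U.lsub W2) 32).ncard = 6384 :=
  reach11.ncard hU (by decide +kernel) (by decide +kernel)
theorem orb2 : (orbS (ON122760.S.U.lsub W2) 15).ncard = 5586 :=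
  reach5.ncard hU (by decide +kernel) (by decide +kernel)
theorem orb3 : (orbS (ON122760.S.U.lsub W2) 1).ncard = 58653 :=
  reach23.ncard hU (by decide +kernel) (by decide +kernel)
theorem orb4 : (orbS (ON122760.S.U.lsub W2) 10).ncard = 52136 :=
  reach17.ncard hU (by decide +kernel) (by decide +kernel)
end

def m8 (l : List Nat) : Nat := A8.evw T8 l A8.one
def cube (x : Nat) : Nat := A8.mul (A8.mul x x) x
theorem cl_ok : band (memL CL (m8 (cw 16))) (lall (fun m => allN (fun i => memL CL
    (A8.mul (A8.mul (nth A8.one T8 (2 * i)) m) (nth A8.one T8 (2 * i + 1)))) 5) CL) = true := by decide +kernel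
def bOk (j : Bool) (p : Nat × Nat) (m : Nat) : Bool := band (Nat.beq p.1 1) (band (Nat.beq p.2 (dj j))
  (bor (Nat.beq m (m8 (bw j))) (Nat.beq m (A8.mul (A8.mul (m8 (cw 16)) (m8 (bw j))) (m8 (cw 16))))))
theorem b_ok : lall (fun m => bor (A8.neq (cube (A8.mul (m8 (cw 16)) m)) A8.one) (lall (fun p =>
    bor (A8.neq (A8.mul m (m8 (cw p.2))) (A8.mul (m8 (cw p.2)) m))
    (bor (A8.neq (cube (A8.mul m (m8 (cw p.1)))) A8.one) (bor (bOk false p m) (bOk true p m)))) reps)) CL = true := by
  decide +kernel

end Cfsg.Agent.H8On
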