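import Cfsg.Agent.H8.OnI
import Cfsg.Agent.H8.OnJ0
import Cfsg.Agent.S1693

/-! # The subgroups `L3(7):2` of the O'Nan group -/

set_option autoImplicit false
set_option linter.unusedVariables false
set_option linter.unusedSimpArgs false
set_option linter.unusedSectionVars false
set_option maxRecDepth 100000

namespace Cfsg.Agent.H8On
open Subgroup Cfsg.Agent.Spor Cfsg.Agent.Spor.OnD Matrix

theorem exists_emb {A P : Type*} [Group A] [Group P] {N : Subgroup A} [N.Normal] (e : N ≃* P)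
    (hc : ∀ x : A, (∀ n ∈ N, x * n = n * x) → x = 1) :
    ∃ α : A →* MulAut P, Function.Injective α ∧ ∀ n : N, α n = MulAut.conj (e n) := by
  refine ⟨(MulAut.congr e).toMonoidHom.comp MulAut.conjNormal, (injective_iff_map_eq_one _).2 fun x hx =>
    hc x fun n hn => ?_, fun n => ?_⟩
  · have := congrArg (fun a : MulAut N => (a ⟨n, hn⟩ : A)) ((MulAut.congr e).map_eq_one_iff.1 hx)
    simpa [mul_inv_eq_iff_eq_mul] using this
  · ext x
    obtain ⟨x, rfl⟩ := e.surjective x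
    simp only [MonoidHom.comp_apply, MulEquiv.coe_toMonoidHom, MulAut.congr_apply, MulEquiv.trans_apply,
      MulEquiv.symm_apply_apply, MulAut.conj_apply, ← map_mul, ← map_inv]
    congr 1

theorem ext_iso {A B P : Type*} [Group A] [Group B] [Group P] [Finite A] [Finite B] {N : Subgroup A} [N.Normal]
    {N' : Subgroup B} [N'.Normal] (hN : N.index = 2) (hN' : N'.index = 2) (e : N ≃* P) (e' : N' ≃* P)
    (hc : ∀ x : A, (∀ n ∈ N, x * n = n * x) → x = 1) (hc' : ∀ x : B, (∀ n ∈ N', x * n = n * x) → x = 1)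
    (hP : Nat.card (MulAut P) = 6 * Nat.card P) : Nonempty (A ≃* B) := by
  obtain ⟨α, i1, a1⟩ := exists_emb e hc
  obtain ⟨α', i2, a2⟩ := exists_emb e' hc'
  haveI : Finite P := Finite.of_equiv _ e.toEquiv
  have p0 : 0 < Nat.card P := Nat.card_pos
  haveI : Finite (MulAut P) := Nat.finite_of_card_ne_zero (by omega)
  have c1 : Nat.card A = 2 * Nat.card P := by rw [← N.index_mul_card, hN, Nat.card_congr e.toEquiv]
  have c2 : Nat.card B = 2 * Nat.card P := by rw [← N'.index_mul_card, hN', Nat.card_congr e'.toEquiv]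
  let I := (MulAut.conj : P →* MulAut P).range
  haveI : I.Normal := ⟨by
    rintro _ ⟨x, rfl⟩ g
    exact ⟨g x, by ext; simp⟩⟩
  have le : I ≤ α'.range := by
    rintro _ ⟨x, rfl⟩
    obtain ⟨n, rfl⟩ := e'.surjective x
    exact ⟨n, a2 n⟩
  have ix : (α'.range.map (QuotientGroup.mk' I)).index = 3 := by
    rw [index_map_eq _ (QuotientGroup.mk'_surjective I) (by rwa [QuotientGroup.ker_mk'])]
    have := α'.range.index_mul_card
    rw [← Nat.card_congr (MonoidHom.ofInjective i2).toEquiv, c2, hP] at this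
    nlinarith
  obtain ⟨h, hh⟩ := index_eq_two_iff'.1 hN
  obtain ⟨s, -, hs⟩ := exists_conj_mem (S := ⊤) (T := α'.range.map (QuotientGroup.mk' I)) Nat.prime_two
    (mem_top (QuotientGroup.mk' I (α h))) (by
      rw [← map_pow, ← map_pow, QuotientGroup.mk'_apply, QuotientGroup.eq_one_iff]
      exact ⟨_, (a1 ⟨_, sq_mem_of_index_two hN h⟩).symm⟩) (by rw [relIndex_top_right, ix]; norm_num)
  obtain ⟨s, rfl⟩ := QuotientGroup.mk'_surjective I s
  rw [← map_inv, ← map_mul, ← map_mul, ← mem_comap, comap_map_eq_self (by rwa [QuotientGroup.ker_mk'])] at hs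
  have m0 : ∀ x ∈ N, s⁻¹ * α x * s ∈ α'.range := fun x hx =>
    le (by simpa using (inferInstance : I.Normal).conj_mem _ ⟨_, (a1 ⟨x, hx⟩).symm⟩ s⁻¹)
  have m : ∀ x, ((MulAut.conj s⁻¹).toMonoidHom.comp α) x ∈ α'.range := fun x => by
    show s⁻¹ * α x * s⁻¹⁻¹ ∈ _
    rw [inv_inv]
    rcases hh x with ⟨a, -⟩ | ⟨a, -⟩
    · have := mul_mem (inv_mem hs) (m0 _ a)
      rwa [map_mul, show (s⁻¹ * α h * s)⁻¹ * (s⁻¹ * (α h * α x) * s) = s⁻¹ * α x * s by group] at this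
    · exact m0 x a
  let ψ : A →* B := (MonoidHom.ofInjective i2).symm.toMonoidHom.comp (MonoidHom.codRestrict _ _ m)
  have inj : Function.Injective ψ := (MonoidHom.ofInjective i2).symm.injective.comp fun x y q =>
    i1 ((MulAut.conj s⁻¹).injective (congrArg Subtype.val q))
  exact ⟨MulEquiv.ofBijective ψ (inj.bijective_of_nat_card_le (by omega))⟩

theorem orbit_map {G G' : Type*} [Group G] [Group G'] (e : G ≃* G') (H : Subgroup G) (q : G ⧸ H) :
    ∃ q' : G' ⧸ H.map e.toMonoidHom, (MulAction.orbit (H.map e.toMonoidHom) q').ncard = (MulAction.orbit H q).ncard := by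
  let f : G ⧸ H → G' ⧸ H.map e.toMonoidHom := Quotient.map' e fun a b h => by
    rw [QuotientGroup.leftRel_apply] at h ⊢
    exact ⟨_, h, by simp⟩
  have fm : ∀ g : G, f (g : G ⧸ H) = (e g : G' ⧸ H.map e.toMonoidHom) := fun _ => rfl
  have inj : Function.Injective f := fun a b h => by
    induction a using QuotientGroup.induction_on
    induction b using QuotientGroup.induction_on
    rw [fm, fm, QuotientGroup.eq, ← map_inv, ← map_mul] at h
    exact QuotientGroup.eq.2 ((mem_map_iff_mem e.injective).1 h)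
  refine ⟨f q, ?_⟩
  rw [← Set.ncard_image_of_injective _ inj]
  congr 1
  induction q using QuotientGroup.induction_on with | H g =>
  ext y
  constructor
  · rintro ⟨⟨_, x, hx, rfl⟩, rfl⟩
    exact ⟨_, ⟨⟨x, hx⟩, rfl⟩, (fm (x * g)).trans (by rw [map_mul]; rfl)⟩
  · rintro ⟨_, ⟨x, rfl⟩, rfl⟩
    exact ⟨⟨e x, x, x.2, rfl⟩, ((fm (x * g)).trans (by rw [map_mul]; rfl)).symm⟩

variable {G : Type} [Group G] [Finite G]

namespace St
variable {ρ : U →* G} {c : G} (h : St ρ c 3 0 0)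
include h

theorem b_cases {p : ℕ × ℕ} (hp : p ∈ reps) {b : G} (bb : b * b = 1) (bt : b * el ρ c 128 = el ρ c 128 * b)
    (h1 : el ρ c 16 * b * (el ρ c 16 * b) * (el ρ c 16 * b) = 1) (h2 : b * el ρ c p.2 = el ρ c p.2 * b)
    (h3 : b * el ρ c p.1 * (b * el ρ c p.1) * (b * el ρ c p.1) = 1) :
    ∃ j, p = (1, dj j) ∧ (b = v5 ρ c (bw j) ∨ b = el ρ c 16 * v5 ρ c (bw j) * el ρ c 16) := by
  obtain ⟨R, hR, hT⟩ := h.exRep
  have r : ∀ l, R (m8 l) (v5 ρ c l) := hR.ev1 hT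
  have r' : ∀ n, R (m8 (cw n)) (el ρ c n) := fun n => v5_cw ρ c n ▸ r _
  have k := cl_ok
  simp only [band_eq, Bool.and_eq_true, lall_iff, allN_iff, memL_iff] at k
  have cl : ∀ g ∈ gsub 5 (f5 ρ c), ∃ m ∈ CL, R m (g * el ρ c 16 * g⁻¹) := fun g hg => by
    rw [gsub, ← mem_toSubmonoid, closure_toSubmonoid_of_finite] at hg
    induction hg using Submonoid.closure_induction_left with
    | one => exact ⟨_, k.1, by simpa using r' 16⟩
    | mul_left x hx y _ ih =>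
      obtain ⟨m, hm, a⟩ := ih
      obtain ⟨i, hi, rfl⟩ := hx
      refine ⟨_, k.2 m hm i hi, ?_⟩
      have := hR.mul (hR.mul (hT (2 * i)) a) (hT (2 * i + 1))
      rw [atm_two_mul _ hi, atm_def, if_pos (by omega), if_neg (by omega), show (2 * i + 1) / 2 = i by omega] at this
      simpa only [_root_.mul_inv_rev, mul_assoc] using this
  obtain ⟨g, hg, e⟩ := conj_of_braid (H := centralizer {el ρ c 128})
    (mem_centralizer_singleton_iff.2 (h.el_cen (by omega))) (mem_centralizer_singleton_iff.2 bt) h.uu bb h1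
  obtain ⟨m, hm, a⟩ := cl g (h.gsub5.ge hg)
  rw [e] at a
  have cb : ∀ {m x}, R m x → x * x * x = 1 → ¬ A8.neq (cube m) A8.one = true := fun a q n =>
    hR.ne (hR.mul (hR.mul a a) a) hR.one n q
  have := (lall_iff _ _).1 b_ok m hm
  simp only [bor_iff, lall_iff, cb (hR.mul (r' 16) a) h1, false_or, Bool.false_eq_true] at this
  have fin : ∀ j, bOk j p m = true →
      ∃ j, p = (1, dj j) ∧ (b = v5 ρ c (bw j) ∨ b = el ρ c 16 * v5 ρ c (bw j) * el ρ c 16) := fun j q => by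
    simp only [bOk, band_eq, Bool.and_eq_true, bor_iff] at q
    exact ⟨j, Prod.ext (Nat.eq_of_beq_eq_true q.1) (Nat.eq_of_beq_eq_true q.2.1),
      q.2.2.imp (hR.beq a (r _)) (hR.beq a (hR.mul (hR.mul (r' 16) (r _)) (r' 16)))⟩
  rcases this p hp with q | q | q | q
  exacts [absurd h2 (hR.ne (hR.mul a (r' _)) (hR.mul (r' _) a) q), absurd q (cb (hR.mul a (r' _)) h3),
    fin _ q, fin _ q]

variable [IsSimpleGroup G]

theorem all_conj {s : G} (hs : orderOf s = 2) : ∃ g, g * s * g⁻¹ = el ρ c 128 := by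
  have C := h.cd0
  have o : orderOf (el ρ c 128) = 2 := orderOf_eq_prime (by rw [pow_two, h.tt]) h.t_ne
  have inn : ∀ y, ρ y * ρ y = 1 → ρ y ≠ 1 → IsConj (el ρ c 128) (ρ y) := fun y a1 a2 => by
    by_cases q : ρ y = el ρ c 128
    · rw [q]
    · obtain ⟨g, -, a⟩ := h.inn a1 a2 q
      exact h.u_conj.trans (isConj_iff.2 ⟨g, a⟩).symm
  obtain ⟨g, -, e⟩ := H8SE.one_class (H := ⊤) o (mem_top _) (fun s _ hs q => by
    have ss : s * s = 1 := by rw [← pow_two, ← hs, pow_orderOf_eq_one]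
    have s1 : s ≠ 1 := fun e => by rw [e, orderOf_one] at hs; omega
    suffices IsConj (el ρ c 128) s by simpa using this
    obtain ⟨g, n, hn, a1, a2⟩ := h.sylow ss q
    refine IsConj.trans ?_ (isConj_iff.2 ⟨g, a2⟩).symm
    have nn : el ρ c n * el ρ c n = 1 := by rw [← a2, conj_mul, ss]; simp
    have := (allN_iff _ _).1 (out_ok false) n hn
    simp only [bor_iff, Nat.blt_eq, anyN_iff, Nat.eq_of_beq_eq_true ((C.one_iff hn hn).2 nn)] at this
    rcases this with e | e | ⟨s, hs, e⟩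
    · rw [h.el_in e] at nn ⊢
      exact inn _ nn (by rw [← h.el_in e, ← a2, Ne, conj_eq_one_iff]; exact s1)
    · omega
    · rw [C.mul_iff hs (by decide) (C.lt hn hs), C.mul hn hs, ← mul_inv_eq_iff_eq_mul] at e
      obtain ⟨r, -, -, e', -⟩ := h.tuple false
      refine (IsConj.trans ?_ (isConj_iff.2 ⟨r, e'⟩)).trans (isConj_iff.2 ⟨_, e⟩)
      rw [h.el_in (n := 1) (by omega)]
      exact inn _ (by rw [← h.el_in (n := 1) (by omega)]; exact (C.one_iff (by omega) (by omega)).1 (by decide +kernel))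
        (by rw [← h.el_in (n := 1) (by omega)]; exact C.ne1 (by omega) (by omega))) s (mem_top _) hs
  exact ⟨g⁻¹, by rw [← e]; group⟩

theorem cen_triv {H : Subgroup G} {N : Subgroup H} [N.Normal] (hN : N.index = 2)
    (e : N ≃* ProjectiveSpecialLinearGroup (Fin 3) (ZMod 7)) (x : H) (hx : ∀ n ∈ N, x * n = n * x) : x = 1 := by
  haveI := Class.PSL_isSimpleGroup (ι := Fin 3) (F := ZMod 7) (by simp)
  haveI := e.isSimpleGroup
  have cN : Nat.card N = 1876896 := by rw [Nat.card_congr e.toEquiv, L37M.card]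
  have z : ∀ y ∈ N, (∀ n ∈ N, y * n = n * y) → y = 1 := fun y hy a => congrArg Subtype.val
    (cen_bot (x := (⟨y, hy⟩ : N)) (by rw [cN]; norm_num) (mem_center_iff.2 fun n => Subtype.ext (a n n.2).symm))
  by_contra x1
  have xx := z _ (sq_mem_of_index_two hN x) fun n hn => (Commute.pow_left (hx n hn) 2).eq
  obtain ⟨g, hg⟩ := h.all_conj (s := x) (by rw [orderOf_coe]; exact orderOf_eq_prime xx x1)
  have : Nat.card N ∣ 161280 := by
    rw [← h.card, ← h.el_t]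
    refine card_dvd_of_injective (((MulAut.conj g).toMonoidHom.comp (H.subtype.comp N.subtype)).codRestrict _
      fun n => mem_centralizer_singleton_iff.2 ?_) fun a b q => Subtype.ext (Subtype.ext
        ((MulAut.conj g).injective (congrArg Subtype.val q)))
    rw [← hg]
    exact cj_comm.2 (congrArg Subtype.val (hx n n.2)).symm
  rw [cN] at this
  exact absurd this (by norm_num)

theorem conj_H {y : ℕ → G} (hy : Pres 6 6 ON5586.RL y) (h0 : y 0 ≠ 1) (h5 : y 5 ≠ 1) (h05 : y 0 ≠ y 5) :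
    ∃ φ : Cfsg.Spor.ON ≃* G, ∀ i < 6, φ (ONG.f i) = y i := by
  have W : ∀ (y : ℕ → G) (g : G), (∃ φ : Cfsg.Spor.ON ≃* G, ∀ i < 6, φ (ONG.f i) = g * y i * g⁻¹) →
      ∃ φ : Cfsg.Spor.ON ≃* G, ∀ i < 6, φ (ONG.f i) = y i := fun y g ⟨φ, hφ⟩ =>
    ⟨φ.trans (MulAut.conj g⁻¹), fun i hi => by simp [hφ i hi, mul_assoc]⟩
  have cm2 : ∀ {u v : G}, u * u = 1 → v * v = 1 → u * (v * (u * v)) = 1 → Commute u v := fun {u v} a1 a2 a3 => by
    have := eq_inv_of_mul_eq_one_left (show u * v * (u * v) = 1 by rw [← a3]; group)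
    rwa [_root_.mul_inv_rev, inv_eq_of_mul_eq_one_right a1, inv_eq_of_mul_eq_one_right a2] at this
  have E : ∀ y : ℕ → G, Pres 6 6 ON5586.RL y → (y 0 * y 1 * (y 0 * y 1) * (y 0 * y 1) = 1 ∧
      y 1 * y 2 * (y 1 * y 2) * (y 1 * y 2) = 1 ∧ y 4 * y 3 * (y 4 * y 3) * (y 4 * y 3) = 1 ∧
      y 5 * y 4 * (y 5 * y 4) * (y 5 * y 4) = 1 ∧ y 2 * y 3 * (y 2 * y 3) * (y 2 * y 3 * (y 2 * y 3)) = y 0 * y 5) ∧
      ∀ p ∈ [(0, 2), (0, 3), (0, 4), (0, 5), (1, 3), (1, 4), (1, 5), (2, 4), (2, 5), (3, 5)],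
        Commute (y p.1) (y p.2) := fun y hy => by
    have r := consAll_sound hy.ivOk hy.rel (L := [[0, 2, 0, 2, 0, 2], [2, 4, 2, 4, 2, 4], [8, 6, 8, 6, 8, 6],
      [10, 8, 10, 8, 10, 8], [4, 6, 4, 6, 4, 6, 4, 6, 10, 0]])
      (H := [([], 0, true), ([], 5, true), ([], 12, false), ([], 14, false), ([], 15, false)]) (by decide +kernel)
    simp only [List.mem_cons, List.not_mem_nil, or_false, forall_eq_or_imp, forall_eq, ev_cons, ev_nil, atm_def,
      mul_one, Nat.reduceDiv, Nat.reduceMod, Nat.reduceLT, if_true] at r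
    refine ⟨⟨by simpa only [mul_assoc] using r.1, by simpa only [mul_assoc] using r.2.1,
      by simpa only [mul_assoc] using r.2.2.1, by simpa only [mul_assoc] using r.2.2.2.1, ?_⟩, fun p hp => ?_⟩
    · rw [← mul_left_inj (y 5 * y 0), mul_assoc (y 0), ← mul_assoc (y 5), hy.sq 5 (by omega) (by omega), one_mul,
        hy.sq 0 (by omega) (by omega), ← r.2.2.2.2]
      group
    · have l := (by decide : ∀ p ∈ [(0, 2), (0, 3), (0, 4), (0, 5), (1, 3), (1, 4), (1, 5), (2, 4), (2, 5), (3, 5)],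
        p.1 < 6 ∧ p.2 < 6 ∧ [2 * p.1, 2 * p.2, 2 * p.1, 2 * p.2] ∈ ON5586.RL) p hp
      refine cm2 (hy.sq _ l.1 l.1) (hy.sq _ l.2.1 l.2.1) ?_
      simpa [atm_two_mul _ l.1, atm_two_mul _ l.2.1] using hy.rel _ l.2.2
  obtain ⟨g1, e1⟩ := h.all_conj (orderOf_eq_prime (by rw [pow_two, hy.sq 5 (by omega) (by omega)]) h5)
  refine W y g1 ?_
  replace hy : Pres 6 6 ON5586.RL fun i => g1 * y i * g1⁻¹ := hy.map (MulAut.conj g1).toMonoidHom
  replace h0 : g1 * y 0 * g1⁻¹ ≠ 1 := by simpa using h0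
  replace h05 : g1 * y 0 * g1⁻¹ ≠ el ρ c 128 := by rw [← e1]; simpa using h05
  generalize hy' : (fun i => g1 * y i * g1⁻¹) = y' at hy
  simp only [fun i => congrFun hy' i] at h0 h05 e1 ⊢
  clear hy' h5 y g1
  obtain ⟨⟨-, -, -, -, q⟩, cm⟩ := E y' hy
  obtain ⟨x, hx⟩ : ∃ x, y' 0 = ρ x := by
    have a : Commute (y' 2 * y' 3) (y' 5) := (cm (2, 5) (by simp)).mul_left (cm (3, 5) (by simp))
    obtain ⟨x, hx⟩ := h.sq_in (e1 ▸ (a.mul_left a).eq)
    exact ⟨x * (z ^ 2)⁻¹, by rw [map_mul, map_inv, map_pow, ← h.el_t, ← hx, q, e1, mul_inv_cancel_right]⟩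
  obtain ⟨g2, a2, e2⟩ := h.inn (y := x) (hx ▸ hy.sq 0 (by omega) (by omega)) (hx ▸ h0) (hx ▸ h05)
  rw [← hx] at e2
  have e2' : g2 * y' 5 * g2⁻¹ = el ρ c 128 := by rw [e1, a2, mul_inv_cancel_right]
  refine W y' g2 ?_
  replace hy : Pres 6 6 ON5586.RL fun i => g2 * y' i * g2⁻¹ := hy.map (MulAut.conj g2).toMonoidHom
  generalize hy' : (fun i => g2 * y' i * g2⁻¹) = y at hy
  simp only [fun i => congrFun hy' i] at e2 e2' ⊢
  clear hy' h0 h05 e1 q cm hx a2 y' g2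
  obtain ⟨⟨-, -, -, -, q⟩, cm⟩ := E y hy
  obtain ⟨g3, a3, p, hp, e3, e3'⟩ := h.pair_rep (x := y 2) (y := y 3)
    ⟨e2' ▸ (cm (2, 5) (by simp)).eq, e2 ▸ (cm (0, 2) (by simp)).symm.eq⟩
    ⟨e2' ▸ (cm (3, 5) (by simp)).eq, e2 ▸ (cm (0, 3) (by simp)).symm.eq⟩
    (hy.sq 2 (by omega) (by omega)) (hy.sq 3 (by omega) (by omega)) (by rw [q, e2, e2'])
  replace e2 : g3 * y 0 * g3⁻¹ = el ρ c 16 := by rw [e2, a3.2, mul_inv_cancel_right]
  replace e2' : g3 * y 5 * g3⁻¹ = el ρ c 128 := by rw [e2', a3.1, mul_inv_cancel_right]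
  refine W y g3 ?_
  replace hy : Pres 6 6 ON5586.RL fun i => g3 * y i * g3⁻¹ := hy.map (MulAut.conj g3).toMonoidHom
  generalize hy' : (fun i => g3 * y i * g3⁻¹) = y' at hy
  simp only [fun i => congrFun hy' i] at e2 e2' e3 e3' ⊢
  clear hy' q cm a3 y g3
  obtain ⟨⟨q1, q2, q3, q4, -⟩, cm⟩ := E y' hy
  obtain ⟨j, rfl, hb⟩ := h.b_cases hp (hy.sq 1 (by omega) (by omega)) (e2' ▸ (cm (1, 5) (by simp)).eq) (e2 ▸ q1)
    (e3' ▸ (cm (1, 3) (by simp)).eq) (e3 ▸ q2)
  obtain ⟨r, s1, s2, s3, s4, φ, hφ⟩ := h.tuple j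
  obtain ⟨ε, hε⟩ : ∃ ε, y' 4 = r * ε * r⁻¹ := ⟨r⁻¹ * y' 4 * r, by group⟩
  obtain ⟨j', ej, he⟩ := h.b_cases hp (b := ε)
    (by have := hy.sq 4 (by omega) (by omega); rwa [hε, conj_mul, conj_eq_one_iff] at this)
    (by rw [← cj_comm (g := r), s1, ← hε, ← e2]; exact (cm (0, 4) (by simp)).symm.eq)
    (by rwa [e2', ← s2, hε, conj_mul, conj_mul, conj_mul, conj_eq_one_iff] at q4)
    (by rw [← cj_comm (g := r), s4, ← hε, ← e3]; exact (cm (2, 4) (by simp)).symm.eq)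
    (by rwa [e3', ← s3, hε, conj_mul, conj_mul, conj_mul, conj_eq_one_iff] at q3)
  obtain rfl : j = j' := by revert ej; cases j <;> cases j' <;> decide
  have fx : ∀ {u v : G}, Commute u v → u * v * u⁻¹ = v := fun a => mul_inv_eq_iff_eq_mul.2 a.eq
  have i0 : (y' 0)⁻¹ = y' 0 := inv_eq_of_mul_eq_one_right (hy.sq 0 (by omega) (by omega))
  have i5 : (y' 5)⁻¹ = y' 5 := inv_eq_of_mul_eq_one_right (hy.sq 5 (by omega) (by omega))
  obtain ⟨u, u1, u2⟩ : ∃ u, u * y' 1 * u⁻¹ = v5 ρ c (bw j) ∧ ∀ i < 6, i ≠ 1 → Commute u (y' i) := by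
    rcases hb with a | a
    · exact ⟨1, by simp [a], fun _ _ _ => Commute.one_left _⟩
    · refine ⟨(y' 0)⁻¹, by rw [a, ← e2]; nth_rw 3 [← i0]; group, fun i hi h1 => Commute.inv_left ?_⟩
      interval_cases i
      exacts [Commute.refl _, absurd rfl h1, cm (0, 2) (by simp), cm (0, 3) (by simp), cm (0, 4) (by simp),
        cm (0, 5) (by simp)]
  obtain ⟨v, v1, v0, v2⟩ : ∃ v, v * y' 4 * v⁻¹ = r * v5 ρ c (bw j) * r⁻¹ ∧ Commute v (v5 ρ c (bw j)) ∧
      ∀ i < 6, i ≠ 4 → Commute v (y' i) := by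
    rcases he with a | a
    · exact ⟨1, by simp [a, hε], Commute.one_left _, fun _ _ _ => Commute.one_left _⟩
    · refine ⟨(y' 5)⁻¹, by
        rw [hε, a, show ∀ w : G, r * (el ρ c 16 * w * el ρ c 16) * r⁻¹ = y' 5 * (r * w * r⁻¹) * (y' 5)⁻¹ from
          fun w => by rw [i5, e2', ← s2]; group]; group,
        Commute.inv_left (e2' ▸ (h.bw_cen j).symm), fun i hi h1 => Commute.inv_left ?_⟩
      interval_cases i
      exacts [(cm (0, 5) (by simp)).symm, (cm (1, 5) (by simp)).symm, (cm (2, 5) (by simp)).symm,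
        (cm (3, 5) (by simp)).symm, absurd rfl h1, Commute.refl _]
  refine W y' (v * u) ⟨φ, fun i hi => ?_⟩
  rw [hφ i hi, show v * u * y' i * (v * u)⁻¹ = v * (u * y' i * u⁻¹) * v⁻¹ by group]
  interval_cases i
  exacts [by rw [fx (u2 0 hi (by omega)), fx (v2 0 hi (by omega)), e2]; rfl, by rw [u1, fx v0]; rfl,
    by rw [fx (u2 2 hi (by omega)), fx (v2 2 hi (by omega)), e3]; rfl,
    by rw [fx (u2 3 hi (by omega)), fx (v2 3 hi (by omega)), e3']; rfl,
    by rw [fx (u2 4 hi (by omega)), v1]; rfl, by rw [fx (u2 5 hi (by omega)), fx (v2 5 hi (by omega)), e2']; rfl]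

end St

theorem l37_conj {ρ : U →* Cfsg.Spor.ON} {c : Cfsg.Spor.ON} (h : St ρ c 3 0 0) {H : Subgroup Cfsg.Spor.ON}
    {N : Subgroup H} [N.Normal] (hN : N.index = 2) (e : N ≃* ProjectiveSpecialLinearGroup (Fin 3) (ZMod 7)) :
    ∃ φ : Cfsg.Spor.ON ≃* Cfsg.Spor.ON, ON122760.H.map φ.toMonoidHom = H := by
  haveI := ONG.simple
  have := S1693.result
  rw [ON122760.Heq] at this
  obtain ⟨N0, n0, h0, ⟨e0⟩⟩ := this
  obtain ⟨ψ⟩ := ext_iso h0 hN e0 e (h.cen_triv h0 e0) (h.cen_triv hN e) (by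
    rw [S0813.result 7 1 le_rfl (by simp) 3 (by omega) (by omega), Class.card_PGL_eq_card_SL,
      card_SL_eq (M := 5630688) (ZMod.card 7) (by decide +kernel), L37M.card]; rfl)
  let ι : gsub 6 ONG.g →* Cfsg.Spor.ON := H.subtype.comp ψ.toMonoidHom
  have inj : Function.Injective ι := H.subtype_injective.comp ψ.injective
  obtain ⟨r, -, -, -, -, φ0, hφ0⟩ := h.tuple false
  have ne : ∀ i < 6, ∀ j < 6, ι (lift _ ONG.g i) = ι (lift _ ONG.g j) → φ0 (ONG.f i) = φ0 (ONG.f j) :=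
    fun i hi j hj q => by
      have := congrArg Subtype.val (inj q)
      rw [lift_coe (mem_gsub _ hi), lift_coe (mem_gsub _ hj), ONG.g_eq i hi, ONG.g_eq j hj] at this
      rw [this]
  have ne1 : ∀ i < 6, ι (lift _ ONG.g i) = 1 → φ0 (ONG.f i) = 1 := fun i hi q => by
    have := congrArg Subtype.val ((map_eq_one_iff ι inj).1 q)
    rw [lift_coe (mem_gsub _ hi), ONG.g_eq i hi] at this
    rw [this, OneMemClass.coe_one, map_one]
  obtain ⟨φ, hφ⟩ := h.conj_H (ONG.presH.lift.map ι)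
    (fun q => h.cd.ne1 (n := 16) (by omega) (by omega) ((hφ0 0 (by omega)).symm.trans (ne1 0 (by omega) q)))
    (fun q => h.t_ne ((hφ0 5 (by omega)).symm.trans (ne1 5 (by omega) q)))
    (fun q => h.tu_ne ((hφ0 0 (by omega)).symm.trans ((ne 0 (by omega) 5 (by omega) q).trans (hφ0 5 (by omega)))))
  refine ⟨φ, ?_⟩
  rw [show ON122760.H = gsub 6 ONG.g from rfl, gsub_map' (φ := φ.toMonoidHom) (g := fun j => ι (lift _ ONG.g j))
    (fun j hj => by rw [ONG.g_eq j hj]; exact hφ j hj), ← gsub_map, gsub_lift, ← MonoidHom.range_eq_map]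
  show (H.subtype.comp ψ.toMonoidHom).range = H
  rw [MonoidHom.range_comp, MonoidHom.range_eq_top.2 ψ.surjective, ← MonoidHom.range_eq_map, range_subtype]

end Cfsg.Agent.H8On
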