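import Cfsg.Agent.Inv.R1e

/-! # `A₉` acting on an orthogonal space of dimension 8 over `F₂`: the dichotomy for the 3-cycles -/

set_option autoImplicit false
set_option linter.unusedVariables false
set_option linter.unusedSectionVars false

namespace Cfsg.Agent.H8Th
open Equiv Equiv.Perm

abbrev P9 := Perm (Fin 9)

def c3 (j : ℕ) : P9 := swap 8 7 * swap 8 (Fin.ofNat 9 j)

section
variable {V : Type*} [AddCommGroup V]

def bt (κ : V → ZMod 2) (u w : V) : ZMod 2 := κ (u + w) + κ u + κ w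

theorem bt_symm (κ : V → ZMod 2) (u w : V) : bt κ u w = bt κ w u := by
  rw [bt, bt, add_comm u w]; ring
end

structure QS (H V : Type*) [Group H] [AddCommGroup V] [DistribMulAction H V]
    (π : H →* P9) (κ : V → ZMod 2) : Prop where
  two : ∀ w : V, w + w = 0
  card : Nat.card V = 256
  surj : ∀ σ : P9, sign σ = 1 → ∃ h, π h = σ
  ker : ∀ h, π h = 1 ↔ ∀ w : V, h • w = w
  inv : ∀ (h : H) w, κ (h • w) = κ w
  add : ∀ u v w, bt κ (u + v) w = bt κ u w + bt κ v w
  nd : ∀ u, (∀ w, bt κ u w = 0) → u = 0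

variable {H V : Type*} [Group H] [AddCommGroup V] [DistribMulAction H V]

variable (V) in
/-- the commutator space of an element of order three -/
def WW (x : H) : AddSubgroup V where
  carrier := {w | x • x • w + x • w + w = 0}
  zero_mem' := by simp
  add_mem' {a b} ha hb := by
    simp only [Set.mem_setOf_eq, smul_add] at *
    linear_combination (norm := abel1) ha + hb
  neg_mem' {a} ha := by
    simp only [Set.mem_setOf_eq, smul_neg] at *
    linear_combination (norm := abel1) -ha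

variable (V) in
def FF (x : H) : AddSubgroup V where
  carrier := {w | x • w = w}
  zero_mem' := by simp
  add_mem' {a b} ha hb := by simp only [Set.mem_setOf_eq, smul_add] at *; rw [ha, hb]
  neg_mem' {a} ha := by simp only [Set.mem_setOf_eq, smul_neg] at *; rw [ha]

theorem mem_WW {x : H} {w : V} : w ∈ WW V x ↔ x • x • w + x • w + w = 0 := Iff.rfl
theorem mem_FF {x : H} {w : V} : w ∈ FF V x ↔ x • w = w := Iff.rfl

theorem zm2 : ∀ a : ZMod 2, a + a = 0 := by decide
theorem zm01 : ∀ a : ZMod 2, a = 0 ∨ a = 1 := by decide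

theorem three_conj {σ τ : P9} (h1 : σ.IsThreeCycle) (h2 : τ.IsThreeCycle) :
    ∃ ρ : P9, sign ρ = 1 ∧ ρ * σ * ρ⁻¹ = τ := by
  obtain ⟨ρ, h⟩ := isConj_iff.1 (alternatingGroup.isThreeCycle_isConj (α := Fin 9) (by simp)
    (σ := ⟨σ, h1.mem_alternatingGroup⟩) (τ := ⟨τ, h2.mem_alternatingGroup⟩) h1 h2)
  exact ⟨ρ, ρ.2, congrArg Subtype.val h⟩

namespace QS
variable {π : H →* P9} {κ : V → ZMod 2} (S : QS H V π κ)
include S

theorem fin : Finite V := Nat.finite_of_card_ne_zero (by rw [S.card]; norm_num)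
theorem eq_of {u w : V} (h : u + w = 0) : u = w := by
  rw [← add_zero u, ← S.two w, ← add_assoc, h, zero_add]
theorem act {g h : H} (e : π g = π h) (w : V) : g • w = h • w := by
  have := (S.ker (h⁻¹ * g)).1 (by rw [map_mul, map_inv, e, inv_mul_cancel]) w
  rwa [mul_smul, inv_smul_eq_iff] at this
theorem bt0 (w : V) : bt κ 0 w = 0 := by
  have := S.add 0 0 w; rw [add_zero] at this; rw [this, zm2]
theorem k0 : κ 0 = 0 := by
  have := S.bt0 0; rwa [bt, add_zero, zm2, zero_add] at this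
theorem btself (w : V) : bt κ w w = 0 := by rw [bt, S.two, S.k0, zero_add, zm2]
theorem add' (u v w : V) : bt κ w (u + v) = bt κ w u + bt κ w v := by
  rw [bt_symm, S.add, bt_symm, bt_symm κ v]
theorem btinv (h : H) (u w : V) : bt κ (h • u) (h • w) = bt κ u w := by
  rw [bt, bt, ← smul_add, S.inv, S.inv, S.inv]
theorem kadd (u w : V) : κ (u + w) = κ u + κ w + bt κ u w := by
  rw [bt]; linear_combination (-1 : ZMod 2) * (zm2 (κ u) + zm2 (κ w))

theorem powact {x : H} {n : ℕ} (hx : π x ^ n = 1) (w : V) : x ^ n • w = w :=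
  (S.ker _).1 (by rw [map_pow, hx]) w

section
variable {x : H} (hx : π x ^ 3 = 1)
include hx
theorem cube (w : V) : x • x • x • w = w := by
  have := S.powact hx w; rwa [pow_three, mul_smul, mul_smul] at this
theorem memW (w : V) : x • w + w ∈ WW V x := by
  rw [mem_WW, smul_add, smul_add, S.cube hx]
  linear_combination (norm := abel1) S.two w + S.two (x • w) + S.two (x • x • w)
theorem smulW {w : V} (h : w ∈ WW V x) : x • w ∈ WW V x := by
  rw [mem_WW, ← smul_add, ← smul_add, mem_WW.1 h, smul_zero]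
theorem dec (w : V) : ∃ f ∈ FF V x, ∃ a ∈ WW V x, w = f + a := by
  refine ⟨x • x • w + x • w + w, ?_, _, S.memW hx (x • w), ?_⟩
  · rw [mem_FF, smul_add, smul_add, S.cube hx]; abel
  · linear_combination (norm := abel1) -S.two (x • w) - S.two (x • x • w)
omit hx in
theorem disj {w : V} (h1 : w ∈ WW V x) (h2 : w ∈ FF V x) : w = 0 := by
  rw [mem_WW, mem_FF.1 h2, mem_FF.1 h2, S.two, zero_add] at h1; exact h1
omit hx in
theorem orth {w f : V} (h1 : w ∈ WW V x) (h2 : f ∈ FF V x) : bt κ w f = 0 := by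
  have e : ∀ u, bt κ (x • u) f = bt κ u f := fun u => by rw [← S.btinv x u f, mem_FF.1 h2]
  have := S.bt0 f
  rwa [← mem_WW.1 h1, S.add, S.add, e, e, zm2, zero_add] at this
theorem cardWF : Nat.card (WW V x) * Nat.card (FF V x) = 256 := by
  let P : V →+ V := (DistribSMul.toAddMonoidHom V x).comp (DistribSMul.toAddMonoidHom V x) +
    DistribSMul.toAddMonoidHom V x + AddMonoidHom.id V
  have e : ∀ w, P w = x • x • w + x • w + w := fun w => rfl
  have e1 : P.ker = WW V x := by ext w; rw [AddMonoidHom.mem_ker, e, mem_WW]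
  have e2 : P.range = FF V x := by
    ext w; constructor
    · rintro ⟨u, rfl⟩; rw [e, mem_FF, smul_add, smul_add, S.cube hx]; abel
    · intro h; exact ⟨w, by rw [e, mem_FF.1 h, mem_FF.1 h, S.two, zero_add]⟩
  rw [← e1, ← e2, ← AddSubgroup.index_ker, AddSubgroup.card_mul_index, S.card]
theorem modW {X : Set V} (h1 : X ⊆ WW V x) (h2 : ∀ w ∈ X, x • w ∈ X) (h0 : 0 ∉ X) : 3 ∣ X.ncard := by
  haveI := S.fin
  have := Inv.ncard_modEq (X := X) (Set.toFinite _) (f := fun w => x • w) h2 Nat.prime_three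
    fun w _ => S.cube hx w
  rw [show {y ∈ X | x • y = y} = ∅ from Set.eq_empty_of_forall_notMem fun y hy =>
    h0 (S.disj (h1 hy.1) hy.2 ▸ hy.1), Set.ncard_empty] at this
  exact (Nat.modEq_zero_iff_dvd).1 this
end

theorem ncard_sub (W : AddSubgroup V) : Nat.card W = ((W : Set V) \ {0}).ncard + 1 ∧ Nat.card W ∣ 256 := by
  haveI := S.fin
  refine ⟨?_, S.card ▸ W.card_addSubgroup_dvd_card⟩
  rw [Set.ncard_diff_singleton_add_one W.zero_mem]; rfl

theorem z15 {x f : H} (hx : π x ^ 3 = 1) (hf : π f ^ 5 = 1) (c : π x * π f = π f * π x) :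
    WW V x = ⊤ ∨ ∀ w ∈ WW V x, f • w = w := by
  haveI := S.fin
  have cm : ∀ w : V, x • f • w = f • x • w := fun w => by
    rw [← mul_smul, ← mul_smul]; exact S.act (by rw [map_mul, map_mul, c]) w
  have f5 : ∀ w : V, f • f • f • f • f • w = w := fun w => by
    have := S.powact hf w; simpa [pow_succ, mul_smul] using this
  have fW : ∀ w ∈ WW V x, f • w ∈ WW V x := fun w h => by
    rw [mem_WW, cm, cm, ← smul_add, ← smul_add, mem_WW.1 h, smul_zero]
  let P : V →+ V := ⟨⟨fun w => f • f • f • f • w + f • f • f • w + f • f • w + f • w + w, by simp⟩,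
    fun a b => by simp only [smul_add]; abel⟩
  have e : ∀ w, P w = f • f • f • f • w + f • f • f • w + f • f • w + f • w + w := fun w => rfl
  have Pf : ∀ w, f • P w = P w := fun w => by simp only [e, smul_add, f5]; abel
  have Pf' : ∀ w, P (f • w) = P w := fun w => by simp only [e, f5]; abel
  have P1 : ∀ w, f • w = w → P w = w := fun w h => by
    simp only [e, h]; rw [S.two, zero_add, S.two, zero_add]
  let W : AddSubgroup V := WW V x ⊓ P.ker
  have m3 : ∀ X ⊆ (W : Set V) \ {0}, (∀ w ∈ X, x • w ∈ X) → (∀ w ∈ X, f • w ∈ X) → 15 ∣ X.ncard := by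
    intro X h1 h2 h3
    have d3 := S.modW hx (fun w h => (h1 h).1.1) h2 fun h => (h1 h).2 rfl
    have := Inv.ncard_modEq (X := X) (Set.toFinite _) (f := fun w => f • w) h3 Nat.prime_five
      fun w _ => f5 w
    rw [show {y ∈ X | f • y = y} = ∅ from Set.eq_empty_of_forall_notMem fun y hy =>
      (h1 hy.1).2 ((P1 y hy.2).symm.trans (h1 hy.1).1.2), Set.ncard_empty] at this
    have := (Nat.modEq_zero_iff_dvd).1 this
    omega
  have xW : ∀ w ∈ (W : Set V) \ {0}, x • w ∈ (W : Set V) \ {0} := fun w h =>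
    ⟨⟨S.smulW hx h.1.1, by
      have : P w = 0 := h.1.2
      show P _ = 0
      rw [show P (x • w) = x • P w by simp only [e, smul_add, cm], this, smul_zero]⟩,
      fun e => h.2 ((smul_eq_zero_iff_eq x).1 e)⟩
  have fW' : ∀ w ∈ (W : Set V) \ {0}, f • w ∈ (W : Set V) \ {0} := fun w h =>
    ⟨⟨fW w h.1.1, (Pf' w).trans h.1.2⟩, fun e => h.2 ((smul_eq_zero_iff_eq f).1 e)⟩
  obtain ⟨c1, c2⟩ := S.ncard_sub W
  have d := m3 _ le_rfl xW fW'
  have : Nat.card W = 1 ∨ Nat.card W = 16 ∨ Nat.card W = 256 := by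
    have h1 : 15 ∣ Nat.card W - 1 := by rwa [c1, Nat.add_sub_cancel]
    have h2 := Nat.mem_divisors.2 ⟨c2, by norm_num⟩
    revert h1 h2; generalize Nat.card W = n; revert n
    intro n h1 h2
    have : ∀ n ∈ Nat.divisors 256, 15 ∣ n - 1 → n = 1 ∨ n = 16 ∨ n = 256 := by decide +kernel
    exact this n h2 h1
  rcases this with h | h | h
  · refine .inr fun w hw => S.eq_of ?_
    have : f • w + w ∈ W := ⟨add_mem (fW w hw) hw, by
      show P _ = 0
      rw [map_add, Pf', S.two]⟩
    rwa [AddSubgroup.eq_bot_of_card_eq W h] at this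
  · exfalso
    have hle : {w ∈ (W : Set V) \ {0} | κ w = 1}.ncard ≤ ((W : Set V) \ {0}).ncard :=
      Set.ncard_le_ncard (Set.sep_subset _ _)
    have d1 := m3 {w ∈ (W : Set V) \ {0} | κ w = 1} (Set.sep_subset _ _)
      (fun w h => ⟨xW w h.1, (S.inv _ _).trans h.2⟩) fun w h => ⟨fW' w h.1, (S.inv _ _).trans h.2⟩
    have ex : ∀ l : Finset V, l.card < 16 → ∃ w ∈ W, w ∉ l := fun l hl => by
      by_contra n
      push Not at n
      have := Set.ncard_le_ncard (s := (W : Set V)) (t := l) n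
      rw [Set.ncard_coe_finset, show (W : Set V).ncard = Nat.card W from rfl] at this
      omega
    by_cases z : {w ∈ (W : Set V) \ {0} | κ w = 1}.ncard = 0
    · rw [Set.ncard_eq_zero] at z
      have k : ∀ w ∈ W, κ w = 0 := fun w hw => by
        by_cases e0 : w = 0
        · rw [e0, S.k0]
        · exact (zm01 _).resolve_right fun e1 => Set.notMem_empty w (z ▸ ⟨⟨hw, e0⟩, e1⟩)
      obtain ⟨w, hw, n⟩ := ex {0} (by simp)
      refine n (Finset.mem_singleton.2 (S.nd w fun y => ?_))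
      obtain ⟨y0, h0, a, ha, rfl⟩ := S.dec hx y
      have Pa : P a ∈ WW V x := by
        rw [e]; repeat first | exact ha | apply fW | apply add_mem
      have m : a + P a ∈ W := ⟨add_mem ha Pa, by
        show P _ = 0
        rw [map_add, P1 _ (Pf a), S.two]⟩
      have o2 : bt κ w (P a) = 0 := by
        have e' : ∀ u, bt κ (f • u) (P a) = bt κ u (P a) := fun u => by rw [← S.btinv f u, Pf]
        have := S.bt0 (P a)
        rw [← show P w = 0 from hw.2, e] at this
        simp only [S.add, e'] at this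
        rwa [zm2, zero_add, zm2, zero_add] at this
      rw [S.add', S.orth hw.1 h0, zero_add, show a = a + P a + P a by rw [add_assoc, S.two, add_zero],
        S.add', o2, add_zero, bt, k _ hw, k _ m, k _ (add_mem hw m)]
      rfl
    · have z1 : {w ∈ (W : Set V) \ {0} | κ w = 1} = (W : Set V) \ {0} :=
        Set.eq_of_subset_of_ncard_le (Set.sep_subset _ _) (by omega)
      have k : ∀ w ∈ W, w ≠ 0 → κ w = 1 := fun w h1 h2 =>
        (show w ∈ {w ∈ (W : Set V) \ {0} | κ w = 1} from z1.symm ▸ ⟨h1, h2⟩).2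
      have b : ∀ u ∈ W, ∀ w ∈ W, u ≠ 0 → w ≠ 0 → u ≠ w → bt κ u w = 1 := fun u h1 w h2 n1 n2 n3 => by
        rw [bt, k _ h1 n1, k _ h2 n2, k _ (add_mem h1 h2) fun e => n3 (S.eq_of e)]; rfl
      classical
      obtain ⟨u, hu, n1⟩ := ex {0} (by simp)
      obtain ⟨v, hv, n2⟩ := ex {0, u} (Finset.card_le_two.trans_lt (by norm_num))
      obtain ⟨w, hw, n3⟩ := ex {0, u, v, u + v} (Finset.card_le_four.trans_lt (by norm_num))
      simp only [Finset.mem_insert, Finset.mem_singleton, not_or] at n1 n2 n3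
      have := S.add v w u
      rw [b v hv u hu n2.1 n1 n2.2, b w hw u hu n3.1 n1 n3.2.1, b _ (add_mem hv hw) u hu
        (fun e => n3.2.2.1 (S.eq_of e).symm) n1 fun e => n3.2.2.2 (by
          rw [← e, add_comm v, add_assoc, S.two, add_zero])] at this
      exact absurd this (by decide)
  · left
    rw [eq_top_iff, ← AddSubgroup.eq_top_of_card_eq W (h.trans S.card.symm)]
    exact inf_le_left

theorem cardW_conj {x y : H} (hx : (π x).IsThreeCycle) (hy : (π y).IsThreeCycle) :
    Nat.card (WW V x) = Nat.card (WW V y) := by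
  obtain ⟨ρ, h1, h2⟩ := three_conj hx hy
  obtain ⟨g, rfl⟩ := S.surj ρ h1
  have e : ∀ w : V, y • g • w = g • x • w := fun w => by
    rw [← mul_smul, ← mul_smul]; exact S.act (by rw [map_mul, map_mul, ← h2]; group) w
  refine Nat.card_congr ((MulAction.toPerm g : Perm V).subtypeEquiv fun w => ?_)
  rw [mem_WW, mem_WW, MulAction.toPerm_apply, e, e, ← smul_add g, ← smul_add g, smul_eq_zero_iff_eq]

theorem dich : (∀ x, (π x).IsThreeCycle → WW V x = ⊤) ∨
    ((∀ x, (π x).IsThreeCycle → Nat.card (WW V x) = 4) ∧ ∀ x f, (π x).IsThreeCycle → π f ^ 5 = 1 →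
      π x * π f = π f * π x → ∀ w ∈ WW V x, f • w = w) := by
  haveI := S.fin
  have p3 : ∀ x, (π x).IsThreeCycle → π x ^ 3 = 1 := fun x h => h.orderOf ▸ pow_orderOf_eq_one _
  by_cases h : ∃ x, (π x).IsThreeCycle ∧ WW V x = ⊤
  · obtain ⟨x, hx, e⟩ := h
    exact .inl fun y hy => AddSubgroup.eq_top_of_card_eq _ (by
      rw [S.cardW_conj hy hx, e, AddSubgroup.card_top])
  push Not at h
  have h5 : ∀ x f, (π x).IsThreeCycle → π f ^ 5 = 1 → π x * π f = π f * π x →
      ∀ w ∈ WW V x, f • w = w := fun x f h1 h2 h3 => (S.z15 (p3 x h1) h2 h3).resolve_left (h x h1)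
  refine .inr ⟨?_, h5⟩
  have fix : ∀ x y (σ τ : P9), (π x).IsThreeCycle → sign σ = 1 → sign τ = 1 → σ ^ 5 = 1 → τ ^ 5 = 1 →
      π x * σ = σ * π x → π x * τ = τ * π x → π y = σ * τ → WW V x ≤ FF V y := by
    intro x y σ τ h1 h2 h3 h4 h4' h6 h7 h8 w hw
    obtain ⟨f, rfl⟩ := S.surj σ h2
    obtain ⟨g, rfl⟩ := S.surj τ h3
    rw [mem_FF, S.act (h8.trans (map_mul π f g).symm), mul_smul, h5 x g h1 h4' h7 w hw, h5 x f h1 h4 h6 w hw]
  obtain ⟨x1, e1⟩ := S.surj (swap 0 1 * swap 0 2) (by decide)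
  obtain ⟨x2, e2⟩ := S.surj (swap 3 4 * swap 3 5) (by decide)
  obtain ⟨x3, e3⟩ := S.surj (swap 6 7 * swap 6 8) (by decide)
  have t1 : (π x1).IsThreeCycle := e1 ▸ isThreeCycle_swap_mul_swap_same (by decide) (by decide) (by decide)
  have t2 : (π x2).IsThreeCycle := e2 ▸ isThreeCycle_swap_mul_swap_same (by decide) (by decide) (by decide)
  have t3 : (π x3).IsThreeCycle := e3 ▸ isThreeCycle_swap_mul_swap_same (by decide) (by decide) (by decide)
  have f12 := fix x1 x2 (swap 3 5 * swap 3 4 * swap 3 6 * swap 3 7) (swap 3 7 * swap 3 6 * swap 3 5 * swap 3 4) t1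
    (by decide) (by decide) (by decide +kernel) (by decide +kernel) (by rw [e1]; decide +kernel)
    (by rw [e1]; decide +kernel) (by rw [e2]; decide +kernel)
  have f13 := fix x1 x3 (swap 6 8 * swap 6 7 * swap 6 3 * swap 6 4) (swap 6 4 * swap 6 3 * swap 6 8 * swap 6 7) t1
    (by decide) (by decide) (by decide +kernel) (by decide +kernel) (by rw [e1]; decide +kernel)
    (by rw [e1]; decide +kernel) (by rw [e3]; decide +kernel)
  have f23 := fix x2 x3 (swap 6 8 * swap 6 7 * swap 6 0 * swap 6 1) (swap 6 1 * swap 6 0 * swap 6 8 * swap 6 7) t2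
    (by decide) (by decide) (by decide +kernel) (by decide +kernel) (by rw [e2]; decide +kernel)
    (by rw [e2]; decide +kernel) (by rw [e3]; decide +kernel)
  have inj : Function.Injective fun p : WW V x1 × WW V x2 × WW V x3 => (p.1 + p.2.1 + p.2.2 : V) := by
    rintro ⟨⟨a, ha⟩, ⟨b, hb⟩, c, hc⟩ ⟨⟨a', ha'⟩, ⟨b', hb'⟩, c', hc'⟩ e
    simp only at e
    have ec : c - c' = 0 := S.disj (sub_mem hc hc') (by
      rw [show c - c' = a' - a + (b' - b) by linear_combination (norm := abel1) e]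
      exact add_mem (f13 (sub_mem ha' ha)) (f23 (sub_mem hb' hb)))
    have eb : b - b' = 0 := S.disj (sub_mem hb hb') (by
      rw [show b - b' = a' - a by linear_combination (norm := abel1) e - ec]
      exact f12 (sub_mem ha' ha))
    rw [sub_eq_zero] at ec eb
    subst ec eb
    obtain rfl : a = a' := by simpa using e
    rfl
  have le := Nat.card_le_card_of_injective _ inj
  rw [Nat.card_prod, Nat.card_prod, S.cardW_conj t2 t1, S.cardW_conj t3 t1, S.card] at le
  obtain ⟨c1, c2⟩ := S.ncard_sub (WW V x1)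
  have d := S.modW (p3 x1 t1) (X := (WW V x1 : Set V) \ {0}) (fun w h => h.1)
    (fun w h => ⟨S.smulW (p3 x1 t1) h.1, fun e => h.2 ((smul_eq_zero_iff_eq x1).1 e)⟩) fun h => h.2 rfl
  have n1 : Nat.card (WW V x1) ≠ 1 := fun e => t1.ne_one ((S.ker x1).2 fun w => S.eq_of (by
    have := S.memW (p3 x1 t1) w
    rwa [AddSubgroup.eq_bot_of_card_eq _ e] at this))
  have : ∀ n ∈ Nat.divisors 256, 3 ∣ n - 1 → n * (n * n) ≤ 256 → n ≠ 1 → n = 4 := by decide +kernel
  intro x hx
  rw [S.cardW_conj hx t1]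
  exact this _ (Nat.mem_divisors.2 ⟨c2, by norm_num⟩) (by rwa [c1, Nat.add_sub_cancel]) le n1

end QS
end Cfsg.Agent.H8Th
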