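import Cfsg.Agent.H8.ThA

/-! # The spin module of `A₉` over `F₂` -/

set_option autoImplicit false
set_option linter.unusedVariables false
set_option linter.unusedSectionVars false
set_option maxRecDepth 100000

namespace Cfsg.Agent.H8Th
open Equiv Equiv.Perm

/-- the product of the members of a list selected by the binary digits of `n` -/
def qw {G : Type*} [Monoid G] : List G → ℕ → G
  | [], _ => 1
  | g :: L, n => (if n % 2 = 1 then g else 1) * qw L (n / 2)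

def cmb {G : Type*} [AddMonoid G] : List G → ℕ → G
  | [], _ => 0
  | g :: L, n => (if n % 2 = 1 then g else 0) + cmb L (n / 2)

def app : List ℕ → ℕ → ℕ
  | [], _ => 0
  | t :: T, n => (if n % 2 = 1 then t else 0) ^^^ app T (n / 2)

theorem qw_map {G K F : Type*} [Monoid G] [Monoid K] [FunLike F G K] [MonoidHomClass F G K] (f : F)
    (L : List G) (n : ℕ) : f (qw L n) = qw (L.map f) n := by
  induction L generalizing n with
  | nil => exact map_one f
  | cons g L ih => rw [qw, map_mul, ih, List.map_cons, qw]; split_ifs <;> simp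

theorem cmb_map {G K : Type*} [AddMonoid G] [AddMonoid K] (f : G →+ K)
    (L : List G) (n : ℕ) : f (cmb L n) = cmb (L.map f) n := by
  induction L generalizing n with
  | nil => exact map_zero f
  | cons g L ih => rw [cmb, map_add, ih, List.map_cons, cmb]; split_ifs <;> simp

theorem qw_zero {G : Type*} [Monoid G] (L : List G) : qw L 0 = 1 := by
  induction L with
  | nil => rfl
  | cons g L ih => simp [qw, ih]

theorem cmb_zero {G : Type*} [AddMonoid G] (L : List G) : cmb L 0 = 0 := by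
  induction L with
  | nil => rfl
  | cons g L ih => simp [cmb, ih]

theorem cmb_pow {G : Type*} [AddMonoid G] (L : List G) (k : ℕ) : cmb L (2 ^ k) = L.getD k 0 := by
  induction L generalizing k with
  | nil => rfl
  | cons g L ih =>
    cases k with
    | zero => simp [cmb, cmb_zero]
    | succ k => rw [cmb, pow_succ, Nat.mul_div_cancel _ two_pos, ih, Nat.mul_mod_left]; simp

macro "ch2" : tactic => `(tactic| (refine (one_smul (ZMod 2) _).symm.trans (Eq.trans ?_ (one_smul (ZMod 2) _)); match_scalars <;> decide))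

section
variable {V : Type*} [AddCommGroup V] (two : ∀ w : V, w + w = 0)
include two

theorem cmb_xor (L : List V) (n m : ℕ) : cmb L (n ^^^ m) = cmb L n + cmb L m := by
  induction L generalizing n m with
  | nil => exact (add_zero _).symm
  | cons g L ih =>
    rw [cmb, cmb, cmb, Nat.xor_div_two, ih, add_add_add_comm]
    congr 1
    simp only [Nat.xor_mod_two_eq_one]
    by_cases a : n % 2 = 1 <;> by_cases b : m % 2 = 1 <;> simp [a, b, two]

theorem cmb_app (B : List V) (T : List ℕ) (n : ℕ) : cmb B (app T n) = cmb (T.map (cmb B)) n := by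
  induction T generalizing n with
  | nil => exact cmb_zero B
  | cons t T ih => rw [app, cmb_xor two, ih, List.map_cons, cmb]; split_ifs <;> simp [cmb_zero]

theorem cmb_tab {B : List V} {T : List ℕ} {f : V →+ V} (h : B.map f = T.map (cmb B)) (n : ℕ) :
    f (cmb B n) = cmb B (app T n) := by rw [cmb_map, cmb_app two, h]

theorem cmb_surj (hc : Nat.card V = 256) {B : List V} (h : ∀ n < 256, cmb B n = 0 → n = 0) (w : V) :
    ∃ n < 256, cmb B n = w := by
  haveI : Finite V := Nat.finite_of_card_ne_zero (by rw [hc]; norm_num)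
  have : Function.Bijective fun n : Fin 256 => cmb B n := by
    refine (Nat.bijective_iff_injective_and_card _).2 ⟨fun n m e => Fin.ext (Nat.eq_of_xor_eq_zero
      (h _ (Nat.xor_lt_two_pow (n := 8) n.2 m.2) ?_)), by rw [hc]; simp⟩
    rw [cmb_xor two, show cmb B n = cmb B m from e, two]
  obtain ⟨n, e⟩ := this.2 w
  exact ⟨n, n.2, e⟩
end

def MS : List (List ℕ) := [[2, 3, 12, 4, 48, 16, 128, 192], [6, 10, 13, 2, 112, 128, 144, 160], [22, 42, 76, 128, 113, 130, 132, 136], [18, 34, 77, 130, 49, 2, 148, 168], [20, 43, 69, 134, 80, 144, 16, 224], [4, 11, 5, 6, 81, 146, 20, 232], [16, 35, 68, 132, 17, 18, 4, 200]]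
def TE : List (List ℕ) := [[0, 1, 0, 4, 0, 16, 0, 64], [0, 0, 1, 2, 0, 0, 16, 32], [0, 0, 0, 0, 1, 2, 4, 8],
  [2, 0, 8, 0, 32, 0, 128, 0], [4, 8, 0, 0, 64, 128, 0, 0], [16, 32, 64, 128, 0, 0, 0, 0]]
def appw (M : List (List ℕ)) (w : List ℕ) (n : ℕ) : ℕ := w.foldr (fun i => app (M.getD i [])) n
def OW : List (List ℕ) := [[], [], [0], [0, 0], [5], [5, 5], [1], [1, 1], [1, 1, 0], [5, 5, 0], [1, 0], [5, 0], [0, 5], [1, 5], [5, 1], [0, 1], [6], [6, 6], [3], [3, 3], [4], [4, 4], [2], [2, 2], [6, 4, 3], [4, 4, 0], [4, 0, 3], [5, 0, 0], [6, 1, 4], [0, 1, 1], [3, 0], [2, 2], [3, 3, 0], [6, 6, 0], [3, 0], [6, 0], [5, 2, 4], [0, 3, 3], [2, 0], [1, 1], [2, 2, 0], [4, 4, 0], [2, 0], [4, 0], [5, 6, 1], [6, 6, 0], [6, 0, 1], [4, 0, 0], [0, 6], [3, 6], [6, 3], [0, 3], [4, 5, 2], [5, 5, 0], [5, 0, 2], [6, 0, 0], [6, 1, 5], [0, 2, 2], [1, 0], [3, 3], [0, 4], [2, 4], [4, 2], [0, 2], [5, 5, 4], [6, 6, 4], [3, 4], [0, 0], [6, 5], [4,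 5], [3, 6, 1], [2, 2, 4], [3, 3, 2], [5, 5, 2], [4, 5, 0], [1, 1, 2], [2, 5], [3, 5], [1, 4, 0], [2, 3, 3], [4, 6], [5, 6], [3, 1, 2], [6, 4, 4], [5, 4], [6, 4], [2, 3, 1], [4, 5, 5], [4, 2], [6, 6], [5, 3], [2, 3], [4, 0, 1], [5, 2, 2], [3, 2], [5, 2], [2, 2, 1], [6, 6, 1], [5, 6, 0], [3, 3, 1], [5, 0, 3], [6, 1, 1], [2, 1], [6, 1], [4, 4, 1], [3, 3, 1], [6, 4, 0], [2, 2, 3], [2, 1], [5, 5], [4, 1], [3, 1], [1, 6], [2, 6], [3, 5, 0], [1, 2, 2], [5, 1], [4, 4], [6, 2], [1, 2], [6, 0, 2], [0, 0, 1], [1, 3], [4, 3], [3, 4], [1, 4], [2, 6, 0], [3, 1, 1], [2, 1, 1, 0], [], [3, 1, 1, 0], [0, 3, 4], [6, 1, 1, 0], [5, 2, 1], [4, 1, 1, 0], [1, 2, 0], [1, 2, 0], [4, 0, 2], [1, 3, 0], [6, 4], [1, 6, 0], [4, 3], [1, 4, 0], [3, 6], [4, 3, 3, 0], [6, 4, 2], [5, 3, 3, 0], [3, 1, 0], [5, 2, 2, 0], [4, 5, 1], [6, 2, 2, 0], [2, 3, 0], [5, 1, 1], [5, 3, 0], [1, 3, 4], [5, 4, 0], [1, 0, 0], [5, 6, 0], [2], [5, 2, 0], [3, 1, 0], [5,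 0, 1], [3, 2, 0], [4, 5], [3, 0, 0], [6, 4, 0], [1], [6, 1, 0], [2, 3, 0], [6, 0, 3], [2, 1, 0], [5, 6], [0, 5, 1], [4, 1, 0], [2, 3, 4], [4, 6, 0], [3, 4, 0], [5, 2], [3, 5, 0], [2, 4], [0, 4, 2], [6, 2, 0], [3, 3, 4], [6, 5, 0], [2, 0, 0], [4, 5, 0], [3], [4, 3, 0], [2, 5, 0], [6, 1], [2, 6, 0], [1, 5], [5, 0, 4], [2, 4, 0], [0], [6, 0, 4], [5, 2, 4], [3, 1], [4, 4, 2], [6, 3, 4], [3, 6, 2], [1, 2, 6], [2, 2, 1], [5, 4, 2], [3, 0, 2], [1, 4], [5, 1, 0], [5, 0, 2], [5, 1, 4], [2, 3], [5, 5, 1], [6, 2, 4], [5, 3, 4], [1, 2], [6, 2, 1], [6, 1, 4], [6], [5, 6, 2], [3, 1, 2], [4, 0], [3, 3, 0], [5, 1, 2], [3, 4, 2], [0, 1], [2, 4, 1], [3, 1, 4], [6, 2, 2], [6, 5, 1], [2, 2, 0], [6, 3, 1], [2, 5, 1], [0, 3], [4, 5, 1], [0, 1, 5], [4, 1, 1], [3, 6, 1], [5], [3, 5, 1], [4, 2, 1], [6, 0], [2, 0, 1], [3, 5], [6, 3, 0], [6, 0, 1], [4], [6, 4, 1], [2, 3, 1], [5, 0], [1, 1, 0], [3, 2, 1], [4, 6, 1], [0, 2], [4, 0, 1], [2, 6],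 [4, 2, 0], [3, 0, 1]]
def qS (n : ℕ) : Bool := (47758915483058652629300889924143904114798786457834842901517979108472281628672).testBit n

theorem OW_ok : ∀ n < 256, n = 0 ∨ ((OW.getD n []).all (· < 7) ∧
    appw MS (OW.getD n []) (bif qS n then 129 else 1) = n) := by decide +kernel

section
variable {V : Type*} [AddCommGroup V] [Module (ZMod 2) V]

theorem two' (w : V) : w + w = 0 := by ch2

structure Clf (x : ℕ → V →+ V) : Prop where
  r1 : ∀ i < 7, ∀ w, x i (x i w) = x i w + w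
  r2 : ∀ i j, i < j → j < 7 → ∀ w, x j (x i w) = x i (x j w) + x i w + x j w + w

def EF (x : ℕ → V →+ V) : ℕ → V →+ V
  | 0 => x 0 + x 1 + x 2 + x 3
  | 1 => x 1 + x 2 + x 4 + x 5
  | 2 => x 2 + x 3 + x 4 + x 6
  | 3 => x 0 + x 4 + x 5 + x 6
  | 4 => x 1 + x 3 + x 4 + x 5
  | _ => x 2 + x 3 + x 5 + x 6

def BS (E : ℕ → V →+ V) (v : V) : List V :=
  [v, E 3 v, E 4 v, E 3 (E 4 v), E 5 v, E 3 (E 5 v), E 4 (E 5 v), E 3 (E 4 (E 5 v))]

structure Clf2 (E : ℕ → V →+ V) (y : V →+ V) : Prop where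
  s : ∀ i < 6, ∀ w, E i (E i w) = 0
  c : ∀ i < 3, ∀ j < 6, 3 ≤ j → ∀ w, E i (E j w) = E j (E i w) + if j = i + 3 then w else 0
  c1 : ∀ i j, i < j → j < 3 → ∀ w, E j (E i w) = E i (E j w)
  c2 : ∀ i j, 3 ≤ i → i < j → j < 6 → ∀ w, E j (E i w) = E i (E j w)
  y1 : ∀ i < 6, ∀ w, y (E i w) = E i (y w) + E i w + if i % 3 = 0 then w else 0

theorem Clf.two {x : ℕ → V →+ V} (h : Clf x) : Clf2 (EF x) (x 0) := by
  refine ⟨fun i hi w => ?_, fun i hi j hj hj' w => ?_, fun i j h1 h2 w => ?_, fun i j h1 h2 h3 w => ?_,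
    fun i hi w => ?_⟩
  · interval_cases i <;>
      simp (disch := decide) only [EF, AddMonoidHom.add_apply, map_add, h.r1, h.r2] <;> ch2
  · interval_cases i <;> interval_cases j <;>
      simp (disch := decide) only [EF, AddMonoidHom.add_apply, map_add, h.r1, h.r2, Nat.reduceAdd, Nat.reduceEqDiff,
        if_true, if_false] <;> ch2
  · interval_cases j <;> interval_cases i <;>
      simp (disch := decide) only [EF, AddMonoidHom.add_apply, map_add, h.r1, h.r2] <;> ch2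
  · interval_cases j <;> interval_cases i <;>
      simp (disch := decide) only [EF, AddMonoidHom.add_apply, map_add, h.r1, h.r2] <;> ch2
  · interval_cases i <;>
      simp (disch := decide) only [EF, AddMonoidHom.add_apply, map_add, h.r1, h.r2, Nat.reduceMod, Nat.reduceEqDiff,
        if_true, if_false, OfNat.ofNat_ne_zero, one_ne_zero] <;> ch2

namespace Clf2
variable {E : ℕ → V →+ V} {y : V →+ V} (h : Clf2 E y) {v : V} (hv : ∀ i < 3, E i v = 0)
include h hv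

theorem tab : ∀ i < 6, (BS E v).map (E i) = (TE.getD i []).map (cmb (BS E v)) := by
  intro i hi
  interval_cases i <;>
    simp (disch := decide) [BS, TE, cmb, h.s, h.c, h.c2, hv]

theorem inj (h0 : v ≠ 0) : ∀ n < 256, cmb (BS E v) n = 0 → n = 0 := by
  have k : ∀ w : List ℕ, w.all (· < 6) → ∀ n, cmb (BS E v) n = 0 → cmb (BS E v) (appw TE w n) = 0 := by
    intro w hw n e
    induction w with
    | nil => exact e
    | cons i w ih =>
      simp only [List.all_cons, Bool.and_eq_true, decide_eq_true_eq] at hw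
      rw [appw, List.foldr_cons, ← cmb_tab two' (h.tab hv i hw.1), ← appw, ih hw.2, map_zero]
  have d : ∀ n < 256, n = 0 ∨ ∃ w ∈ [[], [0], [1], [0, 1], [2], [0, 2], [1, 2], [0, 1, 2]],
      ([0, 1, 2, 3, 4, 5] ++ w).all (· < 6) ∧ appw TE ([0, 1, 2, 3, 4, 5] ++ w) n = 1 := by decide +kernel
  intro n hn e
  refine (d n hn).resolve_right fun ⟨w, _, h1, h2⟩ => h0 ?_
  have := k _ h1 n e
  rw [h2] at this
  simpa [BS, cmb] using this

theorem yv (h0 : v ≠ 0) (hc : Nat.card V = 256) : y v = E 3 v ∨ y v = E 3 v + v := by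
  obtain ⟨n, hn, e⟩ := cmb_surj two' hc (h.inj hv h0) (y v + E 3 v)
  have d : ∀ n < 256, (∀ i < 3, app (TE.getD i []) n < 256) ∧
      ((∀ i < 3, app (TE.getD i []) n = 0) → n = 0 ∨ n = 1) := by decide +kernel
  have : n = 0 ∨ n = 1 := (d n hn).2 fun i hi => h.inj hv h0 _ ((d n hn).1 i hi) (by
    have a := h.y1 i (by omega) v
    rw [hv i hi, map_zero, add_zero] at a
    rw [← cmb_tab two' (h.tab hv i (by omega)), e, map_add, h.c i hi 3 (by omega) le_rfl, hv i hi, map_zero, zero_add]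
    interval_cases i <;> simpa using a.symm)
  rcases this with rfl | rfl
  · left; rw [cmb_zero] at e; rw [← add_zero (y v), ← two' (E 3 v), ← add_assoc, ← e, zero_add]
  · right
    have : cmb (BS E v) 1 = v := by simp [BS, cmb]
    rw [this] at e; rw [← add_zero (y v), ← two' (E 3 v), ← add_assoc, ← e, add_comm]

omit hv in
theorem exv (hc : Nat.card V = 256) : ∃ v, v ≠ 0 ∧ ∀ i < 3, E i v = 0 := by
  haveI : Finite V := Nat.finite_of_card_ne_zero (by rw [hc]; norm_num)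
  haveI : Nontrivial V := Finite.one_lt_card_iff_nontrivial.1 (by omega)
  have : ∀ k ≤ 3, ∃ v, v ≠ 0 ∧ ∀ i < k, E i v = 0 := by
    intro k hk
    induction k with
    | zero => exact (exists_ne 0).imp fun v e => ⟨e, by simp⟩
    | succ k ih =>
      obtain ⟨v, h1, h2⟩ := ih (by omega)
      by_cases e : E k v = 0
      · exact ⟨v, h1, fun i hi => (Nat.lt_succ_iff_lt_or_eq.1 hi).elim (h2 i) fun a => a ▸ e⟩
      · refine ⟨_, e, fun i hi => (Nat.lt_succ_iff_lt_or_eq.1 hi).elim (fun a => ?_) fun a => a ▸ h.s _ (by omega) v⟩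
        rw [← h.c1 i k a (by omega), h2 i a, map_zero]
  exact this 3 le_rfl
end Clf2

theorem Clf.tab {x : ℕ → V →+ V} (h : Clf x) {v : V} (hv : ∀ i < 3, EF x i v = 0) (hy : x 0 v = EF x 3 v) :
    ∀ i < 7, (BS (EF x) v).map (x i) = (MS.getD i []).map (cmb (BS (EF x) v)) := by
  have g := h.two
  have u : ∀ w, x 1 w = x 0 w + EF x 0 w + EF x 1 w + EF x 4 w ∧
      x 2 w = x 0 w + EF x 0 w + EF x 2 w + EF x 4 w + EF x 5 w ∧
      x 3 w = x 0 w + EF x 0 w + EF x 1 w + EF x 2 w + EF x 5 w ∧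
      x 4 w = x 0 w + EF x 1 w + EF x 3 w + EF x 4 w + EF x 5 w ∧
      x 5 w = x 0 w + EF x 1 w + EF x 2 w + EF x 3 w + EF x 4 w ∧
      x 6 w = x 0 w + EF x 2 w + EF x 3 w + EF x 5 w := fun w => by
    simp only [EF, AddMonoidHom.add_apply]
    refine ⟨?_, ?_, ?_, ?_, ?_, ?_⟩ <;> ch2
  generalize EF x = E at *
  generalize hx : x 0 = y at *
  intro i hi
  interval_cases i <;> simp only [hx, BS, List.map, (u _).1, (u _).2.1, (u _).2.2.1, (u _).2.2.2.1, (u _).2.2.2.2.1,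
      (u _).2.2.2.2.2] <;>
    simp (disch := decide) only [MS, List.getD_cons_zero, List.getD_cons_succ, List.map, cmb, g.s, g.c, g.c2, g.y1, hv, hy, map_add, map_zero, Nat.reduceMod, Nat.reduceDiv,
      Nat.reduceAdd, Nat.reduceEqDiff, if_true, if_false, OfNat.ofNat_ne_zero, one_ne_zero, zero_ne_one, List.cons.injEq, and_true] <;>
    refine ⟨?_, ?_, ?_, ?_, ?_, ?_, ?_, ?_⟩ <;> ch2

theorem Clf.inv {x : ℕ → V →+ V} (h : Clf x) : Clf fun i => x i + AddMonoidHom.id V := by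
  refine ⟨fun i hi w => ?_, fun i j h1 h2 w => ?_⟩
  · simp only [AddMonoidHom.add_apply, AddMonoidHom.id_apply, map_add, h.r1 i hi]; ch2
  · simp only [AddMonoidHom.add_apply, AddMonoidHom.id_apply, map_add, h.r2 i j h1 h2]; ch2

theorem Clf.main {x : ℕ → V →+ V} (h : Clf x) (hc : Nat.card V = 256) : ∃ B : List V, B.length = 8 ∧
    (∀ n < 256, cmb B n = 0 → n = 0) ∧ ((∀ i < 7, B.map (x i) = (MS.getD i []).map (cmb B)) ∨
      ∀ i < 7, B.map (x i + AddMonoidHom.id V) = (MS.getD i []).map (cmb B)) := by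
  obtain ⟨v, h0, hv⟩ := h.two.exv hc
  rcases h.two.yv hv h0 hc with e | e
  · exact ⟨_, rfl, h.two.inj hv h0, .inl (h.tab hv e)⟩
  · have a : ∀ i w, EF (fun i => x i + AddMonoidHom.id V) i w = EF x i w := fun i w => by
      unfold EF; split <;> simp only [AddMonoidHom.add_apply, AddMonoidHom.id_apply] <;> ch2
    have hv' : ∀ i < 3, EF (fun i => x i + AddMonoidHom.id V) i v = 0 := fun i hi => (a i v).trans (hv i hi)
    exact ⟨_, rfl, h.inv.two.inj hv' h0, .inr (h.inv.tab hv' (by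
      rw [a, AddMonoidHom.add_apply, e, AddMonoidHom.id_apply]; ch2))⟩
end

end Cfsg.Agent.H8Th
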