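import Cfsg.Agent.H8.ThB

/-! # The two orthogonal modules of dimension 8 of `A₉` over `F₂` -/

set_option autoImplicit false
set_option linter.unusedVariables false
set_option linter.unusedSectionVars false
set_option maxRecDepth 100000

namespace Cfsg.Agent.H8Th
open Equiv Equiv.Perm

def MN : List (List ℕ) := [[2, 3, 6, 10, 18, 34, 66, 130], [4, 6, 5, 12, 20, 36, 68, 132], [8, 10, 12, 9, 24, 40, 72, 136], [16, 18, 20, 24, 17, 48, 80, 144], [32, 34, 36, 40, 48, 33, 96, 160], [64, 66, 68, 72, 80, 96, 65, 192], [128, 130, 132, 136, 144, 160, 192, 129]]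
def MM (s : Bool) : List (List ℕ) := bif s then MS else MN
def KK (s : Bool) : Bool := !s
def BB (s : Bool) (k l : ℕ) : Bool := bif s then k + l == 7 else k != l

variable {H V : Type*} [Group H] [AddCommGroup V] [DistribMulAction H V] [Module (ZMod 2) V]

structure Bas (π : H →* P9) (κ : V → ZMod 2) (s : Bool) (X : ℕ → H) (B : List V) : Prop where
  px : ∀ i < 7, π (X i) = c3 i
  len : B.length = 8
  inj : ∀ n < 256, cmb B n = 0 → n = 0
  act : ∀ i < 7, B.map (X i • ·) = ((MM s).getD i []).map (cmb B)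
  kk : ∀ k < 8, κ (B.getD k 0) = bif KK s then 1 else 0
  bb : ∀ k < 8, ∀ l < 8, bt κ (B.getD k 0) (B.getD l 0) = bif BB s k l then 1 else 0

def ax (V : Type*) [AddCommGroup V] [DistribMulAction H V] (g : H) : V →+ V := DistribSMul.toAddMonoidHom V g
theorem ax_apply (g : H) (w : V) : g • w = ax V g w := rfl

theorem c3_three : ∀ i < 7, (c3 i).IsThreeCycle := fun i hi =>
  isThreeCycle_swap_mul_swap_same (by decide) (by revert i; decide) (by revert i; decide)

namespace QS
variable {π : H →* P9} {κ : V → ZMod 2} (S : QS H V π κ)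
include S

theorem exX : ∃ X : ℕ → H, ∀ i < 7, π (X i) = c3 i := by
  choose! X h using fun i (hi : i < 7) => S.surj _ (c3_three i hi).sign
  exact ⟨X, h⟩

theorem conj {σ : P9} : QS H V ((MulAut.conj σ).toMonoidHom.comp π) κ :=
  ⟨S.two, S.card, fun τ h => by
    obtain ⟨g, e⟩ := S.surj (σ⁻¹ * τ * σ) (by simp [h]); exact ⟨g, by simp [e, mul_assoc]⟩,
    fun h => by rw [← S.ker]; simp [mul_inv_eq_one], S.inv, S.add, S.nd⟩

theorem spin_of {X : ℕ → H} {B : List V} (px : ∀ i < 7, π (X i) = c3 i) (len : B.length = 8)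
    (inj : ∀ n < 256, cmb B n = 0 → n = 0) (act : ∀ i < 7, B.map (X i • ·) = (MS.getD i []).map (cmb B)) :
    Bas π κ true X B := by
  have k : ∀ w : List ℕ, w.all (· < 7) → ∀ n, κ (cmb B (appw MS w n)) = κ (cmb B n) := by
    intro w hw n
    induction w with
    | nil => rfl
    | cons i w ih =>
      simp only [List.all_cons, Bool.and_eq_true, decide_eq_true_eq] at hw
      rw [appw, List.foldr_cons, ← cmb_tab two' (f := ax V (X i)) (act i hw.1), ← appw, ← ax_apply, S.inv, ih hw.2]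
  have q : ∀ n < 256, n ≠ 0 → κ (cmb B n) = bif qS n then κ (cmb B 129) else κ (cmb B 1) := fun n h1 h2 => by
    obtain ⟨a, b⟩ := (OW_ok n h1).resolve_left h2
    have := k _ a (bif qS n then 129 else 1)
    rw [b] at this; rw [this]; cases qS n <;> rfl
  have b : ∀ n m, bt κ (cmb B n) (cmb B m) = κ (cmb B (n ^^^ m)) + κ (cmb B n) + κ (cmb B m) := fun n m => by
    rw [bt, cmb_xor two']
  have a0 : κ (cmb B 1) = 0 := by
    have := S.add (cmb B 1) (cmb B 4) (cmb B 2)
    rw [← cmb_xor two', b, b, b, q (1 ^^^ 4 ^^^ 2) (by decide) (by decide), q (1 ^^^ 4) (by decide) (by decide),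
      q 2 (by decide) (by decide), q (1 ^^^ 2) (by decide) (by decide), q (4 ^^^ 2) (by decide) (by decide),
      q 4 (by decide) (by decide), show qS (1 ^^^ 4 ^^^ 2) = false by decide, show qS (1 ^^^ 4) = false by decide,
      show qS (1 ^^^ 2) = false by decide, show qS (4 ^^^ 2) = false by decide, show qS 2 = false by decide,
      show qS 4 = false by decide] at this
    simp only [cond_false] at this
    revert this; generalize κ (cmb B 1) = a; revert a; decide
  have a1 : κ (cmb B 129) = 1 := (zm01 _).resolve_left fun e => by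
    have z : ∀ w, κ w = 0 := fun w => by
      obtain ⟨n, hn, rfl⟩ := cmb_surj two' S.card inj w
      by_cases e0 : n = 0
      · rw [e0, cmb_zero, S.k0]
      · rw [q n hn e0, e, a0]; cases qS n <;> rfl
    exact absurd (inj 1 (by decide) (S.nd _ fun w => by rw [bt, z, z, z]; rfl)) (by decide)
  have q' : ∀ n < 256, κ (cmb B n) = bif qS n then 1 else 0 := fun n hn => by
    by_cases e0 : n = 0
    · rw [e0, cmb_zero, S.k0]; rfl
    · rw [q n hn e0, a0, a1]
  refine ⟨px, len, inj, act, fun k hk => ?_, fun k hk l hl => ?_⟩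
  · rw [← cmb_pow, q' _ (by revert k; decide)]; revert k; decide
  · rw [← cmb_pow, ← cmb_pow, b, q' _ (by revert l; revert k; decide), q' _ (by revert k; decide),
      q' _ (by revert l; decide)]
    revert l; revert k; decide

theorem spin (h : ∀ x, (π x).IsThreeCycle → WW V x = ⊤) :
    ∃ π' : H →* P9, QS H V π' κ ∧ ∃ X B, Bas π' κ true X B := by
  obtain ⟨X, px⟩ := S.exX
  have r1 : ∀ i < 7, ∀ w : V, X i • X i • w = X i • w + w := fun i hi w => S.eq_of (by
    rw [← add_assoc]; exact (h _ (px i hi ▸ c3_three i hi)).ge trivial)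
  have iv : ∀ i < 7, ∀ w : V, (X i)⁻¹ • w = X i • w + w := fun i hi w => by
    rw [inv_smul_eq_iff, smul_add, r1 i hi, add_comm _ w, add_assoc, S.two, add_zero]
  have C : Clf fun i => ax V (X i) := ⟨r1, fun i j h1 h2 w => by
    have hi : i < 7 := by omega
    have := S.act (g := X j * X i) (h := (X i)⁻¹ * (X j)⁻¹) (by
      rw [map_mul, map_mul, map_inv, map_inv, px i hi, px j h2]
      have : ∀ j < 7, ∀ i < j, c3 j * c3 i = (c3 i)⁻¹ * (c3 j)⁻¹ := by decide +kernel
      exact this j h2 i h1) w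
    rw [mul_smul, mul_smul, iv i hi, iv j h2, smul_add] at this
    simp only [← ax_apply]; rw [this]; abel⟩
  obtain ⟨B, len, inj, e | e⟩ := C.main S.card
  · exact ⟨π, S, X, B, S.spin_of px len inj e⟩
  · refine ⟨_, S.conj (σ := swap 7 8), fun i => (X i)⁻¹, B, S.conj.spin_of (fun i hi => ?_) len inj fun i hi => ?_⟩
    · rw [map_inv, MonoidHom.comp_apply, px i hi]; revert i; decide +kernel
    · rw [← e i hi]; exact List.map_congr_left fun w _ => iv i hi w

section
variable {x : H} (hx : π x ^ 3 = 1) (c4 : Nat.card (WW V x) = 4) {p : V} (hp : p ∈ WW V x) (p0 : p ≠ 0)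
include hp in
theorem xx : x • x • p = x • p + p := S.eq_of (by rw [← add_assoc]; exact hp)
include hp p0 in
theorem xne : x • p ≠ p := fun e => p0 (S.disj hp e)
include hx c4 hp p0

theorem W4 {a : V} (ha : a ∈ WW V x) : a = 0 ∨ a = p ∨ a = x • p ∨ a = x • p + p := by
  haveI := S.fin
  have n1 : x • p ≠ 0 := fun e => p0 ((smul_eq_zero_iff_eq x).1 e)
  have n2 := S.xne hp p0
  have : ({0, p, x • p, x • p + p} : Set V) = WW V x := Set.eq_of_subset_of_ncard_le (by
    rintro _ (rfl | rfl | rfl | rfl)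
    exacts [zero_mem _, hp, S.smulW hx hp, S.memW hx p]) (by
    rw [Set.ncard_insert_of_notMem (by simp [p0.symm, n1.symm]; exact fun e => n2 (S.eq_of e.symm)),
      Set.ncard_insert_of_notMem (by simp [n1, n2.symm]), Set.ncard_pair (by simp [p0])]
    exact c4.le)
  exact (this.symm ▸ ha : a ∈ ({0, p, x • p, x • p + p} : Set V))

theorem k1 : κ p = 1 ∧ bt κ (x • p) p = 1 := by
  have e : bt κ (x • p) p = κ p := by rw [bt, ← S.xx hp, S.inv, S.inv, zm2, zero_add]
  rw [e, and_self]
  refine (zm01 _).resolve_left fun e0 => p0 (S.nd p fun w => ?_)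
  obtain ⟨f, hf, a, ha, rfl⟩ := S.dec hx w
  rw [S.add', S.orth hp hf, zero_add, bt_symm]
  rcases S.W4 hx c4 hp p0 ha with rfl | rfl | rfl | rfl
  exacts [S.bt0 _, S.btself _, e.trans e0, by rw [S.add, e, e0, S.btself]; rfl]

theorem form (w : V) : x • w = w + bt κ w (x • p) • (x • p + p) + bt κ w p • p := by
  obtain ⟨f, hf, a, ha, rfl⟩ := S.dec hx w
  have k := (S.k1 hx c4 hp p0).2
  rw [S.add, S.add, bt_symm κ f, bt_symm κ f, S.orth hp hf, S.orth (S.smulW hx hp) hf, smul_add, mem_FF.1 hf]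
  rcases S.W4 hx c4 hp p0 ha with rfl | rfl | rfl | rfl
  · simp [S.bt0]
  · rw [bt_symm, k, S.btself, ax_apply]; ch2
  · rw [k, S.btself, S.xx hp, ax_apply]; ch2
  · rw [S.add, S.add, bt_symm κ p, k, S.btself, S.btself, smul_add, S.xx hp, ax_apply]; ch2

theorem uniq {τ : H} (ht : π τ * π x = π x * π x * π τ) {q : V} (hq : q ∈ WW V x) (q0 : q ≠ 0)
    (e1 : τ • p = p) (e2 : τ • q = q) : q = p := by
  have c : τ • x • p = x • p + p := by
    rw [← S.xx hp]; nth_rw 2 [← e1]
    rw [← mul_smul, ← mul_smul, ← mul_smul]; exact S.act (by simpa using ht) p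
  rcases S.W4 hx c4 hp p0 hq with rfl | rfl | rfl | rfl
  · exact absurd rfl q0
  · rfl
  · rw [c] at e2; exact absurd (add_eq_left.1 e2) p0
  · rw [smul_add, c, e1] at e2; exact absurd (add_eq_left.1 e2) p0
end

theorem meet {x y : H} (hx : π x ^ 3 = 1) (hy : π y ^ 3 = 1) (hz : π (y⁻¹ * x) ^ 3 = 1)
    (cx : Nat.card (WW V x) = 4) (cy : Nat.card (WW V y) = 4) (cz : Nat.card (WW V (y⁻¹ * x)) = 4) :
    ∃ p, p ≠ 0 ∧ p ∈ WW V x ∧ p ∈ WW V y := by
  haveI := S.fin
  by_contra n
  push Not at n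
  have n' : ∀ p ∈ WW V x, p ∈ WW V y → p = 0 := fun p h1 h2 => by_contra fun e => n p e h1 h2
  have le : ∀ w ∈ FF V (y⁻¹ * x), w ∈ FF V x ∧ w ∈ FF V y := fun w h => by
    rw [mem_FF, mul_smul, inv_smul_eq_iff] at h
    have := S.eq_of (n' _ (S.memW hx w) (h ▸ S.memW hy w))
    exact ⟨this, h.symm.trans this⟩
  have c1 := S.cardWF hx
  have c2 := S.cardWF hy
  have c3 := S.cardWF hz
  rw [cx] at c1; rw [cy] at c2; rw [cz] at c3
  have e1 : FF V (y⁻¹ * x) = FF V x := AddSubgroup.eq_of_le_of_card_ge (fun w h => (le w h).1) (by omega)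
  have e2 : FF V (y⁻¹ * x) = FF V y := AddSubgroup.eq_of_le_of_card_ge (fun w h => (le w h).2) (by omega)
  obtain ⟨p, hp, p0⟩ := (WW V x).bot_or_exists_ne_zero.resolve_left fun e => by simp [e] at cx
  obtain ⟨f, hf, a, ha, e⟩ := S.dec hy p
  have : f = 0 := S.nd f fun w => by
    obtain ⟨f', hf', a', ha', rfl⟩ := S.dec hx w
    rw [S.add', bt_symm κ f a', S.orth ha' (e1 ▸ e2 ▸ hf), add_zero, show f = p + a by rw [e, add_assoc, S.two, add_zero],
      S.add, S.orth hp hf', S.orth ha (e2 ▸ e1 ▸ hf'), add_zero]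
  rw [this, zero_add] at e
  exact p0 (n' p hp (e ▸ ha))

theorem tauW {x τ : H} (hx : π x ^ 3 = 1) (ht : π x * π τ = π τ * (π x * π x)) {w : V} (h : w ∈ WW V x) :
    τ • w ∈ WW V x := by
  have c : ∀ w : V, x • τ • w = τ • x • x • w := fun w => by
    rw [← mul_smul, ← mul_smul, ← mul_smul]; exact S.act (by simpa [mul_assoc] using ht) w
  rw [mem_WW, c, c, S.cube hx, ← smul_add, ← smul_add, add_comm (x • w), mem_WW.1 h, smul_zero]

theorem nat (h4 : ∀ x, (π x).IsThreeCycle → Nat.card (WW V x) = 4) (h5 : ∀ x f, (π x).IsThreeCycle → π f ^ 5 = 1 →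
    π x * π f = π f * π x → ∀ w ∈ WW V x, f • w = w) : ∃ X B, Bas π κ false X B := by
  obtain ⟨X, px⟩ := S.exX
  have t : ∀ i < 7, (π (X i)).IsThreeCycle := fun i hi => px i hi ▸ c3_three i hi
  have p3 : ∀ i < 7, π (X i) ^ 3 = 1 := fun i hi => (t i hi).orderOf ▸ pow_orderOf_eq_one _
  have ex : ∀ j < 7, j ≠ 0 → ∀ τ : H, π τ * π τ = 1 → π (X 0) * π τ = π τ * (π (X 0) * π (X 0)) →
      π (X j) * π τ = π τ * (π (X j) * π (X j)) → ∃ c, c ≠ 0 ∧ c ∈ WW V (X 0) ∧ c ∈ WW V (X j) ∧ τ • c = c := by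
    intro j hj j0 τ h1 h2 h3
    have t3 : (π ((X j)⁻¹ * X 0)).IsThreeCycle := by
      rw [map_mul, map_inv, px j hj, px 0 (by omega), ← card_support_eq_three_iff]
      clear h3; revert j0; revert j; decide +kernel
    obtain ⟨p, p0, a, b⟩ := S.meet (p3 0 (by omega)) (p3 j hj) (t3.orderOf ▸ pow_orderOf_eq_one _)
      (h4 _ (t 0 (by omega))) (h4 _ (t j hj)) (h4 _ t3)
    by_cases e : τ • p = p
    · exact ⟨p, p0, a, b, e⟩
    · refine ⟨τ • p + p, fun e' => e (S.eq_of e'), add_mem (S.tauW (p3 0 (by omega)) h2 a) a,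
        add_mem (S.tauW (p3 j hj) h3 b) b, ?_⟩
      rw [smul_add, ← mul_smul, (S.ker _).1 ((map_mul π τ τ).trans h1), add_comm]
  obtain ⟨τ, e1⟩ := S.surj (swap 7 8 * swap 5 6) (by decide)
  obtain ⟨τ', e2⟩ := S.surj (swap 7 8 * swap 1 2) (by decide)
  have q0 := px 0 (by omega)
  obtain ⟨c, c0, cW, -, cτ⟩ := ex 1 (by omega) (by omega) τ (by rw [e1]; decide +kernel)
    (by rw [e1, q0]; decide +kernel) (by rw [e1, px 1 (by omega)]; decide +kernel)
  have cτ' : τ' • c = c := by
    obtain ⟨f, e3⟩ := S.surj (swap 5 1 * swap 5 2 * swap 5 3 * swap 5 4) (by decide)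
    obtain ⟨g, e4⟩ := S.surj (swap 6 5 * swap 6 4 * swap 6 3 * swap 6 1) (by decide)
    rw [S.act (h := τ * (f * g)) (by rw [map_mul, map_mul, e1, e2, e3, e4]; decide +kernel), mul_smul, mul_smul,
      h5 _ g (t 0 (by omega)) (by rw [e4]; decide +kernel) (by rw [e4, q0]; decide +kernel) c cW,
      h5 _ f (t 0 (by omega)) (by rw [e3]; decide +kernel) (by rw [e3, q0]; decide +kernel) c cW, cτ]
  have cj : ∀ j < 7, c ∈ WW V (X j) := by
    intro j hj
    by_cases j0 : j = 0
    · exact j0 ▸ cW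
    by_cases j5 : j < 5
    · obtain ⟨d, d0, a, b, e⟩ := ex j hj j0 τ (by rw [e1]; decide +kernel) (by rw [e1, q0]; decide +kernel)
        (by rw [e1, px j hj]; revert j; decide +kernel)
      rwa [← S.uniq (p3 0 (by omega)) (h4 _ (t 0 (by omega))) cW c0 (by rw [e1, q0]; decide +kernel) a d0 cτ e]
    · obtain ⟨d, d0, a, b, e⟩ := ex j hj j0 τ' (by rw [e2]; decide +kernel) (by rw [e2, q0]; decide +kernel)
        (by rw [e2, px j hj]; revert j; decide +kernel)
      rwa [← S.uniq (p3 0 (by omega)) (h4 _ (t 0 (by omega))) cW c0 (by rw [e2, q0]; decide +kernel) a d0 cτ' e]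
  have kc := fun i hi => S.k1 (p3 i hi) (h4 _ (t i hi)) (cj i hi) c0
  have fm := fun i hi => S.form (p3 i hi) (h4 _ (t i hi)) (cj i hi) c0
  have bu : ∀ i < 7, ∀ j < 7, i ≠ j → bt κ (X i • c) (X j • c) = 1 := fun i hi j hj ne =>
    (zm01 _).resolve_left fun e => S.xne (cj i hi) c0 (by
      have a : X i • X j • c = X j • c + c := by
        rw [fm i hi (X j • c), bt_symm, e, (kc j hj).2]; simp
      have := (S.ker (X i * X j * X i * X j)).1 (by
        simp only [map_mul, px i hi, px j hj]; clear a e; revert j; revert i; decide +kernel) c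
      rwa [mul_smul, mul_smul, mul_smul, a, smul_add, S.xx (cj j hj), add_comm _ c, add_assoc, S.two, add_zero] at this)
  have xu : ∀ i < 7, ∀ j < 7, X i • X j • c = X j • c + if i = j then c else X i • c := fun i hi j hj => by
    split_ifs with e
    · rw [e, S.xx (cj j hj)]
    · rw [fm i hi (X j • c), bu j hj i hi (Ne.symm e), (kc j hj).2, ax_apply, ax_apply (X i)]; ch2
  let B := [c, X 0 • c, X 1 • c, X 2 • c, X 3 • c, X 4 • c, X 5 • c, X 6 • c]
  have bb : ∀ k < 8, ∀ l < 8, bt κ (B.getD k 0) (B.getD l 0) = bif BB false k l then 1 else 0 := by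
    have g : ∀ k < 7, B.getD (k + 1) 0 = X k • c := fun k hk => by interval_cases k <;> rfl
    intro k hk l hl
    by_cases e : k = l
    · rw [e, S.btself]; simp [BB]
    rw [show BB false k l = true by simp [BB, e], cond_true]
    rcases k with _ | k <;> rcases l with _ | l
    · exact absurd rfl e
    · rw [g l (by omega), bt_symm]; exact (kc l (by omega)).2
    · rw [g k (by omega)]; exact (kc k (by omega)).2
    · rw [g k (by omega), g l (by omega)]; exact bu k (by omega) l (by omega) (by omega)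
  refine ⟨X, B, px, rfl, fun n hn e => ?_, fun i hi => ?_, fun k hk => ?_, bb⟩
  · have b : ∀ l < 8, cmb ((List.range 8).map fun k => (bif BB false k l then 1 else 0 : ZMod 2)) n = 0 := by
      intro l hl
      have := cmb_map (AddMonoidHom.mk' (fun u => bt κ u (B.getD l 0)) fun u v => S.add u v _) B n
      rw [e, map_zero] at this
      refine Eq.trans ?_ this.symm; congr 1
      refine List.ext_getElem rfl fun k h1 h2 => ?_
      have hk : k < 8 := by simpa using h1
      rw [List.getElem_map, List.getElem_range, ← bb k hk l hl, List.getElem_map, List.getD_eq_getElem]; rfl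
    clear e; revert b; revert n; decide +kernel
  · simp only [B, List.map, xu i hi _ (by omega : 0 < 7), xu i hi _ (by omega : 1 < 7), xu i hi _ (by omega : 2 < 7),
      xu i hi _ (by omega : 3 < 7), xu i hi _ (by omega : 4 < 7), xu i hi _ (by omega : 5 < 7),
      xu i hi _ (by omega : 6 < 7)]
    interval_cases i <;> simp [MM, MN, cmb, add_comm]
  · interval_cases k <;> simp [B, S.inv, KK, (kc 0 (by omega)).1]

theorem main : ∃ π' : H →* P9, QS H V π' κ ∧ ∃ s X B, Bas π' κ s X B := by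
  rcases S.dich with h | ⟨h4, h5⟩
  · obtain ⟨π', S', X, B, h⟩ := S.spin h
    exact ⟨π', S', _, X, B, h⟩
  · obtain ⟨X, B, h⟩ := S.nat h4 h5
    exact ⟨π, S, _, X, B, h⟩

end QS
end Cfsg.Agent.H8Th
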