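import Cfsg.Agent.H8.ThC
import Cfsg.Agent.H8.LyA
import Cfsg.Agent.PLoc.Transfer2

/-! # Groups of shape `2^{1+8}.A₉`: a basis of the extraspecial group -/

set_option autoImplicit false
set_option linter.unusedVariables false
set_option linter.unusedSectionVars false
set_option maxRecDepth 100000

namespace Cfsg.Agent.H8Th
open Equiv Equiv.Perm Subgroup
open scoped commutatorElement

universe u
variable {H : Type u} [Group H]

structure XH (z : H) (Q : Subgroup H) (π : H →* P9) : Prop where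
  z2 : z * z = 1
  z1 : z ≠ 1
  zc : ∀ h, h * z = z * h
  zQ : z ∈ Q
  comm : ∀ x ∈ Q, ∀ y ∈ Q, x * y = y * x ∨ x * y = y * x * z
  sq : ∀ x ∈ Q, x * x = 1 ∨ x * x = z
  card : Nat.card Q = 512
  cent : ∀ h, (∀ x ∈ Q, h * x = x * h) → h = 1 ∨ h = z
  ker : ∀ h, π h = 1 ↔ h ∈ Q
  surj : ∀ σ : P9, sign σ = 1 → ∃ h, π h = σ
  sgn : ∀ h, sign (π h) = 1

def ez (z : H) (b : Bool) : H := bif b then z else 1

structure XL (c : H) (s : Bool) (L : List H) : Prop where
  c2 : c * c = 1
  cc : ∀ h, h * c = c * h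
  len : L.length = 8
  kk : ∀ k < 8, L.getD k 1 * L.getD k 1 = ez c (KK s)
  bb : ∀ k < 8, ∀ l < 8, L.getD k 1 * L.getD l 1 = L.getD l 1 * L.getD k 1 * ez c (BB s k l)

structure GB (z : H) (Q : Subgroup H) (π : H →* P9) (s : Bool) (X : ℕ → H) (L : List H) : Prop extends XL z s L where
  px : ∀ i < 7, π (X i) = c3 i
  mem : ∀ g ∈ L, g ∈ Q
  inj : ∀ n < 256, qw L n = 1 ∨ qw L n = z → n = 0
  span : ∀ x ∈ Q, ∃ n < 256, x = qw L n ∨ x = qw L n * z
  act : ∀ i < 7, ∀ k < 8, ∃ b, X i * L.getD k 1 * (X i)⁻¹ = qw L (((MM s).getD i []).getD k 0) * ez z b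
  dual : ∀ t : ℕ → Bool, ∃ r ∈ Q, ∀ k < 8, r * L.getD k 1 * r⁻¹ = L.getD k 1 * ez z (t k)

theorem qw_mem {S : Subgroup H} {L : List H} (h : ∀ g ∈ L, g ∈ S) (n : ℕ) : qw L n ∈ S := by
  induction L generalizing n with
  | nil => exact one_mem _
  | cons g L ih =>
    refine mul_mem ?_ (ih (fun g hg => h g (List.mem_cons_of_mem _ hg)) _)
    split_ifs; exacts [h g List.mem_cons_self, one_mem _]

theorem getD_mem {L : List H} (h : L.length = 8) {g : H} : g ∈ L ↔ ∃ k < 8, g = L.getD k 1 := by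
  rw [List.mem_iff_getElem]
  exact ⟨fun ⟨k, hk, e⟩ => ⟨k, h ▸ hk, by rw [List.getD_eq_getElem _ _ hk, e]⟩,
    fun ⟨k, hk, e⟩ => ⟨k, h ▸ hk, by rw [e, List.getD_eq_getElem _ _ (h ▸ hk)]⟩⟩

namespace XH
variable {z : H} {Q : Subgroup H} {π : H →* P9} (h : XH z Q π)
include h

theorem nrm : Q.Normal := ⟨fun x hx g => (h.ker _).1 (by simp [(h.ker x).2 hx])⟩
theorem zp {x : H} : x ∈ zpowers z ↔ x = 1 ∨ x = z := by
  refine ⟨fun ⟨k, e⟩ => ?_, fun e => e.elim (fun e => e ▸ one_mem _) fun e => e ▸ mem_zpowers _⟩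
  have : z ^ (2 : ℤ) = 1 := by rw [zpow_two, h.z2]
  simp only at e
  rw [← e, zpow_eq_zpow_emod k this]
  rcases Int.emod_two_eq_zero_or_one k with a | a <;> simp [a]

theorem exV : ∃ (V : Type u) (_ : AddCommGroup V) (_ : DistribMulAction H V) (_ : Module (ZMod 2) V) (ν : H → V),
    (∀ x ∈ Q, ∀ y ∈ Q, ν (x * y) = ν x + ν y) ∧ (∀ v, ∃ x ∈ Q, ν x = v) ∧
    (∀ x ∈ Q, ν x = 0 ↔ x = 1 ∨ x = z) ∧ (∀ g, ∀ x ∈ Q, ν (g * x * g⁻¹) = g • ν x) ∧ Nat.card V = 256 := by
  classical
  haveI := h.nrm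
  haveI : (zpowers z).Normal := ⟨fun x hx g => by
    rcases h.zp.1 hx with rfl | rfl
    · simp
    · rw [h.zc, mul_inv_cancel_right]; exact hx⟩
  let p := QuotientGroup.mk' (zpowers z)
  have pz : p z = 1 := (QuotientGroup.eq_one_iff _).2 (mem_zpowers z)
  haveI : (Q.map p).Normal := Normal.map ‹_› p (QuotientGroup.mk'_surjective _)
  have hc : ∀ a b : Q.map p, a * b = b * a := by
    rintro ⟨_, x, hx, rfl⟩ ⟨_, y, hy, rfl⟩
    refine Subtype.ext (show p x * p y = p y * p x from ?_)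
    rw [← map_mul, ← map_mul]
    rcases h.comm x hx y hy with e | e <;> rw [e]
    rw [map_mul, pz, mul_one]
  letI : CommGroup (Q.map p) := { mul_comm := hc }
  let A : DistribMulAction H (Additive (Q.map p)) :=
    { smul := fun g v => Additive.ofMul (MulAut.conjNormal (p g) v.toMul)
      one_smul := fun v => by show Additive.ofMul _ = v; simp
      mul_smul := fun a b v => by show Additive.ofMul _ = Additive.ofMul _; rw [map_mul, map_mul]; rfl
      smul_zero := fun a => by show Additive.ofMul _ = _; simp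
      smul_add := fun a v w => by show Additive.ofMul _ = Additive.ofMul _ + Additive.ofMul _; simp }
  have two : ∀ v : Additive (Q.map p), 2 • v = 0 := by
    rintro ⟨_, x, hx, rfl⟩
    refine Subtype.ext (show p x ^ 2 = 1 from ?_)
    rw [pow_two, ← map_mul]
    rcases h.sq x hx with e | e <;> rw [e]
    exacts [map_one p, pz]
  obtain ⟨ν, e⟩ : ∃ ν : H → Additive (Q.map p), ∀ x (hx : x ∈ Q), ν x = Additive.ofMul ⟨p x, mem_map_of_mem p hx⟩ :=
    ⟨fun x => if hx : x ∈ Q then Additive.ofMul ⟨p x, mem_map_of_mem p hx⟩ else 0, fun x hx => dif_pos hx⟩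
  refine ⟨Additive (Q.map p), inferInstance, A, AddCommGroup.zmodModule two, ν, fun x hx y hy => ?_, ?_, fun x hx => ?_,
    fun g x hx => ?_, ?_⟩
  · rw [e x hx, e y hy, e _ (mul_mem hx hy)]; exact Subtype.ext (map_mul p x y)
  · rintro ⟨_, x, hx, rfl⟩; exact ⟨x, hx, e x hx⟩
  · rw [e x hx, ← h.zp, ← QuotientGroup.eq_one_iff]; exact Subtype.ext_iff
  · rw [e x hx, e _ (‹Q.Normal›.conj_mem x hx g)]; exact Subtype.ext (by simp; rfl)
  · have c2 : Nat.card (zpowers z) = 2 := by
      rw [Nat.card_zpowers]; exact orderOf_eq_prime (by rw [pow_two, h.z2]) h.z1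
    have := (p.comp Q.subtype).ker.card_mul_index
    rw [index_ker, MonoidHom.range_comp, range_subtype, ← MonoidHom.comap_ker, QuotientGroup.ker_mk', comap_subtype, h.card,
      Nat.card_congr (subgroupOfEquivOfLe (zpowers_le.2 h.zQ)).toEquiv, c2] at this
    show Nat.card (Q.map p) = 256
    omega

theorem exGB : ∃ π' : H →* P9, XH z Q π' ∧ ∃ s X L, GB z Q π' s X L := by
  classical
  obtain ⟨V, _, _, _, ν, n1, n2, n3, n4, n5⟩ := h.exV
  haveI := h.nrm
  haveI : Finite Q := Nat.finite_of_card_ne_zero (by rw [h.card]; norm_num)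
  haveI : Finite V := Nat.finite_of_card_ne_zero (by rw [n5]; norm_num)
  choose l l1 l2 using n2
  have eq : ∀ x ∈ Q, ∀ y ∈ Q, ν x = ν y → x = y ∨ x = y * z := fun x hx y hy e => by
    have a := n1 _ hy _ (mul_mem (inv_mem hy) hx)
    rw [mul_inv_cancel_left, e, left_eq_add, n3 _ (mul_mem (inv_mem hy) hx)] at a
    exact a.imp (fun a => (inv_mul_eq_one.1 a).symm) fun a => by rw [← a, mul_inv_cancel_left]
  have zz : ∀ y : H, y * z * (y * z) = y * y := fun y => by
    rw [mul_assoc, ← mul_assoc z, ← h.zc, mul_assoc y z, h.z2, mul_one]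
  let κ : V → ZMod 2 := fun v => if l v * l v = 1 then 0 else 1
  have k1 : ∀ x ∈ Q, κ (ν x) = if x * x = 1 then 0 else 1 := fun x hx => by
    rcases eq _ (l1 _) x hx (l2 _) with e | e <;> simp only [κ, e, zz]
  have b1 : ∀ x ∈ Q, ∀ y ∈ Q, bt κ (ν x) (ν y) = if x * y = y * x then 0 else 1 := fun x hx y hy => by
    have n : ∀ a : H, a * z ≠ a := fun a e => h.z1 (mul_eq_left.1 e)
    have q : ∀ w, y * x = x * y * w → x * y * (x * y) = x * x * (y * y) * w ∨ ¬ (w = 1 ∨ w = z) := fun w e => by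
      by_cases hw : w = 1 ∨ w = z
      · left
        rw [show x * y * (x * y) = x * (y * x) * y by group, e]
        rcases hw with rfl | rfl
        · group
        · rw [mul_assoc, mul_assoc, ← h.zc]; group
      · exact .inr hw
    rw [bt, ← n1 x hx y hy, k1 _ hx, k1 _ hy, k1 _ (mul_mem hx hy)]
    rcases h.comm y hy x hx with e | e
    · rw [if_pos e.symm, (q 1 (by rw [e, mul_one])).resolve_right (by simp)]
      rcases h.sq x hx with a | a <;> rcases h.sq y hy with b | b <;> simp [a, b, h.z1, h.z2] <;> decide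
    · rw [if_neg (show ¬ x * y = y * x from fun a => n _ (e.symm.trans a.symm)), (q z e).resolve_right (by simp)]
      rcases h.sq x hx with a | a <;> rcases h.sq y hy with b | b <;> simp [a, b, h.z1, h.z2] <;> decide
  have badd : ∀ u v w, bt κ (u + v) w = bt κ u w + bt κ v w := fun u v w => by
    have n : ∀ a : H, a * z ≠ a := fun a e => h.z1 (mul_eq_left.1 e)
    rw [← l2 u, ← l2 v, ← l2 w, ← n1 _ (l1 _) _ (l1 _), b1 _ (mul_mem (l1 _) (l1 _)) _ (l1 _), b1 _ (l1 _) _ (l1 _),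
      b1 _ (l1 _) _ (l1 _)]
    generalize hx : l u = x; generalize hy : l v = y; generalize hc : l w = c
    rcases h.comm x (hx ▸ l1 _) c (hc ▸ l1 _) with a | a <;> rcases h.comm y (hy ▸ l1 _) c (hc ▸ l1 _) with b | b
    · rw [if_pos a, if_pos b, if_pos (by rw [mul_assoc, b, ← mul_assoc, a, mul_assoc])]; rfl
    · rw [if_pos a, if_neg (fun e => n _ (b.symm.trans e)), if_neg fun e => n (c * (x * y)) (by
        nth_rw 2 [← e]; rw [mul_assoc x y c, b, ← mul_assoc x, ← mul_assoc x, a]; group)]; rfl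
    · rw [if_pos b, if_neg (fun e => n _ (a.symm.trans e)), if_neg fun e => n (c * (x * y)) (by
        nth_rw 2 [← e]; rw [mul_assoc x y c, b, ← mul_assoc x, a, mul_assoc _ z, ← h.zc]; group)]; rfl
    · rw [if_neg (fun e => n _ (b.symm.trans e)), if_neg (fun e => n _ (a.symm.trans e)), if_pos (by
        rw [mul_assoc, b, ← mul_assoc, ← mul_assoc, a, mul_assoc _ z y, ← h.zc, ← mul_assoc, mul_assoc _ z, h.z2]
        group)]; rfl
  have nd : ∀ u, (∀ w, bt κ u w = 0) → u = 0 := fun u e => by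
    rw [← l2 u, n3 _ (l1 u)]
    refine h.cent _ fun x hx => by_contra fun n => ?_
    have := e (ν x)
    rw [← l2 u, b1 _ (l1 _) _ hx, if_neg n] at this
    exact absurd this (by decide)
  have S : QS H V π κ := ⟨two', n5, h.surj, fun g => ⟨fun e w => ?_, fun e => ?_⟩, fun g w => ?_, badd, nd⟩
  rotate_left
  · have hg := (h.ker g).1 e
    rw [← l2 w, ← n4 _ _ (l1 _), n1 _ (mul_mem hg (l1 _)) _ (inv_mem hg), n1 _ hg _ (l1 _), add_right_comm,
      ← n1 _ hg _ (inv_mem hg), mul_inv_cancel, (n3 1 (one_mem _)).2 (.inl rfl), zero_add]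
  · let F : V →+ (V →+ ZMod 2) := AddMonoidHom.mk' (fun u => AddMonoidHom.mk' (fun w => bt κ w u) fun a b => badd a b u)
      fun a b => AddMonoidHom.ext fun w => by
        show bt κ w (a + b) = bt κ w a + bt κ w b
        rw [bt_symm, badd, bt_symm, bt_symm κ b]
    have cF : Nat.card (V →+ ZMod 2) = Nat.card V := by
      rw [← Nat.card_congr (AddMonoidHom.toZModLinearMapEquiv 2).toEquiv.symm]
      haveI : Fact (Nat.Prime 2) := ⟨Nat.prime_two⟩
      rw [Module.natCard_eq_pow_finrank (K := ZMod 2), Module.natCard_eq_pow_finrank (K := ZMod 2) (V := V)]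
      exact congrArg _ Subspace.dual_finrank_eq
    haveI : Finite (V →+ ZMod 2) := Finite.of_injective _ DFunLike.coe_injective
    have bij := (Nat.bijective_iff_injective_and_card F).2 ⟨(injective_iff_map_eq_zero F).2 fun u e =>
      nd u fun w => (bt_symm κ u w).trans (DFunLike.congr_fun e w), cF.symm⟩
    have c : ∀ x ∈ Q, g * x * g⁻¹ = x ∨ g * x * g⁻¹ = x * z := fun x hx =>
      eq _ (‹Q.Normal›.conj_mem x hx g) x hx (by rw [n4 _ _ hx, e])
    have n : ∀ a : H, a * z ≠ a := fun a e => h.z1 (mul_eq_left.1 e)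
    have f1 : ∀ x ∈ Q, (g * l (ν x) * g⁻¹ = l (ν x) ↔ g * x * g⁻¹ = x) := fun x hx => by
      rcases eq _ (l1 _) x hx (l2 _) with e | e <;> rw [e]
      rw [← mul_assoc, mul_assoc _ z, ← h.zc, ← mul_assoc, mul_left_inj]
    obtain ⟨r, hr⟩ := bij.2 (AddMonoidHom.mk' (fun w => if g * l w * g⁻¹ = l w then 0 else 1) fun a b => by
      have := f1 _ (mul_mem (l1 a) (l1 b))
      rw [n1 _ (l1 _) _ (l1 _), l2, l2] at this
      simp only [this]
      rw [← conj_mul]
      rcases c _ (l1 a) with e1 | e1 <;> rcases c _ (l1 b) with e2 | e2 <;> rw [e1, e2]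
      · simp
      · rw [← mul_assoc]; simp [n]
      · rw [mul_assoc, ← h.zc, ← mul_assoc]; simp [n]
      · rw [mul_assoc, ← mul_assoc z, ← h.zc, mul_assoc _ z, h.z2]; simp [n]; decide)
    have : (l r)⁻¹ * g = 1 ∨ (l r)⁻¹ * g = z := h.cent _ fun x hx => by
      have a : bt κ (ν x) r = if g * l (ν x) * g⁻¹ = l (ν x) then 0 else 1 := DFunLike.congr_fun hr (ν x)
      simp only [f1 x hx] at a
      rw [← l2 r, b1 _ hx _ (l1 _)] at a
      have : g * x * g⁻¹ = l r * x * (l r)⁻¹ := by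
        rcases c x hx with e1 | e1 <;> rcases h.comm _ (l1 r) x hx with e2 | e2
        · rw [e1, e2, mul_inv_cancel_right]
        · rw [if_pos e1, if_neg fun e => n _ (e2.symm.trans e.symm)] at a; exact absurd a (by decide)
        · rw [if_pos e2.symm, if_neg fun e => n _ (e1.symm.trans e)] at a; exact absurd a (by decide)
        · rw [e1, e2, mul_assoc _ z, ← h.zc]; group
      calc _ = (l r)⁻¹ * (g * x * g⁻¹) * g := by group
        _ = _ := by rw [this]; group
    rw [h.ker, ← mul_inv_cancel_left (l r) g]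
    refine mul_mem (l1 _) ?_
    rcases this with e | e <;> rw [e]
    exacts [one_mem _, h.zQ]
  · rw [← l2 w, ← n4 _ _ (l1 _), k1 _ (l1 _), k1 _ (‹Q.Normal›.conj_mem _ (l1 _) g), conj_mul]
    simp [mul_inv_eq_one]
  obtain ⟨π', S', s, X, B, b⟩ := S.main
  have nq : ∀ (B : List V) n, ν (qw (B.map l) n) = cmb B n := fun B => by
    induction B with
    | nil => exact fun _ => (n3 1 (one_mem _)).2 (.inl rfl)
    | cons v B ih =>
      intro n
      rw [List.map_cons, qw, cmb, n1 _ (by split_ifs; exacts [l1 _, one_mem _]) _ (qw_mem (by simp [l1]) _), ih]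
      split_ifs; exacts [by rw [l2], by rw [(n3 1 (one_mem _)).2 (.inl rfl)]]
  have mL : ∀ g ∈ B.map l, g ∈ Q := by simp [l1]
  have gd : ∀ k < 8, (B.map l).getD k 1 = l (B.getD k 0) := fun k hk => by
    rw [List.getD_eq_getElem _ _ (by simp [b.len, hk]), List.getD_eq_getElem _ _ (by simp [b.len, hk]), List.getElem_map]
  have bz : ∀ x ∈ Q, ∀ y ∈ Q, ∀ t : Bool, bt κ (ν x) (ν y) = (bif t then 1 else 0) → x * y = y * x * ez z t := by
    intro x hx y hy t e
    rw [b1 x hx y hy] at e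
    cases t
    · rw [ez, cond_false, mul_one]; by_contra n; rw [if_neg n] at e; exact absurd e (by decide)
    · exact (h.comm x hx y hy).resolve_left fun n => by rw [if_pos n] at e; exact absurd e (by decide)
  have sg : ∀ g, sign (π' g) = 1 := fun g => by
    have : (π' g ∈ alternatingGroup (Fin 9)) := by
      have hc : alternatingGroup (Fin 9) ≤ π'.range := fun σ hσ => S'.surj σ hσ
      have c1 : Nat.card π'.range = Nat.card π.range := by
        rw [← index_ker, ← index_ker, show π'.ker = π.ker from ext fun g => (S'.ker g).trans (S.ker g).symm]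
      have c2 : π.range = alternatingGroup (Fin 9) :=
        le_antisymm (by rintro _ ⟨g, rfl⟩; exact h.sgn g) fun σ hσ => h.surj σ hσ
      rw [eq_of_le_of_card_ge hc (by rw [c1, c2])]; exact ⟨g, rfl⟩
    exact this
  refine ⟨π', ⟨h.z2, h.z1, h.zc, h.zQ, h.comm, h.sq, h.card, h.cent, fun g => ((S'.ker g).trans (S.ker g).symm).trans
    (h.ker g), S'.surj, sg⟩, s, X, B.map l, ⟨h.z2, h.zc, by simp [b.len], fun k hk => ?_, fun k hk j hj => ?_⟩, b.px, mL,
    fun n hn e => b.inj n hn (by rw [← nq, n3 _ (qw_mem mL _)]; exact e), fun x hx => ?_, fun i hi k hk => ?_, fun t => ?_⟩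
  · have := b.kk k hk
    rw [← l2 (B.getD k 0), k1 _ (l1 _)] at this
    rw [gd k hk]
    cases e : KK s <;> rw [e] at this
    · show _ = 1; by_contra n; rw [if_neg n] at this; exact absurd this (by decide)
    · exact (h.sq _ (l1 _)).resolve_left fun n => by rw [if_pos n] at this; exact absurd this (by decide)
  · rw [gd k hk, gd j hj]; exact bz _ (l1 _) _ (l1 _) _ (by rw [l2, l2, b.bb k hk j hj])
  · obtain ⟨n, hn, e⟩ := cmb_surj two' n5 b.inj (ν x)
    exact ⟨n, hn, eq x hx _ (qw_mem mL _) (by rw [nq, e])⟩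
  · have a := congrArg (·.getD k 0) (b.act i hi)
    have lm : ((MM s).getD i []).length = 8 := by clear a; revert i; cases s <;> decide
    simp only [List.getD_eq_getElem _ _ (show k < (B.map (X i • ·)).length by simp [b.len, hk]),
      List.getD_eq_getElem _ _ (show k < (((MM s).getD i []).map (cmb B)).length by rw [List.length_map, lm]; exact hk),
      List.getElem_map] at a
    rcases eq (X i * (B.map l).getD k 1 * (X i)⁻¹) (‹Q.Normal›.conj_mem _ (gd k hk ▸ l1 _) _) _
      (qw_mem mL (((MM s).getD i []).getD k 0)) (by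
        rw [gd k hk, n4 _ _ (l1 _), l2, nq, List.getD_eq_getElem _ _ (by simp [b.len, hk]), a,
          List.getD_eq_getElem ((MM s).getD i []) 0 (by rw [lm]; exact hk)]) with e | e
    exacts [⟨false, e.trans (mul_one _).symm⟩, ⟨true, e⟩]
  · let F : V →+ (Fin 8 → ZMod 2) := AddMonoidHom.mk' (fun u k => bt κ u (B.getD k 0))
      fun u v => funext fun k => badd u v _
    have bij := (Nat.bijective_iff_injective_and_card F).2 ⟨(injective_iff_map_eq_zero F).2 fun u e =>
      nd u fun w => by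
        obtain ⟨n, -, rfl⟩ := cmb_surj two' n5 b.inj w
        have := cmb_map (AddMonoidHom.mk' (fun w => bt κ u w) fun a c => S.add' a c u) B n
        refine this.trans ?_
        have z0 : ∀ (L : List (ZMod 2)) n, (∀ a ∈ L, a = 0) → cmb L n = 0 := fun L => by
          induction L with
          | nil => exact fun _ _ => rfl
          | cons a L ih => intro n e; simp only [List.forall_mem_cons] at e; simp [cmb, e.1, ih _ e.2]
        refine z0 _ _ fun a ha => ?_
        obtain ⟨v, hv, rfl⟩ := List.mem_map.1 ha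
        obtain ⟨k, hk, rfl⟩ := List.mem_iff_getElem.1 hv
        have := congrFun e ⟨k, b.len ▸ hk⟩
        rwa [← List.getD_eq_getElem _ 0], by rw [n5]; simp⟩
    obtain ⟨r, hr⟩ := bij.2 fun k => bif t k then 1 else 0
    refine ⟨l r, l1 r, fun k hk => ?_⟩
    rw [gd k hk, bz _ (l1 r) _ (l1 _) (t k) (by rw [l2, l2]; exact congrFun hr ⟨k, hk⟩), mul_assoc, mul_assoc]
    cases t k
    · simp [ez]
    · rw [ez, cond_true, ← h.zc]; group

end XH

theorem xh_of {G : Type u} [Group G] {z : G} (hz : orderOf z = 2) {Q : Subgroup (centralizer ({z} : Set G))} [Q.Normal]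
    (hQ : IsExtraspecial 2 Q) (hcard : Nat.card Q = 2 ^ 9)
    (h2c : centralizer (Q : Set (centralizer ({z} : Set G))) ≤ Q)
    (e : (centralizer ({z} : Set G) ⧸ Q) ≃* alternatingGroup (Fin 9)) :
    ∃ π, XH (⟨z, mem_centralizer_singleton_iff.2 rfl⟩ : centralizer ({z} : Set G)) Q π := by
  haveI : Fact (Nat.Prime 2) := ⟨Nat.prime_two⟩
  haveI : Finite Q := Nat.finite_of_card_ne_zero (by rw [hcard]; norm_num)
  set t : centralizer ({z} : Set G) := ⟨z, mem_centralizer_singleton_iff.2 rfl⟩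
  have z2 : t * t = 1 := Subtype.ext (by rw [← pow_two]; exact hz ▸ pow_orderOf_eq_one z)
  have z1 : t ≠ 1 := fun e => by
    rw [show z = 1 from congrArg Subtype.val e, orderOf_one] at hz; omega
  obtain ⟨⟨hP, hF, hC⟩, hZ⟩ := hQ
  have zc : ∀ h, h * t = t * h := fun h => Subtype.ext (mem_centralizer_singleton_iff.1 h.2)
  have mz : t ∈ Q := h2c fun x _ => zc x
  have Z : ∀ x ∈ center Q, x.1 = 1 ∨ x.1 = t := fun x hx => by
    obtain ⟨y, -, hy⟩ := (Nat.card_eq_two_iff' (1 : center Q)).mp hZ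
    by_cases x1 : x.1 = 1
    · exact Or.inl x1
    · have e1 := hy ⟨x, hx⟩ fun e => x1 (congrArg (fun y : center Q => y.1.1) e)
      have e2 := hy ⟨⟨_, mz⟩, mem_center_iff.mpr fun x => Subtype.ext (zc _)⟩
        fun e => z1 (congrArg (fun y : center Q => y.1.1) e)
      exact Or.inr (congrArg (fun y : center Q => y.1.1) (e1.trans e2.symm))
  refine ⟨(alternatingGroup (Fin 9)).subtype.comp (e.toMonoidHom.comp (QuotientGroup.mk' Q)), z2, z1, zc, mz,
    fun x hx y hy => ?_, fun x hx => ?_, hcard, fun h hx => ?_, fun h => ?_, fun σ hσ => ?_, fun h => (e _).2⟩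
  · have := Z ⁅(⟨x, hx⟩ : Q)⁻¹, (⟨y, hy⟩ : Q)⁻¹⁆ (hC ▸ commutator_mem_commutator (mem_top _) (mem_top _))
    refine this.imp (fun e => ?_) fun e => ?_
    · have e : x⁻¹ * y⁻¹ * x⁻¹⁻¹ * y⁻¹⁻¹ = 1 := e
      rw [← mul_one (y * x), ← e]; group
    · have e : x⁻¹ * y⁻¹ * x⁻¹⁻¹ * y⁻¹⁻¹ = t := e
      rw [← e]; group
  · have := Z _ (hF ▸ PLoc.pow_mem_frattini hP ⟨x, hx⟩)
    rwa [pow_two] at this
  · exact Z ⟨_, h2c fun x hx' => (hx x hx').symm⟩ (mem_center_iff.mpr fun x => Subtype.ext (hx x x.2).symm)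
  · simp [← QuotientGroup.eq_one_iff]
  · obtain ⟨g, hg⟩ := QuotientGroup.mk'_surjective Q (e.symm ⟨σ, hσ⟩)
    exact ⟨g, by rw [MonoidHom.comp_apply, MonoidHom.comp_apply, hg]; simp⟩

end Cfsg.Agent.H8Th
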