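import Cfsg.Agent.H8.ThD
import Cfsg.Agent.Spor.PX4

/-! # Groups of shape `2^{1+8}.A₉`: identification with a quotient of a model -/

set_option autoImplicit false
set_option linter.unusedVariables false
set_option linter.unusedSectionVars false
set_option maxRecDepth 100000

namespace Cfsg.Agent.H8Th
open Equiv Subgroup Cfsg.Agent.Spor Cfsg.Agent.Cov

theorem c3_mem {j : ℕ} (hj : j < 7) : c3 j ∈ alternatingGroup (Fin 9) := (c3_three j hj).mem_alternatingGroup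
noncomputable def cA : ℕ → alternatingGroup (Fin 9) := lift _ c3
theorem cA_coe {j : ℕ} (hj : j < 7) : (cA j : P9) = c3 j := lift_coe (c3_mem hj)

theorem cA_top : gsub 7 cA = ⊤ := by
  refine eq_top_iff.2 fun a _ => ?_
  have key : ∀ σ : P9, ∃ b ∈ gsub 7 cA, (b : P9) = σ ∨ (b : P9) = swap 8 7 * σ := by
    have m : ∀ i : Fin 9, i ≠ 8 → ∃ b ∈ gsub 7 cA, (b : P9) = swap 8 7 * swap 8 i := by
      intro i hi
      by_cases e : i = 7
      · exact ⟨1, one_mem _, by rw [e]; simp⟩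
      · have h9 : i.1 < 7 := by omega
        exact ⟨cA i, mem_gsub _ h9, by rw [cA_coe h9, c3]; simp⟩
    intro σ
    induction σ using star_induction (8 : Fin 9) with
    | h1 => exact ⟨1, one_mem _, Or.inl rfl⟩
    | h2 i σ hi ih =>
      obtain ⟨b, hb, e | e⟩ := ih
      · obtain ⟨d, hd, e2⟩ := m i hi
        exact ⟨d * b, mul_mem hd hb, Or.inr (by rw [coe_mul, e, e2, mul_assoc])⟩
      · obtain ⟨d, hd, e2⟩ := m i hi
        refine ⟨d⁻¹ * b, mul_mem (inv_mem hd) hb, Or.inl ?_⟩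
        rw [coe_mul, coe_inv, e, e2]; simp [mul_assoc]
  obtain ⟨b, hb, e | e⟩ := key a
  · rwa [← Subtype.ext e]
  · have := congrArg Perm.sign e
    rw [Perm.sign_mul, Perm.mem_alternatingGroup.1 a.2, Perm.mem_alternatingGroup.1 b.2,
      Perm.sign_swap (by decide)] at this
    exact absurd this (by decide)

theorem carm9 {G : Type*} [Group G] {x : ℕ → G} (h1 : ∀ i < 7, x i * x i * x i = 1)
    (h2 : ∀ i < 7, ∀ j < 7, i ≠ j → x i * x j * x i * x j = 1) :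
    ∃ ψ : alternatingGroup (Fin 9) →* G, ∀ j < 7, ψ (cA j) = x j := by
  have lt : ∀ i : Fin 9, i ≠ 8 → i ≠ 7 → i.1 < 7 := fun i a b => by omega
  have k1 : ∀ i < 7, cA i * cA i * cA i = 1 := fun i hi => Subtype.ext (by
    simp only [coe_mul, cA_coe hi, coe_one]; revert i; decide +kernel)
  have k2 : ∀ i < 7, ∀ j < 7, i ≠ j → cA i * cA j * cA i * cA j = 1 := fun i hi j hj h => Subtype.ext (by
    simp only [coe_mul, cA_coe hi, cA_coe hj, coe_one]; revert j; revert i; decide +kernel)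
  obtain ⟨ψ, hψ⟩ := H8Ly.exists_section_val (MonoidHom.snd G (alternatingGroup (Fin 9))) (o := 8) (s := 7)
    (by decide) (fun i => (x i, cA i))
    (fun i a b => by simp [cA_coe (lt i a b), c3])
    (fun i a b => Prod.ext (h1 i (lt i a b)) (k1 i (lt i a b)))
    (fun i j a b c d e => Prod.ext (h2 i (lt i a b) j (lt j c d) (Fin.val_ne_of_ne e))
      (k2 i (lt i a b) j (lt j c d) (Fin.val_ne_of_ne e)))
  refine ⟨(MonoidHom.fst _ _).comp ψ, fun j hj => ?_⟩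
  have := hψ (cA j) ⟨j, by omega⟩ (by simp [Fin.ext_iff]; omega) (by simp [Fin.ext_iff]; omega)
    (by rw [cA_coe hj, c3]; congr 2; simp [Fin.ext_iff]; omega)
  simp [this]

section
variable {K : Type*} [Group K]

theorem qw_xor0 {L : List K} (h1 : ∀ g ∈ L, g * g = 1) (h2 : ∀ g ∈ L, ∀ h ∈ L, g * h = h * g) (n m : ℕ) :
    qw L (n ^^^ m) = qw L n * qw L m := by
  induction L generalizing n m with
  | nil => exact (mul_one _).symm
  | cons g L ih =>
    have c : ∀ k, qw L k * g = g * qw L k := fun k => (mem_centralizer_singleton_iff.1 (qw_mem (S := centralizer {g})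
      (fun x hx => mem_centralizer_singleton_iff.2 (h2 x (by simp [hx]) g (by simp))) k))
    rw [qw, qw, qw, Nat.xor_div_two, ih (fun x hx => h1 x (by simp [hx])) fun x hx y hy => h2 x (by simp [hx]) y (by simp [hy])]
    simp only [Nat.xor_mod_two_eq_one]
    by_cases a : n % 2 = 1 <;> by_cases b : m % 2 = 1 <;> simp [a, b, mul_assoc]
    · rw [← mul_assoc _ g, c, ← mul_assoc, ← mul_assoc, h1 g (by simp), one_mul]
    · rw [← mul_assoc _ g, c, mul_assoc]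

theorem cube_c {a c : K} (h : a * c = c * a) (c2 : c * c = 1) : a * c * (a * c) * (a * c) = a * a * a * c := by
  rw [mul_assoc a c, ← mul_assoc c a, ← h, mul_assoc a c c, c2, mul_one, ← mul_assoc]
theorem ez_c {c : K} (cc : ∀ h, h * c = c * h) (b : Bool) (h : K) : h * ez c b = ez c b * h := by
  cases b <;> simp [ez, cc]
theorem ez_mul {c : K} (c2 : c * c = 1) (a b : Bool) : ez c a * ez c b = ez c (a ^^ b) := by
  cases a <;> cases b <;> simp [ez, c2]
theorem ez_map {K' F : Type*} [Group K'] [FunLike F K K'] [MonoidHomClass F K K'] (f : F) (c : K) (b : Bool) :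
    f (ez c b) = ez (f c) b := by cases b <;> simp [ez]
theorem ez_of {c x : K} (h : x = 1 ∨ x = c) : ∃ b, x = ez c b := h.elim (fun e => ⟨false, e⟩) fun e => ⟨true, e⟩
theorem ez_or (c : K) (b : Bool) : ez c b = 1 ∨ ez c b = c := by cases b <;> simp [ez]

variable {c ω : K} {s : Bool} {L : List K}
theorem XL.xor (h : XL c s L) (n m : ℕ) : ∃ a, qw L n * qw L m = qw L (n ^^^ m) * ez c a := by
  haveI : (zpowers c).Normal := ⟨fun x ⟨k, e⟩ g => by
    rw [← e, (Commute.zpow_right (h.cc g) k).eq, mul_inv_cancel_right]; exact ⟨k, rfl⟩⟩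
  let p := QuotientGroup.mk' (zpowers c)
  have pz : ∀ b, p (ez c b) = 1 := fun b => (QuotientGroup.eq_one_iff _).2 (by cases b <;> simp [ez])
  have e := qw_xor0 (L := L.map p) (by
    simp only [List.forall_mem_map, getD_mem h.len]
    rintro _ ⟨k, hk, rfl⟩; rw [← map_mul, h.kk k hk, pz]) (by
    simp only [List.forall_mem_map, getD_mem h.len]
    rintro _ ⟨k, hk, rfl⟩ _ ⟨l, hl, rfl⟩; rw [← map_mul, h.bb k hk l hl, map_mul, pz, mul_one, map_mul]) n m
  rw [← qw_map, ← qw_map, ← qw_map, ← map_mul] at e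
  obtain ⟨k, hk⟩ := QuotientGroup.eq.1 e
  have : c ^ (2 : ℤ) = 1 := by rw [zpow_two, h.c2]
  simp only at hk
  rw [zpow_eq_zpow_emod k this, eq_inv_mul_iff_mul_eq] at hk
  rcases Int.emod_two_eq_zero_or_one k with a | a <;> rw [a] at hk
  exacts [⟨false, by rw [← hk]; simp [ez]⟩, ⟨true, by rw [← hk]; simp [ez]⟩]

/-- the subgroup of normal forms -/
def XL.nf (h : XL c s L) (w2 : ω * ω = 1) (wc : ∀ g, g * ω = ω * g) : Subgroup K where
  carrier := {x | ∃ n < 256, ∃ a b, x = qw L n * ez c a * ez ω b}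
  one_mem' := ⟨0, by decide, false, false, by simp [qw_zero, ez]⟩
  mul_mem' := by
    rintro _ _ ⟨n, hn, a, b, rfl⟩ ⟨m, hm, a', b', rfl⟩
    obtain ⟨d, e⟩ := h.xor n m
    refine ⟨_, Nat.xor_lt_two_pow (n := 8) hn hm, d ^^ (a ^^ a'), b ^^ b', ?_⟩
    rw [← ez_mul h.c2, ← ez_mul h.c2, ← ez_mul w2, ← mul_assoc (qw L _), ← e, mul_assoc _ (ez ω b), ← ez_c wc b]
    simp only [mul_assoc]
    rw [← mul_assoc (ez c a) (qw L m), ← ez_c h.cc a, ← ez_c wc b', mul_assoc]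
  inv_mem' := by
    rintro _ ⟨n, hn, a, b, rfl⟩
    obtain ⟨d, e⟩ := h.xor n n
    refine ⟨n, hn, d ^^ a, b, inv_eq_of_mul_eq_one_right ?_⟩
    rw [Nat.xor_self, qw_zero, one_mul] at e
    rw [mul_assoc _ (ez ω b), ← ez_c wc b, mul_assoc _ (ez ω b), ez_mul w2, Bool.xor_self, mul_assoc (qw L n),
      ← mul_assoc (ez c a), ← mul_assoc (ez c a), ← ez_c h.cc a, mul_assoc (qw L n) (ez c a), ez_mul h.c2, ← mul_assoc,
      ← mul_assoc, e, ez_mul h.c2]
    cases a <;> cases d <;> simp [ez]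

variable (h : XL c s L) (w2 : ω * ω = 1) (wc : ∀ g, g * ω = ω * g)
theorem XL.nf_c : c ∈ h.nf w2 wc := ⟨0, by decide, true, false, by simp [qw_zero, ez]⟩
theorem XL.nf_w : ω ∈ h.nf w2 wc := ⟨0, by decide, false, true, by simp [qw_zero, ez]⟩
theorem XL.nf_L : ∀ g ∈ L, g ∈ h.nf w2 wc := fun g hg => by
  obtain ⟨k, hk, rfl⟩ := (getD_mem h.len).1 hg
  refine ⟨2 ^ k, Nat.pow_lt_pow_right (by decide : 1 < 2) hk, false, false, ?_⟩
  have : ∀ (L : List K) k, qw L (2 ^ k) = L.getD k 1 := fun L => by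
    induction L with
    | nil => exact fun _ => rfl
    | cons g L ih =>
      rintro (_ | k)
      · simp [qw, qw_zero]
      · rw [qw, pow_succ, Nat.mul_div_cancel _ two_pos, ih, Nat.mul_mod_left]; simp
  simp [this, ez]
theorem ez_mem {S : Subgroup K} (h : c ∈ S) (b : Bool) : ez c b ∈ S := by cases b <;> simp [ez, h]
theorem XL.nf_norm {x : K} (hx : ∀ k < 8, ∃ n a, x * L.getD k 1 * x⁻¹ = qw L n * ez c a) :
    x ∈ normalizer (h.nf w2 wc : Set K) := by
  haveI : Finite (h.nf w2 wc : Set K) := Set.Finite.subset (Set.finite_range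
    fun p : Fin 256 × Bool × Bool => qw L p.1 * ez c p.2.1 * ez ω p.2.2) (by
      rintro _ ⟨n, hn, a, b, rfl⟩; exact ⟨(⟨n, hn⟩, a, b), rfl⟩)
  refine mem_normalizer_fintype ?_
  rintro _ ⟨n, hn, a, b, rfl⟩
  have : x * (qw L n * ez c a * ez ω b) * x⁻¹ = MulAut.conj x (qw L n) * ez c a * ez ω b := by
    rw [mul_assoc x, mul_assoc _ (ez ω b), ← ez_c wc, ← mul_assoc _ x⁻¹, mul_assoc (qw L n), ← ez_c h.cc]
    simp [mul_assoc]
  rw [this, qw_map]
  refine mul_mem (mul_mem (qw_mem (fun g hg => ?_) _) (ez_mem (h.nf_c w2 wc) _)) (ez_mem (h.nf_w w2 wc) _)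
  obtain ⟨g, hg', rfl⟩ := List.mem_map.1 hg
  obtain ⟨k, hk, rfl⟩ := (getD_mem h.len).1 hg'
  obtain ⟨n, a, e⟩ := hx k hk
  rw [MulAut.conj_apply, e]
  exact mul_mem (qw_mem (h.nf_L w2 wc) _) (ez_mem (h.nf_c w2 wc) _)
end

structure MD {U : Type} [Group U] (s : Bool) (z ζ : U) (q : List U) (y : ℕ → U) : Prop extends XL z s q where
  w2 : ζ * ζ = 1
  wc : ∀ h, h * ζ = ζ * h
  act : ∀ i < 7, ∀ k < 8, ∃ b, y i * q.getD k 1 * (y i)⁻¹ = qw q (((MM s).getD i []).getD k 0) * ez z b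
  cube : ∀ i < 7, y i * y i * y i = 1
  inj : ∀ n < 256, ∀ a b, qw q n * ez z a * ez ζ b = 1 → n = 0 ∧ a = false ∧ b = false
  sq : ∃ n a, y 0 * y 1 * y 0 * y 1 = qw q n * ez z a * ζ
  conj : ∀ i < 7, ∀ j < 7, i ≠ j → ∃ w, (∃ n a b, ev (atm 7 y) w * y 0 * (ev (atm 7 y) w)⁻¹ = qw q n * ez z a * ez ζ b * y i) ∧
    ∃ n a b, ev (atm 7 y) w * y 1 * (ev (atm 7 y) w)⁻¹ = qw q n * ez z a * ez ζ b * y j
  top : ∀ K : Subgroup U, (∀ g ∈ q, g ∈ K) → (∀ i < 7, y i ∈ K) → K = ⊤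

theorem MD.hom {U : Type} [Group U] {s : Bool} {z ζ : U} {q : List U} {y : ℕ → U} (m : MD s z ζ q y)
    {H : Type*} [Group H] {z' : H} {Q : Subgroup H} {π : H →* P9} (h : XH z' Q π) {X : ℕ → H} {L : List H}
    (g : GB z' Q π s X L) : ∃ φ : U →* H, φ z = z' ∧ q.map φ = L ∧ (∀ i < 7, π (φ (y i)) = c3 i) ∧
      Function.Surjective φ ∧ ∃ b, φ (ez z b * ζ) = 1 ∧ ∀ u, φ u = 1 → u = 1 ∨ u = ez z b * ζ := by
  let LK := q.zip L
  have l1 : LK.map (MonoidHom.fst U H) = q := List.map_fst_zip (by rw [m.len, g.len])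
  have l2 : LK.map (MonoidHom.snd U H) = L := List.map_snd_zip (by rw [m.len, g.len])
  have lk : LK.length = 8 := by simp [LK, m.len, g.len]
  have gd : ∀ k < 8, LK.getD k 1 = (q.getD k 1, L.getD k 1) := fun k hk => by
    rw [List.getD_eq_getElem _ _ (lk ▸ hk), List.getD_eq_getElem _ _ (m.len ▸ hk), List.getD_eq_getElem _ _ (g.len ▸ hk),
      List.getElem_zip]
  have qq : ∀ n, qw LK n = (qw q n, qw L n) := fun n =>
    Prod.ext ((qw_map (MonoidHom.fst U H) LK n).trans (by rw [l1])) ((qw_map (MonoidHom.snd U H) LK n).trans (by rw [l2]))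
  have ee : ∀ (a : U) (b : H) t, ez (a, b) t = (ez a t, ez b t) := fun a b t => by cases t <;> rfl
  have xl : XL (z, z') s LK := ⟨Prod.ext m.c2 g.c2, fun x => Prod.ext (m.cc _) (g.cc _), lk, fun k hk => by
    rw [gd k hk, ee]; exact Prod.ext (m.kk k hk) (g.kk k hk), fun k hk l hl => by
    rw [gd k hk, gd l hl, ee]; exact Prod.ext (m.bb k hk l hl) (g.bb k hk l hl)⟩
  have o2 : (1 : U × H) * 1 = 1 := mul_one _
  have oc : ∀ x : U × H, x * 1 = 1 * x := by simp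
  let D := xl.nf o2 oc
  have mD : ∀ n a, (qw q n * ez z a, qw L n * ez z' a) ∈ D := fun n a => by
    have := mul_mem (qw_mem (xl.nf_L o2 oc) n) (ez_mem (xl.nf_c o2 oc) a)
    rwa [qq, ee] at this
  have g1 : ∀ b x, (ez ζ b, x) ∈ D → x = 1 ∧ b = false := by
    rintro b x ⟨n, hn, a, t, e⟩
    rw [qq, ee, show ez (1 : U × H) t = 1 by cases t <;> rfl, mul_one, Prod.ext_iff] at e
    obtain ⟨rfl, rfl, rfl⟩ := m.inj n hn a b (by
      rw [← show ez ζ b = qw q n * ez z a from e.1, ez_mul m.w2, Bool.xor_self]; rfl)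
    exact ⟨by simpa [qw_zero, ez] using e.2, rfl⟩
  have cz : ∀ b x, (ez ζ b, x) ∈ normalizer (D : Set (U × H)) → ∃ t, x = ez z' t := fun b x hx => ez_of (h.cent x fun r hr => by
    have k : ∀ r ∈ L, r ∈ centralizer {x} := fun r hr => by
      obtain ⟨k, hk, rfl⟩ := (getD_mem g.len).1 hr
      have a : LK.getD k 1 ∈ D := xl.nf_L o2 oc _ ((getD_mem lk).2 ⟨k, hk, rfl⟩)
      have := mul_mem ((hx _).1 a) (inv_mem a)
      rw [gd k hk, Prod.mk_mul_mk, Prod.inv_mk, Prod.inv_mk, Prod.mk_mul_mk, Prod.mk_mul_mk, ← ez_c m.wc,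
        mul_inv_cancel_right, mul_inv_cancel] at this
      rw [mem_centralizer_singleton_iff, eq_comm, ← mul_inv_eq_iff_eq_mul, ← mul_inv_eq_one]
      exact (g1 false _ this).1
    obtain ⟨n, -, rfl | rfl⟩ := g.span r hr
    · exact (mem_centralizer_singleton_iff.1 (qw_mem k n)).symm
    · rw [← mul_assoc, ← mem_centralizer_singleton_iff.1 (qw_mem k n), mul_assoc, mul_assoc, h.zc])
  have adj : ∀ i < 7, ∃ Y, π Y = c3 i ∧ Y * Y * Y = 1 ∧ ∀ k < 8, ∃ n a, (y i, Y) * LK.getD k 1 * (y i, Y)⁻¹ =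
      qw LK n * ez (z, z') a := fun i hi => by
    choose! b1 e1 using m.act i hi
    choose! b2 e2 using g.act i hi
    obtain ⟨r, hr, e3⟩ := g.dual fun k => b2 k ^^ b1 k
    have k1 : ∀ t, ∀ k < 8, ∃ n a, (y i, X i * r * ez z' t) * LK.getD k 1 * (y i, X i * r * ez z' t)⁻¹ =
        qw LK n * ez (z, z') a := fun t k hk => ⟨_, b1 k, by
      rw [gd k hk, qq, ee]
      refine Prod.ext (e1 k hk) ?_
      show X i * r * ez z' t * L.getD k 1 * (X i * r * ez z' t)⁻¹ = _ * _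
      rw [mul_assoc _ (ez z' t), ← ez_c h.zc t, show X i * r * (L.getD k 1 * ez z' t) * (X i * r * ez z' t)⁻¹ =
        X i * (r * L.getD k 1 * r⁻¹) * (X i)⁻¹ by group, e3 k hk, ← mul_assoc, mul_assoc _ (ez z' _), ← ez_c h.zc,
        ← mul_assoc, e2 k hk, mul_assoc, ez_mul h.z2]
      cases b1 k <;> cases b2 k <;> rfl⟩
    have := xl.nf_norm o2 oc (k1 false)
    have := mul_mem (mul_mem this this) this
    rw [Prod.mk_mul_mk, Prod.mk_mul_mk, m.cube i hi] at this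
    obtain ⟨t, e⟩ := cz false _ this
    refine ⟨_, ?_, ?_, k1 t⟩
    · rw [map_mul, map_mul, g.px i hi, (h.ker r).2 hr, (h.ker _).2 (ez_mem h.zQ t), mul_one, mul_one]
    · rw [ez, cond_false, mul_one] at e
      rw [cube_c (ez_c h.zc t _) (by rw [ez_mul h.z2, Bool.xor_self]; rfl), e, ez_mul h.z2, Bool.xor_self]; rfl
  choose! Y y1 y2 y3 using adj
  let x : ℕ → U × H := fun i => (y i, Y i)
  have xN : ∀ i < 7, x i ∈ normalizer (D : Set (U × H)) := fun i hi => xl.nf_norm o2 oc (y3 i hi)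
  have x3 : ∀ i < 7, x i * x i * x i = 1 := fun i hi => Prod.ext (m.cube i hi) (y2 i hi)
  have nz : ∀ v ∈ normalizer (D : Set (U × H)), ∀ n a b, v.1 = qw q n * ez z a * ez ζ b →
      ∃ d ∈ D, ∃ t, v = d * (ez ζ b, ez z' t) := fun v hv n a b e => by
    have := mul_mem (le_normalizer (inv_mem (mD n a))) hv
    obtain ⟨t, e'⟩ := cz b ((qw L n * ez z' a)⁻¹ * v.2) (by convert this using 1; ext <;> simp [e, mul_assoc])
    exact ⟨_, mD n a, t, Prod.ext e (by simp [← e', mul_assoc])⟩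
  obtain ⟨n0, a0, e0⟩ := m.sq
  obtain ⟨d0, hd0, t0, e0⟩ := nz (x 0 * x 1 * x 0 * x 1) (mul_mem (mul_mem (mul_mem (xN 0 (by omega)) (xN 1 (by omega)))
    (xN 0 (by omega))) (xN 1 (by omega))) n0 a0 true e0
  have zc : ∀ b t (v : U × H), v * (ez ζ b, ez z' t) = (ez ζ b, ez z' t) * v := fun b t v =>
    Prod.ext (ez_c m.wc _ _) (ez_c h.zc _ _)
  have z2 : ∀ b t, ((ez ζ b, ez z' t) : U × H) * (ez ζ b, ez z' t) = 1 := fun b t =>
    Prod.ext (by cases b <;> simp [m.w2, ez]) (by cases t <;> simp [h.z2, ez])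
  let D' := xl.nf (z2 true t0) (zc true t0)
  have le : D ≤ D' := by
    rintro _ ⟨n, hn, a, b, rfl⟩; exact ⟨n, hn, a, false, by cases b <;> rfl⟩
  let N := normalizer (D' : Set (U × H))
  have xN' : ∀ i < 7, x i ∈ N := fun i hi => xl.nf_norm _ _ (y3 i hi)
  have cj : ∀ w i j, i < 7 → j < 7 → (∃ n a b, ev (atm 7 y) w * y i * (ev (atm 7 y) w)⁻¹ = qw q n * ez z a * ez ζ b * y j) →
      ∃ d ∈ D', x j = d * (ev (atm 7 x) w * x i * (ev (atm 7 x) w)⁻¹) := by
    rintro w i j hi hj ⟨n, a, b, e⟩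
    have wN : ev (atm 7 x) w ∈ normalizer (D : Set (U × H)) := gsub_le xN (ev_atm_mem 7 x w)
    obtain ⟨d, hd, t, e1⟩ := nz (ev (atm 7 x) w * x i * (ev (atm 7 x) w)⁻¹ * (x j)⁻¹)
      (mul_mem (mul_mem (mul_mem wN (xN i hi)) (inv_mem wN)) (inv_mem (xN j hj))) n a b (by
        have : (ev (atm 7 x) w).1 = ev (atm 7 y) w := ev_atm_map (MonoidHom.fst U H) 7 x w
        simp only [Prod.fst_mul, Prod.fst_inv, this, x, e, mul_inv_cancel_right])
    rw [mul_inv_eq_iff_eq_mul] at e1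
    have c3 : ev (atm 7 x) w * (x i * x i * x i) * (ev (atm 7 x) w)⁻¹ = (d * (x j * d * (x j)⁻¹) *
        (x j * (x j * d * (x j)⁻¹) * (x j)⁻¹)) * (x j * x j * x j) * (ez ζ b, ez z' t) := by
      rw [← conj_mul, ← conj_mul, e1, mul_assoc d, ← zc, ← mul_assoc d, cube_c (zc _ _ _) (z2 _ _)]
      group
    rw [x3 i hi, x3 j hj, mul_one, mul_one, mul_inv_cancel, eq_comm, mul_eq_one_iff_eq_inv', eq_comm] at c3
    have m1 := (xN j hj _).1 hd
    obtain ⟨t1, rfl⟩ := g1 b _ (c3 ▸ inv_mem (mul_mem (mul_mem hd m1) ((xN j hj _).1 m1)))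
    refine ⟨d⁻¹, le (inv_mem hd), ?_⟩
    rw [e1, t1, show ((ez ζ false, 1) : U × H) = 1 from rfl, mul_one, inv_mul_cancel_left]
  haveI : (D'.subgroupOf N).Normal := normal_subgroupOf_iff_le_normalizer_inf.2 (by
    rw [inf_of_le_left le_normalizer])
  let p := QuotientGroup.mk' (D'.subgroupOf N)
  have p1 : ∀ v : N, p v = 1 ↔ v.1 ∈ D' := fun v => QuotientGroup.eq_one_iff _
  obtain ⟨ψ, hψ⟩ := carm9 (x := fun i => p (lift N x i)) (fun i hi => by
    rw [← map_mul, ← map_mul, p1]; simp only [coe_mul, lift_coe (xN' i hi), x3 i hi, one_mem]) (fun i hi j hj ne => by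
    obtain ⟨w, c1, c2⟩ := m.conj i hi j hj ne
    obtain ⟨d1, h1, e1⟩ := cj w 0 i (by omega) hi c1
    obtain ⟨d2, h2, e2⟩ := cj w 1 j (by omega) hj c2
    have wN : ev (atm 7 x) w ∈ N := gsub_le xN' (ev_atm_mem 7 x w)
    have k : ∀ i j, i < 7 → j < 7 → ∀ d ∈ D', x j = d * (ev (atm 7 x) w * x i * (ev (atm 7 x) w)⁻¹) →
        p (lift N x j) = p ⟨_, wN⟩ * p (lift N x i) * (p ⟨_, wN⟩)⁻¹ := fun i j hi hj d hd e => by
      rw [← mul_inv_eq_one, ← map_inv, ← map_mul, ← map_mul, ← map_inv, ← map_mul, p1]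
      simp only [coe_mul, coe_inv, lift_coe (xN' i hi), lift_coe (xN' j hj), e, mul_inv_cancel_right, hd]
    rw [k 0 i (by omega) hi d1 h1 e1, k 1 j (by omega) hj d2 h2 e2, conj_mul, conj_mul, conj_mul, conj_eq_one_iff,
      ← map_mul, ← map_mul, ← map_mul, p1]
    simp only [coe_mul, lift_coe (xN' 0 (by omega)), lift_coe (xN' 1 (by omega)), e0]
    exact mul_mem (le hd0) (xl.nf_w _ _))
  let π' : N →* alternatingGroup (Fin 9) := (π.comp ((MonoidHom.snd U H).comp N.subtype)).codRestrict _ fun v => h.sgn _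
  let Γ := ((ψ.comp π').eqLocus p).map N.subtype
  have dQ : ∀ d ∈ D', d.2 ∈ Q := by
    rintro _ ⟨n, hn, a, b, rfl⟩
    rw [qq, ee, ee]
    exact mul_mem (mul_mem (qw_mem g.mem _) (ez_mem h.zQ _)) (ez_mem (ez_mem h.zQ _) _)
  have G1 : D' ≤ Γ := fun d hd => ⟨⟨d, le_normalizer hd⟩, by
    show ψ (π' _) = p _
    rw [(p1 _).2 hd, show π' ⟨d, _⟩ = 1 from Subtype.ext ((h.ker _).2 (dQ d hd)), map_one], rfl⟩
  have G2 : ∀ i < 7, x i ∈ Γ := fun i hi => ⟨lift N x i, by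
    show ψ (π' _) = p _
    rw [← hψ i hi]; congr 1; refine Subtype.ext ?_
    rw [cA_coe hi, ← y1 i hi]
    exact congrArg (fun v : U × H => π v.2) (lift_coe (xN' i hi)), lift_coe (xN' i hi)⟩
  have G3 : ∀ v ∈ Γ, π v.2 = 1 → v ∈ D' := by
    rintro _ ⟨v, hv, rfl⟩ e
    have : ψ (π' v) = p v := hv
    rwa [show π' v = 1 from Subtype.ext e, map_one, eq_comm, p1] at this
  have G4 : ∀ r, (1, r) ∈ Γ → r = 1 := fun r hr => by
    have k : ∀ r, (1, r) ∈ D' → r = 1 := by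
      rintro r ⟨n, hn, a, b, e⟩
      rw [qq, ee, ee, Prod.ext_iff] at e
      obtain ⟨rfl, rfl, rfl⟩ := m.inj n hn a b e.1.symm
      simpa [qw_zero, ez] using e.2
    refine k r (G3 _ hr ((h.ker _).2 ?_))
    have : r = 1 ∨ r = z' := h.cent r fun v hv => by
      have k' : ∀ v ∈ L, v ∈ centralizer {r} := fun v hv => by
        obtain ⟨k', hk, rfl⟩ := (getD_mem g.len).1 hv
        have a : LK.getD k' 1 ∈ D' := xl.nf_L _ _ _ ((getD_mem lk).2 ⟨k', hk, rfl⟩)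
        have := mul_mem (((map_subtype_le _ hr : (1, r) ∈ N) _).1 a) (inv_mem a)
        rw [gd k' hk, Prod.mk_mul_mk, Prod.inv_mk, Prod.inv_mk, Prod.mk_mul_mk, Prod.mk_mul_mk, inv_one, one_mul,
          mul_one, mul_inv_cancel] at this
        rw [mem_centralizer_singleton_iff, eq_comm, ← mul_inv_eq_iff_eq_mul, ← mul_inv_eq_one]
        exact k _ this
      obtain ⟨n, -, rfl | rfl⟩ := g.span v hv
      · exact (mem_centralizer_singleton_iff.1 (qw_mem k' n)).symm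
      · rw [← mul_assoc, ← mem_centralizer_singleton_iff.1 (qw_mem k' n), mul_assoc, mul_assoc, h.zc]
    rcases this with rfl | rfl
    exacts [one_mem _, h.zQ]
  obtain ⟨φ, hφ⟩ := Subgroup.exists_eq_graph (G := Γ) ⟨by
    rintro ⟨⟨a, b⟩, h1⟩ ⟨⟨a', b'⟩, h2⟩ (rfl : a = a')
    have := mul_mem (inv_mem h1) h2
    rw [Prod.inv_mk, Prod.mk_mul_mk, inv_mul_cancel] at this
    obtain rfl := inv_mul_eq_one.1 (G4 _ this)
    rfl, fun u => by
    obtain ⟨v, hv, rfl⟩ : u ∈ Γ.map (MonoidHom.fst U H) := m.top _ (fun r hr => by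
      rw [← l1] at hr
      obtain ⟨v, hv, rfl⟩ := List.mem_map.1 hr
      exact mem_map_of_mem _ (G1 (xl.nf_L _ _ v hv))) (fun i hi => mem_map_of_mem _ (G2 i hi)) ▸ mem_top u
    exact ⟨⟨v, hv⟩, rfl⟩⟩
  have f : ∀ v ∈ Γ, φ v.1 = v.2 := fun v hv => (hφ ▸ hv : v ∈ φ.graph)
  have fL : q.map φ = L := by
    rw [← l1, ← l2, List.map_map]
    exact List.map_congr_left fun v hv => f v (G1 (xl.nf_L _ _ v hv))
  have fz : φ z = z' := f _ (G1 (xl.nf_c _ _))
  have fw : φ ζ = ez z' t0 := f _ (G1 (xl.nf_w _ _))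
  refine ⟨φ, fz, fL, fun i hi => (congrArg π (f _ (G2 i hi))).trans (y1 i hi), fun r => ?_, t0,
    by rw [map_mul, ez_map, fz, fw, ez_mul h.z2, Bool.xor_self]; rfl, fun u e => ?_⟩
  · obtain ⟨w, e⟩ := exists_ev (cA_top ▸ mem_top (⟨π r, h.sgn r⟩ : alternatingGroup (Fin 9)))
    have e1 : π (φ (ev (atm 7 y) w)) = π r := by
      rw [← MonoidHom.comp_apply, show π r = (alternatingGroup (Fin 9)).subtype _ from congrArg Subtype.val e,
        ev_atm_map' (φ := π.comp φ) (f := y) (g := c3) (fun j hj => (congrArg π (f _ (G2 j hj))).trans (y1 j hj)),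
        ev_atm_map' (g := c3) fun j hj => cA_coe hj]
    obtain ⟨n, -, e2 | e2⟩ := g.span (r * (φ (ev (atm 7 y) w))⁻¹) ((h.ker _).1 (by rw [map_mul, map_inv, e1, mul_inv_cancel]))
    · exact ⟨qw q n * ev (atm 7 y) w, by rw [map_mul, qw_map, fL, ← e2, inv_mul_cancel_right]⟩
    · exact ⟨qw q n * z * ev (atm 7 y) w, by rw [map_mul, map_mul, qw_map, fL, fz, ← e2, inv_mul_cancel_right]⟩
  · obtain ⟨n, hn, a, b, e1⟩ := G3 (u, 1) (hφ ▸ e) (map_one π)
    rw [qq, ee, ee, Prod.ext_iff] at e1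
    obtain ⟨e1, e2⟩ : u = qw q n * ez z a * ez ζ b ∧ 1 = qw L n * ez z' a * ez (ez z' t0) b := e1
    obtain ⟨c, hc⟩ : ∃ c, ez z' a * ez (ez z' t0) b = ez z' c := by
      cases b; exacts [⟨a, mul_one _⟩, ⟨_, ez_mul h.z2 _ _⟩]
    obtain rfl := g.inj n hn (by
      rw [mul_assoc, hc, eq_comm, mul_eq_one_iff_eq_inv] at e2
      cases c; exacts [.inl (by simpa [ez] using e2), .inr (e2.trans (inv_eq_of_mul_eq_one_left h.z2))])
    rw [qw_zero, one_mul] at e1 e2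
    rw [e1]; clear hc
    revert e2
    cases a <;> cases b <;> cases t0 <;> simp [ez, h.z1, h.z1.symm]

end Cfsg.Agent.H8Th
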