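import Cfsg.Agent.H8.ThE

/-! # Permutations of nine points as numbers; a search for centralisers -/

set_option autoImplicit false
set_option linter.unusedVariables false
set_option linter.unusedSectionVars false
set_option maxRecDepth 100000

namespace Cfsg.Agent.H8Th
open Equiv Subgroup Cfsg.Agent.Spor

noncomputable section
def force (x : ℕ) (k : ℕ → Bool) : Bool := Nat.rec (k 0) (fun n _ => k (Nat.succ n)) x
def forceN (x : ℕ) (k : ℕ → ℕ) : ℕ := Nat.rec (k 0) (fun n _ => k (Nat.succ n)) x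
def bno (a : Bool) : Bool := Bool.rec true false a
def dg (x i : ℕ) : ℕ := Nat.mod (Nat.div x (Nat.pow 2 (Nat.mul 4 i))) 16
def pkr (f : ℕ → ℕ) (n : ℕ) : ℕ := Nat.rec 0 (fun i ih => Nat.add ih (Nat.mul (f i) (Nat.pow 2 (Nat.mul 4 i)))) n
def tb (σ : P9) : ℕ := pkr (fun i => (σ (Fin.ofNat 9 i)).val) 9
def idT : ℕ := 0x876543210
def tc (a b : ℕ) : ℕ := forceN a fun a => forceN b fun b => pkr (fun i => dg a (dg b i)) 9
def tw (PT : List ℕ) (w : List ℕ) : ℕ := List.rec idT (fun a _ ih => tc (nth idT PT a) ih) w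
def okc (l k : ℕ) (c : ℕ × ℕ) : Bool :=
  allN (fun p => bor (Nat.ble k (dg c.1 p)) (Nat.beq (dg l (dg c.1 p)) (dg c.2 (dg l p)))) k
def dfs0 (C : List (ℕ × ℕ)) (fin : ℕ → Bool) (n : ℕ) : ℕ → ℕ → Bool :=
  Nat.rec (fun l _ => fin l) (fun _ ih l k => allN (fun v => bor (bno (allN (fun p => bno (Nat.beq (dg l p) v)) k))
    (force (Nat.add l (Nat.mul v (Nat.pow 2 (Nat.mul 4 k)))) fun l' => force (Nat.succ k) fun k' =>
      bor (bno (lall (okc l' k') C)) (ih l' k'))) 9) n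
def dfs (C : List (ℕ × ℕ)) (fin : ℕ → Bool) : Bool := dfs0 C fin 9 0 0
def tp (l n : ℕ) : ℕ := Nat.rec idT (fun _ ih => tc ih l) n
end

theorem force_eq (x : ℕ) (k : ℕ → Bool) : force x k = k x := by cases x <;> rfl
theorem forceN_eq (x : ℕ) (k : ℕ → ℕ) : forceN x k = k x := by cases x <;> rfl
theorem bno_iff (a : Bool) : bno a = true ↔ ¬ a = true := by cases a <;> simp [bno]
theorem pkr_eq (f : ℕ → ℕ) (n : ℕ) : pkr f n = pk 4 n f := by
  induction n with
  | zero => rfl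
  | succ n ih => rw [pk_succ, ← ih]; rfl
theorem dg_pkr {f : ℕ → ℕ} {n i : ℕ} (h : ∀ i < n, f i < 16) (hi : i < n) : dg (pkr f n) i = f i := by
  rw [pkr_eq]; exact bf_pk (W := 4) (by decide) h hi
theorem dg_tb (σ : P9) (i : Fin 9) : dg (tb σ) i = σ i := by
  rw [tb, dg_pkr (fun i _ => by omega) i.2]; simp
theorem tb_inj {σ τ : P9} (h : tb σ = tb τ) : σ = τ := Equiv.ext fun i => Fin.ext (by rw [← dg_tb, h, dg_tb])
theorem tb_mul (σ τ : P9) : tb (σ * τ) = tc (tb σ) (tb τ) := by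
  rw [tc, forceN_eq, forceN_eq, tb, pkr_eq, pkr_eq]
  refine pk_congr fun i hi => ?_
  rw [show dg (tb τ) i = τ ⟨i, hi⟩ from dg_tb τ ⟨i, hi⟩, dg_tb, show Fin.ofNat 9 i = ⟨i, hi⟩ from Fin.ext (Nat.mod_eq_of_lt hi)]
  rfl
theorem tb_one : tb 1 = idT := by decide +kernel
theorem tb_pow (σ : P9) (n : ℕ) : tb (σ ^ n) = tp (tb σ) n := by
  induction n with
  | zero => exact tb_one
  | succ n ih => rw [pow_succ, tb_mul, ih]; rfl
theorem tb_ev {p : ℕ → P9} {PT : List ℕ} (h : ∀ a, tb (p a) = nth idT PT a) (w : List ℕ) : tb (ev p w) = tw PT w := by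
  induction w with
  | nil => exact tb_one
  | cons a w ih => rw [ev_cons, tb_mul, h, ih]; rfl

theorem dfs0_succ (C : List (ℕ × ℕ)) (fin : ℕ → Bool) (n l k : ℕ) : dfs0 C fin (n + 1) l k =
    allN (fun v => bor (bno (allN (fun p => bno (Nat.beq (dg l p) v)) k))
    (force (Nat.add l (Nat.mul v (Nat.pow 2 (Nat.mul 4 k)))) fun l' => force (Nat.succ k) fun k' =>
      bor (bno (lall (okc l' k') C)) (dfs0 C fin n l' k'))) 9 := rfl

theorem dfs_sound {C : List (ℕ × ℕ)} {fin : ℕ → Bool} (h : dfs C fin = true) {σ : P9}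
    (hc : ∀ c ∈ C, ∃ α β : P9, tb α = c.1 ∧ tb β = c.2 ∧ σ * α = β * σ) : fin (tb σ) = true := by
  have lt : ∀ n, ∀ i < n, (σ (Fin.ofNat 9 i)).val < 16 := fun n i _ => by omega
  have on : ∀ i (hi : i < 9), Fin.ofNat 9 i = ⟨i, hi⟩ := fun i hi => Fin.ext (Nat.mod_eq_of_lt hi)
  have : ∀ n k, n + k = 9 → dfs0 C fin n (pkr (fun i => (σ (Fin.ofNat 9 i)).val) k) k = true → fin (tb σ) = true := by
    intro n
    induction n with
    | zero => intro k e h; rw [zero_add] at e; subst e; exact h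
    | succ n ih =>
      intro k e h
      rw [dfs0_succ] at h
      have := (allN_iff _ 9).1 h (σ (Fin.ofNat 9 k)) (Fin.is_lt _)
      rw [bor_iff, force_eq, force_eq, bor_iff, bno_iff, bno_iff] at this
      rcases this with a | a | a
      · refine absurd ((allN_iff _ _).2 fun p hp => (bno_iff _).2 fun e' => ?_) a
        rw [Nat.beq_eq, dg_pkr (lt k) hp, Fin.val_inj, σ.apply_eq_iff_eq, on p (by omega), on k (by omega)] at e'
        simp at e'; omega
      · refine absurd ((lall_iff _ _).2 fun c hc' => (allN_iff _ _).2 fun p hp => ?_) a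
        obtain ⟨α, β, e1, e2, e3⟩ := hc c hc'
        have hp9 : p < 9 := by omega
        have a1 : dg c.1 p = α ⟨p, hp9⟩ := e1 ▸ dg_tb α ⟨p, hp9⟩
        rw [bor_iff, Nat.ble_eq, Nat.beq_eq, or_iff_not_imp_left, not_le, a1]
        intro h1
        change dg (pkr (fun i => (σ (Fin.ofNat 9 i)).val) (k + 1)) _ = dg _ (dg (pkr (fun i => (σ (Fin.ofNat 9 i)).val) (k + 1)) _)
        rw [dg_pkr (lt _) h1, dg_pkr (lt _) hp, ← e2, dg_tb, on p hp9, on _ (Fin.is_lt _)]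
        exact congrArg (fun τ : P9 => (τ ⟨p, hp9⟩).val) e3
      · exact ih (k + 1) (by omega) a
  exact this 9 0 rfl h

theorem dfs1 {α : P9} {fin : ℕ → Bool} (h : dfs [(tb α, tb α)] fin = true) {σ : P9} (e : σ * α = α * σ) :
    fin (tb σ) = true := dfs_sound h (by simp only [List.forall_mem_singleton]; exact ⟨_, _, rfl, rfl, e⟩)
theorem dfs2 {α β : P9} {fin : ℕ → Bool} (h : dfs [(tb α, tb α), (tb β, tb β)] fin = true) {σ : P9} (e : σ * α = α * σ)
    (e' : σ * β = β * σ) : fin (tb σ) = true := dfs_sound h (by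
  simp only [List.forall_mem_cons, List.not_mem_nil, false_imp_iff, implies_true, and_true]
  exact ⟨⟨_, _, rfl, rfl, e⟩, _, _, rfl, rfl, e'⟩)

def t2 : P9 := swap 0 1 * swap 2 3
def t4 : P9 := swap 0 1 * swap 2 3 * swap 4 5 * swap 6 7
def tt (b : Bool) : P9 := bif b then t4 else t2
def Ty (b : Bool) (σ : P9) : Prop := ∃ ρ : P9, Perm.sign ρ = 1 ∧ ρ * σ * ρ⁻¹ = tt b

theorem ty_inv {σ : P9} (h2 : σ * σ = 1) (h1 : σ ≠ 1) (hs : Perm.sign σ = 1) : ∃ b, Ty b σ := by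
  haveI : Fact (Nat.Prime 2) := ⟨Nat.prime_two⟩
  obtain ⟨n, e⟩ := Perm.cycleType_prime_order (σ := σ) (by
    rw [orderOf_eq_prime (by rw [pow_two, h2]) h1]; exact Nat.prime_two)
  rw [orderOf_eq_prime (p := 2) (by rw [pow_two, h2]) h1] at e
  have a := σ.sum_cycleType_le
  have b := Perm.sign_of_cycleType σ
  rw [e] at a b
  simp only [Multiset.sum_replicate, Multiset.card_replicate, smul_eq_mul, Fintype.card_fin] at a b
  have k : ∀ t, (tt t).cycleType = σ.cycleType → Ty t σ := fun t h => by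
    obtain ⟨ρ, e⟩ := isConj_iff.1 (Perm.isConj_iff_cycleType_eq.2 h.symm)
    rcases Int.units_eq_one_or (Perm.sign ρ) with s | s
    · exact ⟨ρ, s, e⟩
    · refine ⟨swap 0 1 * ρ, by simp [s], ?_⟩
      rw [mul_inv_rev, ← mul_assoc, mul_assoc _ ρ, mul_assoc _ _ ρ⁻¹, e]; cases t <;> decide +kernel
  have : n ≤ 3 := by omega
  interval_cases n
  · rw [hs] at b; exact absurd b (by decide)
  · exact ⟨false, k _ (by rw [e]; decide +kernel)⟩
  · rw [hs] at b; exact absurd b (by decide)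
  · exact ⟨true, k _ (by rw [e]; decide +kernel)⟩

theorem pow8 {σ : P9} (h : σ ^ 8 = 1) (hs : Perm.sign σ = 1) : σ ^ 4 = 1 := by
  by_contra n
  obtain ⟨k, hk, nd⟩ : ∃ k ∈ σ.cycleType, ¬ k ∣ 4 := by
    by_contra a; push Not at a
    exact n (orderOf_dvd_iff_pow_eq_one.1 (σ.lcm_cycleType ▸ Multiset.lcm_dvd.2 a))
  have := (Perm.dvd_of_mem_cycleType hk).trans (orderOf_dvd_of_pow_eq_one h)
  obtain rfl : k = 8 := by
    have := Nat.le_of_dvd (by decide) this
    interval_cases k <;> simp_all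
  obtain ⟨m, e⟩ := Multiset.exists_cons_of_mem hk
  have a := σ.sum_cycleType_le
  obtain rfl : m = 0 := Multiset.eq_zero_of_forall_notMem fun x hx => by
    have b := Perm.two_le_of_mem_cycleType (e ▸ Multiset.mem_cons_of_mem hx : x ∈ σ.cycleType)
    have := Multiset.single_le_sum (fun _ _ => Nat.zero_le _) x hx
    rw [e, Multiset.sum_cons, Fintype.card_fin] at a; omega
  have b := Perm.sign_of_cycleType σ
  rw [e, hs] at b; exact absurd b (by decide)

theorem Ty.fix {σ : P9} (h : Ty true σ) {p q : Fin 9} (h1 : σ p = p) (h2 : σ q = q) : p = q := by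
  obtain ⟨ρ, -, e⟩ := h
  have k : ∀ p, σ p = p → ρ p = 8 := fun p h => by
    have : tt true (ρ p) = ρ p := by rw [← e]; simp [h]
    revert this; generalize ρ p = r; revert r; decide +kernel
  exact ρ.injective ((k p h1).trans (k q h2).symm)

theorem cjc {ρ σ τ : P9} (h : σ * τ = τ * σ) : ρ * σ * ρ⁻¹ * (ρ * τ * ρ⁻¹) = ρ * τ * ρ⁻¹ * (ρ * σ * ρ⁻¹) := by
  rw [conj_mul, conj_mul, h]

def tT (b : Bool) : ℕ := bif b then 0x867452301 else 0x876542301
theorem tb_tt (b : Bool) : tb (tt b) = tT b := by cases b <;> decide +kernel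
theorem beq_tb {σ τ : P9} : Nat.beq (tb σ) (tb τ) = true ↔ σ = τ := by rw [Nat.beq_eq]; exact ⟨tb_inj, congrArg _⟩
noncomputable def isP (l n : ℕ) : Bool := Nat.beq (tp l n) idT
theorem isP_iff {σ : P9} {n : ℕ} : isP (tb σ) n = true ↔ σ ^ n = 1 := by rw [isP, ← tb_pow, ← tb_one, beq_tb]
theorem isI_iff {σ : P9} : Nat.beq (tb σ) idT = true ↔ σ = 1 := by rw [← tb_one, beq_tb]

noncomputable def cF (b : Bool) (l : ℕ) : Bool := bor (Nat.beq l idT) (band (bno (isP l 7)) (bor (bno (isP l 3))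
  (band (dfs [(tT b, tT b), (l, l)] fun m => bor (bno (isP m 3)) (bor (Nat.beq m idT) (bor (Nat.beq m l) (Nat.beq m (tc l l)))))
  (bor (bno b) (dfs [(l, l)] fun m => bor (bno (isP m 5)) (Nat.beq m idT))))))
theorem cF0 : dfs [(tT false, tT false)] (cF false) = true := by decide +kernel
theorem cF1 : dfs [(tT true, tT true)] (cF true) = true := by decide +kernel

theorem Ty.cen {b : Bool} {τ σ : P9} (h : Ty b τ) (c : σ * τ = τ * σ) (n : σ ≠ 1) : σ ^ 7 ≠ 1 ∧ (σ ^ 3 = 1 →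
    (∀ μ, μ * τ = τ * μ → μ * σ = σ * μ → μ ^ 3 = 1 → μ = 1 ∨ μ = σ ∨ μ = σ * σ) ∧
    (b = true → ∀ μ, μ * σ = σ * μ → μ ^ 5 = 1 → μ = 1)) := by
  obtain ⟨ρ, -, e⟩ := h
  have := dfs1 (fin := cF b) (by rw [tb_tt]; cases b; exacts [cF0, cF1]) (e ▸ cjc (ρ := ρ) c)
  simp only [cF, bor_iff, band_eq, Bool.and_eq_true, bno_iff, isP_iff, isI_iff, conj_pow, conj_eq_one_iff, n, false_or,
    ← tb_tt] at this
  refine ⟨this.1, fun h3 => ?_⟩
  obtain ⟨a, a'⟩ := this.2.resolve_left (not_not.2 h3)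
  refine ⟨fun μ h1 h2 h4 => ?_, fun hb μ h1 h2 => ?_⟩
  · have := dfs2 a (e ▸ cjc (ρ := ρ) h1) (cjc h2)
    simpa only [bor_iff, bno_iff, isP_iff, isI_iff, ← tb_mul, beq_tb, conj_pow, conj_eq_one_iff, h4, conj_mul, mul_left_inj,
      mul_right_inj, not_true, false_or] using this
  · have := dfs1 (a'.resolve_left (not_not.2 hb)) (cjc (ρ := ρ) h1)
    simpa only [bor_iff, bno_iff, isP_iff, isI_iff, conj_pow, conj_eq_one_iff, h2, not_true, false_or] using this

end Cfsg.Agent.H8Th
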