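import Cfsg.Agent.H8.ThF
import Cfsg.Agent.Spor.ThM.D0

/-! # The models of `2^{1+8}.2.A₉` in `GL(24, 3)` -/

set_option autoImplicit false
set_option linter.unusedVariables false
set_option linter.unusedSectionVars false
set_option maxRecDepth 100000

namespace Cfsg.Agent.H8Th
open Equiv Subgroup Cfsg.Agent.Spor Cfsg.Agent.Spor.ThM Matrix

noncomputable section
def TT (s : Bool) : List ℕ := bif s then TS else TN
def BT (s : Bool) : List ℕ := bif s then ThM.BS else BN
def WD (s : Bool) : List (List ℕ) := bif s then WDS else WDN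
def W (s : Bool) (w : List ℕ) : ℕ := A.evw (TT s) w A.one
def eW (s : Bool) (w u : List ℕ) : Bool := Nat.beq (W s w) (W s u)
def kc (b : Bool) : ℕ := bif b then kap else mN32
def eqk (b : Bool) (x y : ℕ) : Bool := bor (Nat.beq x y) (Nat.beq x (A.mul y (kc b)))
def nek (b : Bool) (x y : ℕ) : Bool := band (A.neq x y) (A.neq x (A.mul y (kc b)))
def pW (s : Bool) (w : List ℕ) : ℕ := tw PT0 (subW 0 23 (WD s) w)
end
def qW : List ℕ → ℕ → List ℕ
  | [], _ => []
  | a :: l, n => (if n % 2 = 1 then [a] else []) ++ qW l (n / 2)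
def zW (c : ℕ) (b : Bool) : List ℕ := bif b then [c] else []
def QC : List ℕ := [0, 2, 4, 6, 8, 10, 12, 14]

theorem ev_qW {K : Type*} [Group K] (a : ℕ → K) (l : List ℕ) (n : ℕ) : ev a (qW l n) = qw (l.map a) n := by
  induction l generalizing n with
  | nil => rfl
  | cons x l ih => rw [qW, ev_append, ih, List.map_cons, qw]; split_ifs <;> simp
theorem ev_zW {K : Type*} [Group K] (a : ℕ → K) (c : ℕ) (b : Bool) : ev a (zW c b) = ez (a c) b := by
  cases b <;> simp [zW, ez]

theorem sqA : A.sq = true := by decide +kernel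
theorem hp3 : ((A.p : ℕ) : ZMod 3) = 0 := by decide
instance instCharA : CharP (ZMod 3) A.p := ZMod.charP 3
noncomputable abbrev Ω : MRep A (ZMod 3) (GL (Fin A.d) (ZMod 3)) := MRep.gl A (ZMod 3) sqA hp3
noncomputable abbrev FX (s : Bool) : ℕ → GL (Fin A.d) (ZMod 3) := Ω.gen (BT s)
theorem gFX (s : Bool) : Ω.Gens (BT s) (atm 15 (FX s)) := MRep.gl_gens (by cases s <;> decide +kernel)
def U (s : Bool) : Type := gsub 15 (FX s)
noncomputable instance instGroupU (s : Bool) : Group (U s) := inferInstanceAs (Group (gsub 15 (FX s)))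
noncomputable def ξ (s : Bool) : ℕ → U s := lift (gsub 15 (FX s)) (FX s)
noncomputable def XU (s : Bool) : MRep A (ZMod 3) (U s) := Ω.comp (gsub 15 (FX s)).subtype (gsub 15 (FX s)).subtype_injective
theorem gX0 (s : Bool) : (XU s).Gens (BT s) (atm 15 (ξ s)) := (gFX s).lift fun _ hj => mem_gsub (FX s) hj
theorem ξ_top (s : Bool) : gsub 15 (ξ s) = ⊤ := gsub_lift 15 (FX s)
attribute [irreducible] U instGroupU ξ XU
noncomputable def aU (s : Bool) : ℕ → U s := atm 23 (wv 15 (ξ s) (WD s))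
theorem gX (s : Bool) : (XU s).Gens (TT s) (aU s) := MRep.Gens.of (by cases s <;> decide +kernel) fun j hj => by
  have := (gX0 s).isW ((allN_iff (fun j => A.isW (BT s) ((WD s).getD j []) (nth A.one (TT s) (2 * j))) 23).1
    (by cases s <;> decide +kernel) j hj)
  rw [wv, ← this.2]; exact this.1.ρ_el
theorem eU {s : Bool} {w u : List ℕ} (h : eW s w u = true) : ev (aU s) w = ev (aU s) u := (gX s).eq_ev h
theorem aU_ξ (s : Bool) {j : ℕ} (hj : j < 15) : aU s (2 * j) = ξ s j := by
  rw [aU, atm_two_mul _ (by omega), wv, show (WD s).getD j [] = [2 * j] by revert j; cases s <;> decide +kernel]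
  simp [atm_two_mul _ hj]
theorem cenU {s : Bool} {c : ℕ} (h : allN (fun j => eW s [2 * j, c] [c, 2 * j]) 15 = true) (g : U s) :
    g * aU s c = aU s c * g := by
  refine mem_centralizer_singleton_iff.1 (gsub_le (n := 15) (f := ξ s) (fun j hj => ?_) (ξ_top s ▸ mem_top g))
  simpa [aU_ξ s hj, mem_centralizer_singleton_iff] using eU ((allN_iff _ _).1 h j hj)

noncomputable def cjW (s : Bool) (w : List ℕ) (i j n : ℕ) : Bool := eW s (w.map (· + 16) ++ [16 + 2 * i])
  (qW QC (n % 256) ++ zW 30 (n / 256 % 2 == 1) ++ zW 32 (n / 512 == 1) ++ [16 + 2 * j] ++ w.map (· + 16))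
noncomputable def cjB (s : Bool) (i j : ℕ) (p : List ℕ × ℕ × ℕ) : Bool :=
  band (p.1.all (· < 14)) (band (cjW s p.1 0 i p.2.1) (cjW s p.1 1 j p.2.2))
theorem cj_ok : ∀ s, allN (fun i => allN (fun j => bor (Nat.beq i j)
    (cjB s i j ((bif s then CJS else CJN).getD (7 * i + j) ([], 0, 0)))) 7) 7 = true := by decide +kernel
noncomputable def injB (s : Bool) : Bool := allN (fun n => lall (fun a => lall (fun b => bor (band (Nat.beq n 0) (band (!a) (!b)))
  (A.neq (W s (qW QC n ++ zW 30 a ++ zW 32 b)) (W s []))) [false, true]) [false, true]) 256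
theorem inj0 : injB false = true := by decide +kernel
theorem inj1 : injB true = true := by decide +kernel

theorem md (s : Bool) : MD s (aU s 30) (aU s 32) (QC.map (aU s)) fun i => aU s (16 + 2 * i) := by
  have gd : ∀ k < 8, (QC.map (aU s)).getD k 1 = aU s (2 * k) := fun k hk => by interval_cases k <;> rfl
  refine ⟨⟨by simpa using eU (s := s) (w := [30, 30]) (u := []) (by cases s <;> decide +kernel),
    cenU (by cases s <;> decide +kernel), rfl, fun k hk => ?_, fun k hk l hl => ?_⟩,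
    by simpa using eU (s := s) (w := [32, 32]) (u := []) (by cases s <;> decide +kernel),
    cenU (by cases s <;> decide +kernel), fun i hi k hk => ?_, fun i hi => ?_, fun n hn a b e => ?_, ?_,
    fun i hi j hj ne => ?_, fun K h1 h2 => ?_⟩
  · rw [gd k hk]
    simpa [ev_zW] using eU ((allN_iff (fun k => eW s [2 * k, 2 * k] (zW 30 (KK s))) 8).1
      (by cases s <;> decide +kernel) k hk)
  · rw [gd k hk, gd l hl]
    simpa [ev_zW, mul_assoc] using eU ((allN_iff _ 8).1 ((allN_iff (fun k => allN (fun l =>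
      eW s [2 * k, 2 * l] (2 * l :: 2 * k :: zW 30 (BB s k l))) 8) 8).1 (by cases s <;> decide +kernel) k hk) l hl)
  · refine ⟨((bif s then SBS else SBN).getD i []).getD k false, ?_⟩
    have := eU ((allN_iff _ 8).1 ((allN_iff (fun i => allN (fun k => eW s [16 + 2 * i, 2 * k]
      (qW QC (((MM s).getD i []).getD k 0) ++ zW 30 (((bif s then SBS else SBN).getD i []).getD k false) ++ [16 + 2 * i])) 8) 7).1
      (by cases s <;> decide +kernel) i hi) k hk)
    rw [ev_append, ev_append, ev_qW, ev_zW] at this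
    rw [gd k hk, mul_inv_eq_iff_eq_mul]; simpa using this
  · simpa [mul_assoc] using eU ((allN_iff (fun i => eW s [16 + 2 * i, 16 + 2 * i, 16 + 2 * i] []) 7).1
      (by cases s <;> decide +kernel) i hi)
  · have := (lall_iff _ _).1 ((lall_iff _ _).1 ((allN_iff _ _).1 (show injB s = true by cases s; exacts [inj0, inj1]) n hn)
      a (by cases a <;> simp)) b (by cases b <;> simp)
    rw [bor_iff] at this
    rcases this with h | h
    · simpa using h
    · exact absurd (by rw [ev_append, ev_append, ev_qW, ev_zW, ev_zW, e]; rfl) ((gX s).neq h)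
  · refine ⟨(bif s then SQS else SQN).1, (bif s then SQS else SQN).2, ?_⟩
    have := eU (s := s) (w := [16, 18, 16, 18]) (u := qW QC (bif s then SQS else SQN).1 ++ zW 30 (bif s then SQS else SQN).2 ++ [32])
      (by cases s <;> decide +kernel)
    rw [ev_append, ev_append, ev_qW, ev_zW] at this
    simpa [mul_assoc] using this
  · have := (allN_iff _ _).1 ((allN_iff _ _).1 (cj_ok s) i hi) j hj
    rw [bor_iff, Nat.beq_eq, or_iff_right ne] at this
    generalize (bif s then CJS else CJN).getD (7 * i + j) ([], 0, 0) = p at this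
    simp only [cjB, band_eq, Bool.and_eq_true, List.all_eq_true, decide_eq_true_eq] at this
    have e : ev (atm 7 fun i => aU s (16 + 2 * i)) p.1 = ev (aU s) (p.1.map (· + 16)) := by
      rw [ev, ev, List.map_map]; congr 1
      refine List.map_congr_left fun x hx => ?_
      have := this.1 x hx
      interval_cases x <;> simp [atm_def, aU]
    have k : ∀ i j n, cjW s p.1 i j n = true → ∃ n a b, ev (aU s) (p.1.map (· + 16)) * aU s (16 + 2 * i) *
        (ev (aU s) (p.1.map (· + 16)))⁻¹ = qw (QC.map (aU s)) n * ez (aU s 30) a * ez (aU s 32) b * aU s (16 + 2 * j) :=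
      fun i j n h => ⟨_, _, _, by
        have := eU h
        simp only [ev_append, ev_qW, ev_zW, ev_cons, ev_nil, mul_one] at this
        rw [this, mul_inv_cancel_right]⟩
    exact ⟨p.1, e ▸ k _ _ _ this.2.1, e ▸ k _ _ _ this.2.2⟩
  · rw [eq_top_iff, ← ξ_top]
    refine gsub_le fun j hj => aU_ξ s hj ▸ ?_
    by_cases h : j < 8
    · exact gd j h ▸ h1 _ ((getD_mem rfl).2 ⟨j, h, rfl⟩)
    · exact (show 16 + 2 * (j - 8) = 2 * j by omega) ▸ h2 (j - 8) (by omega)

structure TG {G : Type*} [Group G] (z : G) (Q : Subgroup G) (π : G → P9) : Prop where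
  z2 : z * z = 1
  z1 : z ≠ 1
  zQ : z ∈ Q
  le : Q ≤ centralizer {z}
  comm : ∀ x ∈ Q, ∀ y ∈ Q, x * y = y * x ∨ x * y = y * x * z
  sq : ∀ x ∈ Q, x * x = 1 ∨ x * x = z
  cent : ∀ h ∈ centralizer {z}, (∀ x ∈ Q, h * x = x * h) → h = 1 ∨ h = z
  ker : ∀ h ∈ centralizer {z}, π h = 1 ↔ h ∈ Q
  mul : ∀ g ∈ centralizer {z}, ∀ h ∈ centralizer {z}, π (g * h) = π g * π h
  surj : ∀ σ : P9, Perm.sign σ = 1 → ∃ h ∈ centralizer {z}, π h = σ
  sgn : ∀ h, Perm.sign (π h) = 1
  card : Nat.card (centralizer {z}) = 92897280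

structure RM {G : Type*} [Group G] (s b : Bool) (z : G) (Q : Subgroup G) (π : G → P9) (f : ℕ → G) (R : ℕ → G → Prop) :
    Prop extends TG z Q π where
  one : R A.one 1
  rmul : ∀ {x y g h}, R x g → R y h → R (A.mul x y) (g * h)
  gen : ∀ y, R (nth A.one (TT s) y) (atm 23 f y)
  eq : ∀ {x y g h}, R x g → R y h → eqk b x y = true → g = h
  ne : ∀ {x y g h}, R x g → R y h → nek b x y = true → g ≠ h
  mem : ∀ j, f j ∈ centralizer {z}
  fz : f 15 = z
  pi : ∀ w, tb (π (ev (atm 23 f) w)) = pW s w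
  span : ∀ x ∈ Q, ∃ n, x = qw ((30 :: QC).map (atm 23 f)) n
  top : centralizer {z} ≤ gsub 15 f

theorem exRM {G : Type*} [Group G] {z : G} {Q : Subgroup (centralizer ({z} : Set G))} {π : centralizer ({z} : Set G) →* P9}
    (h : XH (⟨z, mem_centralizer_singleton_iff.2 rfl⟩ : centralizer ({z} : Set G)) Q π) :
    ∃ s b Q π f R, RM s b z Q π f R := by
  classical
  obtain ⟨π, h, s, X, L, g⟩ := h.exGB
  obtain ⟨φ, fz, fL, fy, sj, b, k1, k2⟩ := (md s).hom h g
  let ψ := (centralizer {z}).subtype.comp φ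
  let π' : G → P9 := fun x => if hx : x ∈ centralizer {z} then π ⟨x, hx⟩ else 1
  have p1 : ∀ x : centralizer ({z} : Set G), π' x = π x := fun x => dif_pos x.2
  have mq : ∀ x (hx : x ∈ centralizer {z}), x ∈ Q.map (centralizer {z}).subtype ↔ ⟨x, hx⟩ ∈ Q := fun x hx =>
    mem_map_iff_mem (x := (⟨x, hx⟩ : centralizer {z})) (subtype_injective _)
  have ea : ∀ w, ev (atm 23 fun j => ψ (wv 15 (ξ s) (WD s) j)) w = ψ (ev (aU s) w) := fun w => (ev_atm_map ψ _ _ _).symm
  have kM : (XU s).M (kc b) ∧ (XU s).el (kc b) = ez (aU s 30) b * aU s 32 := by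
    have := (gX s).isW (w := zW 30 b ++ [32]) (x := kc b) (by cases s <;> cases b <;> decide +kernel)
    rwa [ev_append, ev_zW, ev_cons, ev_nil, mul_one] at this
  refine ⟨s, b, Q.map (centralizer {z}).subtype, π', fun j => ψ (wv 15 (ξ s) (WD s) j),
    fun x g => (XU s).M x ∧ ψ ((XU s).el x) = g, ⟨congrArg Subtype.val h.z2, fun e => h.z1 (Subtype.ext e),
    ⟨_, h.zQ, rfl⟩, map_subtype_le _, ?_, ?_, fun x hx e => ?_, fun x hx => ?_, fun x hx y hy => ?_, fun σ hσ => ?_,
    fun x => ?_, ?_⟩, ⟨(XU s).M_one, by rw [MRep.el_one, map_one]⟩, ?_, fun y => ⟨(gX s y).1, ?_⟩, ?_, ?_, fun j => (φ _).2, ?_,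
    fun w => ?_, ?_, fun x hx => ?_⟩
  · rintro _ ⟨x, hx, rfl⟩ _ ⟨y, hy, rfl⟩
    exact (h.comm x hx y hy).imp (congrArg Subtype.val) (congrArg Subtype.val)
  · rintro _ ⟨x, hx, rfl⟩; exact (h.sq x hx).imp (congrArg Subtype.val) (congrArg Subtype.val)
  · exact (h.cent ⟨x, hx⟩ fun y hy => Subtype.ext (e _ ⟨y, hy, rfl⟩)).imp (congrArg Subtype.val) (congrArg Subtype.val)
  · rw [mq x hx, ← h.ker, ← p1]
  · exact (p1 (⟨x, hx⟩ * ⟨y, hy⟩)).trans (by rw [map_mul, ← p1, ← p1])
  · obtain ⟨x, e⟩ := h.surj σ hσ; exact ⟨x, x.2, (p1 x).trans e⟩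
  · simp only [π']; split_ifs; exacts [h.sgn _, map_one _]
  · have c2 : π.range = alternatingGroup (Fin 9) :=
      le_antisymm (by rintro _ ⟨g, rfl⟩; exact h.sgn g) fun σ hσ => h.surj σ hσ
    have := two_mul_nat_card_alternatingGroup (α := Fin 9)
    rw [Nat.card_perm, Nat.card_eq_fintype_card (α := Fin 9), Fintype.card_fin, show Nat.factorial 9 = 362880 by decide] at this
    rw [← π.ker.card_mul_index, index_ker, c2, show π.ker = Q from ext h.ker, h.card,
      show Nat.card (alternatingGroup (Fin 9)) = 181440 by omega]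
  · rintro x y _ _ ⟨h1, rfl⟩ ⟨h2, rfl⟩; exact ⟨h1.mul h2, by rw [h1.el_mul h2, map_mul]⟩
  · rw [(gX s y).2, aU, atm_map]
  · rintro x y _ _ ⟨h1, rfl⟩ ⟨h2, rfl⟩ e
    rw [eqk, bor_iff, Nat.beq_eq, Nat.beq_eq] at e
    rcases e with rfl | rfl
    · rfl
    · rw [h2.el_mul kM.1, kM.2, map_mul, MonoidHom.comp_apply _ φ (_ * _), k1, map_one, mul_one]
  · rintro x y _ _ ⟨h1, rfl⟩ ⟨h2, rfl⟩ e e'
    rw [nek, band_eq, Bool.and_eq_true] at e
    have := k2 (((XU s).el y)⁻¹ * (XU s).el x) (by rw [map_mul, map_inv, Subtype.ext e', inv_mul_cancel])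
    rw [inv_mul_eq_one, inv_mul_eq_iff_eq_mul, ← kM.2, ← h2.el_mul kM.1] at this
    exact this.elim (fun a => h1.neq h2 e.1 a.symm) (h1.neq (h2.mul kM.1) e.2)
  · exact congrArg Subtype.val fz
  · rw [ea, show ψ _ = (φ _ : G) from rfl, p1, aU, ← ev_subW (ivOk_zero _ _), ← MonoidHom.comp_apply,
      ev_atm_map' (g := fun j => if j < 8 then 1 else c3 (j - 8)) (fun j hj => ?_)]
    · refine tb_ev (fun a => ?_) _
      by_cases ha : a < 30
      · revert a; decide +kernel
      · rw [atm_def, if_neg (by omega), tb_one, nth_eq, List.getD_eq_default _ _ (show 30 ≤ a by omega)]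
    · rw [← aU_ξ s hj, MonoidHom.comp_apply]
      split_ifs with a
      · refine (h.ker _).2 (g.mem _ (fL ▸ List.mem_map_of_mem (List.mem_map_of_mem ?_)))
        revert j; decide
      · rw [← fy (j - 8) (by omega), show 16 + 2 * (j - 8) = 2 * j by omega]
  · rintro _ ⟨x, hx, rfl⟩
    have e : QC.map (atm 23 fun j => ψ (wv 15 (ξ s) (WD s) j)) = L.map (centralizer {z}).subtype := by
      rw [← fL, List.map_map, List.map_map]; exact List.map_congr_left fun a _ => (atm_map ψ _ _ _).symm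
    have e' : (atm 23 fun j => ψ (wv 15 (ξ s) (WD s) j)) 30 = z := (atm_map ψ _ _ _).symm.trans (congrArg Subtype.val fz)
    obtain ⟨n, -, rfl | rfl⟩ := g.span x hx
    · exact ⟨2 * n, by rw [List.map_cons, qw, e, ← qw_map]; simp⟩
    · exact ⟨2 * n + 1, by
        rw [List.map_cons, qw, e, e', ← qw_map, h.zc, if_pos (by omega), show (2 * n + 1) / 2 = n by omega]; rfl⟩
  · obtain ⟨u, e⟩ := sj ⟨x, hx⟩
    rw [show x = ψ u from (congrArg Subtype.val e).symm, ← gsub_map' (φ := ψ) (f := ξ s) fun j hj => by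
      rw [← aU_ξ s hj, aU, atm_two_mul _ (by omega)]]
    exact mem_map_of_mem _ (ξ_top s ▸ mem_top u)

end Cfsg.Agent.H8Th
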