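import Cfsg.Agent.H8.ThG

/-! # Searches in cosets of the extraspecial group; classes of involutions -/

set_option autoImplicit false
set_option linter.unusedVariables false
set_option linter.unusedSectionVars false
set_option maxRecDepth 100000

namespace Cfsg.Agent.H8Th
open Equiv Subgroup Cfsg.Agent.Spor Cfsg.Agent.Spor.ThM

noncomputable section
def forceL (l : List ℕ) : (List ℕ → Bool) → Bool :=
  List.rec (fun k => k []) (fun a _ ih k => force a fun a' => ih fun l' => k (a' :: l')) l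
def lan {α : Type} (p : α → Bool) (l : List α) : Bool := List.rec false (fun a _ ih => bor (p a) ih) l
def evy (s : Bool) (y : ℕ) (w : List ℕ) : ℕ → ℕ :=
  List.rec (fun x => x) (fun a _ ih x => ih (A.mul x (Bool.rec (nth A.one (TT s) a) y (Nat.beq a 46)))) w
def allW (s : Bool) (p : ℕ → Bool) (L : List ℕ) : ℕ → Bool :=
  List.rec (fun x => p x) (fun a _ ih x => band (ih x) (force (A.mul x (nth A.one (TT s) a)) ih)) L
def srch (s b : Bool) (Hy : List (List ℕ × List ℕ)) (Co : List (List ℕ)) (w : List ℕ) : Bool :=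
  forceL (A.evs (TT s) Co) fun CL => force (W s w) (allW s (fun y => bor (lan (fun e => nek b (evy s y e.1 A.one)
    (evy s y e.2 A.one)) Hy) (bor (memL CL y) (memL CL (A.mul y (kc b))))) (30 :: QC))
def eK (s b : Bool) (w u : List ℕ) : Bool := eqk b (W s w) (W s u)
def nK (s b : Bool) (w u : List ℕ) : Bool := nek b (W s w) (W s u)
def cjw (p : List ℕ × List ℕ) : List ℕ := p.2 ++ p.1 ++ invW 0 p.2 []
end
def qL : List (List ℕ) → ℕ → List ℕ
  | [], _ => []
  | a :: l, n => (if n % 2 = 1 then a else []) ++ qL l (n / 2)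

theorem forceL_eq (l : List ℕ) (k : List ℕ → Bool) : forceL l k = k l := by
  induction l generalizing k with
  | nil => rfl
  | cons a l ih => exact (force_eq a fun a' => forceL l fun l' => k (a' :: l')).trans (ih _)
theorem lan_iff {α : Type} (p : α → Bool) (l : List α) : lan p l = true ↔ ∃ a ∈ l, p a = true := by
  induction l with
  | nil => simp [lan]
  | cons a l ih => exact (bor_iff _ _).trans (by rw [List.exists_mem_cons_iff, ← ih]; rfl)

variable {G : Type*} [Group G]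
def E (f : ℕ → G) (w : List ℕ) : G := ev (atm 23 f) w
def Ey (f : ℕ → G) (h : G) (w : List ℕ) : G := ev (fun a => if a = 46 then h else atm 23 f a) w
theorem E_app (f : ℕ → G) (w u : List ℕ) : E f (w ++ u) = E f w * E f u := ev_append _ _ _
theorem E_cjw (f : ℕ → G) (p : List ℕ × List ℕ) : E f (cjw p) = E f p.2 * E f p.1 * (E f p.2)⁻¹ := by
  rw [cjw, E_app, E_app, E, E, E, ev_invW (ivOk_zero _ _), ev_nil, mul_one]
theorem E_qL (f : ℕ → G) (l : List (List ℕ)) (n : ℕ) : E f (qL l n) = qw (l.map (E f)) n := by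
  induction l generalizing n with
  | nil => rfl
  | cons x l ih => rw [qL, E_app, ih, List.map_cons, qw]; split_ifs <;> rfl

macro "wd" l:(Lean.Parser.Tactic.location)? : tactic => `(tactic| simp only [E, Ey, ev_cons, ev_nil, atm_def, Nat.reduceDiv,
  Nat.reduceMod, Nat.reduceLT, Nat.reduceEqDiff, reduceIte, mul_one, ← mul_assoc, one_ne_zero, List.forall_mem_cons,
  List.not_mem_nil, false_imp_iff, implies_true, and_true, List.exists_mem_cons_iff, false_and, exists_false, or_false] $[$l]?)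

theorem mC {x z : G} : x ∈ centralizer {z} ↔ x * z = z * x := mem_centralizer_singleton_iff

variable {z : G} {Q : Subgroup G} {π : G → P9}
namespace TG
variable (h : TG z Q π)
include h
theorem zC : z ∈ centralizer {z} := mC.2 rfl
theorem p1 : π 1 = 1 := (h.ker 1 (one_mem _)).2 (one_mem _)
theorem pQ {x : G} (hx : x ∈ Q) : π x = 1 := (h.ker x (h.le hx)).2 hx
theorem pinv {x : G} (hx : x ∈ centralizer {z}) : π x⁻¹ = (π x)⁻¹ :=
  eq_inv_of_mul_eq_one_left (by rw [← h.mul _ (inv_mem hx) _ hx, inv_mul_cancel, h.p1])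
theorem pcj {g x : G} (hg : g ∈ centralizer {z}) (hx : x ∈ centralizer {z}) : π (g * x * g⁻¹) = π g * π x * (π g)⁻¹ := by
  rw [h.mul _ (mul_mem hg hx) _ (inv_mem hg), h.mul _ hg _ hx, h.pinv hg]
theorem ppow {x : G} (hx : x ∈ centralizer {z}) (n : ℕ) : π (x ^ n) = π x ^ n := by
  induction n with
  | zero => rw [pow_zero, pow_zero, h.p1]
  | succ n ih => rw [pow_succ, h.mul _ (pow_mem hx n) _ hx, ih, pow_succ]
theorem pcm {x y : G} (hx : x ∈ centralizer {z}) (hy : y ∈ centralizer {z}) (e : x * y = y * x) : π x * π y = π y * π x := by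
  rw [← h.mul _ hx _ hy, e, h.mul _ hy _ hx]
theorem nrm {g x : G} (hg : g ∈ centralizer {z}) (hx : x ∈ Q) : g * x * g⁻¹ ∈ Q :=
  (h.ker _ (mul_mem (mul_mem hg (h.le hx)) (inv_mem hg))).1 (by rw [h.pcj hg (h.le hx), h.pQ hx]; simp)
theorem q4 {x : G} (hx : x ∈ Q) : x ^ 4 = 1 := by
  rw [show x ^ 4 = x * x * (x * x) by simp [pow_succ, mul_assoc]]
  rcases h.sq x hx with e | e <;> rw [e]
  exacts [mul_one _, h.z2]
theorem odd {x : G} (hx : x ∈ centralizer {z}) {n : ℕ} (hn : x ^ (2 * n + 1) = 1) (e : π x = 1) : x = 1 :=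
  pow_eq_one_iff_of_coprime (m := 4) (n := 2 * n + 1) (Nat.Coprime.pow_left 2 (Nat.coprime_two_left.2 ⟨n, rfl⟩)) |>.1 ⟨h.q4 ((h.ker x hx).1 e), hn⟩
theorem toTy {b : Bool} {x : G} (hx : x ∈ centralizer {z}) (t : Ty b (π x)) : ∃ k ∈ centralizer {z}, π (k * x * k⁻¹) = tt b := by
  obtain ⟨ρ, a, e⟩ := t
  obtain ⟨k, hk, rfl⟩ := h.surj ρ a
  exact ⟨k, hk, (h.pcj hk hx).trans e⟩
theorem ty {x : G} (hx : x ∈ centralizer {z}) (h2 : x * x ∈ Q) (n : x ∉ Q) : ∃ b, Ty b (π x) :=
  ty_inv (by rw [← h.mul _ hx _ hx, h.pQ h2]) (fun e => n ((h.ker x hx).1 e)) (h.sgn x)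
end TG

namespace RM
variable {s b : Bool} {f : ℕ → G} {R : ℕ → G → Prop} (m : RM s b z Q π f R)
include m
theorem evw (w : List ℕ) {x : ℕ} {g : G} (h : R x g) : R (A.evw (TT s) w x) (g * E f w) := by
  induction w generalizing x g with
  | nil => exact (mul_one g).symm ▸ h
  | cons a w ih => rw [E, ev_cons, ← mul_assoc]; exact ih (m.rmul h (m.gen a))
theorem rW (w : List ℕ) : R (W s w) (E f w) := one_mul (E f w) ▸ m.evw w m.one
theorem eqw {w u : List ℕ} (h : eK s b w u = true) : E f w = E f u := m.eq (m.rW w) (m.rW u) h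
theorem new {w u : List ℕ} (h : nK s b w u = true) : E f w ≠ E f u := m.ne (m.rW w) (m.rW u) h
theorem EC (w : List ℕ) : E f w ∈ centralizer {z} := gsub_le (fun j _ => m.mem j) (ev_atm_mem _ _ _)
theorem eqs {L : List (List ℕ × List ℕ)} (h : lall (fun p => eK s b p.1 p.2) L = true) : ∀ p ∈ L, E f p.1 = E f p.2 :=
  fun p hp => m.eqw ((lall_iff _ _).1 h p hp)
theorem nes {L : List (List ℕ × List ℕ)} (h : lall (fun p => nK s b p.1 p.2) L = true) : ∀ p ∈ L, E f p.1 ≠ E f p.2 :=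
  fun p hp => m.new ((lall_iff _ _).1 h p hp)
theorem evy' {y : ℕ} {h : G} (hy : R y h) (w : List ℕ) {x : ℕ} {g : G} (hx : R x g) : R (evy s y w x) (g * Ey f h w) := by
  induction w generalizing x g with
  | nil => exact (mul_one g).symm ▸ hx
  | cons a w ih =>
    rw [Ey, ev_cons, ← mul_assoc]
    refine ih (m.rmul hx ?_)
    by_cases e : a = 46
    · subst e; exact hy
    · rw [if_neg e, (Bool.eq_false_iff.2 (by rwa [Ne, Nat.beq_eq]) : Nat.beq a 46 = false)]; exact m.gen a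
theorem allW' {p : ℕ → Bool} (L : List ℕ) {x : ℕ} {g : G} (hx : R x g) (h : allW s p L x = true) (n : ℕ) :
    ∃ y, R y (g * qw (L.map (atm 23 f)) n) ∧ p y = true := by
  induction L generalizing x g n with
  | nil => exact ⟨x, (mul_one g).symm ▸ hx, h⟩
  | cons a L ih =>
    have h' : band (allW s p L x) (force _ (allW s p L)) = true := h
    rw [band_eq, Bool.and_eq_true, force_eq] at h'
    rw [List.map_cons, qw, ← mul_assoc]
    split_ifs
    exacts [ih (m.rmul hx (m.gen a)) h'.2 _, ih ((mul_one g).symm ▸ hx) h'.1 _]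
theorem srch' {Hy : List (List ℕ × List ℕ)} {Co : List (List ℕ)} {w : List ℕ} (hc : srch s b Hy Co w = true) {h : G}
    (hh : h ∈ centralizer {z}) (e : π h = π (E f w)) (hy : ∀ p ∈ Hy, Ey f h p.1 = Ey f h p.2) : ∃ u ∈ Co, h = E f u := by
  obtain ⟨n, e1⟩ := m.span ((E f w)⁻¹ * h) ((m.ker _ (mul_mem (inv_mem (m.EC w)) hh)).1 (by
    rw [m.mul _ (inv_mem (m.EC w)) _ hh, m.pinv (m.EC w), e, inv_mul_cancel]))
  rw [srch, forceL_eq, force_eq] at hc
  obtain ⟨y, r, a⟩ := m.allW' _ (m.rW w) hc n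
  rw [← e1, mul_inv_cancel_left] at r
  simp only [bor_iff, lan_iff, memL_iff, MRep.evs_eq, List.mem_map] at a
  rcases a with ⟨p, hp, a⟩ | ⟨u, hu, a⟩ | ⟨u, hu, a⟩
  · exact absurd (by rw [hy p hp]) (m.ne (m.evy' r p.1 m.one) (m.evy' r p.2 m.one) a)
  · exact ⟨u, hu, m.eq r (m.rW u) ((bor_iff _ _).2 (.inl (Nat.beq_eq ▸ a.symm)))⟩
  · exact ⟨u, hu, (m.eq (m.rW u) r ((bor_iff _ _).2 (.inr (Nat.beq_eq ▸ a)))).symm⟩
theorem cls {RG : List (List ℕ × List ℕ)} {RP : List (List ℕ)} {w : List ℕ} (hc : band (RG.all (·.1 ∈ RP))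
    (srch s b [([46, 46], [])] ([] :: [30] :: RG.map cjw) w) = true) {h : G} (hh : h ∈ centralizer {z})
    (e : π h = π (E f w)) (h2 : h * h = 1) : h = 1 ∨ h = z ∨ ∃ r ∈ RP, ∃ g ∈ centralizer {z}, h = g * E f r * g⁻¹ := by
  rw [band_eq, Bool.and_eq_true, List.all_eq_true] at hc
  obtain ⟨u, hu, rfl⟩ := m.srch' hc.2 hh e (by wd; exact h2)
  simp only [List.mem_cons, List.mem_map] at hu
  rcases hu with rfl | rfl | ⟨p, hp, rfl⟩
  · exact .inl rfl
  · exact .inr (.inl (by wd; exact m.fz))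
  · exact .inr (.inr ⟨_, of_decide_eq_true (hc.1 p hp), _, m.EC _, E_cjw f p⟩)
theorem piw {w : List ℕ} {σ : P9} (h : Nat.beq (pW s w) (tb σ) = true) : π (E f w) = σ :=
  tb_inj ((m.pi w).trans (Nat.eq_of_beq_eq_true h))
end RM

def T2 : List ℕ := [16, 20, 18, 22, 16, 20]
def T4 : List ℕ := [16, 20, 18, 22, 16, 20, 24, 27, 24, 29]
def rp0 (s : Bool) : List (List ℕ) := bif s then [[34]] else [[0, 2, 4], [0, 2, 4, 6, 8, 10, 12]]
def rp2 (s b : Bool) : List (List ℕ) := bif s then bif b then [] else [T2 ++ [6, 10], T2 ++ [30, 6, 10]] else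
  bif b then [T2, T2 ++ [0, 10, 12]] else [T2 ++ [0]]
def rp4 (s : Bool) : List ℕ := bif s then T4 ++ [2, 6] else T4
noncomputable def cB (s b : Bool) (RG : List (List ℕ × List ℕ)) (RP : List (List ℕ)) (w : List ℕ) : Bool :=
  band (RG.all (·.1 ∈ RP)) (srch s b [([46, 46], [])] ([] :: [30] :: RG.map cjw) w)

end Cfsg.Agent.H8Th
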