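import Cfsg.Agent.H8.ThH

/-! # Classes of involutions -/

set_option autoImplicit false
set_option linter.unusedVariables false
set_option linter.unusedSectionVars false
set_option maxRecDepth 100000

namespace Cfsg.Agent.H8Th
open Equiv Subgroup Cfsg.Agent.Spor Cfsg.Agent.Spor.ThM

variable {G : Type*} [Group G] {z : G} {Q : Subgroup G} {π : G → P9}
theorem k000 : cB false false c0N0 (rp0 false) [] = true := by decide +kernel
theorem k001 : cB false true c0N1 (rp0 false) [] = true := by decide +kernel
theorem k010 : cB true false c0S0 (rp0 true) [] = true := by decide +kernel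
theorem k011 : cB true true c0S1 (rp0 true) [] = true := by decide +kernel
theorem k200 : cB false false c2N0 (rp2 false false) T2 = true := by decide +kernel
theorem k201 : cB false true c2N1 (rp2 false true) T2 = true := by decide +kernel
theorem k210 : cB true false c2S0 (rp2 true false) T2 = true := by decide +kernel
theorem k211 : cB true true c2S1 (rp2 true true) T2 = true := by decide +kernel
theorem k400 : cB false false c4N0 [rp4 false] T4 = true := by decide +kernel
theorem k401 : cB false true c4N1 [rp4 false] T4 = true := by decide +kernel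
theorem k410 : cB true false c4S0 [rp4 true] T4 = true := by decide +kernel
theorem k411 : cB true true c4S1 [rp4 true] T4 = true := by decide +kernel

namespace RM
variable {s b : Bool} {f : ℕ → G} {R : ℕ → G → Prop} (m : RM s b z Q π f R)
include m
theorem piT (t : Bool) : π (E f (bif t then T4 else T2)) = tt t := m.piw (by cases s <;> cases t <;> decide +kernel)
theorem cl0 {x : G} (hx : x ∈ Q) (h2 : x * x = 1) : x = 1 ∨ x = z ∨ ∃ r ∈ rp0 s, ∃ g ∈ centralizer {z}, x = g * E f r * g⁻¹ := by
  have e : π x = π (E f []) := (m.pQ hx).trans m.p1.symm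
  cases s <;> cases b
  exacts [m.cls k000 (m.le hx) e h2, m.cls k001 (m.le hx) e h2, m.cls k010 (m.le hx) e h2, m.cls k011 (m.le hx) e h2]
theorem cl1 {x : G} (hx : x ∈ centralizer {z}) (h2 : x * x = 1) {t : Bool} (ht : Ty t (π x)) :
    ∃ r ∈ bif t then [rp4 s] else rp2 s b, ∃ g ∈ centralizer {z}, x = g * E f r * g⁻¹ := by
  obtain ⟨k, hk, e⟩ := m.toTy hx ht
  have c := mul_mem (mul_mem hk hx) (inv_mem hk)
  have h3 : k * x * k⁻¹ * (k * x * k⁻¹) = 1 := by rw [conj_mul, h2]; simp
  have : k * x * k⁻¹ = 1 ∨ k * x * k⁻¹ = z ∨ ∃ r ∈ bif t then [rp4 s] else rp2 s b, ∃ g ∈ centralizer {z},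
      k * x * k⁻¹ = g * E f r * g⁻¹ := by
    have e' := e.trans (m.piT t).symm
    cases t <;> cases s <;> cases b
    exacts [m.cls k200 c e' h3, m.cls k201 c e' h3, m.cls k210 c e' h3, m.cls k211 c e' h3,
      m.cls k400 c e' h3, m.cls k401 c e' h3, m.cls k410 c e' h3, m.cls k411 c e' h3]
  rcases this with a | a | ⟨r, hr, g, hg, a⟩
  · rw [a, m.p1] at e; exact absurd e (by cases t <;> decide +kernel)
  · rw [a, m.pQ m.zQ] at e; exact absurd e (by cases t <;> decide +kernel)
  · exact ⟨r, hr, k⁻¹ * g, mul_mem (inv_mem hk) hg, by rw [mul_inv_rev, mul_assoc k⁻¹, mul_assoc k⁻¹, ← mul_assoc _ g⁻¹, ← a]; group⟩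
end RM

end Cfsg.Agent.H8Th
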