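import Cfsg.Agent.H8.ThI
import Cfsg.Agent.Perm.Prime
import Cfsg.Agent.Blk.ZStar

/-! # Fusion of the central involution -/

set_option autoImplicit false
set_option linter.unusedVariables false
set_option linter.unusedSectionVars false
set_option maxRecDepth 100000

namespace Cfsg.Agent.H8Th
open Equiv Subgroup Cfsg.Agent.Spor Cfsg.Agent.Spor.ThM

variable {G : Type*} [Group G] {z : G} {Q : Subgroup G} {π : G → P9}

def PB (x : G) (B : List G) : Prop :=
  (∀ g ∈ B, g * g = 1) ∧ (∀ g ∈ B, ∀ h ∈ B, g * h = h * g) ∧ ∀ g ∈ B, g * x = x * g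
def PW (x : G) : Prop := ∃ B, PB x B ∧ ∀ i < 16, i ≠ 0 → IsConj x (x * qw B i) ∧ qw B i ≠ 1
def P80 (x : G) : Prop := ∃ B f, PB x B ∧ f * x = x * f ∧ f ^ 5 = 1 ∧ f ≠ 1 ∧
  B.map (fun g => f * g * f⁻¹) = [2, 4, 8, 15].map (qw B) ∧ IsConj x (x * qw B 1) ∧ qw B 1 ≠ 1
def NW (z x : G) : Prop := ∃ i p q : G, i * i = z ∧ i * x = x * i ∧ p * x = x * p ∧ q * x = x * q ∧ p * i = i * p ∧
  q * i = i * q ∧ q * p = p * q ∧ p ^ 3 = 1 ∧ q ^ 3 = 1 ∧ p ≠ 1 ∧ q ≠ 1 ∧ q ≠ p ∧ q ≠ p * p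

theorem PB.map {x : G} {B : List G} (h : PB x B) (e : G ≃* G) : PB (e x) (B.map e) := by
  simp only [PB, List.forall_mem_map, ← map_mul, e.apply_eq_iff_eq, map_eq_one_iff e e.injective]; exact h
theorem PW.map {x : G} (h : PW x) (e : G ≃* G) : PW (e x) := by
  obtain ⟨B, h1, h2⟩ := h
  refine ⟨_, h1.map e, fun i a b => ?_⟩
  rw [← qw_map, ← map_mul]
  exact ⟨e.toMonoidHom.map_isConj (h2 i a b).1, by simpa using (h2 i a b).2⟩
theorem P80.map {x : G} (h : P80 x) (e : G ≃* G) : P80 (e x) := by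
  obtain ⟨B, f, h1, h2, h3, h4, h5, h6, h7⟩ := h
  refine ⟨_, e f, h1.map e, by rw [← map_mul, h2, map_mul], by rw [← map_pow, h3, map_one], by simpa using h4, ?_, ?_, ?_⟩
  · have := congrArg (List.map e) h5
    rw [List.map_map, List.map_map] at this
    rw [List.map_map]
    exact (List.map_congr_left fun g _ => by simp).trans (this.trans (List.map_congr_left fun n _ => qw_map e B n))
  · rw [← qw_map, ← map_mul]; exact e.toMonoidHom.map_isConj h6
  · rw [← qw_map]; simpa using h7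
theorem NW.map {z x : G} (h : NW z x) (e : G ≃* G) : NW (e z) (e x) := by
  obtain ⟨i, p, q, h⟩ := h
  refine ⟨e i, e p, e q, ?_⟩
  simpa only [← map_mul, ← map_pow, Ne, e.apply_eq_iff_eq, map_eq_one_iff e e.injective] using h

theorem qw_app {B : List G} (h1 : ∀ g ∈ B, g * g = 1) (h2 : ∀ g ∈ B, ∀ h ∈ B, g * h = h * g) (T : List ℕ) (n : ℕ) :
    qw B (app T n) = qw (T.map (qw B)) n := by
  induction T generalizing n with
  | nil => exact qw_zero B
  | cons t T ih => rw [app, qw_xor0 h1 h2, ih, List.map_cons, qw]; split_ifs <;> simp [qw_zero]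

namespace TG
variable (h : TG z Q π)
include h
section
variable {B : List G} (b : PB z B)
include b
theorem bC (i : ℕ) : qw B i ∈ centralizer {z} := qw_mem (fun g hg => mC.2 (b.2.2 g hg)) i
theorem bx (i j : ℕ) : π (qw B (i ^^^ j)) = π (qw B i) * π (qw B j) := by
  rw [qw_xor0 b.1 b.2.1, h.mul _ (h.bC b i) _ (h.bC b j)]
theorem b0 : π (qw B 0) = 1 := by rw [qw_zero, h.p1]
theorem pig (p : Fin 9) : ∃ k < 16, k ≠ 0 ∧ π (qw B k) p = p := by
  obtain ⟨i, j, n, e⟩ := Fintype.exists_ne_map_eq_of_card_lt (fun i : Fin 16 => π (qw B i) p) (by simp)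
  refine ⟨i ^^^ j, Nat.xor_lt_two_pow (n := 4) i.2 j.2, fun a => n (Fin.ext (Nat.eq_of_xor_eq_zero a)), ?_⟩
  rw [h.bx b, Perm.mul_apply, ← show π (qw B i) p = _ from e, ← Perm.mul_apply, ← h.bx b, Nat.xor_self, h.b0 b]; rfl
end

theorem noPW (a : PW z) (t : ∀ x ∈ centralizer {z}, IsConj z x → x ≠ z → Ty true (π x)) : False := by
  obtain ⟨B, b, c⟩ := a
  have k : ∀ i < 16, i ≠ 0 → Ty true (π (qw B i)) := fun i h1 h2 => by
    have := t _ (mul_mem h.zC (h.bC b i)) (c i h1 h2).1 fun e => (c i h1 h2).2 (mul_eq_left.1 e)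
    rwa [h.mul _ h.zC _ (h.bC b i), h.pQ h.zQ, one_mul] at this
  have : ∀ p, π (qw B 1) p = p := fun p => by
    obtain ⟨i, h1, h2, e⟩ := h.pig b p
    refine (k i h1 h2).fix ?_ e
    rw [← Perm.mul_apply, ← h.bx b, Nat.xor_comm, h.bx b, Perm.mul_apply, e]
  exact absurd ((k 1 (by omega) (by omega)).fix (this 0) (this 1)) (by decide)

theorem no80 (wc : ∀ x ∈ Q, IsConj z x → x = z) (a : P80 z) : False := by
  obtain ⟨B, f, b, h2, h3, h4, h5, h6, h7⟩ := a
  have fC := mC.2 h2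
  have f5 : π f ^ 5 = 1 := by rw [← h.ppow fC, h3, h.p1]
  have cj : ∀ i p, π (qw B (app [2, 4, 8, 15] i)) (π f p) = π f (π (qw B i) p) := fun i p => by
    rw [qw_app b.1 b.2.1, ← h5, show (fun g => f * g * f⁻¹) = MulAut.conj f from rfl, ← qw_map, MulAut.conj_apply,
      h.pcj fC (h.bC b i)]
    simp
  let X := {p : Fin 9 | ∀ i < 16, π (qw B i) p = p}
  have s1 : ∀ p, π f p = p → p ∈ X := fun p e l hl => by
    obtain ⟨k, h1, h2, e1⟩ := h.pig b p
    have c : ∀ i, π (qw B i) p = p → π (qw B (app [2, 4, 8, 15] i)) p = p := fun i a => by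
      have := cj i p; rwa [a, e] at this
    have cl : ∀ T : List ℕ, (∀ i ∈ T, π (qw B i) p = p) → ∀ m, π (qw B (app T m)) p = p := fun T => by
      induction T with
      | nil => exact fun _ m => by rw [app, h.b0 b]; rfl
      | cons t T ih =>
        intro a m
        rw [app, h.bx b, Perm.mul_apply, ih fun i hi => a i (List.mem_cons_of_mem _ hi)]
        split_ifs; exacts [a t List.mem_cons_self, by rw [h.b0 b]; rfl]
    have d : ∀ k < 16, k ≠ 0 → ∀ l < 16, ∃ m < 16, app [k, app [2, 4, 8, 15] k, app [2, 4, 8, 15] (app [2, 4, 8, 15] k),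
      app [2, 4, 8, 15] (app [2, 4, 8, 15] (app [2, 4, 8, 15] k))] m = l := by decide +kernel
    obtain ⟨m, -, rfl⟩ := d k h1 h2 l hl
    exact cl _ (by simp only [List.forall_mem_cons]; exact ⟨e1, c _ e1, c _ (c _ e1), c _ (c _ (c _ e1)), by simp⟩) m
  let P : Subgroup P9 := ⟨⟨⟨{σ | ∃ i < 16, σ = π (qw B i)}, by
      rintro _ _ ⟨i, hi, rfl⟩ ⟨j, hj, rfl⟩; exact ⟨_, Nat.xor_lt_two_pow (n := 4) hi hj, (h.bx b i j).symm⟩⟩,
      0, by omega, (h.b0 b).symm⟩, by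
    rintro _ ⟨i, hi, rfl⟩
    exact ⟨i, hi, inv_eq_of_mul_eq_one_right (by rw [← h.bx b, Nat.xor_self, h.b0 b])⟩⟩
  haveI : Fact (Nat.Prime 2) := ⟨Nat.prime_two⟩
  haveI : Fact (Nat.Prime 5) := ⟨Nat.prime_five⟩
  have m2 := Perm.ncard_modEq (p := 2) (P := P) (O := (Set.univ : Set (Fin 9))) (by
    rintro ⟨_, i, hi, rfl⟩; exact ⟨1, Subtype.ext (by
      show π _ ^ 2 ^ 1 = 1
      rw [pow_one, pow_two, ← h.bx b, Nat.xor_self, h.b0 b])⟩) (by simp)
  rw [Set.univ_inter, show MulAction.fixedPoints P (Fin 9) = X from Set.ext fun p =>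
    ⟨fun a i hi => a ⟨_, i, hi, rfl⟩, fun a ⟨_, i, hi, e⟩ => e ▸ a i hi⟩] at m2
  have m5 := Perm.ncard_modEq_elt f5 (O := X) fun p hp l hl => by
    have d : ∀ l < 16, ∃ i < 16, app [2, 4, 8, 15] i = l := by decide +kernel
    obtain ⟨i, hi, rfl⟩ := d l hl
    exact (cj i p).trans (congrArg _ (hp i hi))
  have m6 := Perm.ncard_modEq_elt f5 (O := (Set.univ : Set (Fin 9))) (by simp)
  rw [Set.inter_eq_right.2 (show {x | π f • x = x} ⊆ X from s1)] at m5
  rw [Set.univ_inter] at m6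
  have u9 : (Set.univ : Set (Fin 9)).ncard = 9 := by simp
  have lt := Set.ncard_lt_ncard (Set.ssubset_univ_iff.2 (show {x | π f • x = x} ≠ Set.univ from fun e => h4
    (h.odd (n := 2) fC h3 (Equiv.ext fun p => (e ▸ Set.mem_univ p : p ∈ {x | π f • x = x})))))
  have le := Set.ncard_le_ncard (Set.subset_univ X)
  rw [u9] at m2 m6 lt le
  have : X = Set.univ := Set.eq_of_subset_of_ncard_le (Set.subset_univ X) (by
    rw [u9]; unfold Nat.ModEq at m2 m5 m6; omega)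
  exact h7 (mul_eq_left.1 (wc _ (mul_mem h.zQ ((h.ker _ (h.bC b 1)).1
    (Equiv.ext fun p => (this ▸ Set.mem_univ p : p ∈ X) 1 (by omega)))) h6))

theorem noP4 [Finite G] (wc : ∀ x ∈ Q, IsConj z x → x = z) {u w : G} (hu : u ∈ centralizer {z}) (c : IsConj z u) (n : u ≠ z)
    (h1 : w * u = u * w) (h2 : w ^ 4 = z) : False := by
  haveI : Fact (Nat.Prime 2) := ⟨Nat.prime_two⟩
  obtain ⟨g, rfl⟩ := isConj_iff.1 c
  have w8 : w ^ 8 = 1 := by rw [show 8 = 4 + 4 from rfl, pow_add, h2, h.z2]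
  have wC : g⁻¹ * w * g ∈ centralizer {z} := mC.2 (by
    calc _ = g⁻¹ * (w * (g * z * g⁻¹)) * g := by group
      _ = _ := by rw [h1]; group)
  let T := zpowers (g⁻¹ * w * g) ⊔ Q
  have pT : IsPGroup 2 T := IsPGroup.to_sup_of_normal_right' (IsPGroup.of_card_dvd_pow (n := 3) (by
    rw [Nat.card_zpowers]; exact orderOf_dvd_of_pow_eq_one (by rw [show g⁻¹ * w * g = g⁻¹ * w * g⁻¹⁻¹ by simp, conj_pow, show 2 ^ 3 = 8 from rfl, w8]; simp)))
    (fun x => ⟨2, Subtype.ext (h.q4 x.2)⟩) (zpowers_le.2 (mem_normalizer_fintype fun x hx => h.nrm wC hx))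
  haveI := pT.isNilpotent
  obtain ⟨k, k1, k2⟩ := SetLike.exists_of_lt (normalizerCondition_of_isNilpotent (G := T)
    ((centralizer {g⁻¹ * z * g}).subgroupOf T) (lt_top_iff_ne_top.2 fun e => by
    have := h.cent (g⁻¹ * z * g) (mC.2 (by
      calc _ = g⁻¹ * (z * (g * z * g⁻¹)) * g := by group
        _ = _ := by rw [← mC.1 hu]; group)) fun x hx =>
      (mC.1 (subgroupOf_eq_top.1 e (mem_sup_right hx))).symm
    rcases this with a | a
    · exact h.z1 (by simpa [mul_assoc, inv_mul_eq_one] using a)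
    · exact n (by nth_rw 1 [← a]; group)))
  have a : (k * (g⁻¹ * w * g) * (k : G)⁻¹ : G) ∈ centralizer {g⁻¹ * z * g} :=
    (k1 ⟨_, mem_sup_left (mem_zpowers _)⟩).1 (mC.2 (show g⁻¹ * w * g * _ = _ * (g⁻¹ * w * g) by rw [← h2]; group))
  have yC : g * k * g⁻¹ * w * (g * k * g⁻¹)⁻¹ ∈ centralizer {z} := mC.2 (by
    calc _ = g * (k * (g⁻¹ * w * g) * (k : G)⁻¹ * (g⁻¹ * z * g)) * g⁻¹ := by group
      _ = _ := by rw [mC.1 a]; group)
  have := wc _ ((h.ker _ (pow_mem yC 4)).1 (by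
    rw [h.ppow yC]; exact pow8 (by rw [← h.ppow yC, conj_pow, w8, mul_one, mul_inv_cancel, h.p1]) (h.sgn _)))
    (by rw [conj_pow, h2]; exact isConj_iff.2 ⟨_, rfl⟩)
  rw [conj_pow, h2] at this
  refine k2 (mC.2 ?_)
  calc _ = g⁻¹ * (g * k * g⁻¹ * z * (g * k * g⁻¹)⁻¹) * g * k := by simp [mul_assoc]
    _ = _ := by rw [this]; rfl

theorem noNW {y : G} (y2 : y * y = 1) (y1 : y ≠ 1) (n : y ≠ z) (a : NW y z) : False := by
  obtain ⟨i, p, q, rfl, h1, h2, h3, h4, h5, h6, h7, h8, h9, h10, h11, h12⟩ := a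
  have iC := mC.2 h1
  have pC := mC.2 h2
  have qC := mC.2 h3
  obtain ⟨j, jC, ⟨b, t⟩, j1, j2⟩ : ∃ j ∈ centralizer {z}, (∃ b, Ty b (π j)) ∧ p * j = j * p ∧ q * j = j * q := by
    by_cases e : i * i ∈ Q
    · exact ⟨i, iC, h.ty iC e fun e' => (h.sq i e').elim y1 n, h4, h5⟩
    · exact ⟨_, mul_mem iC iC, h.ty (mul_mem iC iC) (y2 ▸ one_mem _) e, by rw [← mul_assoc, h4, mul_assoc, h4, mul_assoc],
        by rw [← mul_assoc, h5, mul_assoc, h5, mul_assoc]⟩
  have c : Commute q p := h6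
  rcases ((t.cen (h.pcm pC jC j1) fun e => h9 (h.odd (n := 1) pC h7 e)).2 (by rw [← h.ppow pC, h7, h.p1])).1 _
    (h.pcm qC jC j2) (h.pcm qC pC h6) (by rw [← h.ppow qC, h8, h.p1]) with e | e | e
  · exact h10 (h.odd (n := 1) qC h8 e)
  · exact h11 (mul_inv_eq_one.1 (h.odd (n := 1) (mul_mem qC (inv_mem pC)) (by rw [c.inv_right.mul_pow, h8, inv_pow, h7]; simp)
      (by rw [h.mul _ qC _ (inv_mem pC), h.pinv pC, e, mul_inv_cancel])))
  · exact h12 (mul_inv_eq_one.1 (h.odd (n := 1) (mul_mem qC (inv_mem (mul_mem pC pC))) (by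
      rw [(c.mul_right c).inv_right.mul_pow, h8, inv_pow, (Commute.refl p).mul_pow, h7]; simp)
      (by rw [h.mul _ qC _ (inv_mem (mul_mem pC pC)), h.pinv (mul_mem pC pC), h.mul _ pC _ pC, e, mul_inv_cancel])))

theorem zst [Finite G] [IsSimpleGroup G] : ∃ u ∈ centralizer {z}, IsConj z u ∧ u ≠ z := by
  haveI : Fact (Nat.Prime 2) := ⟨Nat.prime_two⟩
  have o : orderOf z = 2 := orderOf_eq_prime (by rw [pow_two, h.z2]) h.z1
  by_contra n
  push Not at n
  have hi : IsIsolatedInvolution z := ⟨o, fun g c => n _ (mC.2 c.eq.symm) (isConj_iff.2 ⟨g, rfl⟩)⟩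
  have hO : pPrimeCore 2 G = ⊥ := by
    refine (inferInstance : (pPrimeCore 2 G).Normal).eq_bot_or_eq_top.resolve_right fun q => ?_
    have := Core.not_dvd_card_pPrimeCore (G := G) 2
    rw [q, card_top, ← o] at this
    exact this (orderOf_dvd_natCard _)
  have hc : z ∈ center G := mem_center_iff.2 fun g => by
    have := Blk.zstar hi g
    rw [hO, mem_bot, mul_inv_eq_one, mul_inv_eq_iff_eq_mul] at this
    exact this.symm
  rcases (inferInstance : (center G).Normal).eq_bot_or_eq_top with q | q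
  · rw [q, mem_bot] at hc; exact h.z1 hc
  · obtain ⟨x, hx, e1⟩ := h.surj (c3 0) (by decide +kernel)
    obtain ⟨y, hy, e2⟩ := h.surj (c3 1) (by decide +kernel)
    have := h.pcm hx hy (mem_center_iff.1 (q ▸ mem_top y) x)
    rw [e1, e2] at this; exact absurd this (by decide +kernel)
end TG

noncomputable def pbB (s b : Bool) (r : List ℕ) (BW : List (List ℕ)) : Bool := lall (fun g => band (eK s b (g ++ g) [])
  (band (eK s b (g ++ r) (r ++ g)) (lall (fun h => eK s b (g ++ h) (h ++ g)) BW))) BW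
noncomputable def pwB (s b : Bool) (r : List ℕ) (BW QS : List (List ℕ)) : Bool := band (pbB s b r BW) (allN (fun i =>
  bor (Nat.beq i 0) (band (eK s b (cjw (r, QS.getD i [])) (r ++ qL BW i)) (nK s b (qL BW i) []))) 16)

namespace RM
variable {s b : Bool} {f : ℕ → G} {R : ℕ → G → Prop} (m : RM s b z Q π f R)
include m
theorem pb {r : List ℕ} {BW : List (List ℕ)} (h : pbB s b r BW = true) : PB (E f r) (BW.map (E f)) := by
  simp only [pbB, lall_iff, band_eq, Bool.and_eq_true] at h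
  simp only [PB, List.forall_mem_map, ← E_app]
  exact ⟨fun g hg => m.eqw (h g hg).1, fun g hg k hk => m.eqw ((h g hg).2.2 k hk), fun g hg => m.eqw (h g hg).2.1⟩
theorem pw4 : PW (E f (rp4 s)) := by
  have : ∀ BW QS, pwB s b (rp4 s) BW QS = true → PW (E f (rp4 s)) := fun BW QS h => by
    simp only [pwB, allN_iff, band_eq, Bool.and_eq_true, bor_iff, Nat.beq_eq] at h
    refine ⟨_, m.pb h.1, fun i h1 h2 => ?_⟩
    obtain ⟨a, c⟩ := (h.2 i h1).resolve_left h2
    rw [← E_qL, ← E_app, ← m.eqw a, E_cjw]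
    exact ⟨isConj_iff.2 ⟨_, rfl⟩, m.new c⟩
  cases s
  · exact this [[30, 0, 2, 4, 14], [0, 2, 4, 14], [30, 0, 6, 8, 14], [30, 0, 10, 12, 14]] [[], [0, 2], [0, 4], [2, 4], [0, 6],
      [4, 6], [2, 6], [0, 2, 4, 6], [0, 10], [4, 10], [2, 10], [0, 2, 4, 10], [2, 4, 6, 10], [0, 4, 6, 10], [0, 2, 6, 10], [6, 10]]
      (by cases b <;> decide +kernel)
  · exact this [[30, 8], [4, 8], [30, 2, 4, 8, 14], [30, 2, 4, 14]] [[], [0], [2], [0, 2], [6, 10], [2, 6, 10, 12], [2, 6, 10],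
      [6, 10, 12], [0, 6, 10], [0, 2, 6, 10, 12], [0, 2, 6, 10], [0, 6, 10, 12], [2, 12], [0, 2, 12], [12], [0, 12]]
      (by cases b <;> decide +kernel)
theorem p2 : ∀ r ∈ rp2 s b, P80 (E f r) ∨ ∃ w ∈ centralizer {z}, w * E f r = E f r * w ∧ w ^ 4 = z := by
  have p4 : ∀ r w, band (eK s b (w ++ r) (r ++ w)) (eK s b (w ++ w ++ w ++ w) [30]) = true →
      ∃ w ∈ centralizer {z}, w * E f r = E f r * w ∧ w ^ 4 = z := fun r w h => by
    rw [band_eq, Bool.and_eq_true] at h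
    refine ⟨_, m.EC w, by rw [← E_app, ← E_app, m.eqw h.1], ?_⟩
    have := m.eqw h.2
    rw [E_app, E_app, E_app] at this
    rw [pow_succ, pow_three', this]; wd; exact m.fz
  have p8 : ∀ r, band (pbB s b r [[0, 4], [30, 8], [30, 0, 8], [30, 0, 4, 12]]) (band (nK s b [30, 14, 24, 26, 28] [])
      (band (nK s b [0, 4] []) (lall (fun p => eK s b p.1 p.2) [([30, 14, 24, 26, 28] ++ r, r ++ [30, 14, 24, 26, 28]),
      ((List.replicate 5 [30, 14, 24, 26, 28]).flatten, []), (cjw (r, [2, 6]), r ++ [0, 4]),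
      (cjw ([0, 4], [30, 14, 24, 26, 28]), [30, 8]), (cjw ([30, 8], [30, 14, 24, 26, 28]), [30, 0, 8]),
      (cjw ([30, 0, 8], [30, 14, 24, 26, 28]), [30, 0, 4, 12]), (cjw ([30, 0, 4, 12], [30, 14, 24, 26, 28]),
      [0, 4] ++ ([30, 8] ++ ([30, 0, 8] ++ [30, 0, 4, 12])))]))) = true → P80 (E f r) := fun r h => by
    simp only [band_eq, Bool.and_eq_true] at h
    have := m.eqs h.2.2.2
    simp only [List.forall_mem_cons, E_cjw, E_app] at this
    obtain ⟨a1, a2, a3, a4, a5, a6, a7, -⟩ := this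
    refine ⟨_, _, m.pb h.1, a1, (ev_replicate _ _ _).symm.trans a2, m.new h.2.1, ?_, ?_, ?_⟩
    · simp [qw, a4, a5, a6, a7]
    · simp only [List.map, qw]; simp [← a3]
    · simp only [List.map, qw]; simpa [E] using m.new h.2.2.1
  cases s <;> cases b <;> simp only [rp2, cond_true, cond_false, List.forall_mem_cons, List.not_mem_nil, false_imp_iff,
    implies_true, and_true]
  · exact .inr (p4 _ [2, 4, 10, 16, 19, 16] (by decide +kernel))
  · exact ⟨.inr (p4 _ [14, 24, 26] (by decide +kernel)), .inr (p4 _ [2, 4, 14, 24, 26] (by decide +kernel))⟩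
  · exact ⟨.inl (p8 _ (by decide +kernel)), .inl (p8 _ (by decide +kernel))⟩
theorem nw (hs : s = false) : ∀ r ∈ rp0 s, NW z (E f r) := by
  subst hs
  have k : ∀ r i p q : List ℕ, band (lall (fun p => eK false b p.1 p.2) [(i ++ i, [30]), (i ++ r, r ++ i), (p ++ r, r ++ p),
      (q ++ r, r ++ q), (p ++ i, i ++ p), (q ++ i, i ++ q), (q ++ p, p ++ q), (p ++ p ++ p, []), (q ++ q ++ q, [])])
      (lall (fun p => nK false b p.1 p.2) [(p, []), (q, []), (q, p), (q, p ++ p)]) = true → NW z (E f r) := fun r i p q h => by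
    rw [band_eq, Bool.and_eq_true] at h
    have a := m.eqs h.1
    have c := m.nes h.2
    simp only [List.forall_mem_cons, E_app, ← pow_three'] at a c
    exact ⟨E f i, E f p, E f q, a.1.trans (by wd; exact m.fz), a.2.1, a.2.2.1, a.2.2.2.1, a.2.2.2.2.1, a.2.2.2.2.2.1,
      a.2.2.2.2.2.2.1, a.2.2.2.2.2.2.2.1, a.2.2.2.2.2.2.2.2.1, c.1, c.2.1, c.2.2.1, c.2.2.2.1⟩
  simp only [rp0, cond_false, List.forall_mem_cons, List.not_mem_nil, false_imp_iff, implies_true, and_true]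
  exact ⟨k _ [12, 14] [32, 30, 18, 17] [32, 30, 20, 25, 22, 21] (by cases b <;> decide +kernel),
    k _ [0] [32, 30, 16, 21, 18, 17] [32, 30, 22, 27, 24, 23] (by cases b <;> decide +kernel)⟩

theorem fus [Finite G] [IsSimpleGroup G] : s = true ∧ IsConj z (f 17) := by
  have i2 : ∀ {x}, IsConj z x → x * x = 1 := fun c => by
    obtain ⟨g, rfl⟩ := isConj_iff.1 c; rw [conj_mul, m.z2]; simp
  by_cases wc : ∀ x ∈ Q, IsConj z x → x = z
  · exfalso
    have t : ∀ x ∈ centralizer {z}, IsConj z x → x ≠ z → Ty true (π x) := fun x hx c n => by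
      obtain ⟨_ | _, t⟩ := m.ty hx (i2 c ▸ one_mem _) fun e => n (wc x e c)
      · exfalso
        obtain ⟨r, hr, g, hg, rfl⟩ := m.cl1 hx (i2 c) t
        have c' : IsConj (E f r) z := (isConj_iff.2 ⟨g, rfl⟩).trans c.symm
        rcases m.p2 r hr with a | ⟨w, -, h1, h2⟩
        · obtain ⟨k, e⟩ := isConj_iff.1 c'
          exact m.no80 wc (e ▸ a.map (MulAut.conj k))
        · exact m.noP4 wc (m.EC r) c'.symm (fun e => n (by rw [e, mC.1 hg, mul_inv_cancel_right])) h1 h2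
      · exact t
    obtain ⟨u, hu, c, n⟩ := m.zst
    obtain ⟨r, hr, g, hg, rfl⟩ := m.cl1 hu (i2 c) (t u hu c n)
    obtain ⟨k, e⟩ := isConj_iff.1 ((isConj_iff.2 ⟨g, rfl⟩).trans c.symm)
    rw [List.mem_singleton.1 hr] at e
    exact m.noPW (e ▸ m.pw4.map (MulAut.conj k)) t
  · push Not at wc
    obtain ⟨x, hx, c, n⟩ := wc
    rcases m.cl0 hx (i2 c) with rfl | e | ⟨r, hr, g, hg, rfl⟩
    · exact absurd (isConj_one_left.1 c) m.z1
    · exact absurd e n
    have c' : IsConj (E f r) z := (isConj_iff.2 ⟨g, rfl⟩).trans c.symm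
    cases s
    · obtain ⟨k, e⟩ := isConj_iff.1 c'
      refine (m.noNW (y := k * z * k⁻¹) (i2 (isConj_iff.2 ⟨k, rfl⟩)) (by simpa using m.z1) (fun e' => n ?_)
        (e ▸ (m.nw rfl r hr).map (MulAut.conj k))).elim
      rw [← e'] at e
      rw [show E f r = z by simpa using e, mC.1 hg, mul_inv_cancel_right]
    · rw [List.mem_singleton.1 hr] at c'
      exact ⟨rfl, by wd at c'; exact c'.symm⟩
end RM

end Cfsg.Agent.H8Th
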