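import Cfsg.Agent.H8.ThH
import Cfsg.Agent.Spor.ThM.D1

/-! # The spin case: machine checked facts -/

set_option autoImplicit false
set_option linter.unusedVariables false
set_option linter.unusedSectionVars false
set_option maxRecDepth 100000

namespace Cfsg.Agent.H8Th
open Equiv Subgroup Cfsg.Agent.Spor Cfsg.Agent.Spor.ThM

noncomputable def redB (b : Bool) (x y : List ℕ) (EV OD SIX : List (List ℕ)) : Bool :=
  band (forceL (EV.map (pW true)) fun L1 => forceL (OD.map (pW true)) fun L2 => force (pW true x) fun p => force (pW true y) fun q =>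
    dfs [(p, q)] fun l => bor (memL L1 l) (memL L2 (tc (tb (swap 7 8)) l)))
  (lall (fun w => bor (decide (w ∈ SIX)) (band (nK true b (w ++ [34]) (34 :: w)) (nK true b (w ++ [34, 30]) (34 :: w)))) EV)
def D8W : List (List ℕ) := [[], [30], [34], [34, 30], [36, 34, 36], [36, 34, 36, 30], [34, 36, 34, 36], [34, 36, 34, 36, 30]]
noncomputable def cmB (L : List (List ℕ)) : Bool := forceL (A.evs TS L) fun L =>
  lall (fun x => lall (fun y => Nat.beq (A.mul x y) (A.mul y x)) L) L

variable {G : Type*} [Group G] {z : G} {Q : Subgroup G} {π : G → P9}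
namespace RM
variable {b : Bool} {f : ℕ → G} {R : ℕ → G → Prop}
theorem red (m : RM true b z Q π f R) {x y : List ℕ} {EV OD SIX : List (List ℕ)} (hc : redB b x y EV OD SIX = true) {h : G}
    (hh : h ∈ centralizer {z}) (cQ : E f [34] ∈ Q) (e : h * E f x = E f y * h) (e' : h * E f [34] = E f [34] * h) :
    ∃ w ∈ SIX, π h = π (E f w) := by
  rw [redB, band_eq, Bool.and_eq_true, forceL_eq, forceL_eq, force_eq, force_eq, lall_iff] at hc
  have := dfs_sound hc.1 (σ := π h) (by
    simp only [List.forall_mem_singleton]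
    exact ⟨π (E f x), π (E f y), m.pi x, m.pi y, by rw [← m.mul _ hh _ (m.EC x), e, m.mul _ (m.EC y) _ hh]⟩)
  simp only [bor_iff, memL_iff, List.mem_map, ← tb_mul] at this
  rcases this with ⟨w, hw, a⟩ | ⟨w, hw, a⟩
  · have a : π h = π (E f w) := (tb_inj ((m.pi w).trans a)).symm
    have := hc.2 w hw
    rw [bor_iff, band_eq, Bool.and_eq_true, decide_eq_true_eq] at this
    refine ⟨w, this.resolve_right fun n => ?_, a⟩
    have q : (E f w)⁻¹ * h ∈ Q := (m.ker _ (mul_mem (inv_mem (m.EC w)) hh)).1 (by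
      rw [m.mul _ (inv_mem (m.EC w)) _ hh, m.pinv (m.EC w), a, inv_mul_cancel])
    rcases m.comm _ q _ cQ with c | c
    · refine m.new n.1 ?_
      rw [E_app, show E f (34 :: w) = E f [34] * E f w from E_app f [34] w]
      calc _ = E f w * (E f [34] * ((E f w)⁻¹ * h)) * h⁻¹ * E f w := by group
        _ = _ := by rw [← c, mul_assoc _ h, e']; group
    · refine m.new n.2 ?_
      rw [E_app, show E f (34 :: w) = E f [34] * E f w from E_app f [34] w,
        show E f [34, 30] = E f [34] * z by rw [← m.fz]; wd]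
      calc _ = E f w * (E f [34] * ((E f w)⁻¹ * h * z * ((E f w)⁻¹ * h)⁻¹)) := by
            rw [mC.1 (m.le q), mul_inv_cancel_right]
        _ = E f w * (E f [34] * ((E f w)⁻¹ * h) * z) * h⁻¹ * E f w := by group
        _ = _ := by rw [← c, mul_assoc _ h, e']; group
  · have := congrArg Perm.sign (tb_inj ((m.pi w).trans a))
    rw [m.sgn, map_mul, m.sgn] at this
    exact absurd this (by decide)
end RM

def hJ0 : List (List ℕ × List ℕ) := [([42, 46, 42], [46]), ([46, 34], [34, 46]), ([46, 46], [30])]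
def hJ1 : List (List ℕ × List ℕ) := [([42, 46, 42], [46]), ([46, 34], [34, 46]), ([46, 46], [30, 34]),
  ([46, 40, 46, 40, 46, 40], [30, 34])]
def hC1 : List (List ℕ × List ℕ) := [([46, 42], [42, 46]), ([46, 34], [34, 46]), ([46, 46], []), ([46, 38, 46, 38], [34]),
  ([46, 40, 46, 40, 46, 40, 46, 40, 46, 40, 46, 40, 46, 40], [])]
def rW : List ℕ := [30, 38, 36, 44, 36, 45]
def xW : List ℕ := [38, 36, 34, 36, 38, 44, 36, 34, 36, 44]
def bW : List ℕ := [44, 38, 36, 34, 36, 38, 36, 34, 36, 44, 38]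
def hC2 : List (List ℕ × List ℕ) := [([46, 42], [42, 46]), ([46, 34], [34, 46]), (46 :: xW, xW ++ [46]),
  (46 :: rW ++ 46 :: rW, []), (bW ++ 46 :: rW ++ bW ++ 46 :: rW ++ bW ++ 46 :: rW, [])]

end Cfsg.Agent.H8Th
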