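import Cfsg.Agent.H8.ThK

/-! # The spin case: machine checked facts -/

set_option autoImplicit false
set_option linter.unusedVariables false
set_option linter.unusedSectionVars false
set_option maxRecDepth 100000

namespace Cfsg.Agent.H8Th
open Equiv Subgroup Cfsg.Agent.Spor Cfsg.Agent.Spor.ThM

theorem rJ0 : redB false [42] [43] Jev Jod J6 = true := by decide +kernel
theorem rJ1 : redB true [42] [43] Jev Jod J6 = true := by decide +kernel
theorem rC1 : redB true [42] [42] Cev Cod C6 = true := by decide +kernel
theorem rST : dfs [(pW true [40], pW true [40]), (pW true [42], pW true [42])]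
    (fun l => bor (Nat.beq l idT) (Nat.beq l (tb (swap 5 6)))) = true := by decide +kernel

end Cfsg.Agent.H8Th
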