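import Cfsg.Agent.H8.ThK

/-! # The spin case: machine checked facts -/

set_option autoImplicit false
set_option linter.unusedVariables false
set_option linter.unusedSectionVars false
set_option maxRecDepth 100000

namespace Cfsg.Agent.H8Th
open Equiv Subgroup Cfsg.Agent.Spor Cfsg.Agent.Spor.ThM

theorem kD0 : srch true false [([46, 40], [40, 46])] D8W [] = true := by decide +kernel
theorem kD1 : srch true true [([46, 40], [40, 46])] D8W [] = true := by decide +kernel
theorem kU0 : srch true true [([44, 46], [46, 44])] Lu [] = true := by decide +kernel
theorem kU1 : srch true true [([44, 46, 30], [46, 44])] Lu [] = true := by decide +kernel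
theorem kE0 : srch true true [([38, 46], [46, 38])] Le [] = true := by decide +kernel
theorem kE1 : srch true true [([38, 46, 30], [46, 38])] Le [] = true := by decide +kernel
theorem kU2 : cmB Lu = true := by decide +kernel
theorem kE2 : cmB Le = true := by decide +kernel
theorem kR : srch true true [([46, 38], [38, 46]), ([46, 36], [36, 46]), ([46, 34], [34, 46]),
    ([46, 44, 36, 45], [44, 36, 45, 46])] [[], [30]] [] = true := by decide +kernel
theorem kP : band (lall (fun x => band (lall (fun y => memL PL (tc x y)) PL) (band (lan (fun y => Nat.beq (tc x y) idT) PL)
    (bor (Nat.beq x idT) (lan (fun w => bno (Nat.beq (tc x (pW true w)) (tc (pW true w) x))) [[36], [38], [44, 36, 45]])))) PL)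
    (lall (fun w => memL PL (pW true w)) [[], [30], [34], [36], [38], [44]]) = true := by decide +kernel

end Cfsg.Agent.H8Th
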