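import Cfsg.Agent.H8.ThK

/-! # The spin case: machine checked facts -/

set_option autoImplicit false
set_option linter.unusedVariables false
set_option linter.unusedSectionVars false
set_option maxRecDepth 100000

namespace Cfsg.Agent.H8Th
open Equiv Subgroup Cfsg.Agent.Spor Cfsg.Agent.Spor.ThM

theorem kC20 : srch true true hC2 [[], [38, 44, 36, 34, 36, 38, 44, 36, 34, 36]] (C6.getD 0 []) = true := by decide +kernel
theorem kC21 : srch true true hC2 [[], [38, 44, 36, 34, 36, 38, 44, 36, 34, 36]] (C6.getD 1 []) = true := by decide +kernel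
theorem kC22 : srch true true hC2 [[], [38, 44, 36, 34, 36, 38, 44, 36, 34, 36]] (C6.getD 2 []) = true := by decide +kernel
theorem kC23 : srch true true hC2 [[], [38, 44, 36, 34, 36, 38, 44, 36, 34, 36]] (C6.getD 3 []) = true := by decide +kernel
theorem kC24 : srch true true hC2 [[], [38, 44, 36, 34, 36, 38, 44, 36, 34, 36]] (C6.getD 4 []) = true := by decide +kernel
theorem kC25 : srch true true hC2 [[], [38, 44, 36, 34, 36, 38, 44, 36, 34, 36]] (C6.getD 5 []) = true := by decide +kernel
theorem kC2 : ∀ w ∈ C6, srch true true hC2 [[], [38, 44, 36, 34, 36, 38, 44, 36, 34, 36]] w = true := by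
  simp only [C6, List.forall_mem_cons]
  exact ⟨kC20, kC21, kC22, kC23, kC24, kC25, by simp⟩

end Cfsg.Agent.H8Th
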