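import Cfsg.Agent.H8.ThK

/-! # The spin case: machine checked facts -/

set_option autoImplicit false
set_option linter.unusedVariables false
set_option linter.unusedSectionVars false
set_option maxRecDepth 100000

namespace Cfsg.Agent.H8Th
open Equiv Subgroup Cfsg.Agent.Spor Cfsg.Agent.Spor.ThM

theorem kJ00 : srch true false hJ0 [] (J6.getD 0 []) = true := by decide +kernel
theorem kJ01 : srch true false hJ0 [] (J6.getD 1 []) = true := by decide +kernel
theorem kJ02 : srch true false hJ0 [] (J6.getD 2 []) = true := by decide +kernel
theorem kJ03 : srch true false hJ0 [] (J6.getD 3 []) = true := by decide +kernel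
theorem kJ04 : srch true false hJ0 [] (J6.getD 4 []) = true := by decide +kernel
theorem kJ05 : srch true false hJ0 [] (J6.getD 5 []) = true := by decide +kernel
theorem kJ0 : ∀ w ∈ J6, srch true false hJ0 [] w = true := by
  simp only [J6, List.forall_mem_cons]
  exact ⟨kJ00, kJ01, kJ02, kJ03, kJ04, kJ05, by simp⟩

end Cfsg.Agent.H8Th
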