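import Cfsg.Agent.H8.ThK

/-! # The spin case: machine checked facts -/

set_option autoImplicit false
set_option linter.unusedVariables false
set_option linter.unusedSectionVars false
set_option maxRecDepth 100000

namespace Cfsg.Agent.H8Th
open Equiv Subgroup Cfsg.Agent.Spor Cfsg.Agent.Spor.ThM

theorem kJ10 : srch true true hJ1 [[44], [44, 38]] (J6.getD 0 []) = true := by decide +kernel
theorem kJ11 : srch true true hJ1 [[44], [44, 38]] (J6.getD 1 []) = true := by decide +kernel
theorem kJ12 : srch true true hJ1 [[44], [44, 38]] (J6.getD 2 []) = true := by decide +kernel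
theorem kJ13 : srch true true hJ1 [[44], [44, 38]] (J6.getD 3 []) = true := by decide +kernel
theorem kJ14 : srch true true hJ1 [[44], [44, 38]] (J6.getD 4 []) = true := by decide +kernel
theorem kJ15 : srch true true hJ1 [[44], [44, 38]] (J6.getD 5 []) = true := by decide +kernel
theorem kJ1 : ∀ w ∈ J6, srch true true hJ1 [[44], [44, 38]] w = true := by
  simp only [J6, List.forall_mem_cons]
  exact ⟨kJ10, kJ11, kJ12, kJ13, kJ14, kJ15, by simp⟩

end Cfsg.Agent.H8Th
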