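import Cfsg.Agent.H8.ThJ
import Cfsg.Agent.H8.ThKA
import Cfsg.Agent.H8.ThKB
import Cfsg.Agent.H8.ThKJ0

/-! # The spin case: an involution interchanging `a` and `c` -/

set_option autoImplicit false
set_option linter.unusedVariables false
set_option linter.unusedSectionVars false
set_option maxRecDepth 100000

namespace Cfsg.Agent.H8Th
open Equiv Subgroup Cfsg.Agent.Spor Cfsg.Agent.Spor.ThM

variable {G : Type*} [Group G] {Q : Subgroup G} {π : G → P9}

structure SF (a : G) (Q : Subgroup G) (π : G → P9) (c k s t : G) : Prop extends TG a Q π where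
  cQ : c ∈ Q
  kQ : k ∈ Q
  c2 : c * c = 1
  k2 : k * k = 1
  c1 : c ≠ 1
  ca : c ≠ a
  kc : k * c * k⁻¹ = c * a
  sC : s ∈ centralizer {a}
  tC : t ∈ centralizer {a}
  s7 : s ^ 7 = 1
  s1 : s ≠ 1
  t3 : t ^ 3 = 1
  t1 : t ≠ 1
  sc : s * c = c * s
  sk : s * k = k * s
  tc : t * c = c * t
  tk : t * k = k * t
  ts : t * s * t⁻¹ = s ^ 4
  inv : ∀ x ∈ Q, x * x = 1 → x = 1 ∨ x = a ∨ ∃ g ∈ centralizer {a}, x = g * c * g⁻¹
  d8 : ∀ x ∈ Q, x * s = s * x → x = 1 ∨ x = a ∨ x = c ∨ x = c * a ∨ x = k ∨ x = k * a ∨ x = c * k ∨ x = c * k * a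
  cst : ∀ h ∈ centralizer {a}, h * s = s * h → h * t = t * h → h ∈ Q

structure Sw (a c s t v : G) : Prop where
  v2 : v * v = 1
  va : v * a * v⁻¹ = c
  vs : v * s = s * v
  vt : v * t = t * v

theorem cj (p : G) {x y : G} (h : x * y = y * x) : p * x * p⁻¹ * (p * y * p⁻¹) = p * y * p⁻¹ * (p * x * p⁻¹) := by
  rw [conj_mul, conj_mul, h]
theorem cj' {g x y w : G} (e : g * y * g⁻¹ = w) (h : x * w = w * x) : g⁻¹ * x * g * y = y * (g⁻¹ * x * g) := by
  subst e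
  calc _ = g⁻¹ * (x * (g * y * g⁻¹)) * g := by group
    _ = _ := by rw [h]; group
theorem cj1 {g x : G} (h : g * x = x * g) : g * x * g⁻¹ = x := by rw [h, mul_inv_cancel_right]
theorem cj3 (y x : G) : y ^ 3 * x * (y ^ 3)⁻¹ = y * (y * (y * x * y⁻¹) * y⁻¹) * y⁻¹ := by simp [pow_succ, mul_assoc]
theorem inv2 {x : G} (h : x * x = 1) : x⁻¹ = x := inv_eq_of_mul_eq_one_left h
theorem Sw.vc {a c s t v : G} (w : Sw a c s t v) : v * c * v⁻¹ = a := by
  rw [← w.va, inv2 w.v2, ← mul_assoc, ← mul_assoc, w.v2, one_mul, mul_assoc, w.v2, mul_one]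

theorem TG.inQ {a : G} (h : TG a Q π) {x y : G} (hx : x ∈ centralizer {a}) (x2 : x * x = 1) (hy : y ∈ centralizer {a})
    (y7 : y ^ 7 = 1) (y1 : y ≠ 1) (e : y * x = x * y) : x ∈ Q := by_contra fun n => by
  obtain ⟨b, t⟩ := h.ty hx (x2 ▸ one_mem _) n
  exact (t.cen (h.pcm hy hx e) fun e => y1 (h.odd (n := 3) hy y7 e)).1 (by rw [← h.ppow hy, y7, h.p1])

namespace SF
variable {a c k s t : G} (h : SF a Q π c k s t)
include h
theorem ac : c * a = a * c := mC.1 (h.le h.cQ)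
theorem ak : k * a = a * k := mC.1 (h.le h.kQ)
theorem ck2 : c * k * (c * k) = a := by
  rw [show c * k * (c * k) = c * (k * c * k⁻¹) by rw [inv2 h.k2]; simp only [mul_assoc], h.kc, ← mul_assoc, h.c2, one_mul]
theorem ne1 {x : G} : x * a ≠ x := fun e => h.z1 (mul_eq_left.1 e)

theorem exg [Finite G] (hc : IsConj a c) : ∃ g, g * a * g⁻¹ = c * a ∧ g * c * g⁻¹ = a ∧ Sw a c s t (g * k * g⁻¹) := by
  obtain ⟨p, hp⟩ := isConj_iff.1 hc.symm
  have pc : ∀ x, x * c = c * x → p * x * p⁻¹ ∈ centralizer {a} := fun x e => mC.2 (hp ▸ cj p e)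
  have a2 : p * a * p⁻¹ * (p * a * p⁻¹) = 1 := by rw [conj_mul, h.z2]; simp
  obtain ⟨k0, hk, e0⟩ := ((h.inv _ (h.inQ (pc a h.ac.symm) a2 (pc s h.sc) (by rw [conj_pow, h.s7]; simp)
    (by simpa using h.s1) (cj p (mC.1 h.sC))) a2).resolve_left (by simpa using h.z1)).resolve_left fun e =>
    h.ca (by rw [← hp] at e; simpa [← hp] using e.symm)
  obtain ⟨g, e1, e2⟩ : ∃ g, g * a * g⁻¹ = c * a ∧ g * c * g⁻¹ = a := ⟨k * (k0⁻¹ * p), by
    rw [← h.kc, show k * (k0⁻¹ * p) * a * (k * (k0⁻¹ * p))⁻¹ = k * (k0⁻¹ * (p * a * p⁻¹) * k0) * k⁻¹ by group, e0]; group, by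
    rw [show k * (k0⁻¹ * p) * c * (k * (k0⁻¹ * p))⁻¹ = k * k0⁻¹ * (p * c * p⁻¹) * (k * k0⁻¹)⁻¹ by group, hp]
    exact cj1 (mC.1 (mul_mem (h.le h.kQ) (inv_mem hk)))⟩
  have cm : ∀ {x}, x * a = a * x → x * c = c * x → x * (c * a) = c * a * x := fun e e' => by
    rw [← mul_assoc, e', mul_assoc, e, mul_assoc]
  have o7 : orderOf s = 7 := orderOf_eq_of_prime (by decide) h.s7 h.s1
  obtain ⟨n, hn, e3⟩ := Spor.exists_conj_mem (S := centralizer {a} ⊓ centralizer {c}) (T := zpowers s) (p := 7) (by decide)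
    (y := g⁻¹ * s * g) ⟨mC.2 (cj' e1 (cm (mC.1 h.sC) h.sc)), mC.2 (cj' e2 (mC.1 h.sC))⟩
    (by rw [show g⁻¹ * s * g = g⁻¹ * s * g⁻¹⁻¹ by simp, conj_pow, h.s7]; simp)
    (not_dvd_relIndex (zpowers_le.2 (mem_inf.2 ⟨h.sC, mC.2 h.sc⟩)) rfl (by rw [Nat.card_zpowers, o7]) fun d =>
      absurd (d.trans (h.card ▸ card_dvd_of_le inf_le_left)) (by decide))
  have e1 : g * n * a * (g * n)⁻¹ = c * a := by rw [← e1, mul_assoc g, mC.1 hn.1]; group
  have e2 : g * n * c * (g * n)⁻¹ = a := by rw [← e2, mul_assoc g, mC.1 hn.2]; group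
  rw [show n⁻¹ * (g⁻¹ * s * g) * n = (g * n)⁻¹ * s * (g * n) by group] at e3
  generalize g * n = g at e1 e2 e3
  have cs : ∀ {x y}, y ∈ zpowers s → x * s = s * x → x * y = y * x := fun ⟨j, e⟩ c => e ▸ ((show Commute _ _ from c).zpow_right j).eq
  have k1 : g⁻¹ * s * g * k = k * (g⁻¹ * s * g) := (cs e3 h.sk.symm).symm
  refine ⟨g, e1, e2, by rw [conj_mul, h.k2]; simp, ?_, ?_, ?_⟩
  · calc _ = g * (k * c * k⁻¹) * g⁻¹ := by rw [← e2]; group
      _ = _ := by rw [h.kc, ← conj_mul, e1, e2, h.ac, ← mul_assoc, h.z2, one_mul]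
  · simpa [mul_assoc] using (cj g k1).symm
  have tC : g⁻¹ * t * g ∈ centralizer {a} := mC.2 (cj' e1 (cm (mC.1 h.tC) h.tc))
  have tc := cj' e2 (mC.1 h.tC)
  have t3 : (g⁻¹ * t * g) ^ 3 = 1 := by rw [show g⁻¹ * t * g = g⁻¹ * t * g⁻¹⁻¹ by simp, conj_pow, h.t3]; simp
  have ts : g⁻¹ * t * g * (g⁻¹ * s * g) * (g⁻¹ * t * g)⁻¹ = (g⁻¹ * s * g) ^ 4 := by
    rw [show g⁻¹ * s * g = g⁻¹ * s * g⁻¹⁻¹ by simp, conj_pow, ← h.ts]; group
  have os : orderOf (g⁻¹ * s * g) = 7 := by rw [← o7]; exact (MulAut.conj g⁻¹).orderOf_eq s ▸ by simp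
  have zs : s ∈ zpowers (g⁻¹ * s * g) := eq_of_le_of_card_ge (zpowers_le.2 e3) (by
    rw [Nat.card_zpowers, Nat.card_zpowers, o7, os]) ▸ mem_zpowers s
  suffices g⁻¹ * t * g * k = k * (g⁻¹ * t * g) by simpa [mul_assoc] using (cj g this).symm
  generalize g⁻¹ * t * g = r at *
  generalize g⁻¹ * s * g = q at *
  have x1 : Commute (r * k * r⁻¹) (q ^ 4) := ts ▸ (cj r k1).symm
  have x2 : r * k * r⁻¹ * s = s * (r * k * r⁻¹) := by
    obtain ⟨j, rfl⟩ := zs
    have := x1.pow_right 2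
    rw [← pow_mul, show 4 * 2 = 7 + 1 from rfl, pow_succ, ← os, pow_orderOf_eq_one, one_mul] at this
    exact (this.zpow_right j).eq
  have x3 : r * k * r⁻¹ * c ≠ c * (r * k * r⁻¹) := fun e => h.ne1 (by
    rw [← h.kc]; refine cj1 ?_
    simpa [mul_assoc] using cj r⁻¹ (cj1 tc ▸ e :))
  have x4 : r * k * r⁻¹ * (r * k * r⁻¹) = 1 := by rw [conj_mul, h.k2]; simp
  rcases h.d8 _ (h.nrm tC h.kQ) x2 with e | e | e | e | e | e | e | e
  · exact absurd (by rw [e]; simp) x3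
  · exact absurd (by rw [e, h.ac]) x3
  · exact absurd (by rw [e]) x3
  · exact absurd (by rw [e, mul_assoc, h.ac]) x3
  · exact mul_inv_eq_iff_eq_mul.1 e
  · have : r ^ 3 * k * (r ^ 3)⁻¹ = k * a * a * a := by
      have q : ∀ x, r * (x * a) * r⁻¹ = r * x * r⁻¹ * a := fun x => by rw [← conj_mul, cj1 (mC.1 tC)]
      rw [cj3, e, q, e, q, q, e]
    rw [t3, mul_assoc k, h.z2] at this
    exact absurd (by simpa using this.symm) h.z1
  · rw [e, h.ck2] at x4; exact absurd x4 h.z1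
  · rw [e, mul_assoc _ a, ← mC.1 (h.le (mul_mem (mul_mem h.cQ h.kQ) h.zQ)), mul_assoc _ a, h.z2, mul_one, h.ck2] at x4
    exact absurd x4 h.z1

theorem inD {x : G} (h1 : x * a = a * x) (h2 : x * s = s * x) (h3 : x * t = t * x) :
    x = 1 ∨ x = a ∨ x = c ∨ x = c * a ∨ x = k ∨ x = k * a ∨ x = c * k ∨ x = c * k * a :=
  h.d8 x (h.cst x (mC.2 h1) h2 h3) h2

theorem cube {v k' : G} (w : Sw a c s t v) (h1 : k' * a = a * k') (h2 : k' * c * k'⁻¹ = c * a) (h3 : k' * s = s * k')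
    (h4 : k' * t = t * k') : (k' * v) ^ 3 = 1 := by
  have q : ∀ x, k' * v * x * (k' * v)⁻¹ = k' * (v * x * v⁻¹) * k'⁻¹ := fun x => by group
  have a1 : k' * v * a * (k' * v)⁻¹ = c * a := by rw [q, w.va, h2]
  have a2 : k' * v * c * (k' * v)⁻¹ = a := by rw [q, w.vc, cj1 h1]
  have a3 : k' * v * (c * a) * (k' * v)⁻¹ = c := by rw [← conj_mul, a1, a2, h.ac, ← mul_assoc, h.z2, one_mul]
  have a4 : Commute (k' * v) s := (show Commute k' s from h3).mul_left w.vs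
  have a5 : Commute (k' * v) t := (show Commute k' t from h4).mul_left w.vt
  generalize k' * v = y at *
  have p := cj3 y
  have b1 : y ^ 3 * a = a * y ^ 3 := mul_inv_eq_iff_eq_mul.1 (by rw [p, a1, a3, a2])
  have b2 : y ^ 3 * c * (y ^ 3)⁻¹ = c := by rw [p, a2, a1, a3]
  have b3 : y * y ^ 3 * y⁻¹ = y ^ 3 := by group
  have kc := h.kc
  have b4 : ∀ x, x * c = c * x → x * k * c * (x * k)⁻¹ ≠ c := fun x e e' => h.ne1 (by
    rw [← kc]; simpa [mul_assoc, ← e] using congrArg (fun y => x⁻¹ * y * x) e')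
  rcases h.inD b1 (a4.pow_left 3).eq (a5.pow_left 3).eq with e | e | e | e | e | e | e | e <;> rw [e] at b2 b3
  · exact e
  · rw [a1, mul_eq_right] at b3; exact absurd b3 h.c1
  · rw [a2] at b3; exact absurd b3.symm h.ca
  · rw [a3] at b3; exact absurd b3.symm h.ne1
  · exact absurd (by simpa using b2) (b4 1 (by simp))
  · exact absurd (h.ak ▸ b2) (b4 a h.ac.symm)
  · exact absurd b2 (b4 c rfl)
  · exact absurd (by rwa [mul_assoc c, h.ak, ← mul_assoc] at b2) (b4 (c * a) (by rw [mul_assoc, h.ac]))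
end SF

set_option hygiene false in
notation "𝐚" => f 15
set_option hygiene false in
notation "𝐜" => f 17
set_option hygiene false in
notation "𝐝" => f 18
set_option hygiene false in
notation "𝐞" => f 19
set_option hygiene false in
notation "𝐬" => f 20
set_option hygiene false in
notation "𝐭" => f 21
set_option hygiene false in
notation "𝐮" => f 22

namespace RM
variable {b : Bool} {f : ℕ → G} {R : ℕ → G → Prop} (m : RM true b (f 15) Q π f R)
include m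
theorem cQ : E f [34] ∈ Q := (m.ker _ (m.EC _)).1 (m.piw (by decide +kernel))
theorem sf : SF 𝐚 Q π 𝐜 (𝐝 * 𝐜 * 𝐝) 𝐬 𝐭 := by
  have e := m.eqs (L := [([34, 34], []), ([36, 34, 36, 36, 34, 36], []), ([36, 34, 36, 34, 37, 35, 37], [34, 30]),
    ([40, 40, 40, 40, 40, 40, 40], []), ([42, 42, 42], []), ([40, 34], [34, 40]), ([40, 36, 34, 36], [36, 34, 36, 40]),
    ([42, 34], [34, 42]), ([42, 36, 34, 36], [36, 34, 36, 42]), ([42, 40, 43], [40, 40, 40, 40])]) (by cases b <;> decide +kernel)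
  have n := m.nes (L := [([34], []), ([34], [30]), ([40], []), ([42], [])]) (by cases b <;> decide +kernel)
  have cQ := m.cQ
  have kQ : E f [36, 34, 36] ∈ Q := (m.ker _ (m.EC _)).1 (m.piw (by decide +kernel))
  wd at e n cQ kQ
  obtain ⟨e1, e2, e3, e4, e5, e6, e7, e8, e9, e10⟩ := e
  refine ⟨m.toTG, cQ, kQ, e1, by wd; exact e2, n.1, n.2.1, by simp only [mul_inv_rev, ← mul_assoc, e3], m.mem _, m.mem _,
    by simpa [pow_succ] using e4, n.2.2.1, by simpa [pow_succ] using e5, n.2.2.2, e6, by wd; exact e7, e8, by wd; exact e9,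
    by simpa [pow_succ] using e10, fun x hx h2 => ?_, fun x hx e => ?_, fun h hh e e' => (m.ker h hh).1 ?_⟩
  · have := m.cl0 hx h2
    simp only [rp0, cond_true] at this
    wd at this; exact this
  · have := m.srch' (Hy := [([46, 40], [40, 46])]) (Co := D8W) (w := []) (by cases b; exacts [kD0, kD1]) (m.le hx)
      ((m.pQ hx).trans m.p1.symm) (by wd; exact e)
    simp only [D8W] at this
    wd at this; wd; exact this
  · have c : ∀ w, h * E f w = E f w * h → π h * π (E f w) = π (E f w) * π h := fun w => m.pcm hh (m.EC w)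
    have := dfs_sound rST (σ := π h) (by
      simp only [List.forall_mem_cons, List.not_mem_nil, false_imp_iff, implies_true, and_true]
      exact ⟨⟨_, _, m.pi _, m.pi _, c _ (by wd; exact e)⟩, _, _, m.pi _, m.pi _, c _ (by wd; exact e')⟩)
    rw [bor_iff, isI_iff, beq_tb] at this
    refine this.resolve_right fun a => ?_
    have := m.sgn h
    rw [a] at this; exact absurd this (by decide)
end RM

theorem RM.kap [Finite G] {b : Bool} {f : ℕ → G} {R : ℕ → G → Prop} (m : RM true b (f 15) Q π f R) (hc : IsConj 𝐚 𝐜) :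
    b = true := by
  cases b
  swap; · rfl
  obtain ⟨g, -, -, w⟩ := m.sf.exg hc
  generalize g * _ * g⁻¹ = v at w
  have e := m.eqs (L := [([22, 25, 22, 0, 2, 12] ++ [34], [34] ++ [22, 25, 22, 0, 2, 12]), ([42] ++ [22, 25, 22, 0, 2, 12] ++ [42],
    [22, 25, 22, 0, 2, 12]), ([22, 25, 22, 0, 2, 12] ++ [22, 25, 22, 0, 2, 12], [34])]) (by decide +kernel)
  have yC := mC.1 (m.EC [22, 25, 22, 0, 2, 12])
  simp only [List.forall_mem_cons, E_app] at e
  generalize E f [22, 25, 22, 0, 2, 12] = y at e yC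
  wd at e
  have h1 : v * y * v⁻¹ ∈ centralizer {𝐚} := mC.2 (w.vc ▸ cj v e.1)
  have h2 : v * y * v⁻¹ * 𝐜 = 𝐜 * (v * y * v⁻¹) := w.va ▸ cj v yC
  have h3 : 𝐭 * (v * y * v⁻¹) * 𝐭 = v * y * v⁻¹ := by nth_rw 2 [← e.2.1]; rw [← conj_mul, ← conj_mul, cj1 w.vt]
  have h4 : v * y * v⁻¹ * (v * y * v⁻¹) = 𝐚 := by rw [conj_mul, e.2.2, w.vc]
  generalize v * y * v⁻¹ = x at *
  obtain ⟨u, hu, e⟩ := m.red rJ0 h1 m.cQ (by wd; nth_rw 2 [← h3]; group) (by wd; exact h2)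
  obtain ⟨_, a, -⟩ := m.srch' (kJ0 u hu) h1 e (by simp only [hJ0]; wd; exact ⟨h3, h2, h4⟩)
  exact absurd a List.not_mem_nil

end Cfsg.Agent.H8Th
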