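import Cfsg.Agent.H8.ThL
import Cfsg.Agent.H8.ThKJ1
import Cfsg.Agent.H8.ThKC1
import Cfsg.Agent.H8.ThKC2

/-! # The spin case: the action of the interchanging involution -/

set_option autoImplicit false
set_option linter.unusedVariables false
set_option linter.unusedSectionVars false
set_option maxRecDepth 100000

namespace Cfsg.Agent.H8Th
open Equiv Subgroup Cfsg.Agent.Spor Cfsg.Agent.Spor.ThM

variable {G : Type*} [Group G] {Q : Subgroup G} {π : G → P9}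

theorem TG.cmz {z : G} (m : TG z Q π) {h w x : G} (hh : h ∈ centralizer {z}) (hw : w ∈ centralizer {z}) (a : π h = π w)
    (hx : x ∈ Q) (e : h * x = x * h) : w * x = x * w ∨ w * x * z = x * w := by
  have q : w⁻¹ * h ∈ Q := (m.ker _ (mul_mem (inv_mem hw) hh)).1 (by
    rw [m.mul _ (inv_mem hw) _ hh, m.pinv hw, a, inv_mul_cancel])
  refine (m.comm _ q _ hx).imp (fun c => ?_) fun c => ?_
  · calc _ = w * (x * (w⁻¹ * h)) * h⁻¹ * w := by group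
      _ = _ := by rw [← c, mul_assoc _ h, e]; group
  · calc _ = w * (x * (w⁻¹ * h * z * (w⁻¹ * h)⁻¹)) := by rw [mC.1 (m.le q), mul_inv_cancel_right, mul_assoc]
      _ = w * (x * (w⁻¹ * h) * z) * h⁻¹ * w := by group
      _ = _ := by rw [← c, mul_assoc _ h, e]; group

def WA : List (List ℕ) := [[30], [34], [38], [40], [42], [44], [36, 34, 36, 38, 36, 34, 36], [36, 34, 36, 44, 36, 34, 36]]
def WB : List (List ℕ) := [[34], [30], [38], [40], [42], [44, 38], [45, 36, 34, 36, 44, 36, 34, 36],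
  [44, 38, 36, 34, 36, 38, 36, 34, 36]]

structure Bs (a c e s t b : G) : Prop where
  b2 : b * b = 1
  ab : (a * b) ^ 3 = 1
  cb : (c * b) ^ 3 = 1
  be : b * e = e * b
  bs : b * s = s * b
  bt : b * t = t * b
  sw : Sw a c s t (b⁻¹ * (a * c) * b)

namespace RM
variable {f : ℕ → G} {R : ℕ → G → Prop} (m : RM true true (f 15) Q π f R)
include m
theorem cmw {L : List (List ℕ)} (h : cmB L = true) : ∀ w ∈ L, ∀ u ∈ L, E f w * E f u = E f u * E f w := fun w hw u hu => by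
  simp only [cmB, forceL_eq, lall_iff, MRep.evs_eq, List.forall_mem_map] at h
  exact m.eq (m.rmul (m.rW w) (m.rW u)) (m.rmul (m.rW u) (m.rW w)) ((bor_iff _ _).2 (.inl (h w hw u hu)))

theorem orth {h x y : G} (hh : h ∈ centralizer {𝐚}) (h2 : h * h ∈ Q) (hx : x ∈ Q) (hy : y ∈ Q) (e1 : h * x = x * h)
    (e2 : h * y = y * h) (n : x * y ≠ y * x) : h ∈ Q := by_contra fun nq => by
  obtain ⟨t, ht⟩ := m.ty hh h2 nq
  obtain ⟨k, hk, e⟩ := m.toTy hh ht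
  have key : ∀ r ρ L, π (E f (cjw (r, ρ))) = tt t → cmB L = true → srch true true [(r ++ [46], 46 :: r)] L [] = true →
      srch true true [(r ++ [46, 30], 46 :: r)] L [] = true → (∀ y, Ey f y r = E f r) → False := fun r ρ L a c s1 s2 ey => by
    have pC := mul_mem (inv_mem (m.EC ρ)) hk
    have a' : π ((E f ρ)⁻¹ * k * h * ((E f ρ)⁻¹ * k)⁻¹) = π (E f r) := by
      rw [E_cjw, m.pcj (m.EC _) (m.EC _), ← e, m.pcj hk hh] at a
      rw [m.pcj pC hh, m.mul _ (inv_mem (m.EC ρ)) _ hk, m.pinv (m.EC ρ), mul_inv_rev, mul_assoc _ (π k), mul_assoc _ _ (_ * _),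
        ← mul_assoc _ (π k)⁻¹, ← a]; group
    have : ∀ x ∈ Q, h * x = x * h → ∃ w ∈ L, (E f ρ)⁻¹ * k * x * ((E f ρ)⁻¹ * k)⁻¹ = E f w := fun x hx c => by
      have xQ := m.nrm pC hx
      have p1 := (m.pQ xQ).trans m.p1.symm
      rcases m.cmz (mul_mem (mul_mem pC hh) (inv_mem pC)) (m.EC r) a' xQ (cj _ c) with c | c
      · refine m.srch' s1 (m.le xQ) p1 ?_
        rw [List.forall_mem_singleton, Ey, ev_append, ← Ey, Ey, Ey, ev_cons, ev_cons, ← Ey, ey]; simpa using c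
      · refine m.srch' s2 (m.le xQ) p1 ?_
        rw [List.forall_mem_singleton, Ey, ev_append, ← Ey, Ey, Ey, ev_cons, ev_cons, ev_cons, ← Ey, ey]
        simpa [atm_def, mul_assoc] using c
    obtain ⟨w1, h1, a1⟩ := this x hx e1
    obtain ⟨w2, h2, a2⟩ := this y hy e2
    have := m.cmw c w1 h1 w2 h2
    rw [← a1, ← a2, conj_mul, conj_mul] at this
    exact n (by simpa using this)
  cases t
  · exact key [44] [21, 18] _ (m.piw (by decide +kernel)) kU2 kU0 kU1 fun _ => by wd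
  · exact key [38] [20, 26, 22] _ (m.piw (by decide +kernel)) kE2 kE0 kE1 fun _ => by wd

variable {g v : G} (g1 : g * f 15 * g⁻¹ = f 17 * f 15) (g2 : g * f 17 * g⁻¹ = f 15) (w : Sw (f 15) (f 17) (f 20) (f 21) v)
include g1 g2 w

theorem vu : v * 𝐮 * v⁻¹ = 𝐮 * 𝐞 := by
  have F := m.sf
  have e := m.eqs (L := [([44, 34], [34, 44]), ([42, 44, 42], [44]), ([44, 44], [30, 34]), ([44, 40, 44, 40, 44, 40], [30, 34])])
    (by decide +kernel)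
  wd at e
  obtain ⟨e1, e2, e3, e4⟩ := e
  have ua := mC.1 (m.mem 22)
  have ac : v * (𝐚 * 𝐜) * v⁻¹ = 𝐚 * 𝐜 := by rw [← conj_mul, w.va, w.vc, F.ac]
  have h1 : v * 𝐮 * v⁻¹ ∈ centralizer {𝐚} := mC.2 (w.vc ▸ cj v e1)
  have h2 : v * 𝐮 * v⁻¹ * 𝐜 = 𝐜 * (v * 𝐮 * v⁻¹) := w.va ▸ cj v ua
  have h3 : 𝐭 * (v * 𝐮 * v⁻¹) * 𝐭 = v * 𝐮 * v⁻¹ := by nth_rw 2 [← e2]; rw [← conj_mul, ← conj_mul, cj1 w.vt]
  have h4 : v * 𝐮 * v⁻¹ * (v * 𝐮 * v⁻¹) = 𝐚 * 𝐜 := by rw [conj_mul, e3, ac]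
  have h5 : v * 𝐮 * v⁻¹ * 𝐬 * (v * 𝐮 * v⁻¹) * 𝐬 * (v * 𝐮 * v⁻¹) * 𝐬 = 𝐚 * 𝐜 := by
    rw [← cj1 w.vs]; simp only [conj_mul, e4, ac]
  generalize hy : v * 𝐮 * v⁻¹ = x at *
  obtain ⟨u, hu, e⟩ := m.red rJ1 h1 m.cQ (by wd; nth_rw 2 [← h3]; group) (by wd; exact h2)
  have := m.srch' (kJ1 u hu) h1 e (by simp only [hJ1]; wd; exact ⟨h3, h2, h4, h5⟩)
  wd at this
  refine this.resolve_left fun e => ?_
  have ca : ∀ {x}, x * 𝐚 = 𝐚 * x → x * 𝐜 = 𝐜 * x → g⁻¹ * x * g ∈ centralizer {𝐚} := fun e e' => mC.2 (cj' g1 (by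
    rw [← mul_assoc, e', mul_assoc, e, mul_assoc]))
  have c1 : ∀ x y, g⁻¹ * x * g * (g⁻¹ * y * g) = g⁻¹ * (x * y) * g := fun x y => by group
  have vC : g⁻¹ * v * g ∈ centralizer {𝐚} := mC.2 (cj' g1 (by rw [F.ac]; exact mul_inv_eq_iff_eq_mul.1 ac))
  have uQ := m.orth (ca ua e1) (by rw [c1, e3, ← F.ac, ← g1]; simpa [mul_assoc] using m.zQ)
    (m.inQ vC (by rw [c1, w.v2]; simp) (ca (mC.1 F.sC) F.sc) (by
      rw [show g⁻¹ * 𝐬 * g = g⁻¹ * 𝐬 * g⁻¹⁻¹ by simp, conj_pow, F.s7]; simp)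
      (by simpa [mul_assoc, inv_mul_eq_one] using F.s1) (by rw [c1, c1, w.vs])) F.cQ
    (by rw [c1, c1, mul_inv_eq_iff_eq_mul.1 (hy.trans e)]) (cj' g2 ua) fun e => F.ca (by
      rw [← w.va]; refine cj1 ?_
      simpa [mul_assoc] using (g2 ▸ cj g e :))
  have tC := ca (mC.1 F.tC) F.tc
  have t3 : (g⁻¹ * 𝐭 * g) ^ 3 = 1 := by rw [show g⁻¹ * 𝐭 * g = g⁻¹ * 𝐭 * g⁻¹⁻¹ by simp, conj_pow, F.t3]; simp
  have := congrArg π (show g⁻¹ * 𝐭 * g * (g⁻¹ * 𝐮 * g) * (g⁻¹ * 𝐭 * g) = g⁻¹ * 𝐮 * g by rw [c1, c1, e2])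
  rw [m.mul _ (mul_mem tC (m.le uQ)) _ tC, m.mul _ tC _ (m.le uQ), m.pQ uQ, mul_one] at this
  have p3 := m.ppow tC 3
  rw [t3, m.p1, pow_three', this, one_mul] at p3
  exact F.t1 (by simpa [mul_assoc, inv_mul_eq_one] using m.odd (n := 1) tC t3 p3.symm)

theorem al0 (l : List ℕ) : v * E f (subW 0 8 WA l) * v⁻¹ = E f (subW 0 8 WB l) := by
  have F := m.sf
  have vu := m.vu g1 g2 w
  have e := m.eqs (L := [([38, 38], []), (WA.getD 6 [] ++ [34], 34 :: WA.getD 6 []), (WA.getD 6 [] ++ [42], 42 :: WA.getD 6 []),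
    (WA.getD 6 [] ++ WA.getD 6 [], []), (WA.getD 6 [] ++ [38] ++ WA.getD 6 [] ++ [38], [30]),
    ((List.replicate 7 (WA.getD 6 [] ++ [40])).flatten, [])]) (by decide +kernel)
  simp only [List.forall_mem_cons, E_app, show ∀ a w, E f (a :: WA.getD 6 w) = E f [a] * E f (WA.getD 6 w) from
    fun a w => E_app f [a] _] at e
  obtain ⟨e1, e2, e3, e4, e5, e6, -⟩ := e
  rw [E, ev_replicate, ← E, E_app] at e6
  have pC := mC.1 (m.EC (WA.getD 6 []))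
  have vv : ∀ x, v * (v * x * v⁻¹) * v⁻¹ = x := fun x => by
    rw [inv2 w.v2, ← mul_assoc, ← mul_assoc, w.v2, one_mul, mul_assoc, w.v2, mul_one]
  have ve : v * 𝐞 * v⁻¹ = 𝐞 := by
    have := vv 𝐮
    rw [vu, ← conj_mul, vu, mul_assoc, mul_eq_left, mul_eq_one_iff_eq_inv'] at this
    wd at e1
    rw [this, inv2 e1]
  have vp : v * E f (WA.getD 6 []) * v⁻¹ = E f (WB.getD 6 []) := by
    generalize E f (WA.getD 6 []) = p at *
    wd at e2 e3 e4 e5 e6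
    have h1 : v * p * v⁻¹ ∈ centralizer {𝐚} := mC.2 (w.vc ▸ cj v e2)
    have h2 : v * p * v⁻¹ * 𝐜 = 𝐜 * (v * p * v⁻¹) := w.va ▸ cj v pC
    have h3 : v * p * v⁻¹ * 𝐭 = 𝐭 * (v * p * v⁻¹) := cj1 w.vt ▸ cj v e3
    have h4 : v * p * v⁻¹ * (v * p * v⁻¹) = 1 := by rw [conj_mul, e4]; simp
    have h5 : v * p * v⁻¹ * 𝐞 * (v * p * v⁻¹) * 𝐞 = 𝐜 := by rw [← ve]; simp only [conj_mul, e5, w.va]
    have h6 : (v * p * v⁻¹ * 𝐬) ^ 7 = 1 := by rw [← cj1 w.vs, conj_mul, conj_pow, e6]; simp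
    generalize v * p * v⁻¹ = x at *
    obtain ⟨u, hu, e⟩ := m.red rC1 h1 m.cQ (by wd; exact h3) (by wd; exact h2)
    obtain ⟨_, a, e⟩ := m.srch' (kC1 u hu) h1 e (by
      simp only [hC1]; wd; exact ⟨h3, h2, h4, h5, by simpa [pow_succ, mul_assoc] using h6⟩)
    rw [e, List.mem_singleton.1 a]; rfl
  rw [E, E, ev_subW (ivOk_zero _ _), ev_subW (ivOk_zero _ _)]
  refine ev_atm_map' (φ := (MulAut.conj v).toMonoidHom) (fun j hj => ?_) l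
  show v * E f (WA.getD j []) * v⁻¹ = E f (WB.getD j [])
  interval_cases j
  iterate 6 (simp only [WA, WB, List.getD_cons_zero, List.getD_cons_succ]; wd; rotate_left)
  exacts [vp, by
    have := vv (E f (WA.getD 6 []))
    rw [vp, show E f (WB.getD 6 []) = 𝐮⁻¹ * E f (WA.getD 7 []) by simp only [WA, WB, List.getD_cons_zero, List.getD_cons_succ]; wd,
      ← conj_mul, ← conj_inv, vu, inv_mul_eq_iff_eq_mul] at this
    rw [this]; simp only [WA, WB, List.getD_cons_zero, List.getD_cons_succ]; wd, w.va, w.vc, ve, cj1 w.vs, cj1 w.vt, vu]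

theorem al (l x y : List ℕ) (h : band (eK true true x (subW 0 8 WA l)) (eK true true (subW 0 8 WB l) y) = true) :
    v * E f x * v⁻¹ = E f y := by
  rw [band_eq, Bool.and_eq_true] at h
  rw [m.eqw h.1, m.al0 g1 g2 w, m.eqw h.2]

theorem braid : (v * E f H8Th.rW) ^ 3 = 1 := by
  have F := m.sf
  have e := m.eqs (L := [(H8Th.rW ++ H8Th.rW, []), (H8Th.rW ++ [42], [42] ++ H8Th.rW), (H8Th.rW ++ [34] ++ H8Th.rW, xW)]) (by decide +kernel)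
  have a1 := m.al g1 g2 w [4, 12, 14, 10] xW xW (by decide +kernel)
  have a2 := m.al g1 g2 w [14, 10] (H8Th.rW ++ [36, 34, 36] ++ H8Th.rW) bW (by decide +kernel)
  have a3 := m.al g1 g2 w [4, 10, 12, 14] (H8Th.rW ++ [38, 44, 36, 34, 36, 38, 44, 36, 34, 36] ++ H8Th.rW) (subW 0 8 WB [4, 10, 12, 14])
    (by decide +kernel)
  have n := m.new (w := subW 0 8 WB [4, 10, 12, 14]) (u := [38, 44, 36, 34, 36, 38, 44, 36, 34, 36]) (by decide +kernel)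
  have k3 := F.cube w F.ak F.kc F.sk.symm F.tk.symm
  have rC := mC.1 (m.EC H8Th.rW)
  simp only [List.forall_mem_cons, E_app] at e a2 a3
  obtain ⟨e1, e2, e3, -⟩ := e
  have key : ∀ x, x ∈ centralizer {𝐚} → x * 𝐭 = 𝐭 * x → x * 𝐜 = 𝐜 * x → x * E f xW = E f xW * x → (x * E f H8Th.rW) ^ 2 = 1 →
      (E f bW * (x * E f H8Th.rW)) ^ 3 = 1 → x = 1 ∨ x = E f [38, 44, 36, 34, 36, 38, 44, 36, 34, 36] := fun x h1 h2 h3 h4 h5 h6 => by
    obtain ⟨u, hu, e⟩ := m.red rC1 h1 m.cQ (by wd; exact h2) (by wd; exact h3)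
    have := m.srch' (kC2 u hu) h1 e (by
      simp only [hC2, H8Th.rW, xW, bW, List.cons_append, List.nil_append, pow_succ, pow_zero, one_mul] at h4 h5 h6 ⊢
      wd at h4 h5 h6 ⊢; exact ⟨h2, h3, h4, h5, h6⟩)
    simp only [List.exists_mem_cons_iff, List.not_mem_nil, false_and, exists_false, or_false] at this
    exact this
  rw [show E f [36, 34, 36] = 𝐝 * 𝐜 * 𝐝 by wd] at a2
  rw [← a3] at n
  rw [← a2] at key
  generalize E f H8Th.rW = r at *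
  generalize E f xW = x at *
  wd at e1 e2 e3
  have ri := inv2 e1
  have q : ∀ y, v * r * y * (v * r)⁻¹ = v * (r * y * r) * v⁻¹ := fun y => by rw [mul_inv_rev, ri]; group
  have b1 : v * r * 𝐚 * (v * r)⁻¹ = 𝐜 := by rw [q, rC, mul_assoc 𝐚, e1, mul_one, w.va]
  have b2 : v * r * 𝐜 * (v * r)⁻¹ = x := by rw [q, e3, a1]
  have b3 : v * r * x * (v * r)⁻¹ = 𝐚 := by
    rw [q, ← e3, ← mul_assoc r, ← mul_assoc r, e1, one_mul, mul_assoc 𝐜, e1, mul_one, w.vc]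
  have b4 : (v * r) ^ 3 * r = v * r * v * (v * r)⁻¹ := by
    rw [q, pow_three', mul_assoc _ (v * r), mul_assoc v r r, e1, inv2 w.v2]; group
  have b5 : Commute (v * r) 𝐭 := (show Commute v 𝐭 from w.vt).mul_left e2
  rw [← q] at key n
  generalize v * r = y at *
  have p := cj3 y
  refine (key _ (mC.2 (mul_inv_eq_iff_eq_mul.1 (by rw [p, b1, b2, b3]))) (b5.pow_left 3).eq
    (mul_inv_eq_iff_eq_mul.1 (by rw [p, b2, b3, b1])) (mul_inv_eq_iff_eq_mul.1 (by rw [p, b3, b1, b2]))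
    (by rw [b4, conj_pow, pow_two, w.v2]; simp) (by rw [b4, conj_mul, conj_pow, k3]; simp)).resolve_right fun e => n ?_
  rw [← e]; group

theorem r33 : 𝐝⁻¹ * 𝐮⁻¹ * 𝐝 * v⁻¹ * (𝐝⁻¹ * 𝐮 * 𝐝) * v * 𝐜⁻¹ * 𝐞⁻¹ * (𝐝⁻¹ * 𝐮⁻¹ * 𝐝) * v⁻¹ * 𝐞⁻¹ * 𝐮⁻¹ = 1 := by
  have e := m.eqs (L := [(H8Th.rW ++ H8Th.rW, []), ([37, 44, 36], [38] ++ H8Th.rW ++ [30, 44]), (H8Th.rW ++ [34, 44, 38] ++ [35, 39, 37, 45, 36], [30, 38]),
    ([37, 45, 36, 38] ++ H8Th.rW ++ [34, 38] ++ [39, 45], [])]) (by decide +kernel)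
  have a1 := m.al g1 g2 w [0, 10] [30, 44] [34, 44, 38] (by decide +kernel)
  have a2 := m.al g1 g2 w [4] [38] [38] (by decide +kernel)
  have a3 := m.al g1 g2 w [0, 4] [30, 38] [34, 38] (by decide +kernel)
  have br := m.braid g1 g2 w
  simp only [List.forall_mem_cons, E_app] at e
  obtain ⟨e1, e2, e3, e4, -⟩ := e
  generalize E f H8Th.rW = r at *
  have vi := inv2 w.v2
  have b : v * r * v⁻¹ = r * v * r := by
    rw [vi, ← mul_inv_eq_one, mul_inv_rev, mul_inv_rev, vi, inv2 e1, ← br, pow_three']; simp only [mul_assoc]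
  rw [← a3, ← e3, ← a1] at e4
  have : v * E f [37, 44, 36] * v⁻¹ = E f [38] * (r * v * r) * (v * E f [30, 44] * v⁻¹) := by
    rw [e2, ← conj_mul, ← conj_mul, a2, b]
  rw [vi] at this e4
  rw [vi, show 𝐝⁻¹ * 𝐮 * 𝐝 = E f [37, 44, 36] by wd, mul_assoc (_ * 𝐝) v, mul_assoc (_ * 𝐝) (v * _) v, this]
  wd at e4 ⊢; exact e4

theorem exB : ∃ b, Bs 𝐚 𝐜 𝐞 𝐬 𝐭 b := by
  have F := m.sf
  have e := m.eqs (L := [([36, 36], []), ([36, 40, 37], [41]), ([36, 42], [42, 36]),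
    ([36] ++ WB.getD 6 [] ++ [36], xW), ([36, 34, 36] ++ [38] ++ [36, 34, 36], WA.getD 6 [])]) (by decide +kernel)
  have a1 := m.al g1 g2 w [4, 12, 14, 10] xW xW (by decide +kernel)
  have a2 := m.al g1 g2 w [12] (WA.getD 6 []) (WB.getD 6 []) (by decide +kernel)
  simp only [List.forall_mem_cons, E_app] at e
  obtain ⟨e1, e2, e3, e4, e5, -⟩ := e
  rw [show E f [36, 34, 36] = 𝐝 * 𝐜 * 𝐝 by wd] at e5
  generalize E f xW = x at *
  generalize E f (WA.getD 6 []) = p at *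
  generalize E f (WB.getD 6 []) = q at *
  have da := cj1 (mC.1 (m.mem 18))
  simp only [E, ev_cons, ev_nil, atm_def, Nat.reduceDiv, Nat.reduceMod, Nat.reduceLT, Nat.reduceEqDiff, reduceIte, mul_one,
    one_ne_zero, ← mul_assoc 𝐝 𝐬] at e1 e2 e3 e4 e5
  have di := inv2 e1
  have dk : 𝐝 * (𝐝 * 𝐜 * 𝐝) * 𝐝⁻¹ = 𝐜 := by rw [← mul_assoc, ← mul_assoc, e1]; simp
  have k3 := F.cube w F.ak F.kc F.sk.symm F.tk.symm
  have k4 := F.cube w (k' := 𝐝 * 𝐜 * 𝐝 * 𝐚) (by rw [← mul_assoc 𝐚, ← F.ak]) (by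
    rw [mul_inv_rev, ← F.kc, mul_assoc _ 𝐚 𝐜, ← F.ac]; group) (by rw [mul_assoc _ 𝐚, ← mC.1 F.sC, ← mul_assoc, ← F.sk, mul_assoc 𝐬])
    (by rw [mul_assoc _ 𝐚, ← mC.1 F.tC, ← mul_assoc, ← F.tk, mul_assoc 𝐭])
  have dc : 𝐝 * 𝐜 * 𝐝⁻¹ = 𝐝 * 𝐜 * 𝐝 := by rw [di]
  generalize 𝐝 * 𝐜 * 𝐝 = k at *
  have ki := inv2 F.k2
  have vi := inv2 w.v2
  have q1 : ∀ y, k * v * y * (k * v)⁻¹ = k * (v * y * v⁻¹) * k⁻¹ := fun y => by group
  have b1 : k * v * 𝐜 * (k * v)⁻¹ = 𝐚 := by rw [q1, w.vc, cj1 F.ak]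
  have b2 : k * v * 𝐚 * (k * v)⁻¹ = 𝐜 * 𝐚 := by rw [q1, w.va, F.kc]
  have b3 : k * v * (𝐜 * 𝐚) * (k * v)⁻¹ = 𝐜 := by rw [← conj_mul, b1, b2, F.ac, ← mul_assoc, m.z2, one_mul]
  have b4 : k * v * k * (k * v)⁻¹ = v := by
    have := k3
    rw [pow_three', ← mul_assoc, mul_eq_one_iff_eq_inv, vi] at this
    exact Eq.trans (by rw [mul_inv_rev, vi, ki]; simp only [mul_assoc]) this
  have b5 : k * v * q * (k * v)⁻¹ = 𝐞 := by
    rw [q1, ← a2, ← e5, vi, ki]; simp only [mul_assoc, ← mul_assoc v v, w.v2, one_mul, ← mul_assoc k k, F.k2, mul_one]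
  have c1 : k * v * 𝐬 * (k * v)⁻¹ = 𝐬 := by rw [q1, cj1 w.vs, cj1 F.sk.symm]
  have c2 : k * v * 𝐭 * (k * v)⁻¹ = 𝐭 := by rw [q1, cj1 w.vt, cj1 F.tk.symm]
  have v2 : 𝐝 * v * 𝐝⁻¹ * (𝐝 * v * 𝐝⁻¹) = 1 := by rw [conj_mul, w.v2]; simp
  have b2' : k * v * (𝐝 * v * 𝐝⁻¹) * (k * v)⁻¹ * (k * v * (𝐝 * v * 𝐝⁻¹) * (k * v)⁻¹) = 1 := by rw [conj_mul, v2]; simp
  refine ⟨k * v * (𝐝 * v * 𝐝⁻¹) * (k * v)⁻¹, b2', ?_, ?_, ?_, ?_, ?_, ?_⟩
  · rw [← b1, conj_mul, conj_pow, ← dk, conj_mul, conj_pow, k3]; simp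
  · rw [← b3, conj_mul, conj_pow, ← dk, ← da, conj_mul, conj_mul, conj_pow, k4]; simp
  · rw [← b5]; refine cj _ ?_
    rw [show q = 𝐝 * x * 𝐝⁻¹ by rw [← e4, ← mul_assoc, ← mul_assoc, e1]; simp]
    exact cj _ (mul_inv_eq_iff_eq_mul.1 a1)
  · rw [← c1]; refine cj _ ?_
    rw [show 𝐬 = 𝐝 * 𝐬⁻¹ * 𝐝⁻¹ by rw [← conj_inv, e2, inv_inv]]
    exact cj _ (show Commute v 𝐬 from w.vs).inv_right
  · rw [← c2]; refine cj _ ?_
    rw [← cj1 e3]; exact cj _ w.vt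
  · rw [inv2 b2', ← F.ac, ← b2, conj_mul, conj_mul, ← da, conj_mul, conj_mul, show v * 𝐚 * v = 𝐜 by rw [← w.va, vi], dc, b4, da]
    exact w
end RM

end Cfsg.Agent.H8Th
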