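import Cfsg.Agent.H8.ThM
import Cfsg.Agent.H8.SE2
import Cfsg.Agent.H3.Suz2
import Cfsg.Agent.Spor.MatQ

/-! # The centraliser of the Frobenius group of order 21 -/

set_option autoImplicit false
set_option linter.unusedVariables false
set_option linter.unusedSectionVars false
set_option maxRecDepth 100000

namespace Cfsg.Agent.H8Th
open Equiv Subgroup Cfsg.Agent.Spor Cfsg.Agent.Spor.ThM

structure YH {H : Type*} [Group H] (a c k v u : H) : Prop where
  a2 : a * a = 1
  a1 : a ≠ 1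
  c2 : c * c = 1
  k2 : k * k = 1
  c1 : c ≠ 1
  ca : c ≠ a
  ac : c * a = a * c
  ak : k * a = a * k
  kc : k * c * k⁻¹ = c * a
  D : ∀ x, x * a = a * x → x = 1 ∨ x = a ∨ x = c ∨ x = c * a ∨ x = k ∨ x = k * a ∨ x = c * k ∨ x = c * k * a
  v2 : v * v = 1
  u2 : u * u = 1
  va : v * a * v⁻¹ = c
  ua : u * a * u⁻¹ = k

theorem o2 {H : Type*} [Group H] {x : H} (h : x * x = 1) (n : x ≠ 1) : orderOf x = 2 :=
  orderOf_eq_of_prime (by decide) (by rw [pow_two, h]) n

namespace YH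
variable {H : Type*} [Group H] [Finite H] {a c k v u : H} (h : YH a c k v u)
include h
theorem ck2 : c * k * (c * k) = a := by
  rw [show c * k * (c * k) = c * (k * c * k⁻¹) by rw [inv2 h.k2]; simp only [mul_assoc], h.kc, ← mul_assoc, h.c2, one_mul]
theorem sqa {x : H} (e : x * a = a * x) : x * a * (x * a) = x * x := by
  rw [mul_assoc, ← mul_assoc a, ← e, mul_assoc x a, h.a2, mul_one]
theorem cka : c * k * a = a * (c * k) := by rw [mul_assoc, h.ak, ← mul_assoc, h.ac, mul_assoc]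
theorem x4 {x : H} (e : x * a = a * x) : x ^ 4 = 1 := by
  rw [show x ^ 4 = x * x * (x * x) by simp [pow_succ, mul_assoc]]
  rcases h.D x e with rfl | rfl | rfl | rfl | rfl | rfl | rfl | rfl <;>
    simp only [h.sqa h.ac, h.sqa h.ak, h.sqa h.cka, h.ck2, h.a2, h.c2, h.k2, mul_one]
theorem oc' {K : Subgroup H} (ha : a ∈ K) (hc : c ∈ K) (hk : k ∈ K) (hv : v ∈ K) (hu : u ∈ K) :
    ∀ s ∈ K, orderOf s = 2 → ∃ g ∈ K, g * a * g⁻¹ = s := H8SE.one_class (o2 h.a2 h.a1) ha fun s _ s2 e => by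
  have s3 : s * s = 1 := by rw [← pow_two, ← s2, pow_orderOf_eq_one]
  rcases h.D s e with rfl | rfl | rfl | rfl | rfl | rfl | rfl | rfl
  · simp at s2
  · exact ⟨1, one_mem _, by simp⟩
  · exact ⟨v, hv, h.va⟩
  · exact ⟨k * v, mul_mem hk hv, by rw [← h.kc, ← h.va]; group⟩
  · exact ⟨u, hu, h.ua⟩
  · refine ⟨c * u, mul_mem hc hu, ?_⟩
    have := h.ck2
    rw [← mul_assoc, ← eq_mul_inv_iff_mul_eq, inv2 h.k2, ← h.ak] at this
    rw [← this, ← h.ua, mul_inv_rev, inv2 h.c2]; group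
  · exact absurd (h.ck2.symm.trans s3) h.a1
  · exact absurd ((h.ck2.symm.trans (h.sqa h.cka).symm).trans s3) h.a1
theorem oc {s : H} (h2 : s * s = 1) (n : s ≠ 1) : ∃ g, g * a * g⁻¹ = s := by
  obtain ⟨g, -, e⟩ := h.oc' (K := ⊤) trivial trivial trivial trivial trivial s trivial (o2 h2 n)
  exact ⟨g, e⟩
theorem e4 {y w : H} (h2 : y * y = 1) (n : y ≠ 1) (e : w * y = y * w) : w ^ 4 = 1 := by
  obtain ⟨g, a⟩ := h.oc h2 n
  have := h.x4 (cj' a e)
  rwa [show g⁻¹ * w * g = g⁻¹ * w * g⁻¹⁻¹ by simp, conj_pow, conj_eq_one_iff] at this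
theorem e4' {y w : H} (h2 : y * y = 1) (n : y ≠ 1) (e : w * y = y * w) {m : ℕ} (o : w ^ (2 * m + 1) = 1) : w = 1 :=
  pow_eq_one_iff_of_coprime (m := 4) (n := 2 * m + 1) (Nat.Coprime.pow_left 2 (Nat.coprime_two_left.2 ⟨m, rfl⟩)) |>.1
    ⟨h.e4 h2 n e, o⟩
theorem nkc : k * c ≠ c * k := fun e => h.a1 (mul_eq_left.1 (h.kc.symm.trans (cj1 e)))
theorem dih : Nonempty (centralizer ({a} : Set H) ≃* DihedralGroup 4) := by
  haveI : Fact (Nat.Prime 2) := ⟨Nat.prime_two⟩
  have o : orderOf (c * k) = 4 := orderOf_eq_prime_pow (p := 2) (n := 1) (by simpa [pow_two, h.ck2] using h.a1) (h.x4 h.cka)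
  have := Inv.dihedral_equiv o h.k2 (by rw [mul_inv_rev, inv2 h.c2, inv2 h.k2, mul_assoc, mul_assoc, h.k2, mul_one])
    fun ⟨j, e⟩ => h.nkc (by
      have := ((Commute.refl (c * k)).zpow_right j).eq
      rw [show (c * k) ^ j = k from e] at this
      exact mul_right_cancel (by rw [mul_assoc k]; exact this.symm))
  refine (?_ : _ = centralizer {a}) ▸ this
  refine le_antisymm (closure_le _ |>.2 (Set.insert_subset (mC.2 h.cka) (Set.singleton_subset_iff.2 (mC.2 h.ak)))) fun x hx => ?_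
  have m1 : c * k ∈ closure ({c * k, k} : Set H) := subset_closure (.inl rfl)
  have m2 : k ∈ closure ({c * k, k} : Set H) := subset_closure (.inr rfl)
  have m3 : c ∈ closure ({c * k, k} : Set H) := by simpa using mul_mem m1 (inv_mem m2)
  have m4 : a ∈ closure ({c * k, k} : Set H) := h.ck2 ▸ mul_mem m1 m1
  rcases h.D x (mC.1 hx) with rfl | rfl | rfl | rfl | rfl | rfl | rfl | rfl
  exacts [one_mem _, m4, m3, mul_mem m3 m4, m2, mul_mem m2 m4, m1, mul_mem m1 m4]
theorem idx (K : Subgroup H) : K.index ≠ 2 := fun e => by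
  have N := normal_of_index_eq_two e
  have ha : a ∈ K := h.ck2 ▸ mul_self_mem_of_index_two e _
  have hi : ∀ s, s * s = 1 → s ∈ K := fun s h2 => by
    by_cases n : s = 1
    · exact n ▸ one_mem _
    · obtain ⟨g, rfl⟩ := h.oc h2 n
      exact N.conj_mem _ ha _
  have : K = ⊤ := eq_top_iff.2 fun g _ => by
    obtain ⟨y, hy, e⟩ := h.oc' ha (hi _ h.c2) (hi _ h.k2) (hi _ h.v2) (hi _ h.u2) _ (N.conj_mem _ ha g)
      (o2 (by rw [conj_mul, h.a2]; simp) (by simpa using h.a1))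
    have hc := hi _ h.c2
    have hk := hi _ h.k2
    have : g⁻¹ * y ∈ K := by
      rcases h.D (g⁻¹ * y) (by rw [mul_assoc, mul_inv_eq_iff_eq_mul.1 e]; group) with e | e | e | e | e | e | e | e <;> rw [e]
      exacts [one_mem _, ha, hc, mul_mem hc ha, hk, mul_mem hk ha, mul_mem hc hk, mul_mem (mul_mem hc hk) ha]
    simpa using inv_mem (mul_mem this (inv_mem hy))
  rw [this, index_top] at e; exact absurd e (by decide)
theorem card : Nat.card H = 168 ∨ Nat.card H = 360 := H3.s0848 h.idx a (o2 h.a2 h.a1) h.dih.some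
theorem cD : Nat.card (centralizer ({a} : Set H)) = 8 := by rw [Nat.card_congr h.dih.some.toEquiv, DihedralGroup.nat_card]

theorem free {x y : H} (x2 : x * x = 1) (x3 : (a * x) ^ 3 = 1) (n : x ≠ a) (ya : y * a = a * y) (e : y * x = x * y) : y = 1 := by
  have key : ∀ y, y * y = 1 → y * a = a * y → y * x = x * y → y = 1 := fun y h2 ya e => by_contra fun n' =>
    n ((eq_inv_of_mul_eq_one_right (h.e4' h2 n' (w := a * x) (m := 1) (by rw [mul_assoc, ← e, ← mul_assoc, ← ya, mul_assoc]) x3)).trans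
      (inv2 h.a2))
  exact key y (key (y * y) (by simpa [pow_succ, mul_assoc] using h.x4 ya) (by rw [mul_assoc, ya, ← mul_assoc, ya, mul_assoc])
    (by rw [mul_assoc, e, ← mul_assoc, e, mul_assoc])) ya e

theorem c168 (hc : Nat.card H = 168) {x y : H} (x2 : x * x = 1) (x3 : (a * x) ^ 3 = 1) (xa : x ≠ a) (y2 : y * y = 1)
    (y3 : (a * y) ^ 3 = 1) (ya : y ≠ a) : ∃ g, g * a = a * g ∧ g * y * g⁻¹ = x := by
  by_contra n
  push Not at n
  let O : H → Set H := fun x => (fun g => g * x * g⁻¹) '' (centralizer ({a} : Set H))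
  have cD : (centralizer ({a} : Set H) : Set H).ncard = 8 := h.cD
  have cO : ∀ x, x * x = 1 → (a * x) ^ 3 = 1 → x ≠ a → (O x).ncard = 8 := fun x x2 x3 xa => by
    rw [Set.InjOn.ncard_image fun g hg g' hg' e => ?_, cD]
    have := h.free x2 x3 xa (mC.1 (mul_mem (inv_mem hg') hg)) (by
      rw [mul_assoc, mul_inv_eq_iff_eq_mul.1 (e :)]; group)
    exact (inv_mul_eq_one.1 this).symm
  have mO : ∀ x, x * x = 1 → (a * x) ^ 3 = 1 → x ≠ a → ∀ z ∈ O x, z * z = 1 ∧ (a * z) ^ 3 = 1 ∧ z ≠ a := by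
    rintro x x2 x3 xa _ ⟨g, hg, rfl⟩
    have := cj1 (mC.1 hg)
    exact ⟨by rw [conj_mul, x2]; simp, by rw [← this, conj_mul, conj_pow, x3]; simp, fun e => xa (by simpa using e.trans this.symm)⟩
  have nD : ∀ z, z * z = 1 ∧ (a * z) ^ 3 = 1 ∧ z ≠ a → z ∉ centralizer ({a} : Set H) ∧ z ≠ v := fun z hz =>
    ⟨fun e => h.a1 (h.free hz.1 hz.2.1 hz.2.2 rfl (mC.1 e).symm), fun e => by
      subst e
      have : a * z * (a * z) = a * c := by rw [← h.va, inv2 h.v2]; simp only [mul_assoc]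
      have e4 : (a * z) ^ 4 = 1 := by
        rw [show (a * z) ^ 4 = a * z * (a * z) * (a * z * (a * z)) by simp [pow_succ, mul_assoc], this, ← h.ac, h.sqa h.ac, h.c2]
      rw [pow_succ, hz.2.1, one_mul] at e4
      exact hz.2.2 ((eq_inv_of_mul_eq_one_right e4).trans (inv2 h.a2))⟩
  have vD : v ∉ centralizer ({a} : Set H) := fun e => h.ca (h.va.symm.trans (cj1 (mC.1 e)))
  have cX : (Set.range fun g => g * a * g⁻¹).ncard = 21 := by
    rw [ncard_range_eq_index (H := centralizer {a}) _ fun x y => by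
      rw [mC]
      exact ⟨fun e => by rw [show x⁻¹ * y * a = x⁻¹ * (y * a * y⁻¹) * y by group, ← e]; group,
        fun e => by rw [show x * a * x⁻¹ = x * (a * (x⁻¹ * y)) * y⁻¹ by group, ← e]; group⟩]
    have := (centralizer ({a} : Set H)).card_mul_index
    rw [h.cD, hc] at this; omega
  have l1 : (O x ∪ O y ∪ centralizer ({a} : Set H) ∪ {v}).ncard = 25 := by
    rw [Set.ncard_union_eq, Set.ncard_union_eq, Set.ncard_union_eq, cO x x2 x3 xa, cO y y2 y3 ya, cD, Set.ncard_singleton]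
    · rw [Set.disjoint_left]
      rintro _ ⟨g, hg, rfl⟩ ⟨g', hg', e⟩
      exact n (g⁻¹ * g') (mC.1 (mul_mem (inv_mem hg) hg')) (by
        rw [mul_inv_rev, mul_assoc g⁻¹, mul_assoc g⁻¹, ← mul_assoc _ g'⁻¹, show g' * y * g'⁻¹ = g * x * g⁻¹ from e]; group)
    · rw [Set.disjoint_left]
      rintro z (a | a)
      exacts [(nD z (mO x x2 x3 xa z a)).1, (nD z (mO y y2 y3 ya z a)).1]
    · rw [Set.disjoint_left]
      rintro z ((a | a) | a)
      exacts [(nD z (mO x x2 x3 xa z a)).2, (nD z (mO y y2 y3 ya z a)).2, fun e => vD (e ▸ a :)]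
  have iv : ∀ z, z * z = 1 → z ∈ insert 1 (insert (c * k) (insert (c * k * a) (Set.range fun g => g * a * g⁻¹))) := fun z e => by
    by_cases n : z = 1
    exacts [.inl n, .inr (.inr (.inr (h.oc e n)))]
  have l2 := Set.ncard_le_ncard (s := O x ∪ O y ∪ centralizer ({a} : Set H) ∪ {v})
    (t := insert 1 (insert (c * k) (insert (c * k * a) (Set.range fun g => g * a * g⁻¹)))) (by
      rintro z (((a | a) | a) | rfl)
      · exact iv z (mO x x2 x3 xa z a).1
      · exact iv z (mO y y2 y3 ya z a).1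
      · rcases h.D z (mC.1 a) with rfl | rfl | rfl | rfl | rfl | rfl | rfl | rfl
        exacts [.inl rfl, iv _ h.a2, iv _ h.c2, iv _ ((h.sqa h.ac).trans h.c2), iv _ h.k2, iv _ ((h.sqa h.ak).trans h.k2),
          .inr (.inl rfl), .inr (.inr (.inl rfl))]
      · exact iv _ h.v2)
  have i1 := Set.ncard_insert_le 1 (insert (c * k) (insert (c * k * a) (Set.range fun g => g * a * g⁻¹)))
  have i2 := Set.ncard_insert_le (c * k) (insert (c * k * a) (Set.range fun g => g * a * g⁻¹))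
  have i3 := Set.ncard_insert_le (c * k * a) (Set.range fun g => g * a * g⁻¹)
  omega

theorem c360 (hc : Nat.card H = 360) : ∃ f : H, orderOf f = 5 ∧ a * f * a⁻¹ = f⁻¹ := by
  haveI : Fact (Nat.Prime 5) := ⟨by decide⟩
  haveI : Fact (Nat.Prime 2) := ⟨by decide⟩
  obtain ⟨f, o⟩ := exists_prime_orderOf_dvd_card' (G := H) 5 (by rw [hc]; decide)
  let P : Sylow 5 H := Sylow.ofCard (zpowers f) (by rw [Nat.card_zpowers, o, hc]; decide +kernel)
  have a1 := card_sylow_modEq_one 5 H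
  have a2 := (normalizer (P : Set H)).card_mul_index
  rw [P.card_eq_index_normalizer] at a1
  obtain ⟨⟨i, hi⟩, i2⟩ := exists_prime_orderOf_dvd_card' (G := normalizer (P : Set H)) 2 (by
    rw [hc] at a2
    generalize Nat.card (normalizer (P : Set H)) = n at a2
    generalize (normalizer (P : Set H)).index = m at a1 a2
    have : n ∈ Nat.divisors 360 := Nat.mem_divisors.2 ⟨⟨m, a2.symm⟩, by decide⟩
    rw [Nat.ModEq] at a1
    have : n ∈ (Nat.divisors 360).filter (2 ∣ ·) ∪ {1, 3, 5, 9, 15, 45} := by revert this; generalize n = x; revert x; decide +kernel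
    simp only [Finset.mem_union, Finset.mem_filter, Finset.mem_insert, Finset.mem_singleton] at this
    rcases this with a | rfl | rfl | rfl | rfl | rfl | rfl
    exacts [a.2, by omega, by omega, by omega, by omega, by omega, by omega])
  rw [orderOf_mk] at i2
  have i3 : i * i = 1 := by rw [← pow_two, ← i2, pow_orderOf_eq_one]
  have i1 : i ≠ 1 := by rintro rfl; simp at i2
  obtain ⟨j, e⟩ : i * f * i⁻¹ ∈ zpowers f := (mem_set_normalizer_iff.1 hi f).1 (mem_zpowers f)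
  have cm : Commute f (i * f * i⁻¹) := e ▸ (Commute.refl f).zpow_right j
  have := h.e4' i3 i1 (w := f * (i * f * i⁻¹)) (m := 2) (by
    nth_rw 2 [cm.eq]
    rw [inv2 i3]; simp only [mul_assoc, ← mul_assoc i i, i3, one_mul, mul_one])
    (by rw [cm.mul_pow, conj_pow, show f ^ (2 * 2 + 1) = 1 from (o ▸ pow_orderOf_eq_one f : f ^ 5 = 1)]; simp)
  obtain ⟨g, rfl⟩ := h.oc i3 i1
  refine ⟨g⁻¹ * f * g, by rw [← o]; exact (MulAut.conj g⁻¹).orderOf_eq f ▸ by simp, ?_⟩
  rw [show a * (g⁻¹ * f * g) * a⁻¹ = g⁻¹ * (g * a * g⁻¹ * f * (g * a * g⁻¹)⁻¹) * g by group, eq_inv_of_mul_eq_one_right this]; group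
end YH

end Cfsg.Agent.H8Th
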