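import Cfsg.Agent.H8.ThN

/-! # The missing generator -/

set_option autoImplicit false
set_option linter.unusedVariables false
set_option linter.unusedSectionVars false
set_option maxRecDepth 100000

namespace Cfsg.Agent.H8Th
open Equiv Subgroup Cfsg.Agent.Spor Cfsg.Agent.Spor.ThM

variable {G : Type*} [Group G] {Q : Subgroup G} {π : G → P9}

theorem mY {s t x : G} : x ∈ centralizer ({s, t} : Set G) ↔ x * s = s * x ∧ x * t = t * x :=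
  ⟨fun h => ⟨(h s (.inl rfl)).symm, (h t (.inr rfl)).symm⟩, by rintro ⟨a, b⟩ _ (rfl | rfl); exacts [a.symm, b.symm]⟩
theorem cmi {x y : G} (h : x * y = y * x) : x⁻¹ * y = y * x⁻¹ := (show Commute x y from h).inv_left
theorem Bs.nab {a c e s t b : G} (h : Bs a c e s t b) (a2 : a * a = 1) (ac : c * a = a * c) (ca : c ≠ a) : b * a ≠ a * b := fun n => by
  have := h.ab
  rw [pow_three', mul_assoc a b (a * b), ← mul_assoc b, n, mul_assoc a b b, h.b2, mul_one, a2, one_mul, mul_eq_one_iff_eq_inv,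
    inv2 h.b2] at this
  subst this
  have := h.sw.va
  rw [inv2 a2, ← mul_assoc a, a2, one_mul, cj1 (by rw [mul_assoc, ← mul_assoc a, ← ac, mul_assoc])] at this
  exact ca this.symm
theorem Bs.cj {a c e s t b : G} (h : Bs a c e s t b) (ac : c * a = a * c) (ce : c * e = e * c) (cs : c * s = s * c)
    (ct : c * t = t * c) : Bs a c e s t (c * b * c⁻¹) := by
  have cc : c⁻¹ * a * c = a := by rw [mul_assoc, ← ac, inv_mul_cancel_left]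
  have q : (c * b * c⁻¹)⁻¹ * (a * c) * (c * b * c⁻¹) = c * (b⁻¹ * (a * c) * b) * c⁻¹ := by
    nth_rw 2 [← cc]; group
  refine ⟨by rw [conj_mul, h.b2]; simp, by rw [← cj1 ac, conj_mul, conj_pow, h.ab]; simp, ?_, cj1 ce ▸ H8Th.cj c h.be,
    cj1 cs ▸ H8Th.cj c h.bs, cj1 ct ▸ H8Th.cj c h.bt, q ▸ ⟨by rw [conj_mul, h.sw.v2]; simp, ?_, cj1 cs ▸ H8Th.cj c h.sw.vs,
    cj1 ct ▸ H8Th.cj c h.sw.vt⟩⟩
  · rw [show c * (c * b * c⁻¹) = c * (c * b) * c⁻¹ by group, conj_pow, h.cb]; simp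
  · have := h.sw.va
    generalize b⁻¹ * (a * c) * b = v at this
    rw [show c * v * c⁻¹ * a * (c * v * c⁻¹)⁻¹ = c * (v * (c⁻¹ * a * c) * v⁻¹) * c⁻¹ by group, cc, this, mul_inv_cancel_right]

namespace RM
variable {f : ℕ → G} {R : ℕ → G → Prop} (m : RM true true (f 15) Q π f R)
include m
theorem ty4 {x : G} (hx : x ∈ centralizer {𝐚}) (h2 : x * x = 1) (n : x ∉ Q) :
    Ty true (π x) ∧ ∃ g ∈ centralizer {𝐚}, x = g * 𝐞 * g⁻¹ := by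
  obtain ⟨t, ht⟩ := m.ty hx (h2 ▸ one_mem _) n
  obtain ⟨r, hr, g, hg, e⟩ := m.cl1 hx h2 ht
  cases t
  · exact absurd hr List.not_mem_nil
  refine ⟨ht, g * E f [0, 2, 10, 12, 20, 26, 22], mul_mem hg (m.EC _), ?_⟩
  rw [e, List.mem_singleton.1 hr, m.eqw (u := cjw ([38], [0, 2, 10, 12, 20, 26, 22])) (by decide +kernel), E_cjw,
    show E f [38] = 𝐞 by wd]
  group
theorem dl {y : G} (h1 : y * 𝐚 = 𝐚 * y) (h2 : y * 𝐬 = 𝐬 * y) (h3 : y * 𝐭 = 𝐭 * y) : (y * 𝐝) ^ 4 = 𝐚 ∨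
    ∃ z, (z = 1 ∨ z = 𝐜) ∧ (z * (y * 𝐝) * z⁻¹ = 𝐝 ∨ z * (y * 𝐝) * z⁻¹ = 𝐚 * 𝐝) := by
  have e := m.eqs (L := [((List.replicate 4 [34, 36]).flatten, [30]), ((List.replicate 4 [34, 30, 36]).flatten, [30]),
    ((List.replicate 4 [36, 34, 36, 36]).flatten, [30]), ((List.replicate 4 [36, 34, 36, 30, 36]).flatten, [30]),
    ([34, 34, 36, 34, 36, 36, 35], [36]), ([34, 34, 36, 34, 36, 30, 36, 35], [30, 36])]) (by decide +kernel)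
  simp only [List.forall_mem_cons, E, ev_replicate] at e
  wd at e
  obtain ⟨e1, e2, e3, e4, e5, e6⟩ := e
  rcases m.sf.inD h1 h2 h3 with rfl | rfl | rfl | rfl | rfl | rfl | rfl | rfl
  exacts [.inr ⟨1, .inl rfl, .inl (by simp)⟩, .inr ⟨1, .inl rfl, .inr (by simp)⟩, .inl e1, .inl e2, .inl e3, .inl e4,
    .inr ⟨_, .inr rfl, .inl (by wd; exact e5)⟩, .inr ⟨_, .inr rfl, .inr (by wd; exact e6)⟩]

variable {g v : G} (g1 : g * f 15 * g⁻¹ = f 17 * f 15) (g2 : g * f 17 * g⁻¹ = f 15) (w : Sw (f 15) (f 17) (f 20) (f 21) v)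
include g1 g2 w
theorem ec : 𝐞 = (E f [38, 36, 34, 36])⁻¹ * v * E f [36, 38, 44, 36] * v * 𝐚 * ((E f [38, 36, 34, 36])⁻¹ * v *
    E f [36, 38, 44, 36] * v)⁻¹ := by
  have := m.al g1 g2 w [11, 15] (cjw ([34], [36, 38, 44, 36])) (cjw ([38], [38, 36, 34, 36])) (by decide +kernel)
  rw [E_cjw, E_cjw, show E f [38] = 𝐞 by wd, show E f [34] = 𝐜 by wd, ← w.va] at this
  calc _ = (E f [38, 36, 34, 36])⁻¹ * (E f [38, 36, 34, 36] * 𝐞 * (E f [38, 36, 34, 36])⁻¹) * E f [38, 36, 34, 36] := by group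
    _ = _ := by rw [← this]; group
theorem ivc {H : Subgroup G} (hH : centralizer {𝐚} ≤ H) (hv : v ∈ H) {x : G} (hx : x * 𝐚 = 𝐚 * x) (h2 : x * x = 1) (n : x ≠ 1) :
    ∃ h ∈ H, h * 𝐚 * h⁻¹ = x := by
  by_cases q : x ∈ Q
  · rcases m.sf.inv x q h2 with e | e | ⟨k, hk, e⟩
    exacts [absurd e n, ⟨1, one_mem _, by simp [e]⟩, ⟨k * v, mul_mem (hH hk) hv, by rw [e, ← w.va]; group⟩]
  · obtain ⟨-, k, hk, e⟩ := m.ty4 (mC.2 hx) h2 q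
    refine ⟨k * _, mul_mem (hH hk) (mul_mem (mul_mem (mul_mem (inv_mem (hH (m.EC [38, 36, 34, 36]))) hv)
      (hH (m.EC [36, 38, 44, 36]))) hv), ?_⟩
    rw [e, m.ec g1 g2 w]; group
theorem no5 {x y : G} (x5 : x ^ 5 = 1) (x1 : x ≠ 1) (xt : x * 𝐭 = 𝐭 * x) (xa : 𝐚 * x * 𝐚⁻¹ = x⁻¹) (y2 : y * y = 1) (y1 : y ≠ 1)
    (ya : y * 𝐚 = 𝐚 * y) (yt : y * 𝐭 = 𝐭 * y) (yx : y * x = x * y) : False := by
  obtain ⟨h, -, e⟩ := m.ivc g1 g2 w (H := ⊤) le_top trivial ya y2 y1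
  have F := m.sf
  have c1 : ∀ x y, h⁻¹ * x * h * (h⁻¹ * y * h) = h⁻¹ * (x * y) * h := fun x y => by group
  have cp : ∀ x n, x ^ n = 1 → (h⁻¹ * x * h) ^ n = 1 := fun x n e => by
    rw [show h⁻¹ * x * h = h⁻¹ * x * h⁻¹⁻¹ by simp, conj_pow, e]; simp
  have c0 : ∀ x, h⁻¹ * x * h = 1 → x = 1 := fun x e => by simpa [mul_assoc, inv_mul_eq_one] using e
  have aC := mC.2 (cj' e ya.symm)
  have tC := mC.2 (cj' e yt.symm)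
  have xC := mC.2 (cj' e yx.symm)
  have p5 : π (h⁻¹ * x * h) ^ 5 = 1 := by rw [← m.ppow xC, cp _ _ x5, m.p1]
  refine x1 (c0 _ (m.odd (n := 2) xC (cp _ _ x5) ?_))
  by_cases q : h⁻¹ * 𝐚 * h ∈ Q
  · have := m.pcj aC xC
    rw [show h⁻¹ * 𝐚 * h * (h⁻¹ * x * h) * (h⁻¹ * 𝐚 * h)⁻¹ = (h⁻¹ * (𝐚 * x * 𝐚⁻¹)⁻¹ * h)⁻¹ by group, xa, inv_inv, m.pinv xC, m.pQ q,
      one_mul, inv_one, mul_one, inv_eq_iff_mul_eq_one] at this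
    simpa [pow_succ, this] using p5
  · exact (((m.ty4 aC (by rw [c1, m.z2]; simp) q).1.cen (m.pcm tC aC (by rw [c1, c1, mC.1 F.tC])) fun e =>
      F.t1 (c0 _ (m.odd (n := 1) tC (cp _ _ F.t3) e))).2 (by rw [← m.ppow tC, cp _ _ F.t3, m.p1])).2 rfl _
      (m.pcm xC tC (by rw [c1, c1, xt])) p5

theorem exB' [Finite G] : ∃ b, Bs 𝐚 𝐜 𝐞 𝐬 𝐭 b ∧ b * 𝐝 = 𝐝 * b := by
  have F := m.sf
  have e := m.eqs (L := [([36, 36], []), ([36, 40, 37], [41]), ([36, 42], [42, 36]), ([34, 38], [38, 34]),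
    ((List.replicate 3 [30, 36, 38]).flatten, [30])]) (by decide +kernel)
  simp only [List.forall_mem_cons, E, ev_replicate] at e
  wd at e
  obtain ⟨d2, ds, dt, ce, ade⟩ := e
  have da := mC.1 (m.mem 18)
  have dY : ∀ x, x ∈ centralizer {𝐬, 𝐭} → 𝐝 * x * 𝐝⁻¹ ∈ centralizer {𝐬, 𝐭} := fun x hx => mY.2
    ⟨by simpa [← conj_inv, ds] using cj 𝐝 (cmi (mY.1 hx).1.symm).symm, cj1 dt ▸ cj _ (mY.1 hx).2⟩
  have aY : 𝐚 ∈ centralizer {𝐬, 𝐭} := mY.2 ⟨(mC.1 F.sC).symm, (mC.1 F.tC).symm⟩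
  have vY : v ∈ centralizer {𝐬, 𝐭} := mY.2 ⟨w.vs, w.vt⟩
  have Y : YH (H := centralizer {𝐬, 𝐭}) ⟨_, aY⟩ ⟨𝐜, mY.2 ⟨F.sc.symm, F.tc.symm⟩⟩ ⟨_, mY.2 ⟨F.sk.symm, F.tk.symm⟩⟩ ⟨_, vY⟩
      ⟨_, dY _ vY⟩ := ⟨Subtype.ext m.z2, fun e => m.z1 (congrArg Subtype.val e), Subtype.ext F.c2, Subtype.ext F.k2,
    fun e => F.c1 (congrArg Subtype.val e), fun e => F.ca (congrArg Subtype.val e), Subtype.ext F.ac, Subtype.ext F.ak,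
    Subtype.ext F.kc, fun x e => by
      simp only [Subtype.ext_iff]
      exact F.inD (congrArg Subtype.val e) (mY.1 x.2).1 (mY.1 x.2).2, Subtype.ext w.v2,
    Subtype.ext (show 𝐝 * v * 𝐝⁻¹ * (𝐝 * v * 𝐝⁻¹) = 1 by rw [conj_mul, w.v2]; simp), Subtype.ext w.va,
    Subtype.ext (show 𝐝 * v * 𝐝⁻¹ * 𝐚 * (𝐝 * v * 𝐝⁻¹)⁻¹ = 𝐝 * 𝐜 * 𝐝 by
      rw [← w.va, ← cj1 da, conj_mul, conj_inv, conj_mul, cj1 da, inv2 d2])⟩
  rcases Y.card with hc | hc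
  · obtain ⟨b, B⟩ := m.exB g1 g2 w
    have nab : ∀ {b}, Bs 𝐚 𝐜 𝐞 𝐬 𝐭 b → b * 𝐚 ≠ 𝐚 * b := fun B => B.nab m.z2 F.ac F.ca
    have bY := mY.2 ⟨B.bs, B.bt⟩
    obtain ⟨⟨y, hy⟩, e1, e2⟩ := Y.c168 hc (x := ⟨b, bY⟩) (y := ⟨_, dY _ bY⟩) (Subtype.ext B.b2) (Subtype.ext B.ab)
      (fun e => nab B (by rw [show b = 𝐚 from congrArg Subtype.val e]))
      (Subtype.ext (show 𝐝 * b * 𝐝⁻¹ * (𝐝 * b * 𝐝⁻¹) = 1 by rw [conj_mul, B.b2]; simp))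
      (Subtype.ext (show (𝐚 * (𝐝 * b * 𝐝⁻¹)) ^ 3 = 1 by rw [← cj1 da, conj_mul, conj_pow, B.ab]; simp))
      fun e => nab B (by rw [show b = 𝐚 by simpa using (congrArg Subtype.val e).trans (cj1 da).symm])
    have e2 : Commute (y * 𝐝) b := mul_inv_eq_iff_eq_mul.1 (Eq.trans (by simp [mul_assoc]) (congrArg Subtype.val e2))
    rcases m.dl (congrArg Subtype.val e1) (mY.1 hy).1 (mY.1 hy).2 with e | ⟨z, hz, e⟩
    · exact absurd (e ▸ e2.pow_left 4).eq.symm (nab B)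
    have B' : Bs 𝐚 𝐜 𝐞 𝐬 𝐭 (z * b * z⁻¹) := by
      rcases hz with rfl | rfl
      exacts [by simpa using B, B.cj F.ac ce F.sc.symm F.tc.symm]
    have e3 := cj z e2.eq.symm
    rcases e with e | e <;> rw [e] at e3
    · exact ⟨_, B', e3⟩
    · exact absurd (ade ▸ ((show Commute _ _ from e3).mul_right B'.be).pow_right 3).eq (nab B')
  exfalso
  obtain ⟨⟨x, xY⟩, o, xa⟩ := Y.c360 hc
  rw [orderOf_mk] at o
  have xa : 𝐚 * x * 𝐚⁻¹ = x⁻¹ := congrArg Subtype.val xa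
  have x5 : x ^ 5 = 1 := o ▸ pow_orderOf_eq_one x
  have x1 : x ≠ 1 := by rintro rfl; simp at o
  obtain ⟨n, hn, j, e⟩ := Spor.exists_conj_mem (S := centralizer {𝐬, 𝐭}) (T := zpowers x) (p := 5) (by decide) (dY _ xY)
    (by rw [conj_pow, x5]; simp) (not_dvd_relIndex (zpowers_le.2 xY) hc (by rw [Nat.card_zpowers, o]) (by decide))
  have e : x ^ j = n⁻¹ * 𝐝 * x * (n⁻¹ * 𝐝)⁻¹ := e.trans (by group)
  have a2 : n⁻¹ * 𝐚 * n * (n⁻¹ * 𝐚 * n) = 1 := by rw [show n⁻¹ * 𝐚 * n = n⁻¹ * 𝐚 * n⁻¹⁻¹ by simp, conj_mul, m.z2]; simp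
  have xj : 𝐚 * x ^ j * 𝐚⁻¹ = (x ^ j)⁻¹ := by rw [← conj_zpow, xa, inv_zpow]
  have cm : Commute (n⁻¹ * 𝐚 * n * 𝐚) (x ^ j) := mul_inv_eq_iff_eq_mul.1 (by
    rw [show n⁻¹ * 𝐚 * n * 𝐚 * x ^ j * (n⁻¹ * 𝐚 * n * 𝐚)⁻¹ = n⁻¹ * 𝐚 * n * (𝐚 * x ^ j * 𝐚⁻¹) * (n⁻¹ * 𝐚 * n)⁻¹ by group, xj, e]
    calc _ = n⁻¹ * (𝐚 * 𝐝) * x⁻¹ * (𝐚 * 𝐝)⁻¹ * n := by group
      _ = n⁻¹ * 𝐝 * (𝐚 * x * 𝐚⁻¹)⁻¹ * 𝐝⁻¹ * n := by rw [← da]; group
      _ = _ := by rw [xa]; group)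
  have rY := mul_mem (mul_mem (mul_mem (inv_mem hn) aY) hn) aY
  have j1 : x ^ j ≠ 1 := by rw [e, Ne, conj_eq_one_iff]; exact x1
  have j5 : (x ^ j) ^ 5 = 1 := by rw [e, conj_pow, x5]; simp
  obtain ⟨i, e1⟩ := Inv.exists_zpow_conj_of_odd a2 m.z2 (Nat.not_even_iff_odd.1 fun ⟨r, hr⟩ => by
    have r0 : 0 < r := by have := orderOf_pos (n⁻¹ * 𝐚 * n * 𝐚); omega
    exact j1 (congrArg Subtype.val (Y.e4' (y := ⟨_, pow_mem rY r⟩) (w := ⟨_, zpow_mem xY j⟩) (m := 2)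
      (Subtype.ext (by simp only [coe_mul, ← pow_add, ← hr, pow_orderOf_eq_one, coe_one]))
      (fun e => pow_ne_one_of_lt_orderOf r0.ne' (by omega) (congrArg Subtype.val e)) (Subtype.ext (cm.pow_left r).eq.symm)
      (Subtype.ext j5))))
  have yY := mul_mem (zpow_mem rY i) (inv_mem hn)
  have e2 : (n⁻¹ * 𝐚 * n * 𝐚) ^ i * n⁻¹ * 𝐝 * x * ((n⁻¹ * 𝐚 * n * 𝐚) ^ i * n⁻¹ * 𝐝)⁻¹ = x ^ j := by
    rw [← cj1 (cm.zpow_left i).eq, e]; group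
  have ya : (n⁻¹ * 𝐚 * n * 𝐚) ^ i * n⁻¹ * 𝐚 = 𝐚 * ((n⁻¹ * 𝐚 * n * 𝐚) ^ i * n⁻¹) :=
    mul_inv_eq_iff_eq_mul.1 (Eq.trans (by group) e1)
  generalize (n⁻¹ * 𝐚 * n * 𝐚) ^ i * n⁻¹ = y at yY e2 ya
  have hd := m.dl ya (mY.1 yY).1 (mY.1 yY).2
  have y1 : y * 𝐝 * 𝐚 = 𝐚 * (y * 𝐝) := (show Commute y 𝐚 from ya).mul_left da
  have y2 : y * 𝐝 * 𝐭 = 𝐭 * (y * 𝐝) := (show Commute y 𝐭 from (mY.1 yY).2).mul_left dt
  have y3 : y * 𝐝 * 𝐬 ≠ 𝐬 * (y * 𝐝) := fun e => F.s1 (by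
    have := cj1 e
    rw [show y * 𝐝 * 𝐬 * (y * 𝐝)⁻¹ = y * (𝐝 * 𝐬 * 𝐝⁻¹) * y⁻¹ by group, ds, cj1 (cmi (mY.1 yY).1.symm).symm,
      inv_eq_iff_mul_eq_one] at this
    simpa [pow_succ, this] using F.s7)
  have d4 : (𝐚 * 𝐝) * (𝐚 * 𝐝) = 1 := by rw [mul_assoc, ← mul_assoc 𝐝, da, mul_assoc 𝐚, d2, mul_one, m.z2]
  generalize y * 𝐝 = δ at *
  rcases hd with e | ⟨z, -, e⟩
  · have q : ∀ k : ℤ, δ * x ^ k * δ⁻¹ = x ^ (j * k) := fun k => by rw [← conj_zpow, e2, zpow_mul]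
    have : x ^ (j * (j * (j * j)) + 1) = 1 := by
      rw [zpow_add, zpow_one, ← q, ← q, ← q, ← e2, ← eq_inv_iff_mul_eq_one, ← xa, ← e]; simp [pow_succ, mul_assoc]
    rw [← orderOf_dvd_iff_zpow_eq_one, o, ← ZMod.intCast_zmod_eq_zero_iff_dvd] at this
    push_cast at this
    revert this; generalize (j : ZMod 5) = r; revert r; decide
  have δ2 : δ * δ = 1 := by
    rw [← conj_eq_one_iff (a := z), ← conj_mul]
    rcases e with e | e <;> rw [e] <;> assumption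
  have xt := (mY.1 xY).2
  have cx : Commute x (x ^ j) := (Commute.refl x).zpow_right j
  by_cases q : x * x ^ j = 1
  · refine m.no5 g1 g2 w x5 x1 xt xa (y := δ * 𝐚) (by rw [mul_assoc, ← mul_assoc 𝐚, ← y1, mul_assoc δ, m.z2, mul_one, δ2])
      (fun e => y3 (by rw [eq_inv_of_mul_eq_one_left e, inv2 m.z2, mC.1 F.sC])) (by rw [← mul_assoc 𝐚, ← y1])
      ((show Commute δ 𝐭 from y2).mul_left (mC.1 F.tC).symm) (mul_inv_eq_iff_eq_mul.1 ?_)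
    rw [show δ * 𝐚 * x * (δ * 𝐚)⁻¹ = (δ * (𝐚 * x * 𝐚⁻¹)⁻¹ * δ⁻¹)⁻¹ by group, xa, inv_inv, e2, ← eq_inv_of_mul_eq_one_left q]
  · refine m.no5 g1 g2 w (x := x * x ^ j) (by rw [cx.mul_pow, x5, j5, one_mul]) q
      ((show Commute x 𝐭 from xt).mul_left ((show Commute x 𝐭 from xt).zpow_left j)) (by rw [← conj_mul, xa, xj, cx.eq, mul_inv_rev])
      δ2 (fun e => y3 (by simp [e])) y1 y2 (mul_inv_eq_iff_eq_mul.1 ?_)
    rw [← conj_mul, cx.eq, e2, ← e2, inv2 δ2]; simp only [mul_assoc, ← mul_assoc δ δ, δ2, one_mul, mul_one]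
end RM

end Cfsg.Agent.H8Th
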