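import Cfsg.Agent.H8.ThO
import Cfsg.Agent.Spor.ThG.Main
import Cfsg.Agent.Spor.ThZ

/-! # The presentation of the Thompson group holds -/

set_option autoImplicit false
set_option linter.unusedVariables false
set_option linter.unusedSectionVars false
set_option maxRecDepth 100000

namespace Cfsg.Agent.H8Th
open Equiv Subgroup Cfsg.Agent.Spor Cfsg.Agent.Spor.ThM

theorem core0 {G : Type} [Group G] {f : ℕ → G} (h : Pres 6 5 ThG.RL f) : ∀ l ∈ ThG.XL, ∀ x ∈ gsub 6 f,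
    x * ev (atm 6 f) l * x⁻¹ ∈ wsub 6 f ThG.BW := fun l hl x hx => by
  have p := (h.prod ThG.cert.pres).lift
  let K := gsub 6 fun j => (f j, ThG.fP j)
  have h1 : ∀ j < 6, ((MonoidHom.fst _ _).comp K.subtype) (lift K (fun j => (f j, ThG.fP j)) j) = f j := fun j hj =>
    congrArg Prod.fst (lift_gsub _ j hj)
  have h2 : ∀ j < 6, ((MonoidHom.snd _ _).comp K.subtype) (lift K (fun j => (f j, ThG.fP j)) j) = ThG.fP j := fun j hj =>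
    congrArg Prod.snd (lift_gsub _ j hj)
  have a := ThG.cert.act K _ p _ h2 (gsub_lift _ _)
  rw [← gsub_map' h1] at hx
  obtain ⟨y, -, rfl⟩ := hx
  rw [← wsub_map h1, ← ev_atm_map' h1, ← map_inv, ← map_mul, ← map_mul]
  refine mem_map_of_mem _ ((a.stab _).1 ?_)
  rw [map_mul, map_mul, ev_atm_map' h2, show ev (atm 6 ThG.fP) l = 1 from ThG.xrel l hl, mul_one, ← map_mul, mul_inv_cancel,
    map_one, Perm.one_apply]

variable {G : Type*} [Group G] {Q : Subgroup G} {π : G → P9}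

theorem core [Finite G] {f : ℕ → G} (h : Pres 6 5 ThG.RL f) : ∀ l ∈ ThG.XL, ∀ x ∈ gsub 6 f,
    x * ev (atm 6 f) l * x⁻¹ ∈ wsub 6 f ThG.BW := fun l hl x hx => by
  obtain ⟨G', _, _, ⟨e⟩⟩ := Finite.exists_type_univ_nonempty_mulEquiv.{_, 0} G
  have := core0 (h.map e.toMonoidHom) l hl (e.toMonoidHom x) (gsub_map e.toMonoidHom 6 f ▸ mem_map_of_mem _ hx)
  rwa [← wsub_map (φ := e.toMonoidHom) (f := f) fun _ _ => rfl, ← ev_atm_map, ← map_inv, ← map_mul, ← map_mul,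
    mem_map_iff_mem e.injective] at this

theorem evF {n : ℕ} {f F : ℕ → G} {WD : List (List ℕ)} (hF : ∀ j < n, j ≠ 1 → F j = wv 23 f WD j) {l : List ℕ}
    (h : l.all (· / 2 ≠ 1) = true) : ev (atm n F) l = E f (subW 0 n WD l) := by
  rw [E, ev_subW (ivOk_zero _ _)]
  induction l with
  | nil => rfl
  | cons y l ih =>
    simp only [List.all_cons, Bool.and_eq_true, decide_eq_true_eq] at h
    rw [ev_cons, ev_cons, ih h.2, atm_def, atm_def]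
    split_ifs with a b
    exacts [by rw [hF _ a h.1], by rw [hF _ a h.1], rfl]

def WD6 : List (List ℕ) := [[30], [], [34], [36], [38], [44]]
def WD8 : List (List ℕ) := [[30], [], [34], [36], [38], [40], [42], [44]]
def F6 (f : ℕ → G) (b : G) (j : ℕ) : G := [𝐚, b, 𝐜, 𝐝, 𝐞, 𝐮].getD j 1
def F8 (f : ℕ → G) (b : G) (j : ℕ) : G := [𝐚, b, 𝐜, 𝐝, 𝐞, 𝐬, 𝐭, 𝐮].getD j 1
theorem hF6 (f : ℕ → G) (b : G) : ∀ j < 6, j ≠ 1 → F6 f b j = wv 23 f WD6 j := fun j hj n => by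
  interval_cases j <;> first | exact absurd rfl n | simp [F6, WD6, wv, ev_cons, atm_def]
theorem hF8 (f : ℕ → G) (b : G) : ∀ j < 8, j ≠ 1 → F8 f b j = wv 23 f WD8 j := fun j hj n => by
  interval_cases j <;> first | exact absurd rfl n | simp [F8, WD8, wv, ev_cons, atm_def]
noncomputable def relB (n : ℕ) (WD BL RL : List (List ℕ)) : Bool :=
  lall (fun l => bor (decide (l ∈ BL)) (band (l.all (· / 2 ≠ 1)) (eK true true (subW 0 n WD l) []))) RL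
def BL6 : List (List ℕ) := [[0, 2, 0, 2, 0, 2], [2, 4, 2, 4, 2, 4], [2, 6, 2, 6], [2, 8, 2, 8], [11, 2, 4, 0, 2, 10, 2, 4, 0, 2, 8],
  [6, 11, 6, 2, 4, 0, 2, 6, 10, 6, 2, 4, 0, 2, 4, 8, 6, 11, 6, 2, 4, 0, 2, 8, 11], [2, 4, 0, 4, 0, 2]]
def BL8 : List (List ℕ) := [[2, 2], [0, 2, 0, 2, 0, 2], [2, 4, 2, 4, 2, 4], [2, 6, 2, 6], [2, 8, 2, 8],
  (List.replicate 8 [2, 4, 6, 8]).flatten, [11, 3, 10, 2], [13, 3, 12, 2], [15, 3, 5, 1, 2, 14, 3, 0, 4, 2, 9],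
  [7, 15, 6, 3, 5, 1, 2, 7, 14, 6, 3, 0, 4, 2, 5, 9, 7, 15, 6, 3, 5, 1, 2, 9, 15]]
theorem kR6 : relB 6 WD6 BL6 ThG.RL = true := by decide +kernel
theorem kR8 : relB 8 WD8 BL8 ThC.RL = true := by decide +kernel
theorem kG : lall (fun j => band ((GW8.getD j []).all (· / 2 ≠ 1)) (eK true true (subW 0 8 WD8 (GW8.getD j [])) [2 * j]))
    (List.range 15) = true := by decide +kernel

namespace RM
variable {f : ℕ → G} {R : ℕ → G → Prop} (m : RM true true (f 15) Q π f R)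
include m
theorem rel {n : ℕ} {F : ℕ → G} {WD BL RL : List (List ℕ)} (hF : ∀ j < n, j ≠ 1 → F j = wv 23 f WD j)
    (h : relB n WD BL RL = true) (hb : ∀ l ∈ BL, ev (atm n F) l = 1) : ∀ l ∈ RL, ev (atm n F) l = 1 := fun l hl => by
  have := (lall_iff _ _).1 h l hl
  rw [bor_iff, band_eq, Bool.and_eq_true, decide_eq_true_eq] at this
  exact this.elim (hb l) fun a => (evF hF a.1).trans (m.eqw a.2)
theorem Ctop (b : G) : centralizer {𝐚} ≤ gsub 8 (F8 f b) := m.top.trans (gsub_le fun j hj => by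
  have := (lall_iff _ _).1 kG j (List.mem_range.2 hj)
  rw [band_eq, Bool.and_eq_true] at this
  have := (evF (hF8 f b) this.1).trans (m.eqw this.2)
  rw [E, ev_cons, ev_nil, mul_one, atm_two_mul _ (by omega)] at this
  exact this ▸ ev_atm_mem _ _ _)

variable {g b : G} (g1 : g * f 15 * g⁻¹ = f 17 * f 15) (g2 : g * f 17 * g⁻¹ = f 15)
  (B : Bs (f 15) (f 17) (f 19) (f 20) (f 21) b) (bd : b * f 18 = f 18 * b)
include g1 g2 B bd
theorem rb : (∀ l ∈ BL6, ev (atm 6 (F6 f b)) l = 1) ∧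
    ((b * 𝐜 * 𝐝 * 𝐞) ^ 8 = 1 → ∀ l ∈ BL8, ev (atm 8 (F8 f b)) l = 1) := by
  have e := m.eqs (L := [([36, 36], []), ([38, 38], [])]) (by decide +kernel)
  wd at e
  have ac : ∀ x, 𝐚 * (𝐜 * x) = 𝐜 * (𝐚 * x) := fun x => by rw [← mul_assoc, ← m.sf.ac, mul_assoc]
  have h1 := B.ab
  have h2 : (b * 𝐜) ^ 3 = 1 := by rw [show b * 𝐜 = b * (𝐜 * b) * b⁻¹ by group, conj_pow, B.cb]; simp
  have h3 : b * (𝐝 * (b * 𝐝)) = 1 := by rw [bd, ← mul_assoc 𝐝, e.1, one_mul, B.b2]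
  have h4 : b * (𝐞 * (b * 𝐞)) = 1 := by rw [B.be, ← mul_assoc 𝐞, e.2, one_mul, B.b2]
  have h5 : 𝐮⁻¹ * ((b⁻¹ * (𝐚 * 𝐜) * b) * 𝐮 * (b⁻¹ * (𝐚 * 𝐜) * b)⁻¹) * 𝐞⁻¹ = 1 := by rw [m.vu g1 g2 B.sw]; group
  have h6 := m.r33 g1 g2 B.sw
  have h7 : b * (𝐜 * (𝐚 * (𝐜 * (𝐚 * b)))) = 1 := by rw [ac, ← mul_assoc 𝐜, m.sf.c2, one_mul, ← mul_assoc 𝐚, m.z2, one_mul, B.b2]
  have h8 : 𝐬⁻¹ * (b * (𝐬 * b)) = 1 := by rw [← mul_assoc b, B.bs, mul_assoc, B.b2]; simp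
  have h9 : 𝐭⁻¹ * (b * (𝐭 * b)) = 1 := by rw [← mul_assoc b, B.bt, mul_assoc, B.b2]; simp
  simp only [pow_succ, pow_zero, one_mul, mul_inv_rev, inv_inv, mul_assoc, inv2 B.b2, inv2 m.z2, inv2 m.sf.c2, inv2 e.1, inv2 e.2,
    ac] at h1 h2 h5 h6
  refine ⟨?_, fun h => ?_⟩
  swap; simp only [pow_succ, pow_zero, one_mul, mul_assoc] at h
  all_goals
    simp only [BL6, BL8, List.replicate, List.flatten_cons, List.flatten_nil, List.cons_append, List.nil_append, List.append_nil]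
    wd
    simp only [F6, F8, List.getD_cons_zero, List.getD_cons_succ, mul_assoc, inv2 B.b2, inv2 m.z2, inv2 m.sf.c2, inv2 e.1, inv2 e.2]
  · simp only [ac]
    exact ⟨B.b2, h1, h2, h3, h4, h, h8, h9, h5, h6⟩
  · exact ⟨h1, h2, h3, h4, h5, h6, h7⟩

theorem r8 [Finite G] : (b * 𝐜 * 𝐝 * 𝐞) ^ 8 = 1 := by
  have F := m.sf
  have e := m.eqs (L := [([36, 36], []), ([38, 38], []), ([36], [38, 36, 38, 37, 39])]) (by decide +kernel)
  wd at e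
  have p : Pres 6 5 ThG.RL (F6 f b) := ⟨fun j hj _ => by
    interval_cases j; exacts [m.z2, B.b2, F.c2, e.1, e.2.1], m.rel (hF6 f b) kR6 (m.rb g1 g2 B bd).1⟩
  have c := core p (List.replicate 8 [2, 4, 6, 8]).flatten (List.mem_singleton.2 rfl)
  rw [ev_replicate, show ev (atm 6 (F6 f b)) [2, 4, 6, 8] = b * 𝐜 * 𝐝 * 𝐞 by wd; rfl] at c
  generalize (b * 𝐜 * 𝐝 * 𝐞) ^ 8 = r at c ⊢
  have k := kP
  simp only [band_eq, Bool.and_eq_true, lall_iff, bor_iff, lan_iff, memL_iff, bno_iff] at k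
  let S : Submonoid G := ⟨⟨{x | x ∈ centralizer {𝐚} ∧ tb (π x) ∈ PL}, fun {x y} hx hy => ⟨mul_mem hx.1 hy.1, by
    rw [m.mul _ hx.1 _ hy.1, tb_mul]; exact (k.1 _ hx.2).1 _ hy.2⟩⟩, one_mem _, m.pi [] ▸ k.2 [] (by simp)⟩
  have hS : ∀ x ∈ wsub 6 (F6 f b) ThG.BW, x ∈ S := gsub_le_submonoid fun j hj => by
    have : ∀ w ∈ [[], [30], [34], [36], [38], [44]], E f w ∈ S := fun w hw => ⟨m.EC w, m.pi w ▸ k.2 w hw⟩
    wd at this
    change j < 5 at hj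
    interval_cases j <;> simp only [wv, ThG.BW, List.getD_cons_zero, List.getD_cons_succ] <;> wd
    exacts [this.2.1, this.2.2.1, this.2.2.2.1, this.2.2.2.2.1, this.2.2.2.2.2]
  have mK : ∀ j < 6, F6 f b j ∈ gsub 6 (F6 f b) := fun j => mem_gsub _
  have ha : 𝐚 ∈ _ := mK 0 (by decide)
  have hb : b ∈ _ := mK 1 (by decide)
  have hc : 𝐜 ∈ _ := mK 2 (by decide)
  have hd : 𝐝 ∈ _ := mK 3 (by decide)
  have he : 𝐞 ∈ _ := mK 4 (by decide)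
  have hu : 𝐮 ∈ _ := mK 5 (by decide)
  have hv := mul_mem (mul_mem (inv_mem hb) (mul_mem ha hc)) hb
  have cm : ∀ x ∈ gsub 6 (F6 f b), r * (x * 𝐚 * x⁻¹) = x * 𝐚 * x⁻¹ * r := fun x hx => by
    simpa [mul_assoc] using cj x (mC.1 (hS _ (c _ (inv_mem hx))).1)
  have hX : (E f [38, 36, 34, 36])⁻¹ * (b⁻¹ * (𝐚 * 𝐜) * b) * E f [36, 38, 44, 36] * (b⁻¹ * (𝐚 * 𝐜) * b) ∈ gsub 6 (F6 f b) :=
    mul_mem (mul_mem (mul_mem (inv_mem (by wd; exact mul_mem (mul_mem (mul_mem he hd) hc) hd)) hv)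
      (by wd; exact mul_mem (mul_mem (mul_mem hd he) hu) hd)) hv
  have ec := m.ec g1 g2 B.sw
  generalize (E f [38, 36, 34, 36])⁻¹ * (b⁻¹ * (𝐚 * 𝐜) * b) * E f [36, 38, 44, 36] * (b⁻¹ * (𝐚 * 𝐜) * b) = X at hX ec
  have d1 : 𝐝 = 𝐞 * 𝐝 * X * 𝐚 * (𝐞 * 𝐝 * X)⁻¹ := e.2.2.trans (by nth_rw 2 [ec]; group)
  have d2 : 𝐮 * 𝐝 * 𝐮⁻¹ = 𝐮 * (𝐞 * 𝐝 * X) * 𝐚 * (𝐮 * (𝐞 * 𝐝 * X))⁻¹ := by nth_rw 1 [d1]; group
  have c1 := cm _ hX
  have c2 := cm _ (mul_mem (mul_mem he hd) hX)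
  have c3 := cm _ hv
  have c4 := cm _ (mul_mem hu (mul_mem (mul_mem he hd) hX))
  rw [← ec] at c1
  rw [← d1] at c2
  rw [B.sw.va] at c3
  rw [← d2] at c4
  have c5 := cm _ (mul_mem ha hb)
  rw [show 𝐚 * b * 𝐚 * (𝐚 * b)⁻¹ = b by
    rw [← mul_inv_eq_one, mul_inv_rev, inv2 B.b2, inv2 m.z2, ← B.ab, pow_three']; simp only [mul_assoc]] at c5
  have rS := hS _ (c 1 (one_mem _))
  rw [one_mul, inv_one, mul_one] at rS
  have r1 : π r = 1 := ((k.1 _ rS.2).2.2.imp_left isI_iff.1).resolve_right fun ⟨w, hw, n⟩ => n (by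
    have : ∀ w ∈ [[36], [38], [44, 36, 45]], r * E f w = E f w * r := by wd; wd at c4; exact ⟨c2, c1, c4⟩
    rw [← m.pi, ← tb_mul, ← tb_mul, beq_tb]
    exact m.pcm rS.1 (m.EC w) (this w hw))
  have := m.srch' kR rS.1 (r1.trans m.p1.symm) (by wd; wd at c4; exact ⟨c1, c2, c3, c4⟩)
  wd at this
  exact this.resolve_right fun e => B.nab m.z2 F.ac F.ca (e ▸ c5.symm)

theorem iso [Finite G] : Cfsg.Spor.IsoTh G := by
  have F := m.sf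
  obtain ⟨φ, h⟩ := ThC.coded.hom (by decide) (g := F8 f b) ⟨fun _ h => absurd h (Nat.not_lt_zero _),
    m.rel (hF8 f b) kR8 ((m.rb g1 g2 B bd).2 (m.r8 g1 g2 B bd))⟩
  have hC := m.Ctop b
  have hb : b ∈ gsub 8 (F8 f b) := mem_gsub (F8 f b) (j := 1) (by decide)
  have t : gsub 8 (F8 f b) = ⊤ := H8SE.se_top (o2 m.z2 m.z1) (hC m.zC) (fun x e => hC (mC.2 e))
    (fun s s2 e => m.ivc g1 g2 B.sw hC (mul_mem (mul_mem (inv_mem hb) (hC (mul_mem m.zC (m.mem _)))) hb) e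
      (by rw [← pow_two, ← s2, pow_orderOf_eq_one]) (by rintro rfl; simp at s2))
    (o2 F.c2 F.c1) (o2 F.k2 fun e => m.z1 (by simpa [e] using F.kc.symm)) (hC (m.mem _)) (hC (m.le F.kQ)) F.ck2
  haveI := ThZ.isTh.1
  refine ⟨(MulEquiv.ofBijective (show Cfsg.Spor.Th →* G from φ) ⟨(MonoidHom.ker_eq_bot_iff _).1
    ((IsSimpleGroup.eq_bot_or_eq_top_of_normal _ inferInstance).resolve_right fun e => m.z1 ?_),
    MonoidHom.range_eq_top.mp ((range_eq_gsub h ThZ.top).trans t)⟩).symm⟩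
  exact (h 0 (by decide)).symm.trans (MonoidHom.mem_ker.1 (e ▸ mem_top _))
end RM

theorem thm [Finite G] [IsSimpleGroup G] {z : G} (hz : orderOf z = 2) {Q : Subgroup (centralizer ({z} : Set G))} [Q.Normal]
    (hQ : IsExtraspecial 2 Q) (hcard : Nat.card Q = 2 ^ 9) (h2c : centralizer (Q : Set (centralizer ({z} : Set G))) ≤ Q)
    (e : (centralizer ({z} : Set G) ⧸ Q) ≃* alternatingGroup (Fin 9)) :
    Cfsg.Spor.IsoTh G ∧ ∀ x y : G, orderOf x = 2 → orderOf y = 2 → IsConj x y := by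
  obtain ⟨π, h⟩ := xh_of hz hQ hcard h2c e
  obtain ⟨s, b, Q, π, f, R, m⟩ := exRM h
  obtain ⟨rfl, hc⟩ := m.fus
  obtain rfl := m.fz
  obtain rfl := m.kap hc
  obtain ⟨g, g1, g2, w⟩ := m.sf.exg hc
  obtain ⟨b, B, bd⟩ := m.exB' g1 g2 w
  refine ⟨m.iso g1 g2 B bd, fun x y hx hy => ?_⟩
  have oc := H8SE.one_class (H := ⊤) hz trivial fun s _ s2 e => m.ivc g1 g2 w le_top trivial e
    (by rw [← pow_two, ← s2, pow_orderOf_eq_one]) (by rintro rfl; simp at s2)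
  obtain ⟨p, -, e1⟩ := oc x trivial hx
  obtain ⟨q, -, e2⟩ := oc y trivial hy
  exact (isConj_iff.2 ⟨p, e1⟩).symm.trans (isConj_iff.2 ⟨q, e2⟩)

end Cfsg.Agent.H8Th
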